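import Mathlib.GroupTheory.IsSubnormal
import Mathlib.GroupTheory.Nilpotent
import Mathlib.GroupTheory.NoncommPiCoprod
import Cfsg.Prelude.Def_Solvable

/-! Index arithmetic for subnormal subgroups, subnormality in nilpotent groups, Fitting subgroup. -/

set_option autoImplicit false
set_option linter.style.haveILetI false

namespace Cfsg.Agent.Lib.PGroups

variable {G : Type*} [Group G]

/-- For `N` normal and any `K`, the index `[N : N ⊓ K]` divides `[G : K]`. -/
theorem relIndex_dvd_index_of_normal_right [Finite G] (N K : Subgroup G) [N.Normal] :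
    K.relIndex N ∣ K.index := by
  have h1 : Nat.card (K ⊓ N : Subgroup G) * K.relIndex N = Nat.card N := by
    rw [← Subgroup.inf_relIndex_right, ← Subgroup.relIndex_bot_left, ← Subgroup.relIndex_bot_left]
    exact Subgroup.relIndex_mul_relIndex _ _ _ bot_le inf_le_right
  have h2 : Nat.card (K ⊓ N : Subgroup G) * N.relIndex K = Nat.card K := by
    rw [← Subgroup.inf_relIndex_left (H := K) (K := N), ← Subgroup.relIndex_bot_left, ← Subgroup.relIndex_bot_left]
    exact Subgroup.relIndex_mul_relIndex _ _ _ bot_le inf_le_left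
  have h3 : Nat.card N * N.relIndex K = Nat.card (K ⊔ N : Subgroup G) := by
    rw [← Subgroup.relIndex_sup_right, ← Subgroup.relIndex_bot_left, ← Subgroup.relIndex_bot_left]
    exact Subgroup.relIndex_mul_relIndex _ _ _ bot_le le_sup_right
  have h4 : Nat.card K * K.relIndex (K ⊔ N) = Nat.card (K ⊔ N : Subgroup G) := by
    rw [← Subgroup.relIndex_bot_left, ← Subgroup.relIndex_bot_left]
    exact Subgroup.relIndex_mul_relIndex _ _ _ bot_le le_sup_left
  have h5 : K.relIndex (K ⊔ N) = K.relIndex N := by
    have e : Nat.card K * K.relIndex (K ⊔ N) = Nat.card K * K.relIndex N := by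
      rw [h4, ← h3, ← h2, ← h1]; ring
    exact Nat.eq_of_mul_eq_mul_left Nat.card_pos e
  rw [← h5]
  exact ⟨_, (Subgroup.relIndex_mul_index le_sup_left).symm⟩

/-- If `H` is subnormal in a finite group, `[H : H ⊓ K]` divides `[G : K]` for every `K`. -/
theorem relIndex_dvd_index_of_isSubnormal [Finite G] {H : Subgroup G} (hH : H.IsSubnormal)
    (K : Subgroup G) : K.relIndex H ∣ K.index := by
  induction hH with
  | top => rw [Subgroup.relIndex_top_right]
  | step H M hle hsn hN ih =>
    haveI := hN
    refine Dvd.dvd.trans ?_ ih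
    have := relIndex_dvd_index_of_normal_right (H.subgroupOf M) (K.subgroupOf M)
    rwa [Subgroup.relIndex_subgroupOf hle] at this

/-- If `H` is subnormal, `x ^ [G:H] ∈ H` for every `x`. -/
theorem pow_index_mem_of_isSubnormal [Finite G] {H : Subgroup G} (hH : H.IsSubnormal) (x : G) :
    x ^ H.index ∈ H := by
  induction hH generalizing x with
  | top => exact Subgroup.mem_top _
  | step H M hle hsn hN ih =>
    haveI := hN
    have h := Subgroup.pow_index_mem (H.subgroupOf M) ⟨x ^ M.index, ih x⟩
    rw [Subgroup.mem_subgroupOf] at h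
    rw [← Subgroup.relIndex_mul_index hle, mul_comm, pow_mul]
    simpa [Subgroup.relIndex] using h

/-- In a finite nilpotent group every subgroup is subnormal. -/
theorem isSubnormal_of_isNilpotent [Finite G] [Group.IsNilpotent G] (H : Subgroup G) :
    H.IsSubnormal := by
  induction H using WellFoundedGT.induction with
  | ind H ih =>
    by_cases h : H = ⊤
    · rw [h]; exact Subgroup.IsSubnormal.top
    · have hlt := Group.normalizerCondition_of_isNilpotent (G := G) H (lt_top_iff_ne_top.mpr h)
      exact Subgroup.IsSubnormal.step H _ Subgroup.le_normalizer (ih _ hlt)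
        Subgroup.normal_in_normalizer

theorem le_pCore_of_normal {p : ℕ} {N : Subgroup G} (hN : N.Normal) (h : IsPGroup p N) :
    N ≤ Cfsg.pCore p G := le_sSup ⟨hN, h⟩

theorem pCore_normal_inst (p : ℕ) : (Cfsg.pCore p G).Normal := Subgroup.sSup_normal _ (fun _ h => h.1)

theorem isPGroup_pCore_base (p : ℕ) : IsPGroup p (Cfsg.pCore p G) :=
  Sylow.sSup_of_normal _ (fun _ h => h.2) (fun _ h => h.1)

/-- The join of the `O_p(G)` over the prime divisors of `|G|`. -/
def nilpotentHead (G : Type*) [Group G] : Subgroup G :=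
  ⨆ p : (Nat.card G).primeFactors, Cfsg.pCore (p : ℕ) G

theorem isNilpotent_nilpotentHead [Finite G] : Group.IsNilpotent (nilpotentHead G) := by
  classical
  have hp : ∀ p : (Nat.card G).primeFactors, Fact (p : ℕ).Prime := fun p =>
    ⟨Nat.prime_of_mem_primeFactors p.2⟩
  have hcomm : Pairwise fun i j : (Nat.card G).primeFactors =>
      ∀ x y : G, x ∈ Cfsg.pCore (i : ℕ) G → y ∈ Cfsg.pCore (j : ℕ) G → Commute x y := by
    intro i j hij
    haveI := hp i; haveI := hp j
    exact Subgroup.commute_of_normal_of_disjoint _ _ (pCore_normal_inst _) (pCore_normal_inst _)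
      (IsPGroup.disjoint_of_ne (i : ℕ) (j : ℕ) (fun h => hij (Subtype.ext h)) _ _
        (isPGroup_pCore_base _) (isPGroup_pCore_base _))
  have hr := Subgroup.noncommPiCoprod_range (H := fun p : (Nat.card G).primeFactors =>
    Cfsg.pCore (p : ℕ) G) (hcomm := hcomm)
  haveI : ∀ p : (Nat.card G).primeFactors, Group.IsNilpotent (Cfsg.pCore (p : ℕ) G) := fun p => by
    haveI := hp p
    exact (isPGroup_pCore_base (p : ℕ)).isNilpotent
  haveI : Group.IsNilpotent (Subgroup.noncommPiCoprod hcomm).range :=
    Group.nilpotent_of_surjective _ (MonoidHom.rangeRestrict_surjective _)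
  rw [hr] at this
  exact this

theorem le_nilpotentHead_of_normal [Finite G] {N : Subgroup G} (hN : N.Normal)
    (hnil : Group.IsNilpotent N) : N ≤ nilpotentHead G := by
  have h := (Group.isNilpotent_of_finite_tfae (G := N)).out 0 3
  have hsyl := h.mp hnil
  let S : Subgroup N := (nilpotentHead G).subgroupOf N
  suffices S = ⊤ by simpa [S, Subgroup.subgroupOf_eq_top] using this
  rw [← Subgroup.index_eq_one]
  by_contra hne
  obtain ⟨p, hp, hdvd⟩ := Nat.exists_prime_and_dvd hne
  haveI : Fact p.Prime := ⟨hp⟩
  obtain ⟨P⟩ : Nonempty (Sylow p N) := inferInstance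
  have hPn : (P : Subgroup N).Normal := hsyl p ⟨hp⟩ P
  haveI := P.characteristic_of_normal hPn
  haveI := hN
  have hmem : p ∈ (Nat.card G).primeFactors := Nat.mem_primeFactors.mpr
    ⟨hp, hdvd.trans ((Subgroup.index_dvd_card S).trans (Subgroup.card_subgroup_dvd_card N)),
      Nat.card_pos.ne'⟩
  have hle : (P : Subgroup N).map N.subtype ≤ nilpotentHead G :=
    le_trans (le_pCore_of_normal inferInstance (P.isPGroup'.map _))
      (le_iSup (fun q : (Nat.card G).primeFactors => Cfsg.pCore (q : ℕ) G) ⟨p, hmem⟩)
  have : (P : Subgroup N) ≤ S := Subgroup.map_le_iff_le_comap.mp hle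
  exact P.not_dvd_index (hdvd.trans (Subgroup.index_dvd_of_le this))

theorem fitting_eq_nilpotentHead [Finite G] : Cfsg.fittingSubgroup G = nilpotentHead G := by
  refine le_antisymm (sSup_le fun N h => le_nilpotentHead_of_normal h.1 h.2) (le_sSup ⟨?_, ?_⟩)
  · haveI := fun p : (Nat.card G).primeFactors => pCore_normal_inst (G := G) (p : ℕ)
    exact Subgroup.iSup_normal _
  · exact isNilpotent_nilpotentHead

theorem fitting_isNilpotent [Finite G] : Group.IsNilpotent (Cfsg.fittingSubgroup G) := by
  rw [fitting_eq_nilpotentHead]; exact isNilpotent_nilpotentHead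

theorem fitting_normal : (Cfsg.fittingSubgroup G).Normal := Subgroup.sSup_normal _ (fun _ h => h.1)

end Cfsg.Agent.Lib.PGroups
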