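import Mathlib
import Cfsg.Agent.Lib.FusionControl.PiClosed
import Cfsg.Agent.Lib.Cores.Frattini
import Cfsg.Agent.Lib.Cores.PCore
import Cfsg.Agent.Lib.Frobenius.Complement

/-!
Basic facts on conjugacy class sizes and the structure of groups whose class-size graph is disconnected.
-/

set_option autoImplicit false

namespace Cfsg.Agent.Lib.PGroups.ClassGraph

open Subgroup
open scoped commutatorElement

universe u
variable {G : Type u} [Group G] [Finite G]

/-- The size of the conjugacy class of `g`. -/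
noncomputable def cl (g : G) : ℕ := (centralizer ({g} : Set G)).index

omit [Finite G] in
theorem mem_cent {g x : G} : x ∈ centralizer ({g} : Set G) ↔ x * g = g * x :=
  mem_centralizer_singleton_iff

omit [Finite G] in
theorem cl_eq_one {g : G} : cl g = 1 ↔ g ∈ center G := by
  rw [cl, index_eq_one, mem_center_iff]
  exact ⟨fun h x => mem_cent.mp (h ▸ mem_top x), fun h => eq_top_iff.mpr fun x _ => mem_cent.mpr (h x)⟩

theorem cl_pos (g : G) : 0 < cl g := Nat.pos_of_ne_zero index_ne_zero_of_finite

omit [Finite G] in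
theorem cl_conj (a g : G) : cl (a * g * a⁻¹) = cl g := by
  have : centralizer ({a * g * a⁻¹} : Set G) = (centralizer ({g} : Set G)).map (MulAut.conj a).toMonoidHom := by
    ext x
    rw [mem_cent]
    constructor
    · intro h
      refine ⟨a⁻¹ * x * a, mem_cent.mpr ?_, by simp [MulAut.conj_apply, mul_assoc]⟩
      calc a⁻¹ * x * a * g = a⁻¹ * (x * (a * g * a⁻¹)) * a := by group
        _ = _ := by rw [h]; group
    · rintro ⟨y, hy, rfl⟩
      have h := mem_cent.mp hy
      show a * y * a⁻¹ * (a * g * a⁻¹) = a * g * a⁻¹ * (a * y * a⁻¹)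
      calc a * y * a⁻¹ * (a * g * a⁻¹) = a * (y * g) * a⁻¹ := by group
        _ = _ := by rw [h]; group
  unfold cl
  rw [this]
  exact index_map_equiv _ (MulAut.conj a)

omit [Finite G] in
theorem cl_pow_dvd (g : G) (n : ℕ) : cl (g ^ n) ∣ cl g := by
  refine index_dvd_of_le (H := centralizer ({g} : Set G)) (K := centralizer ({g ^ n} : Set G)) ?_
  intro x hx
  have h : Commute x g := mem_cent.mp hx
  exact mem_cent.mpr (h.pow_right n).eq

/-- Elements commuting, of coprime orders: both class sizes divide that of the product. -/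
theorem cl_dvd_mul {a b : G} (hab : a * b = b * a) (hcop : (orderOf a).Coprime (orderOf b)) :
    cl a ∣ cl (a * b) := by
  obtain ⟨m, hm⟩ := exists_pow_eq_self_of_coprime (x := a) (n := orderOf b) hcop.symm
  have : ((a * b) ^ orderOf b) ^ m = a := by
    rw [Commute.mul_pow hab, pow_orderOf_eq_one, mul_one, hm]
  calc cl a = cl (((a * b) ^ orderOf b) ^ m) := by rw [this]
    _ ∣ cl ((a * b) ^ orderOf b) := cl_pow_dvd _ _
    _ ∣ cl (a * b) := cl_pow_dvd _ _

/-- The conjugacy class as a set. -/
def cls (g : G) : Set G := {x | ∃ a, a * g * a⁻¹ = x}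

theorem ncard_cls (g : G) : (cls g).ncard = cl g := by
  classical
  have e : cls g = MulAction.orbit (ConjAct G) g := by
    ext x
    constructor
    · rintro ⟨a, rfl⟩
      exact ⟨ConjAct.toConjAct a, by simp [ConjAct.smul_def]⟩
    · rintro ⟨a, rfl⟩
      exact ⟨ConjAct.ofConjAct a, (ConjAct.smul_def a g).symm⟩
  rw [e, ← Nat.card_coe_set_eq, Nat.card_congr (MulAction.orbitEquivQuotientStabilizer (ConjAct G) g),
    ← index_eq_card]
  have : MulAction.stabilizer (ConjAct G) g = (centralizer ({g} : Set G)).map ConjAct.toConjAct.toMonoidHom := by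
    ext x
    constructor
    · intro hx
      refine ⟨ConjAct.ofConjAct x, mem_cent.mpr ?_, ConjAct.toConjAct_ofConjAct x⟩
      have : ConjAct.ofConjAct x * g * (ConjAct.ofConjAct x)⁻¹ = g := by
        rw [← ConjAct.smul_def]; exact hx
      exact mul_inv_eq_iff_eq_mul.mp this
    · rintro ⟨y, hy, rfl⟩
      show ConjAct.toConjAct y • g = g
      rw [ConjAct.smul_def, ConjAct.ofConjAct_toConjAct, mem_cent.mp hy, mul_inv_cancel_right]
  unfold cl
  rw [this]
  exact index_map_equiv _ ConjAct.toConjAct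

/-- A translation-stable set is a union of cosets. -/
theorem card_dvd_of_stable {H : Subgroup G} {U : Set G} (h : ∀ a ∈ H, ∀ u ∈ U, a * u ∈ U) :
    Nat.card H ∣ U.ncard := by
  set V := (fun x : G => x⁻¹) '' U with hV
  have hVc : V.ncard = U.ncard := Set.ncard_image_of_injective _ inv_injective
  have hVU : (QuotientGroup.mk : G → G ⧸ H) ⁻¹' ((QuotientGroup.mk : G → G ⧸ H) '' V) = V := by
    refine subset_antisymm ?_ (Set.subset_preimage_image _ _)
    rintro x ⟨v, ⟨u, hu, rfl⟩, hv⟩
    refine ⟨(u⁻¹⁻¹ * x)⁻¹ * u, h _ (inv_mem (QuotientGroup.eq.mp hv)) u hu, ?_⟩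
    show ((u⁻¹⁻¹ * x)⁻¹ * u)⁻¹ = x
    group
  rw [← hVc, ← Nat.card_coe_set_eq, ← hVU,
    Nat.card_congr (QuotientGroup.preimageMkEquivSubgroupProdSet H _), Nat.card_prod]
  exact dvd_mul_right _ _

/-- `π`-number: all prime divisors lie in `π`. -/
def IsNum (π : Set ℕ) (n : ℕ) : Prop := ∀ r : ℕ, r.Prime → r ∣ n → r ∈ π

theorem IsNum.of_dvd {π : Set ℕ} {m n : ℕ} (h : IsNum π n) (hd : m ∣ n) : IsNum π m :=
  fun r hr hrm => h r hr (hrm.trans hd)

theorem IsNum.coprime {π : Set ℕ} {m n : ℕ} (hm : IsNum π m) (hn : IsNum πᶜ n) : m.Coprime n :=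
  Nat.coprime_of_dvd fun r hr h1 h2 => hn r hr h2 (hm r hr h1)

/-- Coprime class sizes: every element is a product from the two centralizers. -/
theorem exists_mul_of_coprime {b c : G} (hcop : (cl b).Coprime (cl c)) :
    ∀ a : G, ∃ y ∈ centralizer ({b} : Set G), ∃ z ∈ centralizer ({c} : Set G), a = y * z := by
  set B := centralizer ({b} : Set G) with hB
  set C := centralizer ({c} : Set G) with hC
  have hidx : (B ⊓ C).index = B.index * C.index :=
    Nat.le_antisymm index_inf_le (Nat.le_of_dvd (Nat.pos_of_ne_zero index_ne_zero_of_finite)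
      (hcop.mul_dvd_of_dvd_of_dvd (index_dvd_of_le inf_le_left) (index_dvd_of_le inf_le_right)))
  have hcard : C.relIndex B = C.index := by
    have h := relIndex_mul_index (inf_le_left : B ⊓ C ≤ B)
    rw [hidx, inf_relIndex_left, mul_comm B.index] at h
    exact Nat.eq_of_mul_eq_mul_right (Nat.pos_of_ne_zero index_ne_zero_of_finite) h
  have hinj : Function.Injective
      (Quotient.map' (fun y : B => (y : G)) (by
        intro y y' h
        rw [QuotientGroup.leftRel_apply] at h ⊢
        exact h) : B ⧸ C.subgroupOf B → G ⧸ C) := by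
    intro y y' h
    induction y using QuotientGroup.induction_on with
    | _ y =>
      induction y' using QuotientGroup.induction_on with
      | _ y' =>
        have h' : ((y : G) : G ⧸ C) = ((y' : G) : G ⧸ C) := h
        exact QuotientGroup.eq.mpr (QuotientGroup.eq.mp h' :)
  have hbij := (Nat.bijective_iff_injective_and_card _).mpr ⟨hinj, by
    show Nat.card (B ⧸ C.subgroupOf B) = Nat.card (G ⧸ C)
    rw [← index_eq_card, ← index_eq_card]; exact hcard⟩
  intro a
  obtain ⟨y, hy⟩ := hbij.2 (a : G ⧸ C)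
  induction y using QuotientGroup.induction_on with
  | _ y =>
    exact ⟨y, y.2, _, QuotientGroup.eq.mp hy, (mul_inv_cancel_left _ _).symm⟩

/-- An element lies in a subgroup when all its powers of prime power order do. -/
theorem mem_of_parts (H : Subgroup G) (x : G)
    (h : ∀ n q k : ℕ, q.Prime → orderOf (x ^ n) = q ^ k → x ^ n ∈ H) : x ∈ H := by
  have hx : (⟨x, mem_zpowers x⟩ : zpowers x) ∈ H.subgroupOf (zpowers x) :=
    FusionControl.PiClosed.mem_of_primary (π := Set.univ) _ (fun _ _ _ => Set.mem_univ _)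
      fun q hq _ y hy => by
        obtain ⟨k, hk⟩ := hy
        obtain ⟨n, hn⟩ := mem_powers_iff_mem_zpowers.mpr y.2
        have hn' : x ^ n = (y : G) := hn
        rw [mem_subgroupOf, ← hn']
        exact h n q k hq (by rw [hn', orderOf_coe, hk])
  exact mem_subgroupOf.mp hx

/-- Coprime class sizes: the product of two classes is a class. -/
theorem product_class {b c : G} (hcop : (cl b).Coprime (cl c)) :
    cl (b * c) ∣ cl b * cl c ∧ cl c ≤ cl (b * c) ∧
      (cl (b * c) = cl c → ∀ a : G, ∀ u ∈ cls c, b⁻¹ * (a * b * a⁻¹) * u ∈ cls c) := by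
  set B := centralizer ({b} : Set G) with hB
  set C := centralizer ({c} : Set G) with hC
  have hle : (B ⊓ C).index ≤ B.index * C.index := index_inf_le
  have hdvd : B.index * C.index ∣ (B ⊓ C).index :=
    hcop.mul_dvd_of_dvd_of_dvd (index_dvd_of_le inf_le_left) (index_dvd_of_le inf_le_right)
  have hidx : (B ⊓ C).index = B.index * C.index :=
    Nat.le_antisymm hle (Nat.le_of_dvd (Nat.pos_of_ne_zero index_ne_zero_of_finite) hdvd)
  have h1 : cl (b * c) ∣ cl b * cl c := by
    show (centralizer ({b * c} : Set G)).index ∣ B.index * C.index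
    rw [← hidx]
    exact index_dvd_of_le fun x hx => mem_cent.mpr
      (Commute.mul_right (mem_cent.mp hx.1) (mem_cent.mp hx.2))
  have hprod := exists_mul_of_coprime hcop
  have hmem : ∀ u ∈ cls c, ∀ a : G, a * b * a⁻¹ * u ∈ cls (b * c) := by
    rintro _ ⟨d, rfl⟩ a
    obtain ⟨y, hy, z, hz, hyz⟩ := hprod (a⁻¹ * d)
    refine ⟨a * y, ?_⟩
    have hyb : y * b * y⁻¹ = b := by rw [mem_cent.mp hy, mul_inv_cancel_right]
    have hzc : z * c * z⁻¹ = c := by rw [mem_cent.mp hz, mul_inv_cancel_right]
    have hd : d = a * (y * z) := by rw [← hyz]; group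
    calc a * y * (b * c) * (a * y)⁻¹ = a * (y * b * y⁻¹) * a⁻¹ * (a * y * c * y⁻¹ * a⁻¹) := by group
      _ = a * b * a⁻¹ * (a * y * (z * c * z⁻¹) * y⁻¹ * a⁻¹) := by rw [hyb, hzc]
      _ = _ := by rw [hd]; group
  have hsub : ∀ a : G, (fun u => a * b * a⁻¹ * u) '' cls c ⊆ cls (b * c) := by
    rintro a _ ⟨u, hu, rfl⟩; exact hmem u hu a
  have himg : ∀ a : G, ((fun u => a * b * a⁻¹ * u) '' cls c).ncard = cl c := fun a => by
    rw [Set.ncard_image_of_injective _ (mul_right_injective _), ncard_cls]
  refine ⟨h1, ?_, fun he a u hu => ?_⟩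
  · rw [← himg 1, ← ncard_cls]
    exact Set.ncard_le_ncard (hsub 1) (Set.toFinite _)
  · have e : (fun u => 1 * b * 1⁻¹ * u) '' cls c = cls (b * c) := by
      refine Set.eq_of_subset_of_ncard_le (hsub 1) ?_ (Set.toFinite _)
      rw [ncard_cls, he, himg]
    obtain ⟨v, hv, hv'⟩ := e ▸ hmem u hu a
    have : b⁻¹ * (a * b * a⁻¹) * u = v := by
      calc b⁻¹ * (a * b * a⁻¹) * u = b⁻¹ * (a * b * a⁻¹ * u) := by group
        _ = v := by rw [← hv']; group
    rw [this]; exact hv

/-- The subgroup generated by the commutators of `b`. -/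
def commSub (b : G) : Subgroup G := closure (Set.range fun a : G => b⁻¹ * (a * b * a⁻¹))

instance commSub_normal (b : G) : (commSub b).Normal := by
  refine ⟨fun h hh g => ?_⟩
  induction hh using closure_induction with
  | mem x hx =>
    obtain ⟨a, rfl⟩ := hx
    have e : g * (b⁻¹ * (a * b * a⁻¹)) * g⁻¹ =
        (b⁻¹ * (g * b * g⁻¹))⁻¹ * (b⁻¹ * (g * a * b * (g * a)⁻¹)) := by group
    rw [e]
    exact mul_mem (inv_mem (subset_closure ⟨g, rfl⟩)) (subset_closure ⟨g * a, rfl⟩)
  | one => rw [mul_one, mul_inv_cancel]; exact one_mem _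
  | mul x y _ _ hx hy =>
    have e : g * (x * y) * g⁻¹ = (g * x * g⁻¹) * (g * y * g⁻¹) := by group
    rw [e]; exact mul_mem hx hy
  | inv x _ hx =>
    have e : g * x⁻¹ * g⁻¹ = (g * x * g⁻¹)⁻¹ := by group
    rw [e]; exact inv_mem hx

omit [Finite G] in
theorem comm_mem_commSub (b a : G) : b⁻¹ * (a * b * a⁻¹) ∈ commSub b := subset_closure ⟨a, rfl⟩

/-- The subgroup of commutators of `b` divides a larger coprime class size. -/
theorem card_commSub_dvd {b c : G} (hcop : (cl b).Coprime (cl c)) (heq : cl (b * c) = cl c) :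
    Nat.card (commSub b) ∣ cl c := by
  rw [← ncard_cls]
  refine card_dvd_of_stable fun h hh => ?_
  induction hh using closure_induction with
  | mem x hx =>
    obtain ⟨a, rfl⟩ := hx
    exact fun u hu => (product_class hcop).2.2 heq a u hu
  | one => exact fun u hu => by rwa [one_mul]
  | mul x y _ _ hx hy => exact fun u hu => by rw [mul_assoc]; exact hx _ (hy u hu)
  | inv x _ hx =>
    intro u hu
    have e : (fun v => x * v) '' cls c = cls c :=
      Set.eq_of_subset_of_ncard_le (by rintro _ ⟨v, hv, rfl⟩; exact hx v hv)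
        (by rw [Set.ncard_image_of_injective _ (mul_right_injective _)]) (Set.toFinite _)
    rw [← e] at hu
    obtain ⟨v, hv, rfl⟩ := hu
    simpa using hv

/-- If `commSub b` has order prime to the class size, it is abelian and centralizes `b`. -/
theorem commSub_comm {b : G} (hcop : (Nat.card (commSub b)).Coprime (cl b)) :
    (∀ h ∈ commSub b, h * b = b * h) ∧ ∀ h ∈ commSub b, ∀ h' ∈ commSub b, h * h' = h' * h := by
  have key : ∀ a : G, commSub b ≤ centralizer ({a * b * a⁻¹} : Set G) := by
    intro a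
    set C := centralizer ({a * b * a⁻¹} : Set G)
    refine relIndex_eq_one.mp (Nat.eq_one_of_dvd_coprimes hcop (relIndex_dvd_card C (commSub b)) ?_)
    rw [← cl_conj a b]
    obtain ⟨t, ht⟩ := relIndex_dvd_index_of_normal (commSub b) C
    refine Dvd.intro t (Nat.eq_of_mul_eq_mul_left
      (Nat.pos_of_ne_zero (index_ne_zero_of_finite : (commSub b).relIndex C ≠ 0)) ?_)
    have e1 := relIndex_mul_index (inf_le_right : C ⊓ commSub b ≤ commSub b)
    have e2 := relIndex_mul_index (inf_le_left : C ⊓ commSub b ≤ C)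
    rw [inf_relIndex_right] at e1
    rw [inf_relIndex_left] at e2
    show (commSub b).relIndex C * (C.relIndex (commSub b) * t) = (commSub b).relIndex C * C.index
    rw [e2, ← e1, ht]
    ring
  have h1 : ∀ h ∈ commSub b, h * b = b * h := fun h hh => by simpa using mem_cent.mp (key 1 hh)
  refine ⟨h1, fun h hh h' hh' => ?_⟩
  have : commSub b ≤ centralizer ({h} : Set G) := by
    refine (closure_le _).mpr ?_
    rintro _ ⟨a, rfl⟩
    exact mem_cent.mpr ((Commute.mul_right (Commute.inv_right (h1 h hh)) (mem_cent.mp (key a hh))).eq).symm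
  exact (mem_cent.mp (this hh')).symm

/-- For an `r`-element the subgroup of commutators is then an `r`-group. -/
theorem isPGroup_commSub {b : G} (hcop : (Nat.card (commSub b)).Coprime (cl b)) {r k : ℕ}
    (hb : orderOf b = r ^ k) : IsPGroup r (commSub b) := by
  obtain ⟨h1, h2⟩ := commSub_comm hcop
  have : ∀ h ∈ commSub b, h ^ (r ^ k) = 1 := by
    intro h hh
    induction hh using closure_induction with
    | mem x hx =>
      obtain ⟨a, rfl⟩ := hx
      have hbk : b ^ (r ^ k) = 1 := hb ▸ pow_orderOf_eq_one b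
      have hc : Commute (b⁻¹ * (a * b * a⁻¹)) b := h1 _ (comm_mem_commSub b a)
      calc (b⁻¹ * (a * b * a⁻¹)) ^ (r ^ k) = (b⁻¹ * (a * b * a⁻¹)) ^ (r ^ k) * b ^ (r ^ k) := by
            rw [hbk, mul_one]
        _ = (b * (b⁻¹ * (a * b * a⁻¹))) ^ (r ^ k) := by rw [← hc.mul_pow, hc.eq]
        _ = 1 := by rw [mul_inv_cancel_left, conj_pow, hbk, mul_one, mul_inv_cancel]
    | one => exact one_pow _
    | mul x y hx' hy' hx hy => rw [Commute.mul_pow (h2 x hx' y hy'), hx, hy, one_mul]
    | inv x _ hx => rw [inv_pow, hx, inv_one]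
  exact fun x => ⟨k, Subtype.ext (by simpa using this x x.2)⟩

/-- If `cl c` is maximal with primes outside `S`, the elements with `S`-class generate an abelian normal
subgroup, and those of prime power order which are not central have their prime outside `S`. -/
theorem abelian_normal_of_max (S : Set ℕ) (c : G) (hcT : IsNum Sᶜ (cl c)) (hcmax : ∀ g : G, cl g ≤ cl c) :
    ∃ M : Subgroup G, M.Normal ∧ (∀ x ∈ M, ∀ y ∈ M, x * y = y * x) ∧ (∀ x : G, IsNum S (cl x) → x ∈ M) ∧
      ∀ b : G, IsNum S (cl b) → cl b ≠ 1 → ∀ r k : ℕ, r.Prime → orderOf b = r ^ k → r ∉ S := by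
  -- every element with `S`-class is below the maximum
  have hH : ∀ b : G, IsNum S (cl b) → Nat.card (commSub b) ∣ cl c := by
    intro b hb
    by_cases hb1 : cl b = 1
    · have hbZ := cl_eq_one.mp hb1
      have : commSub b = ⊥ := by
        rw [eq_bot_iff]
        refine (closure_le _).mpr ?_
        rintro _ ⟨a, rfl⟩
        show b⁻¹ * (a * b * a⁻¹) ∈ (⊥ : Subgroup G)
        rw [mem_bot, mem_center_iff.mp hbZ a, mul_inv_cancel_right, inv_mul_cancel]
      rw [this, card_bot]
      exact one_dvd _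
    have hcop : (cl b).Coprime (cl c) := hb.coprime hcT
    obtain ⟨hd, hle, -⟩ := product_class hcop
    have heq : cl (b * c) = cl c := by
      refine le_antisymm (hcmax _) hle
    exact card_commSub_dvd hcop heq
  have hcopH : ∀ b : G, IsNum S (cl b) → (Nat.card (commSub b)).Coprime (cl b) := fun b hb =>
    (hb.coprime (hcT.of_dvd (hH b hb))).symm
  have hHT : ∀ b : G, IsNum S (cl b) → IsNum Sᶜ (Nat.card (commSub b)) := fun b hb => hcT.of_dvd (hH b hb)
  let prim : G → Prop := fun b => IsNum S (cl b) ∧ ∃ r k : ℕ, r.Prime ∧ orderOf b = r ^ k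
  have hconj : ∀ b a : G, a * b * a⁻¹ = b * (b⁻¹ * (a * b * a⁻¹)) := fun b a => by group
  -- primary elements with `S`-class commute
  have hprimT : ∀ b : G, IsNum S (cl b) → cl b ≠ 1 → ∀ r k : ℕ, r.Prime → orderOf b = r ^ k → r ∉ S := by
    intro b hb hb1 r k hr hbo
    have hne : Nat.card (commSub b) ≠ 1 := fun e => hb1 (cl_eq_one.mpr (mem_center_iff.mpr fun a => by
      have := comm_mem_commSub b a
      rw [card_eq_one.mp e, mem_bot, inv_mul_eq_one] at this
      calc a * b = a * b * a⁻¹ * a := by group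
        _ = b * a := by rw [← this]))
    haveI := Fact.mk hr
    obtain ⟨j, hj⟩ := (isPGroup_commSub (hcopH b hb) hbo).exists_card_eq
    refine hHT b hb r hr ?_
    rw [hj]
    refine dvd_pow_self r fun e => hne ?_
    rw [hj, e, pow_zero]
  have hNp : ∀ b : G, IsNum S (cl b) → ∀ r k : ℕ, r.Prime → orderOf b = r ^ k → b ∈ Cfsg.pCore r G := by
    intro b hb r k hr hbo
    haveI := Fact.mk hr
    have hN : (commSub b ⊔ zpowers b).Normal := by
      rw [← normalizer_eq_top_iff, eq_top_iff]
      intro a _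
      rw [mem_normalizer_iff_map_conj_eq]
      refine eq_of_le_of_card_ge ?_ (Nat.card_congr
        ((commSub b ⊔ zpowers b).equivMapOfInjective _ (MulAut.conj a).injective).toEquiv).le
      rw [Subgroup.map_sup, MonoidHom.map_zpowers]
      refine sup_le ?_ (zpowers_le.mpr ?_)
      · rintro _ ⟨h, hh, rfl⟩
        exact mem_sup_left ((commSub_normal b).conj_mem h hh a)
      · show a * b * a⁻¹ ∈ commSub b ⊔ zpowers b
        rw [hconj]
        exact mul_mem (mem_sup_right (mem_zpowers b)) (mem_sup_left (comm_mem_commSub b a))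
    refine Cores.le_pCore hN ?_ (mem_sup_right (mem_zpowers b))
    exact (isPGroup_commSub (hcopH b hb) hbo).to_sup_of_normal_left
      (IsPGroup.of_card (n := k) (by rw [Nat.card_zpowers, hbo]))
  have hcomm : ∀ b b' : G, prim b → prim b' → b * b' = b' * b := by
    rintro b b' ⟨hb, r, k, hr, hbo⟩ ⟨hb', r', k', hr', hbo'⟩
    by_cases h1 : cl b = 1
    · exact (mem_center_iff.mp (cl_eq_one.mp h1) b').symm
    by_cases h1' : cl b' = 1
    · exact mem_center_iff.mp (cl_eq_one.mp h1') b
    haveI := Fact.mk hr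
    haveI := Fact.mk hr'
    by_cases hrr : r = r'
    · subst hrr
      -- `b` lies in every Sylow `r`-subgroup
      have hbO := hNp b hb r k hr hbo
      obtain ⟨T⟩ : Nonempty (Sylow r (centralizer ({b'} : Set G))) := inferInstance
      have hTi : ¬ r ∣ ((T : Subgroup (centralizer ({b'} : Set G))).map (centralizer ({b'} : Set G)).subtype).index := by
        rw [index_map_subtype]
        exact fun hd => ((Nat.Prime.dvd_mul hr).mp hd).elim T.not_dvd_index
          fun hd => hprimT b hb h1 r k hr hbo (hb' r hr hd)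
      let T' : Sylow r G := (T.2.map (centralizer ({b'} : Set G)).subtype).toSylow hTi
      obtain ⟨y, -, hy⟩ := (Cores.pCore_le_sylow T' hbO : b ∈ (T' : Subgroup G))
      rw [← hy]
      exact mem_cent.mp y.2
    · have hdisj := IsPGroup.disjoint_of_ne r r' hrr _ _ (isPGroup_commSub (hcopH b hb) hbo)
        (isPGroup_commSub (hcopH b' hb') hbo')
      have h : b⁻¹ * (b'⁻¹ * b * b') = 1 := by
        refine Subgroup.disjoint_def.mp hdisj ?_ ?_
        · simpa using comm_mem_commSub b b'⁻¹
        · have := inv_mem (comm_mem_commSub b' b⁻¹)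
          simpa [mul_assoc] using this
      rw [inv_mul_eq_one] at h
      calc b * b' = b' * (b'⁻¹ * b * b') := by group
        _ = b' * b := by rw [← h]
  let M : Subgroup G := closure {b | prim b}
  have hMab : ∀ x ∈ M, ∀ y ∈ M, x * y = y * x := by
    have h1 : M ≤ centralizer ({b | prim b} : Set G) :=
      (closure_le _).mpr fun b hb => mem_centralizer_iff.mpr fun b' hb' => hcomm b' b hb' hb
    have h2 : M ≤ centralizer (M : Set G) := by
      refine (closure_le _).mpr fun b hb => mem_centralizer_iff.mpr fun y hy => ?_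
      exact (mem_centralizer_iff.mp (h1 hy) b hb).symm
    exact fun x hx y hy => (mem_centralizer_iff.mp (h2 hx) y hy).symm
  haveI hMn : M.Normal := by
    refine ⟨fun x hx a => ?_⟩
    have : (MulAut.conj a) x ∈ M.map (MulAut.conj a).toMonoidHom := ⟨x, hx, rfl⟩
    rw [MonoidHom.map_closure] at this
    refine closure_mono ?_ this
    rintro _ ⟨b, ⟨hb, r, k, hr, hbo⟩, rfl⟩
    refine ⟨?_, r, k, hr, ?_⟩
    · show IsNum S (cl (a * b * a⁻¹))
      rwa [cl_conj]
    · rw [← hbo]
      exact orderOf_injective _ (MulAut.conj a).injective b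
  have hAM : ∀ x : G, IsNum S (cl x) → x ∈ M := fun x hx =>
    mem_of_parts M x fun n q k hq hn =>
      subset_closure (⟨hx.of_dvd (cl_pow_dvd x n), q, k, hq, hn⟩ : prim (x ^ n))
  exact ⟨M, hMn, hMab, hAM, hprimT⟩

/-- A walk with at most three steps gives a path with at most three edges. -/
theorem path_of_walk (R : ℕ → ℕ → Prop) (hR : ∀ a b, R a b → R b a) {p t t' q : ℕ} (hpq : p ≠ q)
    (h1 : p = t ∨ R p t) (h2 : t = t' ∨ R t t') (h3 : t' = q ∨ R t' q) :
    R p q ∨ (∃ r, r ≠ p ∧ r ≠ q ∧ R p r ∧ R r q) ∨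
      ∃ r s, r ≠ p ∧ s ≠ q ∧ r ≠ s ∧ r ≠ q ∧ s ≠ p ∧ R p r ∧ R r s ∧ R s q := by
  rcases h1 with rfl | h1
  · rcases h2 with rfl | h2
    · exact Or.inl (h3.resolve_left hpq)
    · rcases h3 with rfl | h3
      · exact Or.inl h2
      · by_cases e : t' = p
        · exact Or.inl (e ▸ h3)
        by_cases e' : t' = q
        · exact Or.inl (e' ▸ h2)
        exact Or.inr (Or.inl ⟨t', e, e', h2, h3⟩)
  · by_cases et : t = p
    · subst et
      rcases h2 with rfl | h2
      · exact Or.inl (h3.resolve_left hpq)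
      · rcases h3 with rfl | h3
        · exact Or.inl h2
        · by_cases e : t' = t
          · exact Or.inl (e ▸ h3)
          by_cases e' : t' = q
          · exact Or.inl (e' ▸ h2)
          exact Or.inr (Or.inl ⟨t', e, e', h2, h3⟩)
    by_cases etq : t = q
    · exact Or.inl (etq ▸ h1)
    rcases h2 with rfl | h2
    · exact Or.inr (Or.inl ⟨t, et, etq, h1, h3.resolve_left etq⟩)
    · by_cases e' : t' = q
      · exact Or.inr (Or.inl ⟨t, et, etq, h1, e' ▸ h2⟩)
      have h3' : R t' q := h3.resolve_left e'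
      by_cases e : t' = p
      · exact Or.inl (e ▸ h3')
      by_cases ett : t = t'
      · exact Or.inr (Or.inl ⟨t, et, etq, h1, ett ▸ h3'⟩)
      exact Or.inr (Or.inr ⟨t, t', et, e', ett, etq, e, h1, h2, h3'⟩)

/-- An element of prime power order with coprime commutator subgroup lies in the corresponding core. -/
theorem mem_pCore_of_commSub {b : G} (hcop : (Nat.card (commSub b)).Coprime (cl b)) {r k : ℕ} (hr : r.Prime)
    (hbo : orderOf b = r ^ k) : b ∈ Cfsg.pCore r G := by
  haveI := Fact.mk hr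
  have hconj : ∀ a : G, a * b * a⁻¹ = b * (b⁻¹ * (a * b * a⁻¹)) := fun a => by group
  have hN : (commSub b ⊔ zpowers b).Normal := by
    rw [← normalizer_eq_top_iff, eq_top_iff]
    intro a _
    rw [mem_normalizer_iff_map_conj_eq]
    refine eq_of_le_of_card_ge ?_ (Nat.card_congr
      ((commSub b ⊔ zpowers b).equivMapOfInjective _ (MulAut.conj a).injective).toEquiv).le
    rw [Subgroup.map_sup, MonoidHom.map_zpowers]
    refine sup_le ?_ (zpowers_le.mpr ?_)
    · rintro _ ⟨h, hh, rfl⟩
      exact mem_sup_left ((commSub_normal b).conj_mem h hh a)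
    · show a * b * a⁻¹ ∈ commSub b ⊔ zpowers b
      rw [hconj]
      exact mul_mem (mem_sup_right (mem_zpowers b)) (mem_sup_left (comm_mem_commSub b a))
  refine Cores.le_pCore hN ?_ (mem_sup_right (mem_zpowers b))
  exact (isPGroup_commSub hcop hbo).to_sup_of_normal_left
    (IsPGroup.of_card (n := k) (by rw [Nat.card_zpowers, hbo]))

theorem ncard_carrier (g : G) : (ConjClasses.mk g).carrier.ncard = cl g := by
  rw [← ncard_cls]
  congr 1
  ext x
  rw [ConjClasses.mem_carrier_iff_mk_eq, ConjClasses.mk_eq_mk_iff_isConj, isConj_comm, isConj_iff]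
  rfl

omit [Finite G] in
theorem cl_inv (g : G) : cl g⁻¹ = cl g := by
  have : centralizer ({g⁻¹} : Set G) = centralizer ({g} : Set G) := by
    ext x
    rw [mem_cent, mem_cent]
    exact ⟨fun h => (Commute.inv_right_iff.mp h), fun h => (Commute.inv_right h)⟩
  unfold cl
  rw [this]

end Cfsg.Agent.Lib.PGroups.ClassGraph
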