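import Mathlib
import Cfsg.Prelude.Def_Transfer
import Cfsg.Agent.Lib.PGroups.ClassGraph
import Cfsg.Agent.Lib.PowerOrbits.Base

/-!
Cyclic Sylow subgroups: rigidity of automorphisms of order prime to `p`, and transfer.
-/

set_option autoImplicit false

namespace Cfsg.Agent.Lib.PGroups.CyclicDichotomy

universe u

variable {G : Type u} [Group G] [Finite G] {p : ℕ} [Fact p.Prime]

/-- An element of order prime to `p` acting on a cyclic `p`-group as the identity modulo `p` is trivial on it. -/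
theorem rigid_core {R : Subgroup G} (hR : IsPGroup p R) (hc : IsCyclic R) {d : G}
    (hnorm : ∀ x ∈ R, d * x * d⁻¹ ∈ R) (hd : ¬ p ∣ orderOf d)
    (hcong : ∀ (g : G) (r : ℤ), g ∈ R → (∀ x ∈ R, x ∈ Subgroup.zpowers g) → d * g * d⁻¹ = g ^ r →
      (p : ℤ) ∣ r - 1 ∨ g = 1) :
    ∀ x ∈ R, d * x = x * d := by
  obtain ⟨⟨g, hg⟩, hgen⟩ := hc.exists_generator
  have hgen' : ∀ x ∈ R, x ∈ Subgroup.zpowers g := fun x hx => by
    obtain ⟨k, hk⟩ := Subgroup.mem_zpowers_iff.mp (hgen ⟨x, hx⟩)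
    exact Subgroup.mem_zpowers_iff.mpr ⟨k, congrArg Subtype.val hk⟩
  suffices hdg : d * g * d⁻¹ = g by
    intro x hx
    obtain ⟨k, rfl⟩ := Subgroup.mem_zpowers_iff.mp (hgen' x hx)
    exact (show Commute d g from mul_inv_eq_iff_eq_mul.mp hdg).zpow_right k
  obtain ⟨r, hr⟩ := Subgroup.mem_zpowers_iff.mp (hgen' _ (hnorm g hg))
  rcases hcong g r hg hgen' hr.symm with hpr | h1
  swap
  · rw [h1]; group
  obtain ⟨n, hn⟩ := IsPGroup.iff_orderOf.mp hR ⟨g, hg⟩
  rw [Subgroup.orderOf_mk] at hn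
  set k := orderOf d with hk
  have hit : ∀ i : ℕ, d ^ i * g * (d ^ i)⁻¹ = g ^ r ^ i := by
    intro i
    induction i with
    | zero => simp
    | succ i ih =>
      rw [pow_succ', show d * d ^ i * g * (d * d ^ i)⁻¹ = d * (d ^ i * g * (d ^ i)⁻¹) * d⁻¹ by group, ih,
        ← conj_zpow, ← hr, ← zpow_mul, pow_succ']
  have h1 : g ^ r ^ k = g ^ (1 : ℤ) := by rw [← hit k, hk, pow_orderOf_eq_one]; simp
  rw [zpow_eq_zpow_iff_modEq, hn, ← ZMod.intCast_eq_intCast_iff] at h1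
  have h2 : ((r ^ p ^ n : ℤ) : ZMod (p ^ n)) = ((1 : ℤ) : ZMod (p ^ n)) := by
    rw [ZMod.intCast_eq_intCast_iff]
    have h := dvd_sub_pow_of_dvd_sub (R := ℤ) (a := r) (b := 1) hpr n
    rw [one_pow] at h
    exact (Int.modEq_iff_dvd.mpr (by
      push_cast
      exact dvd_trans (pow_dvd_pow (p : ℤ) (Nat.le_succ n)) h)).symm
  push_cast at h1 h2
  have h3 : (r : ZMod (p ^ n)) ^ k.gcd (p ^ n) = 1 := pow_gcd_eq_one.mpr ⟨h1, h2⟩
  rw [show k.gcd (p ^ n) = 1 from
    Nat.Coprime.pow_right n ((Nat.Prime.coprime_iff_not_dvd Fact.out).mpr hd).symm, pow_one] at h3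
  have h4 : g ^ r = g ^ (1 : ℤ) := by
    rw [zpow_eq_zpow_iff_modEq, hn, ← ZMod.intCast_eq_intCast_iff]
    simpa using h3
  rw [← hr, h4, zpow_one]

/-- An element of order prime to `p` fixing an element of order `p` of a cyclic `p`-group centralises it. -/
theorem rigid_fix {R : Subgroup G} (hR : IsPGroup p R) (hc : IsCyclic R) {d : G}
    (hnorm : ∀ x ∈ R, d * x * d⁻¹ ∈ R) (hd : ¬ p ∣ orderOf d) {z : G} (hz : z ∈ R) (hzo : orderOf z = p)
    (hdz : d * z = z * d) : ∀ x ∈ R, d * x = x * d := by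
  refine rigid_core hR hc hnorm hd fun g r _ hgen hr => Or.inl ?_
  obtain ⟨i, rfl⟩ := Subgroup.mem_zpowers_iff.mp (hgen z hz)
  have h : (g ^ i) ^ r = (g ^ i) ^ (1 : ℤ) := by
    rw [zpow_one]
    calc (g ^ i) ^ r = (g ^ r) ^ i := by rw [← zpow_mul, ← zpow_mul, mul_comm]
      _ = d * g ^ i * d⁻¹ := by rw [← hr, conj_zpow]
      _ = g ^ i := by rw [hdz, mul_inv_cancel_right]
  rw [zpow_eq_zpow_iff_modEq, hzo] at h
  exact Int.modEq_iff_dvd.mp h.symm

/-- An element of order prime to `p` trivial on a nontrivial quotient of a cyclic `p`-group centralises it. -/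
theorem rigid_quot {R : Subgroup G} (hR : IsPGroup p R) (hc : IsCyclic R) {d : G}
    (hnorm : ∀ x ∈ R, d * x * d⁻¹ ∈ R) (hd : ¬ p ∣ orderOf d) {R₀ : Subgroup G} (hR₀ : ¬ R ≤ R₀)
    (hquot : ∀ x ∈ R, d * x * d⁻¹ * x⁻¹ ∈ R₀) : ∀ x ∈ R, d * x = x * d := by
  refine rigid_core hR hc hnorm hd fun g r hg hgen hr => Or.inl ?_
  by_contra hpr
  have h1 : g ^ (r - 1) ∈ R₀ := by
    have h := hquot g hg
    rwa [hr, ← zpow_sub_one] at h
  obtain ⟨n, hn⟩ := IsPGroup.iff_orderOf.mp hR ⟨g, hg⟩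
  rw [Subgroup.orderOf_mk] at hn
  have hp' := Nat.prime_iff_prime_int.mp (Fact.out : p.Prime)
  obtain ⟨u, v, huv⟩ : IsCoprime (r - 1) ((p : ℤ) ^ n) :=
    (IsCoprime.symm ((Prime.coprime_iff_not_dvd hp').mpr hpr)).pow_right
  have hgn : g ^ ((p : ℤ) ^ n) = 1 := by
    rw [← Nat.cast_pow, zpow_natCast, ← hn, pow_orderOf_eq_one]
  have h2 : g ∈ R₀ := by
    have e : g = (g ^ (r - 1)) ^ u * (g ^ ((p : ℤ) ^ n)) ^ v := by
      rw [← zpow_mul, ← zpow_mul, ← zpow_add, show (r - 1) * u + (p : ℤ) ^ n * v = 1 by linear_combination huv,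
        zpow_one]
    rw [e, hgn, one_zpow, mul_one]
    exact zpow_mem h1 u
  exact hR₀ fun x hx => by
    obtain ⟨k, rfl⟩ := Subgroup.mem_zpowers_iff.mp (hgen x hx)
    exact zpow_mem h2 k

theorem mem_of_normalizer_pgroup (P : Sylow p G) {x : G}
    (hx : x ∈ Subgroup.normalizer ((P : Subgroup G) : Set G)) {k : ℕ} (hk : orderOf x = p ^ k) :
    x ∈ (P : Subgroup G) := by
  have h1 : IsPGroup p (Subgroup.zpowers x) := IsPGroup.of_card (n := k) (by rw [Nat.card_zpowers, hk])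
  have h2 : IsPGroup p ↥(Subgroup.zpowers x ⊔ (P : Subgroup G)) :=
    h1.to_sup_of_normal_right' P.2 (Subgroup.zpowers_le.mpr hx)
  rw [← P.3 h2 le_sup_right]
  exact Subgroup.mem_sup_left (Subgroup.mem_zpowers x)

theorem sylow_comm (P : Sylow p G) (hc : IsCyclic (P : Subgroup G)) :
    ∀ x ∈ (P : Subgroup G), ∀ y ∈ (P : Subgroup G), x * y = y * x := by
  intro x hx y hy
  obtain ⟨g, hg⟩ := hc.exists_generator
  obtain ⟨i, hi⟩ := Subgroup.mem_zpowers_iff.mp (hg ⟨x, hx⟩)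
  obtain ⟨j, hj⟩ := Subgroup.mem_zpowers_iff.mp (hg ⟨y, hy⟩)
  have h := congrArg Subtype.val (show g ^ i * g ^ j = g ^ j * g ^ i by rw [← zpow_add, ← zpow_add, add_comm])
  rw [hi, hj] at h
  exact h

/-- Elements of the normaliser centralise a cyclic Sylow subgroup when their parts of order prime to `p` do. -/
theorem mem_centralizer_of_parts (P : Sylow p G) (hc : IsCyclic (P : Subgroup G)) {g : G}
    (hg : g ∈ Subgroup.normalizer ((P : Subgroup G) : Set G))
    (hd : ∀ i : ℕ, ¬ p ∣ orderOf (g ^ i) → ∀ x ∈ (P : Subgroup G), g ^ i * x = x * g ^ i) :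
    g ∈ Subgroup.centralizer ((P : Subgroup G) : Set G) := by
  refine ClassGraph.mem_of_parts _ g fun n q k hq hqk => Subgroup.mem_centralizer_iff.mpr fun x hx => ?_
  by_cases h : p ∣ orderOf (g ^ n)
  · rw [hqk] at h
    obtain rfl : p = q := (Nat.prime_dvd_prime_iff_eq Fact.out hq).mp ((Fact.out : p.Prime).dvd_of_dvd_pow h)
    exact sylow_comm P hc x hx _ (mem_of_normalizer_pgroup P (pow_mem hg n) hqk)
  · exact (hd n h x hx).symm

/-- Burnside's criterion. -/
theorem complement_of_central (P : Sylow p G) (hc : IsCyclic (P : Subgroup G))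
    (hd : ∀ d ∈ Subgroup.normalizer ((P : Subgroup G) : Set G), ¬ p ∣ orderOf d →
      ∀ x ∈ (P : Subgroup G), d * x = x * d) : Cfsg.HasNormalPComplement p G := by
  have hle : Subgroup.normalizer ((P : Subgroup G) : Set G) ≤ Subgroup.centralizer ((P : Subgroup G) : Set G) :=
    fun g hg => mem_centralizer_of_parts P hc hg fun i hi => hd _ (pow_mem hg i) hi
  exact ⟨P, _, inferInstance, MonoidHom.ker_transferSylow_isComplement' P hle⟩

/-- In a perfect group an element of an abelian Sylow subgroup centralised by its normaliser is trivial. -/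
theorem central_eq_one (hperf : commutator G = ⊤) {q : ℕ} [Fact q.Prime] (Q : Sylow q G)
    [IsMulCommutative ↥(Q : Subgroup G)] {c : G} (hc : c ∈ (Q : Subgroup G))
    (hcent : ∀ n ∈ Subgroup.normalizer ((Q : Subgroup G) : Set G), n * c = c * n) : c = 1 := by
  have key : ∀ (k : ℕ) (g₀ : G), g₀⁻¹ * c ^ k * g₀ ∈ (Q : Subgroup G) → g₀⁻¹ * c ^ k * g₀ = c ^ k := by
    intro k g₀ h
    obtain ⟨n, hn, hn'⟩ := Q.conj_eq_normalizer_conj_of_mem (c ^ k) g₀ (pow_mem hc k) h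
    rw [hn', mul_assoc, ← ((show Commute n c from hcent n hn).pow_right k).eq, inv_mul_cancel_left]
  let _ : CommGroup ↥(Q : Subgroup G) :=
    { (inferInstance : Group ↥(Q : Subgroup G)) with
      mul_comm := fun a b => mul_comm' a b }
  have h1 := MonoidHom.transfer_eq_pow (MonoidHom.id ↥(Q : Subgroup G)) c key
  rw [PowerOrbits.hom_eq_one_of_perfect hperf (MonoidHom.transfer (MonoidHom.id ↥(Q : Subgroup G)))] at h1
  have h2 : c ^ (Q : Subgroup G).index = 1 := by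
    simpa using (congrArg Subtype.val h1).symm
  obtain ⟨k, hk⟩ := IsPGroup.iff_orderOf.mp Q.2 ⟨c, hc⟩
  rw [Subgroup.orderOf_mk] at hk
  have hdvd := orderOf_dvd_of_pow_eq_one h2
  rw [hk] at hdvd
  rcases k with _ | k
  · exact orderOf_eq_one_iff.mp (hk.trans (pow_zero q))
  · exact absurd ((dvd_pow_self q (Nat.succ_ne_zero k)).trans hdvd) Q.not_dvd_index

/-- An element of order prime to `p` inverted by an involution has square one, if subgroups of order prime to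
`p` are commutative. -/
theorem sq_eq_one_of_inverted (hp2 : p ≠ 2)
    (hab : ∀ H : Subgroup G, ¬ p ∣ Nat.card H → IsMulCommutative H) {t g : G} (ht : orderOf t = 2)
    (hg : ¬ p ∣ orderOf g) (hinv : t * g * t⁻¹ = g⁻¹) : g ^ 2 = 1 := by
  set A := Subgroup.zpowers g
  set B := Subgroup.zpowers t
  have hn : B ≤ Subgroup.normalizer (A : Set G) := by
    rw [Subgroup.zpowers_le]
    have hmem : ∀ x ∈ A, t * x * t⁻¹ ∈ A := fun x hx => by
      obtain ⟨k, rfl⟩ := Subgroup.mem_zpowers_iff.mp hx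
      rw [← conj_zpow, hinv]
      exact zpow_mem (inv_mem (Subgroup.mem_zpowers g)) k
    have ht' : t⁻¹ = t := inv_eq_of_mul_eq_one_right (by rw [← sq, ← ht, pow_orderOf_eq_one])
    refine Subgroup.mem_normalizer_iff.mpr fun x => ⟨hmem x, fun hx => ?_⟩
    have h := hmem _ hx
    rwa [show t * (t * x * t⁻¹) * t⁻¹ = x by
      nth_rewrite 1 [← ht']
      nth_rewrite 4 [← ht']
      group] at h
  have hcard : ¬ p ∣ Nat.card ↥(B ⊔ A) := by
    intro h
    obtain ⟨⟨x, hx⟩, hxo⟩ := exists_prime_orderOf_dvd_card' p h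
    rw [Subgroup.orderOf_mk] at hxo
    rw [← SetLike.mem_coe, Subgroup.coe_mul_of_left_le_normalizer_right B A hn] at hx
    obtain ⟨u, hu, v, hv, rfl⟩ := Set.mem_mul.mp hx
    obtain ⟨i, rfl⟩ := (Submonoid.mem_powers_iff _ _).mp (mem_powers_iff_mem_zpowers.mpr hu)
    have ht2 : t ^ 2 = 1 := by rw [← ht, pow_orderOf_eq_one]
    rcases Nat.even_or_odd' i with ⟨j, rfl | rfl⟩
    · rw [pow_mul, ht2, one_pow, one_mul] at hxo
      exact hg (hxo ▸ (Nat.card_zpowers g ▸ Subgroup.orderOf_dvd_natCard A hv))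
    · obtain ⟨k, rfl⟩ := Subgroup.mem_zpowers_iff.mp hv
      rw [pow_succ, pow_mul, ht2, one_pow, one_mul] at hxo
      have h2 : (t * g ^ k) ^ 2 = 1 := by
        have htg : t * g ^ k * t = (g ^ k)⁻¹ := by
          nth_rewrite 2 [← inv_eq_of_mul_eq_one_right (show t * t = 1 by rw [← sq, ht2])]
          rw [← conj_zpow, hinv, inv_zpow]
        rw [sq, ← mul_assoc, htg, inv_mul_cancel]
      exact hp2 ((Nat.prime_dvd_prime_iff_eq Fact.out Nat.prime_two).mp (hxo ▸ orderOf_dvd_of_pow_eq_one h2))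
  have := hab _ hcard
  have hcm : t * g = g * t := congrArg Subtype.val (mul_comm'
    (⟨t, Subgroup.mem_sup_left (Subgroup.mem_zpowers t)⟩ : ↥(B ⊔ A))
    ⟨g, Subgroup.mem_sup_right (Subgroup.mem_zpowers g)⟩)
  rw [sq]
  rw [hcm, mul_inv_cancel_right] at hinv
  nth_rewrite 2 [hinv]
  exact mul_inv_cancel g

end Cfsg.Agent.Lib.PGroups.CyclicDichotomy
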