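import Mathlib.GroupTheory.Commutator.Basic
import Mathlib.GroupTheory.Index
import Mathlib.GroupTheory.QuotientGroup.Basic
import Mathlib.GroupTheory.GroupAction.Quotient
import Mathlib.SetTheory.Cardinal.Finite
import Mathlib.Data.Fintype.Card
import Mathlib.Algebra.Order.BigOperators.Group.Finset

/-! Three-subgroup lemma modulo a normal subgroup; a proper subgroup misses a conjugacy class. -/

set_option autoImplicit false
set_option linter.style.haveILetI false

namespace Cfsg.Agent.Lib.PGroups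

variable {G : Type*} [Group G]

/-- Three-subgroup lemma modulo a normal subgroup `N`. -/
theorem three_subgroup_normal {A B C N : Subgroup G} [N.Normal]
    (h1 : ⁅⁅B, C⁆, A⁆ ≤ N) (h2 : ⁅⁅C, A⁆, B⁆ ≤ N) : ⁅⁅A, B⁆, C⁆ ≤ N := by
  have hbot : ∀ S : Subgroup G, S.map (QuotientGroup.mk' N) = ⊥ ↔ S ≤ N := fun S => by
    rw [Subgroup.map_eq_bot_iff, QuotientGroup.ker_mk']
  rw [← hbot] at h1 h2 ⊢
  simp only [Subgroup.map_commutator] at h1 h2 ⊢
  exact Subgroup.commutator_commutator_eq_bot_of_rotate h1 h2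

/-- A proper subgroup of a finite group misses some conjugacy class. -/
theorem exists_conj_not_mem [Finite G] {M : Subgroup G} (hM : M ≠ ⊤) :
    ∃ g : G, ∀ h : G, h * g * h⁻¹ ∉ M := by
  classical
  by_contra hc
  push Not at hc
  haveI := Fintype.ofFinite G
  haveI : Fintype (G ⧸ M) := Fintype.ofFinite _
  have hsum := MulAction.sum_card_fixedBy_eq_card_orbits_mul_card_group G (G ⧸ M)
  have hΩ : Fintype.card (Quotient (MulAction.orbitRel G (G ⧸ M))) = 1 := by
    rw [Fintype.card_eq_one_iff]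
    refine ⟨Quotient.mk'' ((1 : G) : G ⧸ M), ?_⟩
    intro y
    induction y using Quotient.inductionOn' with
    | h a =>
      apply Quotient.sound'
      obtain ⟨g, hg⟩ := MulAction.exists_smul_eq G ((1 : G) : G ⧸ M) a
      exact ⟨g, hg⟩
  rw [hΩ, one_mul] at hsum
  have hge : ∀ g : G, 1 ≤ Fintype.card (MulAction.fixedBy (G ⧸ M) g) := by
    intro g
    obtain ⟨h, hh⟩ := hc g
    refine Fintype.card_pos_iff.mpr ⟨⟨((h⁻¹ : G) : G ⧸ M), ?_⟩⟩
    rw [MulAction.mem_fixedBy, MulAction.Quotient.smul_coe, smul_eq_mul, QuotientGroup.eq]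
    simpa [mul_assoc] using inv_mem hh
  have h2 : 1 < Fintype.card (MulAction.fixedBy (G ⧸ M) (1 : G)) := by
    have : 1 < Fintype.card (G ⧸ M) := by
      rw [← Nat.card_eq_fintype_card, ← Subgroup.index]
      have h1 : M.index ≠ 1 := fun h => hM (Subgroup.index_eq_one.mp h)
      have h0 : M.index ≠ 0 := Subgroup.index_ne_zero_of_finite
      omega
    simpa [MulAction.fixedBy, Fintype.card_setUniv] using this
  have := Finset.sum_lt_sum (fun g _ => hge g) ⟨(1 : G), Finset.mem_univ _, h2⟩
  rw [hsum] at this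
  simp at this

end Cfsg.Agent.Lib.PGroups
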