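import Cfsg.Agent.Lib.Coprime.PxQ
import Cfsg.Agent.Lib.Coprime.Generation
import Cfsg.Agent.Lib.Cores.SmallPGroup
import Mathlib

/-!
Lower central series bounds in p-groups, groups with a self-centralizing subgroup of order p².
-/

set_option autoImplicit false

open scoped commutatorElement

namespace Cfsg.Agent.Lib.PGroups

/-- Pushing a proper containment of p-subgroups down to cardinalities. -/
theorem card_mul_le_of_lt {G : Type*} [Group G] [Finite G] {p : ℕ} [hp : Fact p.Prime]
    {A B : Subgroup G} (hB : IsPGroup p B) (h : A < B) : Nat.card A * p ≤ Nat.card B := by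
  obtain ⟨b, hb⟩ := IsPGroup.iff_card.mp hB
  obtain ⟨c, hc, hA⟩ := (Nat.dvd_prime_pow hp.out).mp (hb ▸ Subgroup.card_dvd_of_le h.le)
  rw [hA, hb, ← pow_succ]
  refine Nat.pow_le_pow_right hp.out.pos ?_
  by_contra hlt
  exact h.ne (Subgroup.eq_of_le_of_card_ge h.le (by rw [hA, hb, show c = b by omega]))

/-- A p-group with cyclic abelianization is abelian. -/
theorem commutator_eq_bot_of_isCyclic {G : Type*} [Group G] [Finite G] {p : ℕ} [hp : Fact p.Prime]
    (hpG : IsPGroup p G) [IsCyclic (G ⧸ commutator G)] : commutator G = ⊥ := by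
  haveI := hpG.isNilpotent
  obtain ⟨g, hg⟩ := IsCyclic.exists_zpow_surjective (G := G ⧸ commutator G)
  obtain ⟨x, rfl⟩ := QuotientGroup.mk_surjective g
  have htop : commutator G ⊔ Subgroup.zpowers x = ⊤ := eq_top_iff.mpr fun y _ => by
    obtain ⟨j, hj⟩ := hg (y : G ⧸ commutator G)
    have hj' : ((x ^ j : G) : G ⧸ commutator G) = y := by rw [QuotientGroup.mk_zpow]; exact hj
    have h := Subgroup.mul_mem_sup ((inferInstance : (commutator G).Normal).conj_mem _
      (QuotientGroup.eq.mp hj') (x ^ j)) (Subgroup.zpow_mem _ (Subgroup.mem_zpowers x) j)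
    have e : x ^ j * ((x ^ j)⁻¹ * y) * (x ^ j)⁻¹ * x ^ j = y := by group
    rwa [e] at h
  have hx : Subgroup.zpowers x = ⊤ := frattini_nongenerating (top_le_iff.mp (htop ▸ sup_le
    (le_sup_of_le_right (Coprime.commutator_le_frattini_of_isPGroup hpG)) le_sup_left))
  rw [eq_bot_iff, commutator_def, Subgroup.commutator_le]
  intro a _ b _
  obtain ⟨i, rfl⟩ := Subgroup.mem_zpowers_iff.mp (hx.ge (Subgroup.mem_top a))
  obtain ⟨j, rfl⟩ := Subgroup.mem_zpowers_iff.mp (hx.ge (Subgroup.mem_top b))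
  rw [Subgroup.mem_bot, commutatorElement_eq_one_iff_mul_comm, ← zpow_add, ← zpow_add, add_comm]

theorem commutator_card_le {G : Type*} [Group G] [Finite G] {p : ℕ} [hp : Fact p.Prime] (r : ℕ)
    (hr : 2 ≤ r) (hG : Nat.card G = p ^ r) : Nat.card (commutator G) * p ^ 2 ≤ p ^ r := by
  have hpG : IsPGroup p G := IsPGroup.of_card hG
  haveI := hpG.isNilpotent
  obtain ⟨c, hc⟩ := IsPGroup.iff_card.mp (hpG.to_subgroup (commutator G))
  rw [hc, ← pow_add]
  refine Nat.pow_le_pow_right hp.out.pos ?_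
  by_contra hlt
  have hidx : (commutator G).index ∣ p := by
    have h := (commutator G).card_mul_index
    rw [hc, hG] at h
    have h1 : p ^ c * (commutator G).index ∣ p ^ c * p := by
      rw [h, ← pow_succ]; exact pow_dvd_pow p (by omega)
    exact Nat.dvd_of_mul_dvd_mul_left (pow_pos hp.out.pos c) h1
  haveI : IsCyclic (G ⧸ commutator G) := isCyclic_of_card_dvd_prime (p := p) hidx
  have hbot := commutator_eq_bot_of_isCyclic hpG
  rw [hbot, Subgroup.card_bot] at hc
  have : c = 0 := by
    by_contra h0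
    exact (Nat.one_lt_pow h0 hp.out.one_lt).ne hc
  omega

/-- `|γ_{i+2}(G)| p^{i+2} ≤ |G|` while nontrivial. -/
theorem lowerCentralSeries_card_le {G : Type*} [Group G] [Finite G] {p : ℕ} [hp : Fact p.Prime]
    (r : ℕ) (hr : 2 ≤ r) (hG : Nat.card G = p ^ r) (i : ℕ) :
    (⊤ : Subgroup G).lowerCentralSeries (i + 1) = ⊥ ∨
      Nat.card ((⊤ : Subgroup G).lowerCentralSeries (i + 1)) * p ^ (i + 2) ≤ p ^ r := by
  have hpG : IsPGroup p G := IsPGroup.of_card hG
  induction i with
  | zero =>
    right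
    rw [Subgroup.top_lowerCentralSeries_one]
    exact commutator_card_le r hr hG
  | succ i ih =>
    by_cases hbot : (⊤ : Subgroup G).lowerCentralSeries (i + 1) = ⊥
    · left
      exact le_bot_iff.mp (hbot ▸ (⊤ : Subgroup G).lowerCentralSeries_antitone (Nat.le_succ _))
    · right
      have hlt : (⊤ : Subgroup G).lowerCentralSeries (i + 1 + 1) < (⊤ : Subgroup G).lowerCentralSeries (i + 1) := by
        rw [Subgroup.lowerCentralSeries_succ]
        exact Coprime.commutator_lt_of_isPGroup (hpG.to_subgroup _) (hpG.to_subgroup ⊤)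
          (le_of_le_of_eq le_top (Subgroup.normalizer_eq_top_iff.mpr inferInstance).symm) hbot
      have h1 := card_mul_le_of_lt (hpG.to_subgroup _) hlt
      calc Nat.card ((⊤ : Subgroup G).lowerCentralSeries (i + 1 + 1)) * p ^ (i + 1 + 2)
          = Nat.card ((⊤ : Subgroup G).lowerCentralSeries (i + 1 + 1)) * p * p ^ (i + 2) := by
            rw [mul_assoc, ← pow_succ']
        _ ≤ Nat.card ((⊤ : Subgroup G).lowerCentralSeries (i + 1)) * p ^ (i + 2) :=
            Nat.mul_le_mul_right _ h1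
        _ ≤ p ^ r := ih.resolve_left hbot

theorem lowerCentralSeries_pred_eq_bot {G : Type*} [Group G] [Finite G] {p : ℕ} [hp : Fact p.Prime]
    (r : ℕ) (hr : 2 ≤ r) (hG : Nat.card G = p ^ r) :
    (⊤ : Subgroup G).lowerCentralSeries (r - 1) = ⊥ := by
  rcases lowerCentralSeries_card_le r hr hG (r - 2) with h | h
  · rwa [show r - 2 + 1 = r - 1 by omega] at h
  · rw [show r - 2 + 1 = r - 1 by omega, show r - 2 + 2 = r by omega] at h
    refine Subgroup.card_eq_one.mp (le_antisymm ?_ Nat.card_pos)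
    exact Nat.le_of_mul_le_mul_right (by rwa [one_mul]) (pow_pos hp.out.pos r)

/-- A p-group with a self-centralizing subgroup of order p² has maximal class. -/
theorem class_of_self_centralizing {p : ℕ} [hp : Fact p.Prime] : ∀ (n : ℕ) {X : Type*} [Group X] [Finite X],
    Nat.card X = p ^ n → ∀ A : Subgroup X, Nat.card A = p ^ 2 →
      Subgroup.centralizer (A : Set X) = A → Group.nilpotencyClass X = n - 1 := by
  intro n
  induction n using Nat.strong_induction_on with
  | _ n ih =>
  intro X _ _ hX A hA hC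
  have hpX : IsPGroup p X := IsPGroup.of_card hX
  haveI := hpX.isNilpotent
  have h2n : 2 ≤ n := by
    have := Subgroup.card_subgroup_dvd_card A
    rw [hA, hX] at this
    exact (Nat.pow_dvd_pow_iff_le_right hp.out.one_lt).mp this
  haveI : Nontrivial X := Finite.one_lt_card_iff_nontrivial.mp (by
    rw [hX]; exact Nat.one_lt_pow (by omega) hp.out.one_lt)
  have hAA : ∀ x ∈ A, ∀ y ∈ A, x * y = y * x := fun x hx y hy =>
    (Subgroup.mem_centralizer_iff.mp (hC.ge hx) y hy).symm
  rw [nilpotencyClass_eq_quotient_center_plus_one]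
  set Z := Subgroup.center X with hZ
  by_cases hn2 : n = 2
  · subst hn2
    have hAt : A = ⊤ := Subgroup.eq_top_of_card_eq A (by rw [hA, hX])
    have hZt : Z = ⊤ := by
      rw [eq_top_iff]
      intro x _
      rw [hZ, Subgroup.mem_center_iff]
      exact fun g => hAA g (hAt ▸ Subgroup.mem_top g) x (hAt ▸ Subgroup.mem_top x)
    haveI : Subsingleton (X ⧸ Z) := (Nat.card_eq_one_iff_unique.mp (by
      rw [← Subgroup.index, hZt, Subgroup.index_top])).1
    rw [nilpotencyClass_zero_iff_subsingleton.mpr ‹_›]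
  -- the centre has order `p`
  have hZA : Z ≤ A := fun z hz => hC.le (Subgroup.mem_centralizer_iff.mpr fun g _ =>
    Subgroup.mem_center_iff.mp hz g)
  haveI := hpX.center_nontrivial
  have hZne : Z ≠ A := by
    intro h
    have h1 : A = ⊤ := by
      rw [← hC, eq_top_iff]
      intro x _
      exact Subgroup.mem_centralizer_iff.mpr fun g hg => (Subgroup.mem_center_iff.mp (h.ge hg) x).symm
    rw [h1, Subgroup.card_top, hX] at hA
    exact hn2 (Nat.pow_right_injective hp.out.two_le hA)
  have hcZ : Nat.card Z = p := by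
    obtain ⟨c, hc, hcard⟩ := (Nat.dvd_prime_pow hp.out).mp (hA ▸ Subgroup.card_dvd_of_le hZA)
    have h0 : c ≠ 0 := by
      rintro rfl
      exact (Finite.one_lt_card (α := Z)).ne' (by rw [hcard, pow_zero])
    have h2 : c ≠ 2 := by
      rintro rfl
      exact hZne (Subgroup.eq_of_le_of_card_ge hZA (by rw [hcard, hA]))
    rw [hcard, show c = 1 by omega, pow_one]
  set q := QuotientGroup.mk' Z with hq
  set Ab := A.map q with hAb
  set Bb := Subgroup.centralizer (Ab : Set (X ⧸ Z)) with hBb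
  have hcQ : Nat.card (X ⧸ Z) = p ^ (n - 1) := by
    have h := Z.card_eq_card_quotient_mul_card_subgroup
    rw [hX, hcZ, show n = n - 1 + 1 by omega, pow_succ] at h
    exact (Nat.eq_of_mul_eq_mul_right hp.out.pos h).symm
  have hAbc : Nat.card Ab = p := by
    have h1 := Subgroup.card_mul_index (Z.subgroupOf A)
    rw [← Subgroup.relIndex] at h1
    rw [Nat.card_congr (Subgroup.subgroupOfEquivOfLe hZA).toEquiv, hcZ, hA] at h1
    have h2 := Subgroup.relIndex_map_map q ⊥ A
    rw [Subgroup.map_bot, Subgroup.relIndex_bot_left, bot_sup_eq, QuotientGroup.ker_mk',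
      sup_eq_left.mpr hZA] at h2
    rw [hAb, h2]
    exact Nat.eq_of_mul_eq_mul_left hp.out.pos (by rw [h1, pow_two])
  haveI : IsCyclic Ab := isCyclic_of_prime_card hAbc
  have hAbab : Ab ≤ Bb := fun x hx => Subgroup.mem_centralizer_iff.mpr fun y hy => by
    exact (congrArg Subtype.val (IsMulCommutative.is_comm.comm (⟨x, hx⟩ : Ab) ⟨y, hy⟩)).symm
  obtain ⟨a0, ha0A, ha0Z⟩ := SetLike.exists_of_lt (lt_of_le_of_ne hZA hZne)
  set B := Bb.comap q with hB
  have hBmem : ∀ x ∈ B, x * a0 * x⁻¹ * a0⁻¹ ∈ Z := by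
    intro x hx
    rw [← QuotientGroup.eq_one_iff]
    show q _ = 1
    rw [map_mul, map_mul, map_mul, map_inv, map_inv,
      ← Subgroup.mem_centralizer_iff.mp (hx : q x ∈ Bb) (q a0) (Subgroup.mem_map_of_mem q ha0A)]
    group
  let f : B →* Z :=
    MonoidHom.mk' (fun x => ⟨(x : X) * a0 * (x : X)⁻¹ * a0⁻¹, hBmem x x.2⟩) (fun x y => Subtype.ext (by
      show ((x : X) * y) * a0 * ((x : X) * y)⁻¹ * a0⁻¹ = _ * _
      have hcz := Subgroup.mem_center_iff.mp (hBmem y y.2) (x : X)
      calc ((x : X) * y) * a0 * ((x : X) * y)⁻¹ * a0⁻¹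
          = ((x : X) * ((y : X) * a0 * (y : X)⁻¹ * a0⁻¹)) * (a0 * (x : X)⁻¹ * a0⁻¹) := by group
        _ = ((y : X) * a0 * (y : X)⁻¹ * a0⁻¹) * ((x : X) * a0 * (x : X)⁻¹ * a0⁻¹) := by rw [hcz]; group
        _ = _ := (Subgroup.mem_center_iff.mp (hBmem y y.2) _).symm))
  have hker : Nat.card f.ker ≤ p ^ 2 := by
    rw [← hA]
    refine le_of_eq_of_le (Subgroup.card_map_of_injective (f := B.subtype) B.subtype_injective).symm ?_
    refine Nat.le_of_dvd Nat.card_pos (Subgroup.card_dvd_of_le ?_)
    rintro _ ⟨x, hx, rfl⟩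
    rw [← hC]
    have h1 : (x : X) * a0 * (x : X)⁻¹ * a0⁻¹ = 1 := congrArg Subtype.val hx
    rw [mul_inv_eq_one, mul_inv_eq_iff_eq_mul] at h1
    have hle : A ≤ Subgroup.centralizer ({(x : X)} : Set X) := by
      have hlt : Z < Z ⊔ Subgroup.zpowers a0 :=
        lt_of_le_of_ne le_sup_left fun h => ha0Z (h.ge (Subgroup.mem_sup_right (Subgroup.mem_zpowers a0)))
      have hgen : Z ⊔ Subgroup.zpowers a0 = A := by
        refine Subgroup.eq_of_le_of_card_ge (sup_le hZA (Subgroup.zpowers_le.mpr ha0A)) ?_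
        have := card_mul_le_of_lt (hpX.to_subgroup _) hlt
        rw [hcZ] at this
        rw [hA, pow_two]; exact this
      rw [← hgen]
      refine sup_le (Subgroup.center_le_centralizer _) (Subgroup.zpowers_le.mpr ?_)
      rw [Subgroup.mem_centralizer_singleton_iff]
      exact h1.symm
    exact Subgroup.mem_centralizer_iff.mpr fun g hg =>
      Subgroup.mem_centralizer_singleton_iff.mp (hle hg)
  have hBle : Nat.card B ≤ p ^ 3 := by
    have h := f.ker.card_eq_card_quotient_mul_card_subgroup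
    rw [Nat.card_congr (QuotientGroup.quotientKerEquivRange f).toEquiv] at h
    rw [h, pow_succ']
    exact Nat.mul_le_mul (hcZ ▸ Subgroup.card_le_card_group f.range) hker
  have hBgt : Ab ≠ Bb := by
    intro h
    have hne : Ab ≠ ⊤ := fun ht => by
      rw [ht, Subgroup.card_top, hcQ] at hAbc
      have := Nat.pow_right_injective hp.out.two_le (hAbc.trans (pow_one p).symm)
      omega
    haveI := (IsPGroup.of_card hcQ : IsPGroup p (X ⧸ Z)).isNilpotent
    obtain ⟨g, hgN, hgA⟩ := SetLike.exists_of_lt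
      (normalizerCondition_of_isNilpotent Ab (lt_top_iff_ne_top.mpr hne))
    refine hgA (h.ge ?_)
    -- `⁅g, Ab⁆ < Ab` is trivial
    have hlt := Coprime.commutator_lt_of_isPGroup ((IsPGroup.of_card hcQ).to_subgroup Ab)
      ((IsPGroup.of_card hcQ).to_subgroup (Subgroup.zpowers g)) (Subgroup.zpowers_le.mpr hgN)
      (fun hb => hp.out.ne_one (by rw [← hAbc, hb, Subgroup.card_bot]))
    have h1 := card_mul_le_of_lt ((IsPGroup.of_card hcQ).to_subgroup Ab) hlt
    rw [hAbc] at h1
    have h2 : ⁅Ab, Subgroup.zpowers g⁆ = ⊥ := Subgroup.card_eq_one.mp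
      (le_antisymm (Nat.le_of_mul_le_mul_right (by rwa [one_mul]) hp.out.pos) Nat.card_pos)
    rw [hBb, Subgroup.mem_centralizer_iff]
    intro y hy
    exact Subgroup.mem_centralizer_iff.mp
      (Subgroup.commutator_eq_bot_iff_le_centralizer.mp h2 hy) g (Subgroup.mem_zpowers g) |>.symm
  have hBbc : Nat.card Bb = p ^ 2 := by
    have h1 := card_mul_le_of_lt ((IsPGroup.of_card hcQ).to_subgroup Bb) (lt_of_le_of_ne hAbab hBgt)
    rw [hAbc] at h1
    have h2 : Nat.card B = Nat.card Z * Nat.card Bb := by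
      have h := Subgroup.relIndex_comap (H := (⊥ : Subgroup (X ⧸ Z))) q B
      rw [MonoidHom.comap_bot, QuotientGroup.ker_mk', hB, Subgroup.map_comap_eq_self_of_surjective
        (QuotientGroup.mk'_surjective Z), Subgroup.relIndex_bot_left] at h
      have hZB : Z ≤ Bb.comap q := fun z hz => by
        rw [Subgroup.mem_comap, show q z = 1 from (QuotientGroup.eq_one_iff z).mpr hz]
        exact one_mem _
      have h3 := Subgroup.card_mul_index (Z.subgroupOf (Bb.comap q))
      rw [← Subgroup.relIndex, h, Nat.card_congr (Subgroup.subgroupOfEquivOfLe hZB).toEquiv] at h3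
      rw [hB, ← h3]
    rw [h2, hcZ, pow_succ'] at hBle
    rw [pow_two]
    refine le_antisymm ?_ h1
    have := Nat.le_of_mul_le_mul_left hBle hp.out.pos
    rwa [pow_two] at this
  haveI : IsMulCommutative Bb := IsPGroup.isMulCommutative_of_card_eq_prime_sq (p := p) hBbc
  have hBC : Subgroup.centralizer (Bb : Set (X ⧸ Z)) = Bb := by
    refine le_antisymm ?_ (fun x hx => Subgroup.mem_centralizer_iff.mpr fun y hy =>
      congrArg Subtype.val (IsMulCommutative.is_comm.comm (⟨y, hy⟩ : Bb) ⟨x, hx⟩))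
    nth_rewrite 2 [hBb]
    exact Subgroup.centralizer_le (fun x hx => hAbab hx)
  rw [ih (n - 1) (by omega) hcQ Bb hBbc hBC]
  omega

end Cfsg.Agent.Lib.PGroups
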