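import Cfsg.Agent.Lib.PGroups.CyclicNormal
import Cfsg.Agent.Lib.PGroups.MaxClassGen
import Cfsg.Agent.Lib.RankTwo.Basic
import Cfsg.Agent.Lib.LocalEven.Subnormal
import Cfsg.Agent.Lib.OddLocal.Coprime
import Cfsg.Agent.Lib.Coprime.Basic
import Cfsg.Agent.Lib.Cores.SmallPGroup
import Cfsg.Agent.Lib.Solvable.Nilpotent

/-!
P. Hall's theorem on `p`-groups of symplectic type.
-/

set_option autoImplicit false
set_option linter.unusedSectionVars false

namespace Cfsg.Agent.Lib.PGroups.SymplecticType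

open scoped commutatorElement
open Subgroup

universe u

variable {G : Type u} [Group G] [Finite G] {p : ℕ} [hp : Fact p.Prime]

theorem characteristic_of_invariant {K : Subgroup G} (h : ∀ φ : G ≃* G, ∀ x ∈ K, φ x ∈ K) :
    K.Characteristic :=
  characteristic_iff_map_le.mpr fun φ => by
    rintro _ ⟨x, hx, rfl⟩
    exact h φ x hx

theorem invariant_of_characteristic {K : Subgroup G} (h : K.Characteristic) (φ : G ≃* G) {x : G}
    (hx : x ∈ K) : φ x ∈ K :=
  characteristic_iff_map_le.mp h φ ⟨x, hx, rfl⟩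

theorem centralizer_invariant {S : Set G} (φ : G ≃* G) (hS : ∀ s ∈ S, φ.symm s ∈ S) {x : G}
    (hx : x ∈ centralizer S) : φ x ∈ centralizer S := by
  refine mem_centralizer_iff.mpr fun s hs => ?_
  have h := congrArg φ (mem_centralizer_iff.mp hx _ (hS s hs))
  rwa [map_mul, map_mul, MulEquiv.apply_symm_apply] at h

/-- A characteristic subgroup of a characteristic subgroup, pushed to the group. -/
theorem characteristic_map {R : Subgroup G} (hR : R.Characteristic) {V : Subgroup R}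
    (hV : V.Characteristic) : (V.map R.subtype).Characteristic := by
  refine characteristic_of_invariant fun φ => ?_
  rintro _ ⟨v, hv, rfl⟩
  let ψ : R ≃* R :=
    { toFun := fun r => ⟨φ r, invariant_of_characteristic hR φ r.2⟩
      invFun := fun r => ⟨φ.symm r, invariant_of_characteristic hR φ.symm r.2⟩
      left_inv := fun r => Subtype.ext (φ.symm_apply_apply r)
      right_inv := fun r => Subtype.ext (φ.apply_symm_apply r)
      map_mul' := fun a b => Subtype.ext (map_mul φ (a : G) b) }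
  exact ⟨ψ v, invariant_of_characteristic hV ψ hv, rfl⟩

/-- The index of the centralizer of a subgroup with commutators of order `p`. -/
theorem index_centralizer_mul_le (hG : IsPGroup p G) {z : G} (hzc : z ∈ center G) (hz : orderOf z = p)
    {B : Subgroup G} (hB : B ≤ center G) :
    ∀ H : Subgroup G, B ≤ H → (∀ x : G, ∀ h ∈ H, ⁅x, h⁆ ∈ zpowers z) →
      (centralizer (H : Set G)).index * Nat.card B ≤ Nat.card H := by
  intro H
  induction hm : Nat.card H using Nat.strong_induction_on generalizing H with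
  | _ m ih =>
  subst hm
  intro hBH hcomm
  rcases eq_or_lt_of_le hBH with rfl | hlt
  · rw [show centralizer (B : Set G) = ⊤ from eq_top_iff.mpr fun x _ => mem_centralizer_iff.mpr
      fun b hb => (mem_center_iff.mp (hB hb) x).symm, index_top, one_mul]
  obtain ⟨H1, hH1⟩ := (Set.toFinite {K : Subgroup G | B ≤ K ∧ K < H}).exists_maximal ⟨B, le_rfl, hlt⟩
  obtain ⟨h, hhH, hh1⟩ := SetLike.exists_of_lt hH1.1.2
  have hgen : closure ((H1 : Set G) ∪ {h}) = H := by
    have hle : closure ((H1 : Set G) ∪ {h}) ≤ H :=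
      (closure_le _).mpr (Set.union_subset hH1.1.2.le (Set.singleton_subset_iff.mpr hhH))
    by_contra hne
    exact hh1 (hH1.2 ⟨hH1.1.1.trans fun x hx => subset_closure (Or.inl hx), lt_of_le_of_ne hle hne⟩
      (fun x hx => subset_closure (Or.inl hx)) (subset_closure (Or.inr rfl)))
  have hc : ∀ x y : G, ⁅x * y, h⁆ = ⁅x, h⁆ * ⁅y, h⁆ := by
    intro x y
    obtain ⟨i, hi⟩ := mem_zpowers_iff.mp (hcomm y h hhH)
    obtain ⟨j, hj⟩ := mem_zpowers_iff.mp (hcomm x h hhH)
    have hcen : Commute x (⁅y, h⁆) := hi ▸ (mem_center_iff.mp (zpow_mem hzc i) x)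
    rw [show ⁅x * y, h⁆ = (x * ⁅y, h⁆ * x⁻¹) * ⁅x, h⁆ by simp only [commutatorElement_def]; group,
      hcen.eq, mul_inv_cancel_right, ← hi, ← hj, ← zpow_add, ← zpow_add, add_comm]
  let f : G →* zpowers z := MonoidHom.mk' (fun x => ⟨⁅x, h⁆, hcomm x h hhH⟩) fun a b => Subtype.ext (hc a b)
  have hker : f.ker ≤ centralizer ({h} : Set G) := fun x hx => by
    rw [mem_centralizer_singleton_iff]
    exact commutatorElement_eq_one_iff_mul_comm.mp (congrArg Subtype.val hx)
  have hfi : f.ker.index ≤ p := by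
    rw [index_ker]
    refine (Nat.card_le_card_of_injective _ Subtype.val_injective).trans_eq ?_
    rw [Nat.card_zpowers, hz]
  have hle : centralizer (H1 : Set G) ⊓ f.ker ≤ centralizer (H : Set G) := by
    intro x hx
    rw [← hgen, centralizer_closure]
    refine mem_centralizer_iff.mpr fun y hy => ?_
    rcases hy with hy | hy
    · exact mem_centralizer_iff.mp (mem_inf.mp hx).1 y hy
    · rw [Set.mem_singleton_iff.mp hy]
      exact (mem_centralizer_singleton_iff.mp (hker (mem_inf.mp hx).2)).symm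
  have h1 := ih (Nat.card H1) (Set.Finite.card_lt_card (Set.toFinite (H : Set G)) hH1.1.2) H1 rfl
    hH1.1.1 (fun x y hy => hcomm x y (hH1.1.2.le hy))
  have h2 : (centralizer (H : Set G)).index ≤ (centralizer (H1 : Set G)).index * f.ker.index :=
    (Nat.le_of_dvd (Nat.pos_of_ne_zero index_ne_zero_of_finite) (index_dvd_of_le hle)).trans index_inf_le
  calc (centralizer (H : Set G)).index * Nat.card B
      ≤ (centralizer (H1 : Set G)).index * p * Nat.card B :=
        Nat.mul_le_mul_right _ (h2.trans (Nat.mul_le_mul_left _ hfi))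
    _ = (centralizer (H1 : Set G)).index * Nat.card B * p := by ring
    _ ≤ Nat.card H1 * p := Nat.mul_le_mul_right p h1
    _ ≤ Nat.card H := card_mul_le_of_lt (hG.to_subgroup H) hH1.1.2

/-- Splitting off a subgroup with commutators of order `p`. -/
theorem sup_centralizer_eq_top (hG : IsPGroup p G) {z : G} (hzc : z ∈ center G) (hz : orderOf z = p)
    {E : Subgroup G} (hzE : z ∈ E) (hcomm : ∀ x : G, ∀ h ∈ E, ⁅x, h⁆ ∈ zpowers z)
    (hinf : E ⊓ centralizer (E : Set G) ≤ zpowers z) : E ⊔ centralizer (E : Set G) = ⊤ := by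
  have h1 := index_centralizer_mul_le hG hzc hz (zpowers_le.mpr hzc) E (zpowers_le.mpr hzE) hcomm
  have h2 := Coprime.card_sup_mul_card_inf (N := E) (H := centralizer (E : Set G))
    (fun g hg => centralizer_le_normalizer (s := (E : Set G)) hg)
  refine eq_top_of_le_card _ ?_
  refine Nat.le_of_mul_le_mul_right (?_ : Nat.card G * p ≤ _ * p) hp.out.pos
  have h3 : Nat.card (E ⊓ centralizer (E : Set G) : Subgroup G) ≤ p := by
    refine (card_le_of_le hinf).trans_eq ?_
    rw [Nat.card_zpowers, hz]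
  calc Nat.card G * p = Nat.card (centralizer (E : Set G)) * ((centralizer (E : Set G)).index * p) := by
        rw [← mul_assoc, card_mul_index]
    _ ≤ Nat.card (centralizer (E : Set G)) * Nat.card E := by
        rw [Nat.card_zpowers, hz] at h1
        exact Nat.mul_le_mul_left _ h1
    _ = Nat.card (E ⊔ centralizer (E : Set G) : Subgroup G) *
          Nat.card (E ⊓ centralizer (E : Set G) : Subgroup G) := by rw [h2, mul_comm]
    _ ≤ _ := Nat.mul_le_mul_left _ h3

/-- A group with centre of order `p` containing all commutators and `p`-th powers. -/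
theorem isExtraspecial_of (hG : IsPGroup p G) (hna : ¬ IsMulCommutative G)
    (hc : Nat.card (center G) = p) (hcom : commutator G ≤ center G)
    (hpow : ∀ x : G, x ^ p ∈ center G) : Cfsg.IsExtraspecial p G := by
  haveI := hG.isNilpotent
  have hne : commutator G ≠ ⊥ := fun h => hna ⟨⟨fun a b => by
    rw [← commutatorElement_eq_one_iff_mul_comm, ← Subgroup.mem_bot, ← h]
    exact commutator_mem_commutator (mem_top a) (mem_top b)⟩⟩
  have hC : commutator G = center G := by
    refine eq_of_le_of_card_ge hcom ?_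
    rw [hc]
    have hd := card_dvd_of_le hcom
    rw [hc] at hd
    rcases (Nat.dvd_prime hp.out).mp hd with h | h
    · exact absurd (card_eq_one.mp h) hne
    · rw [h]
  refine ⟨⟨hG, le_antisymm (LocalEven.frattini_le_of_quotient_elementary hcom hpow) ?_, hC⟩, hc⟩
  rw [← hC]
  exact Cores.commutator_le_frattini

/-- Subgroup version. -/
theorem extraspecial_subgroup (hG : IsPGroup p G) {z : G} (hz : orderOf z = p) {E : Subgroup G}
    (hzE : z ∈ E) (hzc : z ∈ center G) (hne : ∃ a ∈ E, ∃ b ∈ E, a * b ≠ b * a)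
    (hinf : E ⊓ centralizer (E : Set G) ≤ zpowers z) (hcomm : ∀ a ∈ E, ∀ b ∈ E, ⁅a, b⁆ ∈ zpowers z)
    (hpow : ∀ a ∈ E, a ^ p ∈ zpowers z) : Cfsg.IsExtraspecial p E := by
  have hcen : ∀ {x : E}, (x : G) ∈ zpowers z → x ∈ center E := fun {x} hx =>
    mem_center_iff.mpr fun y => Subtype.ext (mem_center_iff.mp ((zpowers_le.mpr hzc) hx) y)
  have hcard : Nat.card (center E) = p := by
    refine (Nat.card_congr (?_ : center E ≃ zpowers z)).trans (by rw [Nat.card_zpowers, hz])
    exact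
      { toFun := fun x => ⟨((x : E) : G), hinf (mem_inf.mpr ⟨(x : E).2, mem_centralizer_iff.mpr fun y hy =>
          congrArg Subtype.val (mem_center_iff.mp x.2 ⟨y, hy⟩)⟩)⟩
        invFun := fun x => ⟨⟨x, (zpowers_le.mpr hzE) x.2⟩, hcen (x := ⟨x, (zpowers_le.mpr hzE) x.2⟩) x.2⟩
        left_inv := fun x => rfl
        right_inv := fun x => rfl }
  refine isExtraspecial_of (hG.to_subgroup E) (fun h => ?_) hcard ?_ fun x => hcen (hpow x x.2)
  · obtain ⟨a, ha, b, hb, hab⟩ := hne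
    exact hab (congrArg Subtype.val (h.1.comm ⟨a, ha⟩ ⟨b, hb⟩))
  · rw [commutator_def, commutator_le]
    exact fun a _ b _ => hcen (hcomm a a.2 b b.2)

theorem exists_central_of_normal {X : Type*} [Group X] [Finite X] (hX : IsPGroup p X)
    (N : Subgroup X) (hN : N.Normal) [Nontrivial N] :
    ∃ q ∈ N, q ∈ center X ∧ orderOf q = p := by
  haveI := hX.isNilpotent
  have hne := Solvable.inf_center_ne_bot (N := N) ((Subgroup.nontrivial_iff_ne_bot N).mp inferInstance)
  obtain ⟨a, ha⟩ := IsPGroup.iff_card.mp (hX.to_subgroup (N ⊓ center X))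
  have ha0 : a ≠ 0 := fun h => hne (card_eq_one.mp (by rw [ha, h, pow_zero]))
  obtain ⟨q, hq⟩ := exists_prime_orderOf_dvd_card' (G := (N ⊓ center X : Subgroup X)) p
    (ha ▸ dvd_pow_self p ha0)
  exact ⟨q, (mem_inf.mp q.2).1, (mem_inf.mp q.2).2, by rw [Subgroup.orderOf_coe, hq]⟩

theorem extraspecial_top (h : Cfsg.IsExtraspecial p G) : Cfsg.IsExtraspecial p (⊤ : Subgroup G) := by
  obtain ⟨⟨hG, hfr, hco⟩, hcard⟩ := h
  have hc : Nat.card (center (⊤ : Subgroup G)) = p :=
    (Nat.card_congr (Subgroup.centerCongr Subgroup.topEquiv).toEquiv).trans hcard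
  refine isExtraspecial_of (hG.to_subgroup ⊤) (fun hab => ?_) hc ?_ fun x => ?_
  · have hbot : commutator G = ⊥ := by
      rw [eq_bot_iff, commutator_def, commutator_le]
      intro a _ b _
      rw [Subgroup.mem_bot, commutatorElement_eq_one_iff_mul_comm]
      exact congrArg Subtype.val (hab.1.comm ⟨a, mem_top a⟩ ⟨b, mem_top b⟩)
    rw [← hco, hbot, card_bot] at hcard
    exact hp.out.ne_one hcard.symm
  · rw [commutator_def, commutator_le]
    intro a _ b _
    refine mem_center_iff.mpr fun y => Subtype.ext ?_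
    exact mem_center_iff.mp (show ⁅(a : G), (b : G)⁆ ∈ center G by rw [← hco, _root_.commutator_def]; exact commutator_mem_commutator (mem_top (a : G)) (mem_top (b : G))) y
  · refine mem_center_iff.mpr fun y => Subtype.ext ?_
    have hx : (x : G) ^ p ∈ center G := hfr ▸ Cores.pow_mem_frattini hG (x : G)
    exact mem_center_iff.mp hx y

/-- The complement of `U` inside `C`. -/
theorem exists_E {U C : Subgroup G} {u z : G} {n : ℕ} (hu : zpowers u = U)
    (hou : orderOf u = p ^ (n + 1)) (hn : 0 < n) (hz : orderOf z = p) (hzdef : z = u ^ (p ^ n))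
    (hzc : z ∈ center G) (hUC : U ≤ C)
    (hCU : ∀ c ∈ C, ∀ x ∈ U, c * x = x * c) (hCcomm : ∀ a ∈ C, ∀ b ∈ C, ⁅a, b⁆ ∈ zpowers z)
    (hC2 : ∀ x ∈ C, ∀ y ∈ C, (x * y) ^ p = ⁅x, y⁆ ^ (-(p.choose 2 : ℤ)) * x ^ p * y ^ p)
    (hCp : ∀ x ∈ C, x ^ p ∈ zpowers (u ^ p)) (hCinv : ∀ φ : G ≃* G, ∀ c ∈ C, φ c ∈ C)
    (hZ0 : ∀ x ∈ U, x ^ p = 1 → x ∈ zpowers z) :
    ∃ E : Subgroup G, z ∈ E ∧ E ≤ C ∧ (∀ x ∈ E, x ∈ U → x ∈ zpowers z) ∧ C ≤ E ⊔ U ∧
      (∀ e ∈ E, e ^ p ∈ zpowers z) ∧ (p ≠ 2 → ∀ φ : G ≃* G, ∀ e ∈ E, φ e ∈ E) := by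
  have huU : u ∈ U := hu ▸ mem_zpowers u
  have hzU : z ∈ U := hzdef ▸ pow_mem huU _
  have hz0p : ∀ x ∈ zpowers z, x ^ p = 1 := fun x hx => by
    obtain ⟨i, rfl⟩ := mem_zpowers_iff.mp hx
    rw [← zpow_natCast, ← zpow_mul, mul_comm, zpow_mul, zpow_natCast, ← hz, pow_orderOf_eq_one, one_zpow]
  have hsplit : ∀ x ∈ C, ∃ x' ∈ C, ∃ v ∈ U, x = x' * v ∧ x' ^ p = 1 := fun x hx => by
    obtain ⟨i, hi⟩ := mem_zpowers_iff.mp (hCp x hx)
    refine ⟨x * (u ^ i)⁻¹, mul_mem hx (inv_mem (hUC (zpow_mem huU i))), u ^ i, zpow_mem huU i, by group, ?_⟩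
    rw [(Commute.inv_right (hCU x hx _ (zpow_mem huU i) : Commute x (u ^ i))).mul_pow, inv_pow, ← hi,
      ← zpow_natCast u p, ← zpow_natCast (u ^ i) p, ← zpow_mul, ← zpow_mul, mul_comm, mul_inv_cancel]
  by_cases hp2 : p = 2
  · subst hp2
    set w := u ^ (2 ^ (n - 1)) with hw
    have hw2 : w ^ 2 = z := by rw [hw, hzdef, ← pow_mul, ← pow_succ]; congr 2; omega
    have hwz : w ∉ zpowers z := fun h => by
      have h' := hz0p w h
      rw [hw2] at h'
      rw [h', orderOf_one] at hz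
      omega
    let E0 : Subgroup G :=
      { carrier := {x | x ∈ C ∧ x ^ 2 ∈ zpowers z}
        one_mem' := ⟨one_mem _, by rw [one_pow]; exact one_mem _⟩
        mul_mem' := fun {a b} ha hb => ⟨mul_mem ha.1 hb.1, by
          rw [hC2 a ha.1 b hb.1]
          exact mul_mem (mul_mem (zpow_mem (hCcomm a ha.1 b hb.1) _) ha.2) hb.2⟩
        inv_mem' := fun {a} ha => ⟨inv_mem ha.1, by rw [inv_pow]; exact inv_mem ha.2⟩ }
    have hzE0 : zpowers z ≤ E0 := fun x hx => ⟨hUC (zpowers_le.mpr hzU hx), pow_mem hx 2⟩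
    obtain ⟨E, hE⟩ := (Set.toFinite {K : Subgroup G | zpowers z ≤ K ∧ K ≤ E0 ∧ w ∉ K}).exists_maximal
      ⟨zpowers z, le_rfl, hzE0, hwz⟩
    obtain ⟨⟨hzE, hEE0, hwE⟩, hmax⟩ := hE
    refine ⟨E, hzE (mem_zpowers z), fun x hx => (hEE0 hx).1, fun x hx hxU => ?_, fun x hx => ?_,
      fun e he => (hEE0 he).2, fun h => absurd rfl h⟩
    · obtain ⟨i, rfl⟩ := mem_zpowers_iff.mp (hu.symm ▸ hxU : x ∈ zpowers u)
      have h4 := hz0p _ (hEE0 hx).2
      rw [← zpow_natCast ((u ^ i) ^ 2), ← zpow_natCast (u ^ i), ← zpow_mul, ← zpow_mul, ← zpow_zero u,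
        zpow_eq_zpow_iff_dvd hou, sub_zero] at h4
      push_cast at h4
      obtain ⟨j, rfl⟩ : (2 : ℤ) ^ (n - 1) ∣ i := by
        obtain ⟨m, rfl⟩ : ∃ m, n = m + 1 := ⟨n - 1, by omega⟩
        obtain ⟨k, hk⟩ := h4
        refine ⟨k, mul_left_cancel₀ (by norm_num : (4 : ℤ) ≠ 0) ?_⟩
        rw [show m + 1 - 1 = m by omega]
        linear_combination hk
      have hxw : u ^ ((2 : ℤ) ^ (n - 1) * j) = w ^ j := by
        rw [hw, ← zpow_natCast u, ← zpow_mul]; push_cast; rfl
      rw [hxw] at hx ⊢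
      rcases Int.even_or_odd' j with ⟨k, rfl | rfl⟩
      · rw [zpow_mul, zpow_ofNat, hw2]; exact zpow_mem (mem_zpowers z) k
      · refine absurd ?_ hwE
        rw [zpow_add, zpow_mul, zpow_ofNat, hw2, zpow_one] at hx
        exact (E.mul_mem_cancel_left (zpow_mem (hzE (mem_zpowers z)) k)).mp hx
    · obtain ⟨x', hx'C, v, hv, rfl, hx'2⟩ := hsplit x hx
      refine mul_mem ?_ (mem_sup_right hv)
      by_cases hxE : x' ∈ E
      · exact mem_sup_left hxE
      have hx'0 : x' ∈ E0 := ⟨hx'C, by rw [hx'2]; exact one_mem _⟩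
      have hw' : w ∈ E ⊔ zpowers x' := by
        by_contra h
        exact hxE (hmax ⟨hzE.trans le_sup_left, sup_le hEE0 (zpowers_le.mpr hx'0), h⟩ le_sup_left
          (mem_sup_right (mem_zpowers x')))
      have hnorm : zpowers x' ≤ normalizer (E : Set G) := zpowers_le.mpr <| mem_normalizer_fintype fun e he => by
        have h1 : ⁅x', e⁆ ∈ E := hzE (hCcomm x' hx'C e (hEE0 he).1)
        have h2 := mul_mem h1 he
        rwa [show ⁅x', e⁆ * e = x' * e * x'⁻¹ by rw [commutatorElement_def]; group] at h2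
      rw [← SetLike.mem_coe, Subgroup.coe_mul_of_right_le_normalizer_left E _ hnorm] at hw'
      obtain ⟨e, he, y, hy, hey⟩ := hw'
      obtain ⟨k, rfl⟩ := mem_zpowers_iff.mp hy
      rcases Int.even_or_odd' k with ⟨l, rfl | rfl⟩
      · refine absurd ?_ hwE
        rw [← hey]
        show e * x' ^ (2 * l) ∈ E
        rw [zpow_mul, zpow_ofNat, hx'2, one_zpow, mul_one]
        exact he
      · have : x' = e⁻¹ * w := by
          rw [← hey]
          show x' = e⁻¹ * (e * x' ^ (2 * l + 1))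
          rw [zpow_add, zpow_mul, zpow_ofNat, hx'2, one_zpow, one_mul, zpow_one, inv_mul_cancel_left]
        rw [this]
        exact mul_mem_sup (inv_mem he) (hu ▸ pow_mem (mem_zpowers u) _)
  · have hodd : p ∣ p.choose 2 := hp.out.dvd_choose_self two_ne_zero (lt_of_le_of_ne hp.out.two_le (Ne.symm hp2))
    obtain ⟨k, hk⟩ := hodd
    let E : Subgroup G :=
      { carrier := {x | x ∈ C ∧ x ^ p = 1}
        one_mem' := ⟨one_mem _, one_pow p⟩
        mul_mem' := fun {a b} ha hb => ⟨mul_mem ha.1 hb.1, by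
          rw [hC2 a ha.1 b hb.1, ha.2, hb.2, mul_one, mul_one, hk, Nat.cast_mul, ← mul_neg, zpow_mul,
            zpow_natCast, hz0p _ (hCcomm a ha.1 b hb.1), one_zpow]⟩
        inv_mem' := fun {a} ha => ⟨inv_mem ha.1, by rw [inv_pow, ha.2, inv_one]⟩ }
    refine ⟨E, ⟨hUC hzU, hz0p z (mem_zpowers z)⟩, fun x hx => hx.1, fun x hx hxU => hZ0 x hxU hx.2,
      fun x hx => ?_, fun e he => by rw [he.2]; exact one_mem _,
      fun _ φ e he => ⟨hCinv φ e he.1, by rw [← map_pow, he.2, map_one]⟩⟩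
    obtain ⟨x', hx'C, v, hv, rfl, hx'p⟩ := hsplit x hx
    exact mul_mem_sup (⟨hx'C, hx'p⟩ : x' ∈ E) hv

/-- The case where the second factor has order eight. -/
theorem extraspecial_of_eight [Fact (Nat.Prime 2)] (hG : IsPGroup 2 G) {z : G} (hzc : z ∈ center G)
    (hz : orderOf z = 2) {E : Subgroup G} (hzE : z ∈ E)
    (hinf : E ⊓ centralizer (E : Set G) ≤ zpowers z) (hGE : ∀ g : G, ∀ e ∈ E, ⁅g, e⁆ ∈ zpowers z)
    (hEp : ∀ e ∈ E, e ^ 2 ∈ zpowers z) (hsup : E ⊔ centralizer (E : Set G) = ⊤)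
    (hRab : ¬ IsMulCommutative (centralizer (E : Set G)))
    (h8 : Nat.card (centralizer (E : Set G)) = 2 ^ 3) : Cfsg.IsExtraspecial 2 G := by
  set R := centralizer (E : Set G) with hR
  have hzR : z ∈ R := mem_centralizer_iff.mpr fun y _ => mem_center_iff.mp hzc y
  have hZR := Cores.card_center_of_card_cube (hG.to_subgroup R) h8 hRab
  have hle : (zpowers z).subgroupOf R ≤ center R := fun x hx => mem_center_iff.mpr fun y =>
    Subtype.ext (mem_center_iff.mp ((zpowers_le.mpr hzc) hx) y)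
  have hcR : center R = (zpowers z).subgroupOf R := by
    refine (eq_of_le_of_card_ge hle ?_).symm
    rw [hZR, Nat.card_congr (subgroupOfEquivOfLe (zpowers_le.mpr hzR)).toEquiv, Nat.card_zpowers, hz]
  have hcenter : center G = zpowers z := by
    refine le_antisymm (fun x hx => ?_) (zpowers_le.mpr hzc)
    have hxR : x ∈ R := mem_centralizer_iff.mpr fun y _ => mem_center_iff.mp hx y
    have : (⟨x, hxR⟩ : R) ∈ center R := mem_center_iff.mpr fun y => Subtype.ext (mem_center_iff.mp hx y)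
    rw [hcR] at this
    exact this
  have hidx : (center R).index = 4 := by
    have h := (center R).card_mul_index
    rw [hZR, h8] at h
    omega
  have hRsq : ∀ r : R, r ^ 2 ∈ center R := by
    intro r
    rw [← QuotientGroup.eq_one_iff, QuotientGroup.mk_pow, ← orderOf_dvd_iff_pow_eq_one]
    have hd : orderOf (QuotientGroup.mk r : R ⧸ center R) ∣ 2 ^ 2 := by
      rw [show (2 : ℕ) ^ 2 = (center R).index by rw [hidx]; norm_num, index_eq_card]
      exact _root_.orderOf_dvd_natCard _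
    obtain ⟨i, hi, hio⟩ := (Nat.dvd_prime_pow Nat.prime_two).mp hd
    rcases (show i ≤ 1 ∨ i = 2 by omega) with h | rfl
    · rw [hio]; exact (pow_dvd_pow 2 h).trans (by norm_num)
    · exfalso
      haveI : IsCyclic (R ⧸ center R) := isCyclic_of_orderOf_eq_card _ (by
        rw [hio, ← index_eq_card, hidx]; norm_num)
      exact hRab ⟨⟨commutative_of_cyclic_center_quotient (QuotientGroup.mk' (center R)) (by rw [QuotientGroup.ker_mk'])⟩⟩
  have hpow : ∀ x : G, x ^ 2 ∈ center G := by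
    intro x
    have hx : x ∈ E ⊔ R := hsup ▸ mem_top x
    rw [← SetLike.mem_coe, Subgroup.coe_mul_of_right_le_normalizer_left E R
      (fun g hg => centralizer_le_normalizer (s := (E : Set G)) hg)] at hx
    obtain ⟨e, he, r, hr, rfl⟩ := hx
    show (e * r) ^ 2 ∈ _
    rw [(show Commute e r from mem_centralizer_iff.mp hr e he).mul_pow, hcenter]
    refine mul_mem (hEp e he) ?_
    have h := hRsq ⟨r, hr⟩
    rw [hcR] at h
    exact h
  refine isExtraspecial_of hG (fun h => hRab ⟨⟨fun a b => Subtype.ext (h.1.comm _ _)⟩⟩)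
    (by rw [hcenter, Nat.card_zpowers, hz]) ?_ hpow
  rw [commutator_def, commutator_le]
  intro a _ b _
  rw [show ⁅a, b⁆ = a ^ 2 * (a⁻¹ * b) ^ 2 * (b⁻¹) ^ 2 by
    simp only [commutatorElement_def, pow_two]; group]
  exact mul_mem (mul_mem (hpow _) (hpow _)) (hpow _)

/-- The noncyclic characteristic abelian subgroup in the exceptional case. -/
theorem omega_contra [Fact (Nat.Prime 2)]
    (hsymp : ∀ A : Subgroup G, A.Characteristic → IsMulCommutative A → IsCyclic A)
    {U C E : Subgroup G} {u z : G} {n : ℕ} (hu : zpowers u = U) (hou : orderOf u = 2 ^ (n + 1))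
    (hn : 2 ≤ n) (hz : orderOf z = 2) (hzdef : z = u ^ (2 ^ n)) (hzc : z ∈ center G) (hzE : z ∈ E)
    (hEp : ∀ e ∈ E, e ^ 2 ∈ zpowers z) (hsup : E ⊔ centralizer (E : Set G) = ⊤)
    (hER : ∀ e ∈ E, ∀ r ∈ centralizer (E : Set G), e * r = r * e)
    (hUR : U ≤ centralizer (E : Set G)) (hEC : E ≤ C) (hCU : ∀ c ∈ C, ∀ x ∈ U, c * x = x * c)
    (hne : ∃ a ∈ E, ∃ b ∈ E, a * b ≠ b * a) (hinf : E ⊓ centralizer (E : Set G) ≤ zpowers z)
    (hGE : ∀ g : G, ∀ e ∈ E, ⁅g, e⁆ ∈ zpowers z)
    (hel : Cfsg.IsElementaryAbelian 2 (Cfsg.omegaOne 2 (centralizer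
      ((Cfsg.powerClosure 2 1 (U.subgroupOf (centralizer (E : Set G))) :
        Subgroup (centralizer (E : Set G))) : Set (centralizer (E : Set G))))))
    (hcard : Nat.card (Cfsg.omegaOne 2 (centralizer
      ((Cfsg.powerClosure 2 1 (U.subgroupOf (centralizer (E : Set G))) :
        Subgroup (centralizer (E : Set G))) : Set (centralizer (E : Set G))))) = 2 ^ 2)
    (hUinv : ∀ φ : G ≃* G, ∀ x ∈ U, φ x ∈ U)
    (hcR : centralizer ((U.subgroupOf (centralizer (E : Set G)) : Subgroup _) : Set (centralizer (E : Set G))) =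
      U.subgroupOf (centralizer (E : Set G))) : False := by
  set R := centralizer (E : Set G) with hR
  set MR := centralizer ((Cfsg.powerClosure 2 1 (U.subgroupOf R) : Subgroup R) : Set R) with hMR
  set V := Cfsg.omegaOne 2 MR with hV
  have huU : u ∈ U := hu ▸ mem_zpowers u
  have hMRiff : ∀ r : R, r ∈ MR ↔ Commute (r : G) (u ^ 2) := by
    intro r
    rw [hMR, Cfsg.powerClosure, centralizer_closure, mem_centralizer_iff]
    constructor
    · intro h
      exact (congrArg Subtype.val (h (⟨u, hUR huU⟩ ^ 2)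
        ⟨⟨u, hUR huU⟩, huU, by rw [pow_one]⟩)).symm
    · rintro h _ ⟨v, hv, rfl⟩
      refine Subtype.ext ?_
      obtain ⟨i, hi⟩ := mem_zpowers_iff.mp (hu.symm ▸ hv : (v : G) ∈ zpowers u)
      rw [pow_one, Subgroup.coe_mul, Subgroup.coe_mul, SubmonoidClass.coe_pow, ← hi,
        show (u ^ i) ^ 2 = (u ^ 2) ^ i by rw [← zpow_natCast, ← zpow_mul, mul_comm, zpow_mul, zpow_natCast]]
      exact (h.zpow_right i).symm.eq
  set M := centralizer ({u ^ 2} : Set G) with hM
  set S : Set G := {x | x ∈ M ∧ x ^ 2 = 1} with hS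
  set W := closure S with hW
  set w := u ^ (2 ^ (n - 1)) with hw
  have hw2 : w ^ 2 = z := by rw [hw, hzdef, ← pow_mul, ← pow_succ]; congr 2; omega
  have hwp : w = (u ^ 2) ^ (2 ^ (n - 2)) := by rw [hw, ← pow_mul, ← pow_succ']; congr 2; omega
  have hcomw : ∀ x : G, Commute x (u ^ 2) → Commute x w := fun x hx => by
    rw [hwp]; exact hx.pow_right _
  have hzpow : ∀ x ∈ zpowers z, x = 1 ∨ x = z := by
    intro x hx
    obtain ⟨i, rfl⟩ := mem_zpowers_iff.mp hx
    have hz2 : z ^ (2 : ℤ) = 1 := by rw [zpow_ofNat, ← hz, pow_orderOf_eq_one]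
    rcases Int.even_or_odd' i with ⟨k, rfl | rfl⟩
    · left; rw [zpow_mul, hz2, one_zpow]
    · right; rw [zpow_add, zpow_mul, hz2, one_zpow, one_mul, zpow_one]
  have hEu : ∀ e ∈ E, Commute e (u ^ 2) := fun e he => hCU e (hEC he) _ (pow_mem huU 2)
  have hz1 : z ≠ 1 := fun h => by rw [h, orderOf_one] at hz; omega
  -- the element `y`
  obtain ⟨y, hyV, hyU⟩ : ∃ y ∈ V, (y : G) ∉ U := by
    by_contra! hall
    have : Nat.card V ≤ 2 := by
      refine (Nat.card_le_card_of_injective (fun v : V => (⟨((v : R) : G), ?_⟩ : zpowers z))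
        fun a b h => Subtype.ext (Subtype.ext (congrArg (fun t : zpowers z => (t : G)) h))).trans_eq
        (by rw [Nat.card_zpowers, hz])
      have h2 : ((v : R) : G) ^ 2 = 1 := by
        rw [← SubmonoidClass.coe_pow, hel.2 _ v.2]; rfl
      obtain ⟨i, hi⟩ := mem_zpowers_iff.mp (hu.symm ▸ hall _ v.2 : ((v : R) : G) ∈ zpowers u)
      rw [← hi] at h2 ⊢
      rw [← zpow_natCast (u ^ i), ← zpow_mul, ← zpow_zero u, zpow_eq_zpow_iff_dvd hou, sub_zero] at h2
      push_cast at h2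
      rw [pow_succ] at h2
      obtain ⟨k, rfl⟩ := (Int.mul_dvd_mul_iff_right (by norm_num : (2 : ℤ) ≠ 0)).mp h2
      rw [zpow_mul, hzdef, ← zpow_natCast u (2 ^ n)]
      push_cast
      exact zpow_mem (mem_zpowers _) _
    rw [hcard] at this
    norm_num at this
  have hVle : V ≤ MR := (closure_le _).mpr fun _ h => h.1
  have hyM : Commute (y : G) (u ^ 2) := (hMRiff y).mp (hVle hyV)
  have hy2 : (y : G) ^ 2 = 1 := by rw [← SubmonoidClass.coe_pow, hel.2 y hyV]; rfl
  have hyw : Commute (y : G) w := hcomw _ hyM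
  have hyr : ∀ r : R, Commute (r : G) (u ^ 2) → (r : G) ^ 2 ∈ zpowers z → Commute (y : G) r := by
    intro r hr hr2
    rcases hzpow _ hr2 with h | h
    · have hrV : r ∈ V := subset_closure ⟨(hMRiff r).mpr hr, Subtype.ext (by rw [SubmonoidClass.coe_pow]; exact h)⟩
      exact congrArg (fun t : V => ((t : R) : G)) (hel.1.1.comm ⟨y, hyV⟩ ⟨r, hrV⟩)
    · have hwR : w ∈ R := hUR (pow_mem huU _)
      have hwu : Commute w (u ^ 2) := by rw [hwp]; exact (Commute.refl (u ^ 2)).pow_left _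
      let r' : R := r * ⟨w, hwR⟩
      have hrw : (r : G) * w = w * r := (hcomw _ hr).eq
      have h' : ((r : G) * w) ^ 2 = 1 := by
        rw [(hcomw _ hr).mul_pow, h, hw2, ← pow_two, ← hz, pow_orderOf_eq_one]
      have hr'V : r' ∈ V := subset_closure ⟨(hMRiff r').mpr (Commute.mul_left hr
        hwu), Subtype.ext h'⟩
      have hc : Commute (y : G) ((r : G) * w) :=
        congrArg (fun t : V => ((t : R) : G)) (hel.1.1.comm ⟨y, hyV⟩ ⟨r', hr'V⟩)
      have hc2 := hc.mul_right hyw.inv_right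
      rwa [mul_inv_cancel_right] at hc2
  have hgenS : ∀ x ∈ S, Commute (y : G) x ∧ Commute w x := by
    intro x hx
    have hxc : Commute x (u ^ 2) := mem_centralizer_singleton_iff.mp hx.1
    refine ⟨?_, (hcomw x hxc).symm⟩
    have hx' : x ∈ E ⊔ R := hsup ▸ mem_top x
    rw [← SetLike.mem_coe, Subgroup.coe_mul_of_right_le_normalizer_left E R
      (fun g hg => centralizer_le_normalizer (s := (E : Set G)) hg)] at hx'
    obtain ⟨e, he, r, hr, rfl⟩ := hx'
    have her : Commute e r := hER e he r hr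
    have hrc : Commute r (u ^ 2) := by
      have := (hEu e he).inv_left.mul_left hxc
      rwa [show e⁻¹ * (e * r) = r from inv_mul_cancel_left e r] at this
    have hr2 : r ^ 2 ∈ zpowers z := by
      have h2 : e ^ 2 * r ^ 2 = 1 := by rw [← her.mul_pow]; exact hx.2
      rw [eq_inv_of_mul_eq_one_right h2]
      exact inv_mem (hEp e he)
    exact Commute.mul_right (Commute.symm (hER e he y y.2))  (hyr ⟨r, hr⟩ hrc hr2)
  have hmemS : ∀ e ∈ E, e ^ 2 = 1 → e ∈ W := fun e he h =>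
    subset_closure ⟨mem_centralizer_singleton_iff.mpr (hEu e he).eq, h⟩
  have hmemS' : ∀ e ∈ E, e ^ 2 = z → e * w ∈ W := fun e he h => by
    have hew : Commute e w := hcomw e (hEu e he)
    refine subset_closure ⟨mem_centralizer_singleton_iff.mpr ?_, ?_⟩
    · exact (Commute.mul_left (hEu e he) (by rw [hwp]; exact (Commute.refl (u ^ 2)).pow_left _)).eq
    · rw [hew.mul_pow, h, hw2, ← pow_two, ← hz, pow_orderOf_eq_one]
  have hyW : (y : G) ∈ W := subset_closure ⟨mem_centralizer_singleton_iff.mpr hyM.eq, hy2⟩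
  have hwW : w ∈ W := by
    obtain ⟨e, he, f, hf, hef⟩ := hne
    have hzW : z ∈ W := hmemS z hzE (by rw [← hz, pow_orderOf_eq_one])
    have hcz : ⁅f, e⁆ = z := (hzpow _ (hGE f e he)).resolve_left fun h =>
      hef (commutatorElement_eq_one_iff_mul_comm.mp h).symm
    have hef2 : (e * f) ^ 2 = e ^ 2 * f ^ 2 * z := by
      have h1 : (e * f) ^ 2 = e * ⁅f, e⁆ * e * (f * f) := by
        simp only [pow_two, commutatorElement_def]; group
      rw [h1, hcz, mem_center_iff.mp hzc e, mul_assoc z e e, ← pow_two, ← pow_two, mul_assoc z,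
        ← mem_center_iff.mp hzc]
    have hzz : z * z = 1 := by rw [← pow_two, ← hz, pow_orderOf_eq_one]
    have hew : Commute e w := hcomw e (hEu e he)
    have hfw : Commute f w := hcomw f (hEu f hf)
    rcases hzpow _ (hEp e he) with he2 | he2 <;> rcases hzpow _ (hEp f hf) with hf2 | hf2
    · have h3 := hmemS' _ (mul_mem he hf) (by rw [hef2, he2, hf2, one_mul, one_mul])
      exact (W.mul_mem_cancel_left (mul_mem (hmemS e he he2) (hmemS f hf hf2))).mp h3
    · have h1 := hmemS' f hf hf2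
      have h2 := hmemS _ (mul_mem he hf) (by rw [hef2, he2, hf2, one_mul, hzz])
      have hfW : f ∈ W := (W.mul_mem_cancel_left (hmemS e he he2)).mp h2
      exact (W.mul_mem_cancel_left hfW).mp h1
    · have h1 := hmemS' e he he2
      have h2 := hmemS _ (mul_mem he hf) (by rw [hef2, he2, hf2, mul_one, hzz])
      have heW : e ∈ W := (W.mul_mem_cancel_right (hmemS f hf hf2)).mp h2
      exact (W.mul_mem_cancel_left heW).mp h1
    · have h1 := hmemS' e he he2
      have h2 := hmemS' f hf hf2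
      have h3 := hmemS' _ (mul_mem he hf) (by rw [hef2, he2, hf2, hzz, one_mul])
      have h4 : e * w * (f * w) = e * f * z := by
        rw [← mul_assoc, mul_assoc e w f, ← hfw.eq, ← mul_assoc, mul_assoc (e * f), ← pow_two, hw2]
      have h5 : e * f ∈ W := by
        have := mul_mem (mul_mem h1 h2) (inv_mem hzW)
        rwa [h4, mul_inv_cancel_right] at this
      exact (W.mul_mem_cancel_left h5).mp h3
  let Z := W ⊓ centralizer (W : Set G)
  have hWinv : ∀ φ : G ≃* G, ∀ x ∈ W, φ x ∈ W := by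
    intro φ x hx
    refine (closure_le (W.comap φ.toMonoidHom)).mpr (fun s hs => ?_) hx
    refine subset_closure ⟨?_, ?_⟩
    · obtain ⟨j, hj⟩ := mem_zpowers_iff.mp (hu.symm ▸ hUinv φ.symm u huU : φ.symm u ∈ zpowers u)
      have hs' : Commute s (φ.symm (u ^ 2)) := by
        rw [map_pow, ← hj, show (u ^ j) ^ 2 = (u ^ 2) ^ j by
          rw [← zpow_natCast, ← zpow_mul, mul_comm, zpow_mul, zpow_natCast]]
        exact (show Commute s (u ^ 2) from mem_centralizer_singleton_iff.mp hs.1).zpow_right j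
      have h := hs'.map φ.toMonoidHom
      refine mem_centralizer_singleton_iff.mpr ?_
      show φ s * u ^ 2 = u ^ 2 * φ s
      simpa using h.eq
    · show φ s ^ 2 = 1
      rw [← map_pow, hs.2, map_one]
  have hZcyc : IsCyclic Z := hsymp Z (characteristic_of_invariant fun φ x hx => mem_inf.mpr
    ⟨hWinv φ x (mem_inf.mp hx).1, centralizer_invariant φ (fun s hs => hWinv φ.symm s hs) (mem_inf.mp hx).2⟩)
    ⟨⟨fun a b => Subtype.ext (mem_centralizer_iff.mp (mem_inf.mp b.2).2 a (mem_inf.mp a.2).1)⟩⟩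
  have hZmem : ∀ t : G, t ∈ W → (∀ x ∈ S, Commute t x) → t ∈ Z := fun t ht h => by
    refine mem_inf.mpr ⟨ht, ?_⟩
    rw [hW, centralizer_closure, mem_centralizer_iff]
    exact fun x hx => ((h x hx).symm).eq
  have hyZ := hZmem _ hyW fun x hx => (hgenS x hx).1
  have hwZ := hZmem _ hwW fun x hx => (hgenS x hx).2
  have hzZ : z ∈ Z := hw2 ▸ pow_mem hwZ 2
  classical
  letI := Fintype.ofFinite Z
  have hle := IsCyclic.card_pow_eq_one_le (α := Z) (n := 2) two_pos
  have hyz : (y : G) ≠ z := fun h => hyU (by rw [h, hzdef]; exact pow_mem huU _)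
  have hy1 : (y : G) ≠ 1 := fun h => hyU (by rw [h]; exact one_mem _)
  have hsub : ({1, ⟨y, hyZ⟩, ⟨z, hzZ⟩} : Finset Z) ⊆ Finset.univ.filter (fun a : Z => a ^ 2 = 1) := by
    intro a ha
    simp only [Finset.mem_insert, Finset.mem_singleton] at ha
    refine Finset.mem_filter.mpr ⟨Finset.mem_univ _, ?_⟩
    rcases ha with rfl | rfl | rfl
    · exact one_pow 2
    · exact Subtype.ext hy2
    · exact Subtype.ext (by rw [SubmonoidClass.coe_pow, ← hz, pow_orderOf_eq_one]; rfl)
  have h3 : ({1, ⟨y, hyZ⟩, ⟨z, hzZ⟩} : Finset Z).card = 3 := by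
    rw [Finset.card_insert_of_notMem, Finset.card_pair]
    · exact fun h => hyz (congrArg Subtype.val h)
    · simp only [Finset.mem_insert, Finset.mem_singleton]
      rintro (h | h)
      · exact hy1 (congrArg Subtype.val h).symm
      · exact hz1 (congrArg Subtype.val h).symm
  have := (Finset.card_le_card hsub).trans hle
  omega

/-- P. Hall's theorem. -/
theorem main (hG : IsPGroup p G)
    (hsymp : ∀ A : Subgroup G, A.Characteristic → IsMulCommutative A → IsCyclic A) :
    ∃ E R : Subgroup G, (∀ e ∈ E, ∀ r ∈ R, e * r = r * e) ∧ E ⊔ R = ⊤ ∧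
      (E = ⊥ ∨ Cfsg.IsExtraspecial p ↥E) ∧ (IsCyclic R ∨ (p = 2 ∧ 16 ≤ Nat.card R ∧
        ((∃ m : ℕ, Nonempty (↥R ≃* DihedralGroup m)) ∨ (∃ m : ℕ, Nonempty (↥R ≃* QuaternionGroup m)) ∨
          Cfsg.IsQuasiDihedral ↥R))) := by
  have trivialR : Cfsg.IsExtraspecial p G → _ := fun h =>
    (⟨⊤, ⊥, fun e _ r hr => by rw [mem_bot.mp hr, mul_one, one_mul], by simp,
      Or.inr ?_, Or.inl inferInstance⟩ : ∃ E R : Subgroup G, (∀ e ∈ E, ∀ r ∈ R, e * r = r * e) ∧ E ⊔ R = ⊤ ∧
      (E = ⊥ ∨ Cfsg.IsExtraspecial p ↥E) ∧ (IsCyclic R ∨ (p = 2 ∧ 16 ≤ Nat.card R ∧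
        ((∃ m : ℕ, Nonempty (↥R ≃* DihedralGroup m)) ∨ (∃ m : ℕ, Nonempty (↥R ≃* QuaternionGroup m)) ∨
          Cfsg.IsQuasiDihedral ↥R))))
  swap
  · refine extraspecial_top h
  rcases subsingleton_or_nontrivial G with hs | hs
  · exact ⟨⊥, ⊤, fun e he r _ => by rw [mem_bot.mp he, mul_one, one_mul], bot_sup_eq _, Or.inl rfl,
      Or.inl isCyclic_of_subsingleton⟩
  -- a maximal characteristic abelian subgroup
  obtain ⟨U, hU⟩ := (Set.toFinite {A : Subgroup G | A.Characteristic ∧ IsMulCommutative A}).exists_maximal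
    ⟨center G, inferInstance, inferInstance⟩
  obtain ⟨⟨hUchar, hUab⟩, hUmax⟩ := hU
  haveI := hUchar
  haveI := hG.center_nontrivial
  have hU1 : U ≠ ⊥ := fun h => by
    have h' := hUmax (⟨inferInstance, inferInstance⟩ : (center G).Characteristic ∧ IsMulCommutative (center G))
      (h ▸ bot_le)
    rw [h, le_bot_iff, ← card_eq_one] at h'
    exact absurd h' (Finite.one_lt_card).ne'
  have hUcyc : IsCyclic U := hsymp U hUchar hUab
  obtain ⟨u, hu⟩ := (Subgroup.isCyclic_iff_exists_zpowers_eq_top U).mp hUcyc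
  obtain ⟨n, hn⟩ := IsPGroup.iff_card.mp (hG.to_subgroup U)
  have hn1 : 1 ≤ n := Nat.one_le_iff_ne_zero.mpr fun h => hU1 (card_eq_one.mp (by rw [hn, h, pow_zero]))
  obtain ⟨n, rfl⟩ : ∃ k, n = k + 1 := ⟨n - 1, by omega⟩
  have hou : orderOf u = p ^ (n + 1) := by rw [← Nat.card_zpowers, hu, hn]
  set z := u ^ (p ^ n) with hzdef
  have hz : orderOf z = p := by
    rw [hzdef, orderOf_pow' u (pow_ne_zero _ hp.out.ne_zero), hou,
      Nat.gcd_eq_right (pow_dvd_pow p (by omega)), Nat.pow_div (by omega) hp.out.pos,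
      show n + 1 - n = 1 by omega, pow_one]
  have huU : u ∈ U := hu ▸ mem_zpowers u
  have hzU : z ∈ U := pow_mem huU _
  have hZ0 : ∀ x ∈ U, x ^ p = 1 → x ∈ zpowers z := by
    intro x hx hxp
    rw [← hu] at hx
    obtain ⟨i, rfl⟩ := mem_zpowers_iff.mp hx
    rw [← zpow_natCast (u ^ i), ← zpow_mul, ← zpow_zero u, zpow_eq_zpow_iff_dvd hou, sub_zero] at hxp
    push_cast at hxp
    rw [pow_succ] at hxp
    obtain ⟨k, rfl⟩ := (Int.mul_dvd_mul_iff_right (by exact_mod_cast hp.out.ne_zero)).mp hxp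
    rw [zpow_mul, hzdef, ← zpow_natCast u (p ^ n)]
    push_cast
    exact zpow_mem (mem_zpowers _) _
  have hz0p : ∀ x ∈ zpowers z, x ^ p = 1 := fun x hx => by
    obtain ⟨i, rfl⟩ := mem_zpowers_iff.mp hx
    rw [← zpow_natCast, ← zpow_mul, mul_comm, zpow_mul, zpow_natCast, ← hz, pow_orderOf_eq_one, one_zpow]
  have hzc : z ∈ center G := by
    haveI : (zpowers z).Normal := ⟨fun x hx g => hZ0 _ ((inferInstance : U.Normal).conj_mem _
      (zpowers_le.mpr hzU hx) g) (by rw [conj_pow, hz0p x hx, mul_one, mul_inv_cancel])⟩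
    exact RankTwo.le_center_of_card_le hG (N := zpowers z) (by rw [Nat.card_zpowers, hz]) (mem_zpowers z)
  have hz1 : z ≠ 1 := fun h => hp.out.ne_one (by rw [← hz, h, orderOf_one])
  -- the subgroup `C`
  let D : Subgroup (G ⧸ U) :=
    { carrier := {q | q ∈ center (G ⧸ U) ∧ q ^ p = 1}
      one_mem' := ⟨one_mem _, one_pow p⟩
      mul_mem' := fun {a b} ha hb => ⟨mul_mem ha.1 hb.1, by
        rw [(show Commute a b from (mem_center_iff.mp ha.1 b).symm).mul_pow, ha.2, hb.2, one_mul]⟩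
      inv_mem' := fun {a} ha => ⟨inv_mem ha.1, by rw [inv_pow, ha.2, inv_one]⟩ }
  set C : Subgroup G := D.comap (QuotientGroup.mk' U) ⊓ centralizer (U : Set G) with hCdef
  have hCU : ∀ c ∈ C, ∀ x ∈ U, c * x = x * c := fun c hc x hx =>
    (mem_centralizer_iff.mp (mem_inf.mp hc).2 x hx).symm
  have hGC : ∀ g : G, ∀ c ∈ C, ⁅g, c⁆ ∈ U := fun g c hc => by
    rw [← QuotientGroup.eq_one_iff]
    show QuotientGroup.mk' U ⁅g, c⁆ = 1
    rw [map_commutatorElement, commutatorElement_eq_one_iff_mul_comm]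
    exact mem_center_iff.mp (mem_inf.mp hc).1.1 _
  have hCp : ∀ c ∈ C, c ^ p ∈ U := fun c hc => by
    rw [← QuotientGroup.eq_one_iff, QuotientGroup.mk_pow]
    exact (mem_inf.mp hc).1.2
  have hUC : U ≤ C := fun x hx => mem_inf.mpr ⟨by
      show QuotientGroup.mk' U x ∈ D
      rw [show QuotientGroup.mk' U x = 1 from (QuotientGroup.eq_one_iff x).mpr hx]
      exact one_mem D,
    mem_centralizer_iff.mpr fun y hy => congrArg Subtype.val (hUab.1.comm ⟨y, hy⟩ ⟨x, hx⟩)⟩
  have hUinv : ∀ φ : G ≃* G, ∀ x ∈ U, φ x ∈ U := fun φ x hx => invariant_of_characteristic hUchar φ hx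
  have hCinv : ∀ φ : G ≃* G, ∀ c ∈ C, φ c ∈ C := by
    intro φ c hc
    refine mem_inf.mpr ⟨⟨mem_center_iff.mpr fun q => ?_, ?_⟩,
      centralizer_invariant φ (fun s hs => hUinv φ.symm s hs) (mem_inf.mp hc).2⟩
    · obtain ⟨g, rfl⟩ := QuotientGroup.mk'_surjective U q
      rw [← commutatorElement_eq_one_iff_mul_comm, ← map_commutatorElement]
      refine (QuotientGroup.eq_one_iff _).mpr ?_
      have h := hUinv φ _ (hGC (φ.symm g) c hc)
      rwa [map_commutatorElement, MulEquiv.apply_symm_apply] at h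
    · rw [← map_pow]
      refine (QuotientGroup.eq_one_iff _).mpr ?_
      rw [← map_pow]
      exact hUinv φ _ (hCp c hc)
  have hCchar : C.Characteristic := characteristic_of_invariant hCinv
  have hCC : C ⊓ centralizer (C : Set G) = U := by
    have hle : U ≤ C ⊓ centralizer (C : Set G) :=
      le_inf hUC fun x hx => mem_centralizer_iff.mpr fun c hc => hCU c hc x hx
    refine le_antisymm (hUmax ⟨characteristic_of_invariant fun φ x hx => ?_, ⟨⟨fun a b => ?_⟩⟩⟩ hle) hle
    · exact mem_inf.mpr ⟨hCinv φ x (mem_inf.mp hx).1,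
        centralizer_invariant φ (fun s hs => hCinv φ.symm s hs) (mem_inf.mp hx).2⟩
    · exact Subtype.ext (mem_centralizer_iff.mp (mem_inf.mp b.2).2 a (mem_inf.mp a.2).1)
  have hCGC : centralizer (C : Set G) ≤ U := by
    by_contra hnle
    have hCn : (centralizer (C : Set G)).Normal := by
      haveI : (centralizer (C : Set G)).Characteristic := characteristic_of_invariant fun φ x hx =>
        centralizer_invariant φ (fun s hs => hCinv φ.symm s hs) hx
      infer_instance
    haveI : ((centralizer (C : Set G)).map (QuotientGroup.mk' U)).Normal :=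
      hCn.map _ (QuotientGroup.mk'_surjective U)
    obtain ⟨x0, hx0, hx0U⟩ := SetLike.not_le_iff_exists.mp hnle
    haveI : Nontrivial (((centralizer (C : Set G)).map (QuotientGroup.mk' U)) : Subgroup (G ⧸ U)) := by
      refine (Subgroup.nontrivial_iff_ne_bot _).mpr fun h => hx0U ?_
      rw [Subgroup.map_eq_bot_iff, QuotientGroup.ker_mk'] at h
      exact h hx0
    obtain ⟨q, hq, hqc, hqp⟩ := exists_central_of_normal (hG.to_quotient U)
      ((centralizer (C : Set G)).map (QuotientGroup.mk' U)) inferInstance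
    obtain ⟨x, hx, rfl⟩ := hq
    have hxC : x ∈ C := mem_inf.mpr ⟨⟨hqc, by rw [← hqp]; exact pow_orderOf_eq_one _⟩,
      centralizer_le (fun s hs => hUC hs) hx⟩
    have hxU : x ∈ U := hCC ▸ mem_inf.mpr ⟨hxC, hx⟩
    rw [show QuotientGroup.mk' U x = 1 from (QuotientGroup.eq_one_iff x).mpr hxU, orderOf_one] at hqp
    exact hp.out.ne_one hqp.symm
  -- commutators in `C`
  have hCcomm : ∀ a ∈ C, ∀ b ∈ C, ⁅a, b⁆ ∈ zpowers z := by
    intro a ha b hb
    have hab := hGC a b hb
    have h1 : Commute a ⁅a, b⁆ := hCU a ha _ hab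
    refine hZ0 _ hab ?_
    have key : ∀ k : ℕ, ⁅a ^ k, b⁆ = ⁅a, b⁆ ^ k := by
      intro k
      induction k with
      | zero => simp
      | succ k ih =>
        rw [pow_succ' a, show ⁅a * a ^ k, b⁆ = (a * ⁅a ^ k, b⁆ * a⁻¹) * ⁅a, b⁆ by
          simp only [commutatorElement_def]; group, ih, (h1.pow_right k).eq, mul_inv_cancel_right,
          ← pow_succ]
    rw [← key, commutatorElement_eq_one_iff_mul_comm]
    exact (hCU b hb _ (hCp a ha)).symm
  rcases Nat.eq_zero_or_pos n with rfl | hn2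
  · -- `U` of order `p`
    have hUz : U = zpowers z := by
      rw [hzdef, pow_zero, pow_one, hu]
    have hcomm : ∀ g : G, ∀ c ∈ C, ⁅g, c⁆ ∈ zpowers z := fun g c hc => hUz ▸ hGC g c hc
    have hinf : C ⊓ centralizer (C : Set G) ≤ zpowers z := by rw [hCC, hUz]
    have htop := sup_centralizer_eq_top hG hzc hz (hUC hzU) hcomm hinf
    have hCtop : C = ⊤ := by
      rw [← htop, left_eq_sup]; exact hCGC.trans hUC
    by_cases hab : IsMulCommutative G
    · haveI := hab
      refine ⟨⊥, ⊤, fun e he r _ => by rw [mem_bot.mp he, mul_one, one_mul], by simp, Or.inl rfl,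
        Or.inl ?_⟩
      exact hsymp ⊤ inferInstance ⟨⟨fun a b => Subtype.ext (hab.1.comm _ _)⟩⟩
    refine trivialR (isExtraspecial_of hG hab ?_ ?_ ?_)
    · have : center G = zpowers z := by
        refine le_antisymm (fun x hx => hUz ▸ hCGC (mem_centralizer_iff.mpr fun y _ => mem_center_iff.mp hx y))
          (zpowers_le.mpr hzc)
      rw [this, Nat.card_zpowers, hz]
    · rw [commutator_def, commutator_le]
      exact fun a _ b _ => zpowers_le.mpr hzc (hcomm a b (hCtop ▸ mem_top b))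
    · exact fun x => zpowers_le.mpr hzc (hUz ▸ hCp x (hCtop ▸ mem_top x))
  -- `U` of order at least `p ^ 2`
  have hC2 : ∀ x ∈ C, ∀ y ∈ C, (x * y) ^ p = ⁅x, y⁆ ^ (-(p.choose 2 : ℤ)) * x ^ p * y ^ p := by
    intro x hx y hy
    have hc := hCcomm x hx y hy
    obtain ⟨i, hi⟩ := mem_zpowers_iff.mp hc
    have hcz : ∀ g : G, Commute g ⁅x, y⁆⁻¹ := fun g =>
      mem_center_iff.mp (inv_mem (hi ▸ zpow_mem hzc i)) g
    rw [OddLocal.mul_pow_of_central_commutator (hcz x) (hcz y)
      (by simp only [commutatorElement_def]; group)]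
    rw [← zpow_natCast ⁅x, y⁆⁻¹, inv_zpow, zpow_neg]
  have hzp : zpowers z ≤ zpowers (u ^ p) := by
    rw [zpowers_le, hzdef, show p ^ n = p * p ^ (n - 1) by rw [← pow_succ']; congr 1; omega, pow_mul]
    exact pow_mem (mem_zpowers _) _
  let H : Subgroup G :=
    { carrier := {x | x ∈ C ∧ x ^ p ∈ zpowers (u ^ p)}
      one_mem' := ⟨one_mem _, by rw [one_pow]; exact one_mem _⟩
      mul_mem' := fun {a b} ha hb => ⟨mul_mem ha.1 hb.1, by
        rw [hC2 a ha.1 b hb.1]
        exact mul_mem (mul_mem (zpow_mem (hzp (hCcomm a ha.1 b hb.1)) _) ha.2) hb.2⟩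
      inv_mem' := fun {a} ha => ⟨inv_mem ha.1, by rw [inv_pow]; exact inv_mem ha.2⟩ }
  have hHC : C ≤ H := by
    intro x0 hx0
    by_contra hx0H
    have hUH : U ≤ H := fun x hx => ⟨hUC hx, by
      rw [← hu] at hx
      obtain ⟨i, rfl⟩ := mem_zpowers_iff.mp hx
      rw [← zpow_natCast (u ^ i), ← zpow_mul, mul_comm, zpow_mul, zpow_natCast]
      exact zpow_mem (mem_zpowers _) i⟩
    have hHinv : ∀ φ : G ≃* G, ∀ x ∈ H, φ x ∈ H := fun φ x hx => by
      refine ⟨hCinv φ x hx.1, ?_⟩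
      rw [← map_pow]
      obtain ⟨i, hi⟩ := mem_zpowers_iff.mp hx.2
      obtain ⟨j, hj⟩ := mem_zpowers_iff.mp (hu.symm ▸ hUinv φ u huU : φ u ∈ zpowers u)
      rw [← hi, map_zpow, map_pow, ← hj, ← zpow_natCast (u ^ j), ← _root_.zpow_mul, ← _root_.zpow_mul,
        show j * ((p : ℤ) * i) = (p : ℤ) * (j * i) by ring, _root_.zpow_mul, zpow_natCast]
      exact zpow_mem (mem_zpowers _) (j * i)
    have hHH : H ⊓ centralizer (H : Set G) = U := by
      have hle : U ≤ H ⊓ centralizer (H : Set G) :=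
        le_inf hUH fun x hx => mem_centralizer_iff.mpr fun c hc => hCU c hc.1 x hx
      refine le_antisymm (hUmax ⟨characteristic_of_invariant fun φ x hx => ?_, ⟨⟨fun a b => ?_⟩⟩⟩ hle) hle
      · exact mem_inf.mpr ⟨hHinv φ x (mem_inf.mp hx).1,
          centralizer_invariant φ (fun s hs => hHinv φ.symm s hs) (mem_inf.mp hx).2⟩
      · exact Subtype.ext (mem_centralizer_iff.mp (mem_inf.mp b.2).2 a (mem_inf.mp a.2).1)
    have hHC' : H ≤ C := fun x hx => hx.1
    have hstep : ∀ y ∈ C, y ∉ H → ∃ j : ℕ, x0 * y ^ j ∈ H := by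
      intro y hy hyH
      obtain ⟨a, ha⟩ := mem_zpowers_iff.mp (hu.symm ▸ hCp x0 hx0 : x0 ^ p ∈ zpowers u)
      obtain ⟨b, hb⟩ := mem_zpowers_iff.mp (hu.symm ▸ hCp y hy : y ^ p ∈ zpowers u)
      have hbp : ¬ (p : ℤ) ∣ b := fun ⟨k, hk⟩ => hyH ⟨hy, by
        rw [← hb, hk, zpow_mul, zpow_natCast]; exact zpow_mem (mem_zpowers _) k⟩
      obtain ⟨s, t, hst⟩ := ((Int.prime_iff_natAbs_prime.mpr (by simpa using hp.out)).coprime_iff_not_dvd.mpr hbp).symm
      refine ⟨((-a * s) % (p : ℤ)).toNat, mul_mem hx0 (pow_mem hy _), ?_⟩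
      rw [hC2 x0 hx0 _ (pow_mem hy _), mul_assoc]
      refine mul_mem (zpow_mem (hzp (hCcomm _ hx0 _ (pow_mem hy _))) _) ?_
      rw [← pow_mul, mul_comm, pow_mul, ← ha, ← hb, ← zpow_natCast (u ^ b), ← zpow_mul, ← zpow_add,
        Int.toNat_of_nonneg (Int.emod_nonneg _ (by exact_mod_cast hp.out.ne_zero))]
      refine mem_zpowers_iff.mpr ⟨a * t - b * ((-a * s) / (p : ℤ)), ?_⟩
      rw [← zpow_natCast u p, ← zpow_mul, Int.emod_def]
      congr 1
      linear_combination a * hst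
    have hCgen : ∀ w ∈ C, w ∉ H → ∀ c ∈ C, ∃ j : ℕ, ∃ h ∈ H, c = h * w ^ j := by
      intro w hw hwH c hc
      obtain ⟨a, ha⟩ := mem_zpowers_iff.mp (hu.symm ▸ hCp c hc : c ^ p ∈ zpowers u)
      obtain ⟨b, hb⟩ := mem_zpowers_iff.mp (hu.symm ▸ hCp w hw : w ^ p ∈ zpowers u)
      have hbp : ¬ (p : ℤ) ∣ b := fun ⟨k, hk⟩ => hwH ⟨hw, by
        rw [← hb, hk, zpow_mul, zpow_natCast]; exact zpow_mem (mem_zpowers _) k⟩
      obtain ⟨s, t, hst⟩ := ((Int.prime_iff_natAbs_prime.mpr (by simpa using hp.out)).coprime_iff_not_dvd.mpr hbp).symm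
      refine ⟨((a * s) % (p : ℤ)).toNat, c * (w ^ ((a * s) % (p : ℤ)).toNat)⁻¹,
        ⟨mul_mem hc (inv_mem (pow_mem hw _)), ?_⟩, by group⟩
      rw [hC2 c hc _ (inv_mem (pow_mem hw _)), mul_assoc]
      refine mul_mem (zpow_mem (hzp (hCcomm _ hc _ (inv_mem (pow_mem hw _)))) _) ?_
      rw [inv_pow, ← pow_mul, mul_comm _ p, pow_mul, ← ha, ← hb, ← zpow_natCast (u ^ b), ← zpow_mul,
        ← zpow_neg, ← zpow_add,
        Int.toNat_of_nonneg (Int.emod_nonneg _ (by exact_mod_cast hp.out.ne_zero))]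
      refine mem_zpowers_iff.mpr ⟨a * t + b * ((a * s) / (p : ℤ)), ?_⟩
      rw [← zpow_natCast u p, ← zpow_mul, Int.emod_def]
      congr 1
      linear_combination a * hst
    have hcen : centralizer (H : Set G) ⊓ C ≤ U := by
      intro w hw
      obtain ⟨hwc, hwC⟩ := mem_inf.mp hw
      by_cases hwH : w ∈ H
      · exact hHH ▸ mem_inf.mpr ⟨hwH, hwc⟩
      · refine hCC ▸ mem_inf.mpr ⟨hwC, mem_centralizer_iff.mpr fun c hc => ?_⟩
        obtain ⟨j, h, hh, rfl⟩ := hCgen w hwC hwH c hc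
        exact (Commute.mul_left (mem_centralizer_iff.mp hwc h hh) ((Commute.refl w).pow_left j)).eq
    have hlt : H < C := lt_of_le_of_ne hHC' fun h => hx0H (h ▸ hx0)
    have hL := index_centralizer_mul_le (G := C) (hG.to_subgroup C) (z := ⟨z, hUC hzU⟩)
      (mem_center_iff.mpr fun y => Subtype.ext (mem_center_iff.mp hzc y))
      (by rw [Subgroup.orderOf_mk]; exact hz) (B := U.subgroupOf C)
      (fun b hb => mem_center_iff.mpr fun y => Subtype.ext (hCU y y.2 b hb)) (H.subgroupOf C)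
      (fun b hb => hUH hb) (fun x h _ => by
        obtain ⟨i, hi⟩ := mem_zpowers_iff.mp (hCcomm x x.2 h h.2)
        exact mem_zpowers_iff.mpr ⟨i, Subtype.ext (by rw [SubgroupClass.coe_zpow]; exact hi)⟩)
    have hcle : centralizer ((H.subgroupOf C : Subgroup C) : Set C) ≤ U.subgroupOf C := fun w hw =>
      hcen (mem_inf.mpr ⟨mem_centralizer_iff.mpr fun h hh =>
        congrArg Subtype.val (mem_centralizer_iff.mp hw ⟨h, hHC' hh⟩ hh), w.2⟩)
    have h1 := card_le_of_le hcle
    have h2 := (centralizer ((H.subgroupOf C : Subgroup C) : Set C)).card_mul_index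
    rw [Nat.card_congr (subgroupOfEquivOfLe hHC').toEquiv, Nat.card_congr (subgroupOfEquivOfLe hUC).toEquiv] at hL
    rw [Nat.card_congr (subgroupOfEquivOfLe hUC).toEquiv] at h1
    have h3 := card_mul_le_of_lt (hG.to_subgroup C) hlt
    have h4 : 2 ≤ p := hp.out.two_le
    have h5 : 0 < Nat.card H := Nat.card_pos
    nlinarith [Nat.mul_le_mul_right (centralizer ((H.subgroupOf C : Subgroup C) : Set C)).index h1]
  -- the extraspecial part
  obtain ⟨E, hzE, hEC, hEU, hCE, hEp, hEchar⟩ := exists_E hu hou hn2 hz hzdef hzc hUC hCU hCcomm hC2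
    (fun x hx => (hHC hx).2) hCinv hZ0
  have hGE : ∀ g : G, ∀ e ∈ E, ⁅g, e⁆ ∈ zpowers z := by
    intro g e he
    have hcU := hGC g e (hEC he)
    refine hZ0 _ hcU ?_
    have h1 : Commute ⁅g, e⁆ e := (hCU e (hEC he) _ hcU).symm
    have h2 : (⁅g, e⁆ * e) ^ p = g * e ^ p * g⁻¹ := by
      rw [← conj_pow]; congr 1; rw [commutatorElement_def]; group
    have h3 : g * e ^ p * g⁻¹ = e ^ p := by
      rw [mem_center_iff.mp ((zpowers_le.mpr hzc) (hEp e he)) g, mul_inv_cancel_right]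
    rw [h1.mul_pow, h3] at h2
    exact mul_eq_right.mp h2
  have hUcomm : ∀ e ∈ E, ∀ x ∈ U, e * x = x * e := fun e he x hx => hCU e (hEC he) x hx
  have hcC : ∀ x : G, x ∈ centralizer (E : Set G) → x ∈ centralizer (U : Set G) → x ∈ U := fun x hxE hxU => by
    refine hCGC (mem_centralizer_iff.mpr fun c hc => ?_)
    obtain ⟨e, he, v, hv, rfl⟩ := mem_sup_of_normal_right.mp (hCE hc)
    exact (Commute.mul_left (mem_centralizer_iff.mp hxE e he) (mem_centralizer_iff.mp hxU v hv)).eq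
  have hinf : E ⊓ centralizer (E : Set G) ≤ zpowers z := fun x hx => by
    obtain ⟨hxE, hxc⟩ := mem_inf.mp hx
    exact hEU x hxE (hcC x hxc (mem_centralizer_iff.mpr fun v hv => (hUcomm x hxE v hv).symm))
  have hsup := sup_centralizer_eq_top hG hzc hz hzE hGE hinf
  set R := centralizer (E : Set G) with hR
  have hER : ∀ e ∈ E, ∀ r ∈ R, e * r = r * e := fun e he r hr => mem_centralizer_iff.mp hr e he
  have hEor : (E ≤ zpowers z ∧ R = ⊤) ∨ (∃ a ∈ E, ∃ b ∈ E, a * b ≠ b * a) := by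
    by_cases h : ∀ a ∈ E, ∀ b ∈ E, a * b = b * a
    · left
      have hE : E ≤ zpowers z := fun x hx => hinf (mem_inf.mpr ⟨hx, mem_centralizer_iff.mpr fun y hy => h y hy x hx⟩)
      refine ⟨hE, eq_top_iff.mpr fun x _ => mem_centralizer_iff.mpr fun e he => ?_⟩
      exact (mem_center_iff.mp ((hE.trans (zpowers_le.mpr hzc)) he) x).symm
    · push Not at h
      exact Or.inr h
  have hfinish : (IsCyclic R ∨ (p = 2 ∧ 16 ≤ Nat.card R ∧
        ((∃ m : ℕ, Nonempty (↥R ≃* DihedralGroup m)) ∨ (∃ m : ℕ, Nonempty (↥R ≃* QuaternionGroup m)) ∨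
          Cfsg.IsQuasiDihedral ↥R))) →
      ∃ E R : Subgroup G, (∀ e ∈ E, ∀ r ∈ R, e * r = r * e) ∧ E ⊔ R = ⊤ ∧
      (E = ⊥ ∨ Cfsg.IsExtraspecial p ↥E) ∧ (IsCyclic R ∨ (p = 2 ∧ 16 ≤ Nat.card R ∧
        ((∃ m : ℕ, Nonempty (↥R ≃* DihedralGroup m)) ∨ (∃ m : ℕ, Nonempty (↥R ≃* QuaternionGroup m)) ∨
          Cfsg.IsQuasiDihedral ↥R))) := by
    intro hRc
    rcases hEor with ⟨-, hRtop⟩ | hne
    · exact ⟨⊥, R, fun e he r _ => by rw [mem_bot.mp he, mul_one, one_mul], by rw [hRtop]; simp,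
        Or.inl rfl, hRc⟩
    · exact ⟨E, R, hER, hsup, Or.inr (extraspecial_subgroup hG hz hzE hzc hne hinf
        (fun a _ b hb => hGE a b hb) hEp), hRc⟩
  have hUR : U ≤ R := fun x hx => mem_centralizer_iff.mpr fun e he => hUcomm e he x hx
  by_cases hRab : IsMulCommutative R
  · refine hfinish (Or.inl ?_)
    have : R = U := le_antisymm (fun r hr => hcC r hr (mem_centralizer_iff.mpr fun x hx =>
      congrArg Subtype.val (hRab.1.comm ⟨x, hUR hx⟩ ⟨r, hr⟩))) hUR
    rw [this]; exact hUcyc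
  haveI hUn : (U.subgroupOf R).Normal := inferInstance
  have hUcycR : IsCyclic (U.subgroupOf R) := isCyclic_of_surjective
    (subgroupOfEquivOfLe hUR).symm.toMonoidHom (subgroupOfEquivOfLe hUR).symm.surjective
  have hcR : centralizer ((U.subgroupOf R : Subgroup R) : Set R) = U.subgroupOf R := by
    refine le_antisymm (fun (r : R) hr => hcC r r.2 (mem_centralizer_iff.mpr fun x hx =>
      congrArg Subtype.val (mem_centralizer_iff.mp hr ⟨x, hUR hx⟩ hx))) fun (r : R) hr => ?_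
    exact mem_centralizer_iff.mpr fun x hx => Subtype.ext (congrArg (Subtype.val : U → G)
      (hUab.1.comm ⟨(x : G), hx⟩ ⟨(r : G), hr⟩))
  have hUcard : Nat.card (U.subgroupOf R) = p ^ (n + 1) := by
    rw [Nat.card_congr (subgroupOfEquivOfLe hUR).toEquiv, hn]
  rcases CyclicNormal.main (hG.to_subgroup R) hRab (U.subgroupOf R) hUcycR (n + 1) hUcard hcR with
    ⟨rfl, hRcard, hDQS⟩ | ⟨hrel, hel, hcard, hVchar⟩
  · rcases (show n = 1 ∨ 2 ≤ n by omega) with rfl | hn3
    · exact trivialR (extraspecial_of_eight hG hzc hz hzE hinf hGE hEp hsup hRab (by rw [hRcard]))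
    · refine hfinish (Or.inr ⟨rfl, ?_, hDQS⟩)
      rw [hRcard]
      calc 16 = 2 ^ 4 := by norm_num
        _ ≤ _ := Nat.pow_le_pow_right (by norm_num) (by omega)
  -- the second alternative
  by_cases hp21 : p = 2 ∧ n = 1
  · obtain ⟨rfl, rfl⟩ := hp21
    refine trivialR (extraspecial_of_eight hG hzc hz hzE hinf hGE hEp hsup hRab ?_)
    have htop : centralizer ((Cfsg.powerClosure 2 1 (U.subgroupOf R) : Subgroup R) : Set R) = ⊤ := by
      refine eq_top_iff.mpr fun r _ => mem_centralizer_iff.mpr fun x hx => Subtype.ext ?_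
      have hxz : (x : G) ∈ zpowers z := by
        have hle : Cfsg.powerClosure 2 1 (U.subgroupOf R) ≤ (zpowers z).subgroupOf R := by
          refine (closure_le _).mpr ?_
          rintro _ ⟨v, hv, rfl⟩
          show ((v ^ 2 ^ 1 : R) : G) ∈ zpowers z
          obtain ⟨i, hi⟩ := mem_zpowers_iff.mp (hu.symm ▸ hv : (v : G) ∈ zpowers u)
          rw [SubmonoidClass.coe_pow, ← hi, hzdef, ← zpow_natCast (u ^ i), ← zpow_mul, mul_comm,
            zpow_mul, zpow_natCast]
          exact zpow_mem (mem_zpowers _) _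
        exact hle hx
      exact (mem_center_iff.mp ((zpowers_le.mpr hzc) hxz) r).symm
    rw [htop, relIndex_top_right] at hrel
    rw [← (U.subgroupOf R).card_mul_index, hrel, hUcard]
    norm_num
  exfalso
  set V' := Cfsg.omegaOne p (centralizer ((Cfsg.powerClosure p 1 (U.subgroupOf R) : Subgroup R) : Set R)) with hV'
  set V := V'.map R.subtype with hV
  have hVcard : Nat.card V = p ^ 2 := by
    rw [hV, card_map_of_injective R.subtype_injective, hcard]
  have hVab : IsMulCommutative V := ⟨⟨by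
    rintro ⟨_, a, ha, rfl⟩ ⟨_, b, hb, rfl⟩
    exact Subtype.ext (congrArg (fun x : V' => ((x : R) : G)) (hel.1.1.comm ⟨a, ha⟩ ⟨b, hb⟩))⟩⟩
  have hnc : ¬ IsCyclic V := fun hc => by
    obtain ⟨v, hv⟩ := (Subgroup.isCyclic_iff_exists_zpowers_eq_top V).mp hc
    have h1 : orderOf v = p ^ 2 := by rw [← Nat.card_zpowers, hv, hVcard]
    have h2 : v ^ p = 1 := by
      obtain ⟨a, ha, hav⟩ : v ∈ V := hv ▸ mem_zpowers v
      rw [← hav, ← map_pow, hel.2 a ha, map_one]
    have h3 := Nat.le_of_dvd hp.out.pos (h1 ▸ orderOf_dvd_of_pow_eq_one h2)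
    have := hp.out.two_le
    nlinarith
  have charR : R.Characteristic → False := fun hRchar =>
    hnc (hsymp V (characteristic_map hRchar hVchar) hVab)
  rcases hEor with ⟨-, hRtop⟩ | hne
  · exact charR (by rw [hRtop]; infer_instance)
  by_cases hp2 : p = 2
  · subst hp2
    exact omega_contra hsymp hu hou (by omega) hz hzdef hzc hzE hEp hsup hER hUR hEC hCU hne hinf hGE
      hel hcard (fun φ x hx => hUinv φ x hx) hcR
  · exact charR (characteristic_of_invariant fun φ x hx =>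
      centralizer_invariant φ (fun s hs => hEchar hp2 φ.symm s hs) hx)

end Cfsg.Agent.Lib.PGroups.SymplecticType
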