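import Cfsg.Agent.Lib.Frobenius.UniqueSubgroup
import Cfsg.Agent.S0129
import Cfsg.Agent.Lib.Coprime.Basic
import Cfsg.Prelude.Def_Transfer
import Cfsg.Prelude.Def_Local
import Mathlib

/-!
p-groups whose subgroups of equal order are isomorphic.
-/

set_option autoImplicit false

namespace Cfsg.Agent.Lib.PGroups.IsoByOrder

open scoped commutatorElement

variable {X : Type*} [Group X] [Finite X] {p : ℕ} [hp : Fact p.Prime]

def IsoByOrder (X : Type*) [Group X] : Prop :=
  ∀ H K : Subgroup X, Nat.card H = Nat.card K → Nonempty (H ≃* K)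

theorem quaternion_eight (h : IsoByOrder X) {m : ℕ} (e : X ≃* QuaternionGroup (2 ^ (m + 1))) : m = 0 := by
  haveI : Fact (Nat.Prime 2) := ⟨Nat.prime_two⟩
  haveI : NeZero (2 ^ (m + 1)) := ⟨pow_ne_zero _ two_ne_zero⟩
  by_contra hm
  have hcard : Nat.card X = 2 ^ (m + 3) := by
    rw [Nat.card_congr e.toEquiv, Nat.card_eq_fintype_card, QuaternionGroup.card]; ring
  set a := e.symm (QuaternionGroup.a 1) with ha
  have hao : orderOf a = 2 ^ (m + 2) := by
    rw [ha, MulEquiv.orderOf_eq, QuaternionGroup.orderOf_a_one]; ring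
  set b := e.symm (QuaternionGroup.xa 0) with hb
  have hbo : Nat.card (Subgroup.zpowers b) = 2 ^ 2 := by
    rw [Nat.card_zpowers, hb, MulEquiv.orderOf_eq, QuaternionGroup.orderOf_xa]
    norm_num
  obtain ⟨K, hK, hbK⟩ := Sylow.exists_subgroup_card_pow_prime_le 2 (n := 2) (m := 3)
    (by rw [hcard]; exact pow_dvd_pow 2 (by omega)) (Subgroup.zpowers b) hbo (by omega)
  obtain ⟨f⟩ := h K (Subgroup.zpowers (a ^ 2 ^ (m - 1))) (by
    rw [hK, Nat.card_zpowers, orderOf_pow, hao, Nat.gcd_eq_right (pow_dvd_pow 2 (by omega)),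
      Nat.pow_div (by omega) two_pos]
    congr 1
    omega)
  haveI : IsCyclic K := f.isCyclic.mpr inferInstance
  obtain ⟨g, hg⟩ := IsCyclic.exists_generator (α := K)
  obtain ⟨i, hi⟩ := Subgroup.mem_zpowers_iff.mp (hg ⟨b, hbK (Subgroup.mem_zpowers b)⟩)
  have hgo : orderOf g = 8 := by rw [orderOf_eq_card_of_forall_mem_zpowers hg, hK]; norm_num
  have hbo' : orderOf (⟨b, hbK (Subgroup.mem_zpowers b)⟩ : K) = 4 := by
    rw [Subgroup.orderOf_mk, ← Nat.card_zpowers, hbo]; norm_num
  rcases Int.even_or_odd i with ⟨j, rfl⟩ | ⟨j, rfl⟩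
  · have hb2 : b = ((g : X) ^ j) * ((g : X) ^ j) := by
      have := congrArg (fun t : K => (t : X)) hi
      simp only [zpow_add, Subgroup.coe_mul, Subgroup.coe_zpow] at this
      exact this.symm
    have e2 := congrArg e hb2
    rw [hb, MulEquiv.apply_symm_apply, map_mul] at e2
    cases hj : e ((g : X) ^ j) with
    | a i => rw [hj, QuaternionGroup.a_mul_a] at e2; simp at e2
    | xa i => rw [hj, QuaternionGroup.xa_mul_xa] at e2; simp at e2
  · have h4 : g ^ ((2 * j + 1) * 4) = 1 := by
      rw [zpow_mul, hi]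
      exact_mod_cast (hbo' ▸ pow_orderOf_eq_one (⟨b, hbK (Subgroup.mem_zpowers b)⟩ : K))
    rw [← orderOf_dvd_iff_zpow_eq_one, hgo] at h4
    omega

theorem classify (hX : IsPGroup p X) (h : IsoByOrder X) :
    IsCyclic X ∨ ((∀ a b : X, a * b = b * a) ∧ ∀ a : X, a ^ p = 1) ∨
      (p = 2 ∧ Nonempty (X ≃* QuaternionGroup 2)) ∨
      (p ≠ 2 ∧ (¬ ∀ a b : X, a * b = b * a) ∧ Nat.card X = p ^ 3 ∧ (∀ a : X, a ^ p = 1) ∧
        Nat.card (Subgroup.center X) ≤ p) := by
  classical
  by_cases huniq : ∀ a b : X, orderOf a = p → orderOf b = p → a ∈ Subgroup.zpowers b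
  · rcases Frobenius.isCyclic_or_quaternion_of_unique hX huniq with hc | ⟨hp2, m, ⟨e⟩⟩
    · exact Or.inl hc
    · obtain rfl := quaternion_eight h e
      exact Or.inr (Or.inr (Or.inl ⟨hp2, ⟨e⟩⟩))
  push Not at huniq
  obtain ⟨a, b, ha, hb, hab⟩ := huniq
  haveI : Nontrivial X := nontrivial_of_ne a 1 fun e => by rw [e, orderOf_one] at ha; exact hp.out.ne_one ha.symm
  haveI := hX.center_nontrivial
  obtain ⟨n, hn⟩ := (hX.to_subgroup (Subgroup.center X)).exists_card_eq
  obtain ⟨z, hz⟩ := exists_prime_orderOf_dvd_card' (G := Subgroup.center X) p (by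
    rcases n with _ | n
    · exact absurd hn (ne_of_gt Finite.one_lt_card)
    · rw [hn, pow_succ]; exact dvd_mul_left _ _)
  obtain ⟨z, hzc⟩ := z
  rw [Subgroup.orderOf_mk] at hz
  obtain ⟨c, hc, hcz⟩ : ∃ c, orderOf c = p ∧ c ∉ Subgroup.zpowers z := by
    by_cases hza : a ∈ Subgroup.zpowers z
    · refine ⟨b, hb, fun hzb => hab ?_⟩
      have e : Subgroup.zpowers b = Subgroup.zpowers z := Subgroup.eq_of_le_of_card_ge (Subgroup.zpowers_le.mpr hzb)
        (by rw [Nat.card_zpowers, Nat.card_zpowers, hb, hz])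
      rw [e]; exact hza
    · exact ⟨a, ha, hza⟩
  -- an elementary group of order `p²`
  set V := Subgroup.zpowers z ⊔ Subgroup.zpowers c with hV
  have hzn : Subgroup.zpowers c ≤ Subgroup.normalizer (Subgroup.zpowers z : Set X) := by
    refine (Subgroup.zpowers_le.mpr ?_)
    exact Subgroup.centralizer_le_normalizer _ (Subgroup.mem_centralizer_iff.mpr fun w hw => by
      obtain ⟨i, rfl⟩ := Subgroup.mem_zpowers_iff.mp hw
      exact (Subgroup.mem_center_iff.mp (Subgroup.zpow_mem _ hzc i) c).symm)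
  have hVexp : ∀ v ∈ V, v ^ p = 1 := by
    intro v hv
    rw [← SetLike.mem_coe, hV, Subgroup.coe_mul_of_right_le_normalizer_left _ _ hzn] at hv
    obtain ⟨s, hs, t, ht, rfl⟩ := hv
    obtain ⟨i, rfl⟩ := Subgroup.mem_zpowers_iff.mp hs
    obtain ⟨j, rfl⟩ := Subgroup.mem_zpowers_iff.mp ht
    show (z ^ i * c ^ j) ^ p = 1
    rw [(show Commute (z ^ i) (c ^ j) from (Subgroup.mem_center_iff.mp (Subgroup.zpow_mem _ hzc i) (c ^ j)).symm).mul_pow,
      ← zpow_natCast (z ^ i), ← zpow_mul, mul_comm i, zpow_mul, zpow_natCast, ← hz, pow_orderOf_eq_one, one_zpow,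
      hz, ← zpow_natCast (c ^ j), ← zpow_mul, mul_comm j, zpow_mul, zpow_natCast, ← hc, pow_orderOf_eq_one, one_zpow, mul_one]
  have hV2 : Nat.card V = p ^ 2 := by
    have hd : Subgroup.zpowers z ⊓ Subgroup.zpowers c = ⊥ := by
      rcases (Nat.dvd_prime hp.out).mp (hc ▸ Nat.card_zpowers c ▸
        Subgroup.card_dvd_of_le (inf_le_right : Subgroup.zpowers z ⊓ Subgroup.zpowers c ≤ _)) with h | h
      · exact Subgroup.eq_bot_of_card_eq _ h
      · exfalso
        have e := Subgroup.eq_of_le_of_card_ge (inf_le_right : Subgroup.zpowers z ⊓ Subgroup.zpowers c ≤ _)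
          (by rw [h, Nat.card_zpowers, hc])
        exact hcz (e.ge (Subgroup.mem_zpowers c)).1
    have := Coprime.card_sup_mul_card_inf hzn
    rw [hd, Subgroup.card_bot, mul_one, Nat.card_zpowers, Nat.card_zpowers, hz, hc, ← sq] at this
    exact this
  -- exponent `p`
  have hexp : ∀ x : X, x ^ p = 1 := by
    intro x
    obtain ⟨k, hk⟩ := IsPGroup.iff_orderOf.mp hX x
    rcases Nat.lt_or_ge k 2 with hk2 | hk2
    · rw [← orderOf_dvd_iff_pow_eq_one, hk]
      calc p ^ k ∣ p ^ 1 := pow_dvd_pow p (by omega)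
        _ = p := pow_one p
    exfalso
    set y := x ^ p ^ (k - 2) with hy
    have hyo : orderOf y = p ^ 2 := by
      rw [hy, orderOf_pow, hk, Nat.gcd_eq_right (pow_dvd_pow p (Nat.sub_le k 2)), Nat.pow_div (Nat.sub_le k 2) hp.out.pos]
      congr 1; omega
    obtain ⟨f⟩ := h (Subgroup.zpowers y) V (by rw [Nat.card_zpowers, hyo, hV2])
    have h1 : (⟨y, Subgroup.mem_zpowers y⟩ : Subgroup.zpowers y) ^ p = 1 :=
      f.injective (by rw [map_pow, map_one]; exact Subtype.ext (hVexp _ (f ⟨y, Subgroup.mem_zpowers y⟩).2))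
    have h2 := orderOf_dvd_of_pow_eq_one (congrArg Subtype.val h1 : y ^ p = 1)
    rw [hyo] at h2
    exact absurd (Nat.le_of_dvd hp.out.pos h2) (by
      have := hp.out.two_le
      nlinarith)
  right
  by_cases hcomm : ∀ a b : X, a * b = b * a
  · exact Or.inl ⟨hcomm, hexp⟩
  have hp2 : p ≠ 2 := by
    rintro rfl
    apply hcomm
    intro s t
    have h1 := hexp (s * t)
    have h2 := hexp s
    have h3 := hexp t
    rw [sq] at h1 h2 h3
    calc s * t = s * ((s * t) * (s * t)) * t := by rw [h1, mul_one]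
      _ = (s * s) * (t * s) * (t * t) := by group
      _ = t * s := by rw [h2, h3, one_mul, mul_one]
  -- non-commuting elements with central commutator
  obtain ⟨s, hs2, hs⟩ : ∃ s, s ∈ Subgroup.upperCentralSeries X 2 ∧ s ∉ Subgroup.center X := by
    by_contra hall
    push Not at hall
    haveI := hX.isNilpotent
    haveI : (Subgroup.center X).Normal := inferInstance
    haveI hQ : Nontrivial (X ⧸ Subgroup.center X) := by
      by_contra hnt
      haveI := not_nontrivial_iff_subsingleton.mp hnt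
      exact hcomm fun u v => (Subgroup.mem_center_iff.mp
        ((QuotientGroup.eq_one_iff v).mp (Subsingleton.elim _ _)) u)
    haveI := (hX.to_quotient (Subgroup.center X)).center_nontrivial
    obtain ⟨q, hq1⟩ := exists_ne (1 : Subgroup.center (X ⧸ Subgroup.center X))
    obtain ⟨w, hw⟩ := QuotientGroup.mk_surjective (q : X ⧸ Subgroup.center X)
    have hwz : w ∈ Subgroup.upperCentralSeries X 2 := by
      rw [Subgroup.mem_upperCentralSeries_succ_iff]
      intro v
      rw [Subgroup.upperCentralSeries_one, ← QuotientGroup.eq_one_iff]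
      rw [commutatorElement_def]
      simp only [QuotientGroup.mk_mul, QuotientGroup.mk_inv]
      rw [hw, Subgroup.mem_center_iff.mp q.2 (v : X ⧸ Subgroup.center X) |>.symm]
      group
    exact hq1 (Subtype.ext (hw ▸ (QuotientGroup.eq_one_iff w).mpr (hall w hwz)))
  obtain ⟨t, hst⟩ : ∃ t, s * t ≠ t * s := by
    by_contra hall
    push Not at hall
    exact hs (Subgroup.mem_center_iff.mpr fun v => (hall v).symm)
  set d := ⁅s, t⁆ with hd
  have hdc : d ∈ Subgroup.center X := by
    have := (Subgroup.mem_upperCentralSeries_succ_iff (n := 1)).mp hs2 t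
    rw [Subgroup.upperCentralSeries_one] at this
    exact this
  have hd1 : d ≠ 1 := fun e => hst (commutatorElement_eq_one_iff_mul_comm.mp e)
  have hs1 : s ≠ 1 := fun e => hs (e ▸ one_mem _)
  have ht1 : t ≠ 1 := fun e => hst (by rw [e, mul_one, one_mul])
  set W := Subgroup.zpowers d ⊔ Subgroup.zpowers s with hW
  have hdn : ∀ g : X, g ∈ Subgroup.normalizer (Subgroup.zpowers d : Set X) := fun g => by
    refine Subgroup.centralizer_le_normalizer _ (Subgroup.mem_centralizer_iff.mpr fun w hw => ?_)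
    obtain ⟨i, rfl⟩ := Subgroup.mem_zpowers_iff.mp hw
    exact (Subgroup.mem_center_iff.mp (Subgroup.zpow_mem _ hdc i) g).symm
  have hW2 : Nat.card W = p ^ 2 := by
    have hd' : Subgroup.zpowers d ⊓ Subgroup.zpowers s = ⊥ := by
      have hso := orderOf_eq_prime (hexp s) hs1
      rcases (Nat.dvd_prime hp.out).mp (hso ▸ Nat.card_zpowers s ▸
        Subgroup.card_dvd_of_le (inf_le_right : Subgroup.zpowers d ⊓ Subgroup.zpowers s ≤ _)) with h | h
      · exact Subgroup.eq_bot_of_card_eq _ h
      · exfalso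
        have e := Subgroup.eq_of_le_of_card_ge (inf_le_right : Subgroup.zpowers d ⊓ Subgroup.zpowers s ≤ _)
          (by rw [h, Nat.card_zpowers, hso])
        exact hs (Subgroup.zpowers_le.mpr hdc (e.ge (Subgroup.mem_zpowers s)).1)
    have := Coprime.card_sup_mul_card_inf (N := Subgroup.zpowers d) (H := Subgroup.zpowers s) (fun g _ => hdn g)
    rw [hd', Subgroup.card_bot, mul_one, Nat.card_zpowers, Nat.card_zpowers,
      orderOf_eq_prime (hexp d) hd1, orderOf_eq_prime (hexp s) hs1, ← sq] at this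
    exact this
  have htW : Subgroup.zpowers t ≤ Subgroup.normalizer (W : Set X) := by
    refine Subgroup.zpowers_le.mpr (Subgroup.mem_normalizer_fintype fun w hw => ?_)
    have hle : W ≤ W.comap (MulAut.conj t).toMonoidHom := sup_le (Subgroup.zpowers_le.mpr (show t * d * t⁻¹ ∈ W by
        rw [Subgroup.mem_center_iff.mp hdc t, mul_inv_cancel_right]; exact Subgroup.mem_sup_left (Subgroup.mem_zpowers d)))
      (Subgroup.zpowers_le.mpr (show t * s * t⁻¹ ∈ W by
        have : t * s * t⁻¹ = d⁻¹ * s := by rw [hd, commutatorElement_def]; group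
        rw [this]
        exact mul_mem (Subgroup.mem_sup_left (inv_mem (Subgroup.mem_zpowers d))) (Subgroup.mem_sup_right (Subgroup.mem_zpowers s))))
    exact hle hw
  set T := W ⊔ Subgroup.zpowers t with hT
  have htnW : t ∉ W := by
    intro htw
    rw [← SetLike.mem_coe, hW, Subgroup.coe_mul_of_right_le_normalizer_left _ _ (fun g _ => hdn g)] at htw
    obtain ⟨u, hu, v, hv, huv⟩ := htw
    obtain ⟨i, rfl⟩ := Subgroup.mem_zpowers_iff.mp hu
    obtain ⟨j, rfl⟩ := Subgroup.mem_zpowers_iff.mp hv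
    simp only at huv
    rw [← huv] at hst
    exact hst ((show Commute s (d ^ i) from Subgroup.mem_center_iff.mp (Subgroup.zpow_mem _ hdc i) s).mul_right
      (Commute.self_zpow s j)).eq
  have hT3 : Nat.card T = p ^ 3 := by
    have hd' : W ⊓ Subgroup.zpowers t = ⊥ := by
      have hto := orderOf_eq_prime (hexp t) ht1
      rcases (Nat.dvd_prime hp.out).mp (hto ▸ Nat.card_zpowers t ▸
        Subgroup.card_dvd_of_le (inf_le_right : W ⊓ Subgroup.zpowers t ≤ _)) with h | h
      · exact Subgroup.eq_bot_of_card_eq _ h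
      · exfalso
        have e := Subgroup.eq_of_le_of_card_ge (inf_le_right : W ⊓ Subgroup.zpowers t ≤ _)
          (by rw [h, Nat.card_zpowers, hto])
        exact htnW (e.ge (Subgroup.mem_zpowers t)).1
    have := Coprime.card_sup_mul_card_inf htW
    rw [hd', Subgroup.card_bot, mul_one, hW2, Nat.card_zpowers, orderOf_eq_prime (hexp t) ht1] at this
    rw [this]; ring
  obtain ⟨N, hN⟩ := hX.exists_card_eq
  have hN3 : 3 ≤ N := by
    have := Subgroup.card_le_card_group T
    rw [hT3, hN] at this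
    exact (Nat.pow_le_pow_iff_right hp.out.one_lt).mp this
  -- no abelian subgroup of order `p³`
  have hnoab : ∀ B : Subgroup X, IsMulCommutative B → Nat.card B ≠ p ^ 3 := by
    intro B hB hBc
    obtain ⟨f⟩ := h T B (by rw [hT3, hBc])
    have := congrArg Subtype.val (f.injective (a₁ := (⟨s, Subgroup.mem_sup_left (Subgroup.mem_sup_right (Subgroup.mem_zpowers s))⟩ : T) *
      ⟨t, Subgroup.mem_sup_right (Subgroup.mem_zpowers t)⟩) (a₂ := ⟨t, Subgroup.mem_sup_right (Subgroup.mem_zpowers t)⟩ *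
      ⟨s, Subgroup.mem_sup_left (Subgroup.mem_sup_right (Subgroup.mem_zpowers s))⟩) (by rw [map_mul, map_mul]; exact hB.is_comm.comm _ _))
    exact hst this
  have hsmall : ∀ B : Subgroup X, IsMulCommutative B → ∀ j, Nat.card B = p ^ j → j ≤ 2 := by
    intro B hB j hj
    by_contra hj3
    obtain ⟨B', hB'⟩ := Sylow.exists_subgroup_card_pow_prime (G := B) p (n := 3) (by rw [hj]; exact pow_dvd_pow p (by omega))
    refine hnoab (B'.map B.subtype) ?_ (by rw [Subgroup.card_subtype, hB'])
    haveI := hB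
    exact ⟨⟨fun u v => by
      obtain ⟨_, u', -, rfl⟩ := u
      obtain ⟨_, v', -, rfl⟩ := v
      exact Subtype.ext (congrArg (fun t : B => (t : X)) (hB.is_comm.comm u' v'))⟩⟩
  obtain ⟨A, ⟨hAn, hAc⟩, hAmax⟩ := Set.Finite.exists_maximal (s := {A : Subgroup X | A.Normal ∧ IsMulCommutative A})
    (Set.toFinite _) ⟨⊥, inferInstance, inferInstance⟩
  haveI := hAn
  obtain ⟨j, hj⟩ := (hX.to_subgroup A).exists_card_eq
  have hNle : N ≤ 3 := by
    have hle := Cfsg.Agent.S0129.result hX A hAc (fun B hB hBc hAB => le_antisymm (hAmax ⟨hB, hBc⟩ hAB) hAB) j hj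
    rw [hN] at hle
    have := hsmall A hAc j hj
    have h2 : j * (j + 1) / 2 ≤ 3 := by interval_cases j <;> norm_num
    exact le_trans ((Nat.pow_le_pow_iff_right hp.out.one_lt).mp hle) h2
  refine Or.inr (Or.inr ⟨hp2, hcomm, by rw [hN, show N = 3 by omega], hexp, ?_⟩)
  -- the centre
  by_contra hcen
  obtain ⟨i, hi⟩ := (hX.to_subgroup (Subgroup.center X)).exists_card_eq
  rw [hi] at hcen
  have hi2 : 2 ≤ i := by
    by_contra hi2
    exact hcen (le_trans (Nat.pow_le_pow_right hp.out.pos (show i ≤ 1 by omega)) (pow_one p).le)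
  have hq : Nat.card (X ⧸ Subgroup.center X) ∣ p := by
    have h1 := Subgroup.card_eq_card_quotient_mul_card_subgroup (Subgroup.center X)
    rw [hN, show N = 3 by omega, hi] at h1
    obtain ⟨l, hl⟩ := (hX.to_quotient (Subgroup.center X)).exists_card_eq
    rw [hl, ← pow_add] at h1
    have := Nat.pow_right_injective hp.out.two_le h1
    rw [hl]
    calc p ^ l ∣ p ^ 1 := pow_dvd_pow p (by omega)
      _ = p := pow_one p
  haveI : IsCyclic (X ⧸ Subgroup.center X) := by
    rcases (Nat.dvd_prime hp.out).mp hq with h | h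
    · haveI := (Nat.card_eq_one_iff_unique.mp h).1
      infer_instance
    · exact isCyclic_of_prime_card h
  exact hcomm (commutative_of_cyclic_center_quotient (QuotientGroup.mk' (Subgroup.center X)) (by rw [QuotientGroup.ker_mk']))

open Cfsg in
theorem psolvable_of_surjective {G A : Type*} [Group G] [Group A] [Finite G]
    (f : G →* A) (hs : Function.Surjective f) (h : IsPSolvable p G) : IsPSolvable p A := by
  obtain ⟨n, H, h0, h1, hm, hn, hf⟩ := h
  refine ⟨n, fun i => (H i).map f, by simp only [h0, Subgroup.map_bot], by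
      simp only [h1, Subgroup.map_top_of_surjective _ hs],
    fun i j hij => Subgroup.map_mono (hm hij), fun i => (hn i).map _ hs, fun i => ?_⟩
  have hd : ((H i.castSucc).map f).relIndex ((H i.succ).map f) ∣
      (H i.castSucc).relIndex (H i.succ) := by
    rw [Subgroup.relIndex_map_map]
    haveI := hn i.castSucc
    haveI : (H i.castSucc ⊔ f.ker).Normal := Subgroup.sup_normal _ _
    have e : H i.succ ⊔ f.ker = H i.succ ⊔ (H i.castSucc ⊔ f.ker) := by
      rw [← sup_assoc, sup_eq_left.mpr (hm (Fin.castSucc_lt_succ).le : H i.castSucc ≤ H i.succ)]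
    rw [e, Subgroup.relIndex_sup_right]
    exact Subgroup.relIndex_dvd_of_le_left _ le_sup_left
  rcases hf i with ⟨m, hm'⟩ | hcop
  · obtain ⟨m', -, hm''⟩ := (Nat.dvd_prime_pow hp.out).1 (hm' ▸ hd)
    exact Or.inl ⟨m', hm''⟩
  · exact Or.inr (hcop.coprime_dvd_left hd)

/-- Conjugacy of `p`-subgroups of equal order in `G` makes a Sylow group `IsoByOrder`. -/
theorem isoByOrder_sylow {G : Type*} [Group G] (hC : ∀ H K : Subgroup G, IsPGroup p H → IsPGroup p K →
    Nat.card H = Nat.card K → ∃ g : G, K = H.map (MulAut.conj g).toMonoidHom) (P : Sylow p G) :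
    IsoByOrder ↥(P : Subgroup G) := by
  intro H K hc
  obtain ⟨g, hg⟩ := hC (H.map (P : Subgroup G).subtype) (K.map (P : Subgroup G).subtype)
    ((P.isPGroup'.to_subgroup H).map _) ((P.isPGroup'.to_subgroup K).map _)
    (by rw [Subgroup.card_subtype, Subgroup.card_subtype, hc])
  exact ⟨(H.equivMapOfInjective _ (P : Subgroup G).subtype_injective).trans
    ((((MulAut.conj g).subgroupMap _).trans (MulEquiv.subgroupCongr hg.symm)).trans
      (K.equivMapOfInjective _ (P : Subgroup G).subtype_injective).symm)⟩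

end Cfsg.Agent.Lib.PGroups.IsoByOrder
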