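import Mathlib.GroupTheory.Sylow
import Mathlib.Data.Nat.Factorization.Basic
import Cfsg.Agent.Lib.Coprime.Action
import Cfsg.Agent.Lib.PGroups.Subnormal
import Mathlib.Algebra.Group.Subgroup.Pointwise

/-! Sylow numbers: M. Hall's factorisation, prime-power parts in the coprime case, Brodkey's lemma. -/

set_option autoImplicit false
set_option linter.style.haveILetI false

namespace Cfsg.Agent.Lib.PGroups

open scoped Pointwise

variable {G : Type*} [Group G]

/-- If `A` normalizes `B` then `[A ⊔ B : A] = [B : A ⊓ B]`. -/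
theorem relIndex_sup_of_le_normalizer [Finite G] {A B : Subgroup G}
    (h : A ≤ Subgroup.normalizer (B : Set G)) : A.relIndex (A ⊔ B) = A.relIndex B := by
  have h1 : Nat.card (A ⊓ B : Subgroup G) * A.relIndex B = Nat.card B := by
    rw [← Subgroup.inf_relIndex_right, ← Subgroup.relIndex_bot_left, ← Subgroup.relIndex_bot_left]
    exact Subgroup.relIndex_mul_relIndex _ _ _ bot_le inf_le_right
  have h4 : Nat.card A * A.relIndex (A ⊔ B) = Nat.card (A ⊔ B : Subgroup G) := by
    rw [← Subgroup.relIndex_bot_left, ← Subgroup.relIndex_bot_left]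
    exact Subgroup.relIndex_mul_relIndex _ _ _ bot_le le_sup_left
  have key := Cfsg.Agent.Lib.Coprime.card_sup_mul_card_inf (N := B) (H := A) h
  rw [sup_comm, inf_comm] at key
  rw [← h4, ← h1] at key
  have hA : 0 < Nat.card A := Nat.card_pos
  have hI : 0 < Nat.card (A ⊓ B : Subgroup G) := Nat.card_pos
  apply Nat.eq_of_mul_eq_mul_left (Nat.mul_pos hA hI)
  linarith [key]

theorem isPGroup_inf_right {p : ℕ} {P K : Subgroup G} (h : IsPGroup p P) : IsPGroup p (P ⊓ K : Subgroup G) :=
  h.to_le inf_le_left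

section
variable [Finite G] {p : ℕ} [Fact p.Prime]

theorem card_sylow_eq_index (P : Sylow p G) :
    Nat.card (Sylow p G) = (Subgroup.normalizer ((P : Subgroup G) : Set G)).index :=
  P.card_eq_index_normalizer

theorem not_dvd_relIndex_inf (P : Sylow p G) (K : Subgroup G) [K.Normal] :
    ¬ p ∣ ((P : Subgroup G) ⊓ K).relIndex K := by
  rw [Subgroup.inf_relIndex_right]
  exact fun h => P.not_dvd_index (h.trans (relIndex_dvd_index_of_normal_right K P))

theorem exists_sylow_eq_inf (P : Sylow p G) (K : Subgroup G) [K.Normal] :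
    ∃ Q : Sylow p K, (Q : Subgroup K) = ((P : Subgroup G) ⊓ K).subgroupOf K := by
  have hp : IsPGroup p (((P : Subgroup G) ⊓ K).subgroupOf K) :=
    (isPGroup_inf_right (K := K) P.isPGroup').of_equiv (Subgroup.subgroupOfEquivOfLe inf_le_right).symm
  exact ⟨hp.toSylow (not_dvd_relIndex_inf P K), IsPGroup.toSylow_coe _ _⟩

omit [Finite G] [Fact p.Prime] in
theorem normalizer_inf_le (P : Sylow p G) (K : Subgroup G) [K.Normal] :
    Subgroup.normalizer ((P : Subgroup G) : Set G) ≤
      Subgroup.normalizer (((P : Subgroup G) ⊓ K : Subgroup G) : Set G) := by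
  intro g hg
  rw [Subgroup.mem_normalizer_iff] at hg ⊢
  intro h
  simp only [Subgroup.mem_inf, ← hg h]
  refine and_congr_right fun _ => ⟨fun hh => Subgroup.Normal.conj_mem ‹_› _ hh g, fun hh => ?_⟩
  simpa [mul_assoc] using Subgroup.Normal.conj_mem ‹_› _ hh g⁻¹

/-- `n_p(G) = n_p(G/K) [K : N_K(P)]`. -/
theorem card_sylow_eq_quotient_mul (P : Sylow p G) (K : Subgroup G) [K.Normal] :
    Nat.card (Sylow p G) = Nat.card (Sylow p (G ⧸ K)) *
      (Subgroup.normalizer ((P : Subgroup G) : Set G)).relIndex K := by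
  set N := Subgroup.normalizer ((P : Subgroup G) : Set G) with hN
  set M := Subgroup.normalizer (((P : Subgroup G) ⊔ K : Subgroup G) : Set G) with hM
  have hsurj := QuotientGroup.mk'_surjective K
  have hbar : Nat.card (Sylow p (G ⧸ K)) = M.index := by
    rw [card_sylow_eq_index (P.mapSurjective hsurj), Sylow.coe_mapSurjective,
      ← Subgroup.index_comap_of_surjective _ hsurj, Subgroup.comap_normalizer_eq_of_surjective _ hsurj,
      Subgroup.comap_map_eq, QuotientGroup.ker_mk']
  have hNM : N ⊔ K = M := by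
    apply le_antisymm
    · refine sup_le (le_trans ?_ (Subgroup.normalizer_inf_normalizer_le_normalizer_sup _ _))
        (le_trans le_sup_right Subgroup.le_normalizer)
      rw [Subgroup.normalizer_eq_top (H := K), inf_top_eq]
    · intro g hg
      have h2 : ((g • P : Sylow p G) : Subgroup G) ≤ (P : Subgroup G) ⊔ K := by
        rw [Sylow.coe_subgroup_smul]
        intro x hx
        rw [Subgroup.mem_pointwise_smul_iff_inv_smul_mem] at hx
        have := (Subgroup.mem_normalizer_iff.mp hg _).mp (le_sup_left (b := K) hx)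
        simpa [MulAut.smul_def, mul_assoc] using this
      obtain ⟨k, hk⟩ := MulAction.exists_smul_eq ((P : Subgroup G) ⊔ K : Subgroup G)
        (P.subtype le_sup_left) ((g • P).subtype h2)
      rw [Sylow.smul_subtype] at hk
      have hkg : k • P = g • P := Sylow.subtype_injective hk
      have hn : (k : G)⁻¹ * g ∈ N := by
        have : ((k : G)⁻¹ * g) • P = P := by
          rw [mul_smul, inv_smul_eq_iff]; exact hkg.symm
        exact Sylow.smul_eq_iff_mem_normalizer.mp this
      have hk' : (k : G) ∈ N ⊔ K := (sup_le_sup_right Subgroup.le_normalizer K) k.2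
      simpa using mul_mem hk' (le_sup_left (b := K) hn)
  rw [card_sylow_eq_index P, hbar, ← hN]
  have hle : N ≤ N ⊔ K := le_sup_left
  rw [← Subgroup.relIndex_mul_index hle, relIndex_sup_of_le_normalizer (by
    rw [Subgroup.normalizer_eq_top]; exact le_top), hNM, mul_comm]

theorem card_sylow_quotient_of_le (P : Sylow p G) (D : Subgroup G) [D.Normal] (hD : D ≤ (P : Subgroup G)) :
    Nat.card (Sylow p (G ⧸ D)) = Nat.card (Sylow p G) := by
  rw [card_sylow_eq_quotient_mul P D, Subgroup.relIndex_eq_one.mpr (hD.trans Subgroup.le_normalizer),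
    mul_one]

theorem card_sylow_quotient_le (K : Subgroup G) [K.Normal] :
    Nat.card (Sylow p (G ⧸ K)) ∣ Nat.card (Sylow p G) := by
  obtain ⟨P⟩ : Nonempty (Sylow p G) := inferInstance
  exact ⟨_, card_sylow_eq_quotient_mul P K⟩

theorem card_sylow_normal_eq (P : Sylow p G) (K : Subgroup G) [K.Normal] :
    Nat.card (Sylow p K) =
      (Subgroup.normalizer (((P : Subgroup G) ⊓ K : Subgroup G) : Set G)).relIndex K := by
  obtain ⟨Q, hQ⟩ := exists_sylow_eq_inf P K
  rw [card_sylow_eq_index Q, hQ, ← Subgroup.subgroupOf_normalizer_eq inf_le_right, Subgroup.relIndex]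

theorem card_sylow_subgroup_eq (P : Sylow p G) (N : Subgroup G) (hPN : (P : Subgroup G) ≤ N) :
    Nat.card (Sylow p N) = (Subgroup.normalizer ((P : Subgroup G) : Set G)).relIndex N := by
  rw [card_sylow_eq_index (P.subtype hPN), Sylow.coe_subtype, ← Subgroup.subgroupOf_normalizer_eq hPN,
    Subgroup.relIndex]

/-- If `H` is normal of index prime to `p`, then `n_p(H) = n_p(G)`. -/
theorem card_sylow_of_index (H : Subgroup G) [H.Normal] (hp : ¬ p ∣ H.index) :
    Nat.card (Sylow p H) = Nat.card (Sylow p G) := by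
  obtain ⟨P⟩ : Nonempty (Sylow p G) := inferInstance
  have hPH : (P : Subgroup G) ≤ H := by
    intro x hx
    obtain ⟨k, hk⟩ := P.isPGroup' ⟨x, hx⟩
    have h1 : x ^ p ^ k = 1 := congrArg Subtype.val hk
    rw [← QuotientGroup.eq_one_iff, ← orderOf_eq_one_iff]
    refine Nat.dvd_one.mp ?_
    have hc : Nat.Coprime (p ^ k) H.index :=
      Nat.Coprime.pow_left _ ((Nat.Prime.coprime_iff_not_dvd Fact.out).mpr hp)
    rw [← hc]
    refine Nat.dvd_gcd (orderOf_dvd_of_pow_eq_one ?_) (orderOf_dvd_natCard _)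
    rw [← QuotientGroup.mk_pow, h1, QuotientGroup.mk_one]
  rw [card_sylow_subgroup_eq P H hPH, card_sylow_eq_quotient_mul P H]
  have : Nat.card (Sylow p (G ⧸ H)) = 1 := by
    have hsurj := QuotientGroup.mk'_surjective H
    have hb : ((P : Subgroup G).map (QuotientGroup.mk' H)) = ⊥ := by
      rw [Subgroup.map_eq_bot_iff, QuotientGroup.ker_mk']; exact hPH
    rw [card_sylow_eq_index (P.mapSurjective hsurj), Sylow.coe_mapSurjective, hb,
      Subgroup.normalizer_eq_top, Subgroup.index_top]
  rw [this, one_mul]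

/-- M. Hall's factorisation of Sylow numbers. -/
theorem card_sylow_factor (P : Sylow p G) (K N : Subgroup G) [K.Normal]
    (hN : N = ((P : Subgroup G) ⊔ K) ⊓
      Subgroup.normalizer (((P : Subgroup G) ⊓ K : Subgroup G) : Set G))
    [(((P : Subgroup G) ⊓ K).subgroupOf N).Normal] :
    Nat.card (Sylow p G) = Nat.card (Sylow p (G ⧸ K)) * Nat.card (Sylow p K) *
      Nat.card (Sylow p (N ⧸ ((P : Subgroup G) ⊓ K).subgroupOf N)) := by
  set D := (P : Subgroup G) ⊓ K with hD
  set L := Subgroup.normalizer (D : Set G) with hL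
  set NP := Subgroup.normalizer ((P : Subgroup G) : Set G) with hNP
  have hNPL : NP ≤ L := normalizer_inf_le P K
  have hPN : (P : Subgroup G) ≤ N := hN ▸ le_inf le_sup_left (Subgroup.le_normalizer.trans hNPL)
  rw [card_sylow_eq_quotient_mul P K, card_sylow_normal_eq P K, mul_assoc]
  congr 1
  have hDN : D.subgroupOf N ≤ ((P.subtype hPN : Sylow p N) : Subgroup N) :=
    Subgroup.comap_mono inf_le_left
  rw [card_sylow_quotient_of_le (P.subtype hPN) _ hDN, card_sylow_subgroup_eq P N hPN]
  have hN' : N = (NP ⊓ N) ⊔ (K ⊓ L) := by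
    apply le_antisymm
    · intro g hg
      have hg' : g ∈ ((P : Subgroup G) ⊔ K) ⊓ L := hN ▸ hg
      obtain ⟨h1, h2⟩ := Subgroup.mem_inf.mp hg'
      obtain ⟨x, hx, k, hk, rfl⟩ := Subgroup.mem_sup_of_normal_right.mp h1
      have hk' : k ∈ L := (Subgroup.mul_mem_cancel_left _ (hNPL (Subgroup.le_normalizer hx))).mp h2
      exact mul_mem (le_sup_left (b := K ⊓ L) ⟨Subgroup.le_normalizer hx, hPN hx⟩)
        (le_sup_right (a := NP ⊓ N) ⟨hk, hk'⟩)
    · refine sup_le inf_le_right ?_
      rw [hN]
      exact le_inf (inf_le_left.trans le_sup_right) inf_le_right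
  have hnorm : NP ⊓ N ≤ Subgroup.normalizer ((K ⊓ L : Subgroup G) : Set G) := by
    intro g hg
    have hgL : g ∈ L := hNPL hg.1
    rw [Subgroup.mem_normalizer_iff]
    intro h
    simp only [Subgroup.mem_inf]
    refine and_congr ⟨fun hh => Subgroup.Normal.conj_mem ‹_› _ hh g, fun hh => ?_⟩
      ⟨fun hh => mul_mem (mul_mem hgL hh) (inv_mem hgL),
        fun hh => by simpa [mul_assoc] using mul_mem (mul_mem (inv_mem hgL) hh) hgL⟩
    simpa [mul_assoc] using Subgroup.Normal.conj_mem ‹_› _ hh g⁻¹
  have e1 : NP.relIndex N = NP.relIndex (K ⊓ L) := by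
    have hle : K ⊓ L ≤ N := le_of_le_of_eq le_sup_right hN'.symm
    rw [← Subgroup.inf_relIndex_right]
    conv_lhs => rw [show (NP ⊓ N).relIndex N = (NP ⊓ N).relIndex ((NP ⊓ N) ⊔ (K ⊓ L)) by rw [← hN']]
    rw [relIndex_sup_of_le_normalizer hnorm, ← Subgroup.inf_relIndex_right (NP ⊓ N),
      ← Subgroup.inf_relIndex_right NP]
    congr 1
    rw [inf_assoc, inf_eq_right.mpr hle]
  rw [e1, ← Subgroup.inf_relIndex_right NP K, ← Subgroup.inf_relIndex_right L K,
    ← Subgroup.inf_relIndex_right NP (K ⊓ L), inf_comm K L]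
  have e2 : NP ⊓ (L ⊓ K) = NP ⊓ K := by rw [← inf_assoc, inf_eq_left.mpr hNPL]
  rw [e2]
  rw [mul_comm, Subgroup.relIndex_mul_relIndex _ _ _ (inf_le_inf_right _ hNPL) inf_le_right]

/-- In the coprime case `G = P K`, every prime-power part of `n_p(G)` is `≡ 1 (mod p)`. -/
theorem sylow_number_parts_of_coprime (P : Sylow p G) (K : Subgroup G) [K.Normal]
    (hK : ¬ p ∣ Nat.card K) (htop : (P : Subgroup G) ⊔ K = ⊤) (q : ℕ) (hq : q.Prime) :
    q ^ (Nat.card (Sylow p G)).factorization q ≡ 1 [MOD p] := by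
  haveI : Fact q.Prime := ⟨hq⟩
  set NP := Subgroup.normalizer ((P : Subgroup G) : Set G) with hNP
  have hn : Nat.card (Sylow p G) = NP.relIndex K := by
    rw [card_sylow_eq_index P, ← hNP]
    have e : NP ⊔ K = ⊤ := top_le_iff.mp (htop ▸ sup_le_sup_right Subgroup.le_normalizer K)
    rw [← relIndex_sup_of_le_normalizer (A := NP) (B := K) (by rw [Subgroup.normalizer_eq_top]; exact le_top),
      e, Subgroup.relIndex_top_right]
  obtain ⟨a, ha⟩ := IsPGroup.iff_card.mp P.isPGroup'
  have hcop : (Nat.card (P : Subgroup G)).Coprime (Nat.card K) := by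
    rw [ha]; exact Nat.Coprime.pow_left _ ((Nat.Prime.coprime_iff_not_dvd Fact.out).mpr hK)
  have hsolv : Group.IsSolvable (P : Subgroup G) := by
    haveI := P.isPGroup'.isNilpotent
    infer_instance
  have hdisj := Cfsg.Agent.Lib.Coprime.inf_eq_bot_of_coprime_card hcop
  set L := NP ⊓ K with hL
  have hPK : (P : Subgroup G) ≤ Subgroup.normalizer (K : Set G) := by
    rw [Subgroup.normalizer_eq_top]; exact le_top
  -- elements of `K` normalizing `P` centralize it
  have hcent : ∀ x ∈ L, ∀ y ∈ (P : Subgroup G), y * x = x * y := by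
    intro x hx y hy
    have h1 : x * y * x⁻¹ * y⁻¹ ∈ (P : Subgroup G) :=
      mul_mem ((Subgroup.mem_normalizer_iff.mp hx.1 y).mp hy) (inv_mem hy)
    have h2 : x * y * x⁻¹ * y⁻¹ ∈ K := by
      have := mul_mem hx.2 (Subgroup.Normal.conj_mem ‹_› _ (inv_mem hx.2) y)
      simpa [mul_assoc] using this
    have h12 : x * y * x⁻¹ * y⁻¹ ∈ (P : Subgroup G) ⊓ K := ⟨h1, h2⟩
    rw [hdisj, Subgroup.mem_bot] at h12
    have he := mul_inv_eq_one.mp h12
    calc y * x = x * y * x⁻¹ * x := by rw [he]
      _ = x * y := by group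
  obtain ⟨R⟩ : Nonempty (Sylow q L) := inferInstance
  set R' := (R : Subgroup L).map L.subtype with hR'
  have hR'L : R' ≤ L := Subgroup.map_subtype_le _
  have hPR : (P : Subgroup G) ≤ Subgroup.normalizer (R' : Set G) := by
    intro y hy
    rw [Subgroup.mem_normalizer_iff]
    intro z
    constructor
    · intro hz
      rwa [hcent z (hR'L hz) y hy, mul_inv_cancel_right]
    · intro hz
      have h3 := hcent _ (hR'L hz) y⁻¹ (inv_mem hy)
      have : z = y * z * y⁻¹ := by
        calc z = y⁻¹ * (y * z * y⁻¹) * y := by group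
          _ = (y * z * y⁻¹) * y⁻¹ * y := by rw [h3]
          _ = y * z * y⁻¹ := by group
      rwa [this]
  obtain ⟨Q, hRQ, hPQ⟩ := Cfsg.Agent.Lib.Coprime.exists_invariant_sylow_ge hPK hcop (Or.inl hsolv) q R'
    (hR'L.trans inf_le_right) (R.isPGroup'.map _) hPR
  set Q' := (Q : Subgroup K).map K.subtype with hQ'
  have hQK : Q' ≤ K := Subgroup.map_subtype_le _
  letI : MulAction (P : Subgroup G) Q' :=
    { smul := fun y z => ⟨(y : G) * z * (y : G)⁻¹, (Subgroup.mem_normalizer_iff.mp (hPQ y.2) _).mp z.2⟩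
      one_smul := fun z => Subtype.ext (show (1 : G) * z * (1 : G)⁻¹ = z by simp)
      mul_smul := fun y y' z => Subtype.ext (show ((y : G) * y') * z * ((y : G) * y')⁻¹ =
        (y : G) * ((y' : G) * z * (y' : G)⁻¹) * (y : G)⁻¹ by group) }
  have hsmul : ∀ (y : (P : Subgroup G)) (z : Q'), ((y • z : Q') : G) = (y : G) * z * (y : G)⁻¹ :=
    fun _ _ => rfl
  have hfix : ∀ z : Q', z ∈ MulAction.fixedPoints (P : Subgroup G) Q' ↔ (z : G) ∈ R' := by
    intro z
    constructor
    · intro hz
      -- a `q`-subgroup of `L` containing the Sylow subgroup `R'` is `R'`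
      have hzL : (z : G) ∈ L := by
        refine ⟨(show (z : G) ∈ NP from ?_), hQK z.2⟩
        rw [hNP, Subgroup.mem_normalizer_iff]
        intro h
        have hc : ∀ y ∈ (P : Subgroup G), (z : G) * y * (z : G)⁻¹ = y := by
          intro y hy
          have h4 : y * (z : G) * y⁻¹ = z := congrArg Subtype.val (hz ⟨y, hy⟩)
          calc (z : G) * y * (z : G)⁻¹ = (y * z * y⁻¹) * y * (z : G)⁻¹ := by rw [h4]
            _ = y := by group
        refine ⟨fun hh => by rwa [hc h hh], fun hh => ?_⟩
        have h5 := hc _ hh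
        have : (z : G) * h * (z : G)⁻¹ = h := by
          calc (z : G) * h * (z : G)⁻¹
              = (z : G)⁻¹ * ((z : G) * ((z : G) * h * (z : G)⁻¹) * (z : G)⁻¹) * z := by group
            _ = (z : G)⁻¹ * ((z : G) * h * (z : G)⁻¹) * z := by rw [h5]
            _ = h := by group
        rwa [this] at hh
      have hle : (R : Subgroup L) ≤ Q'.subgroupOf L := fun r hr =>
        hRQ ⟨r, hr, rfl⟩
      have hp : IsPGroup q (Q'.subgroupOf L) :=
        (Q.isPGroup'.map K.subtype).comap_of_injective L.subtype L.subtype_injective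
      have := R.is_maximal' hp hle
      exact ⟨⟨z, hzL⟩, this ▸ (z.2 : (z : G) ∈ Q'), rfl⟩
    · intro hz y
      apply Subtype.ext
      rw [hsmul, hcent _ (hR'L hz) y y.2, mul_inv_cancel_right]
  have hmod := P.isPGroup'.card_modEq_card_fixedPoints Q'
  have hRcard : Nat.card (MulAction.fixedPoints (P : Subgroup G) Q') = Nat.card R' :=
    Nat.card_congr
      { toFun := fun z => ⟨z.1, (hfix z.1).mp z.2⟩
        invFun := fun r => ⟨⟨r.1, hRQ r.2⟩, (hfix _).mpr r.2⟩
        left_inv := fun z => rfl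
        right_inv := fun r => rfl }
  rw [hRcard, hR', hQ', Subgroup.card_map_of_injective L.subtype_injective,
    Subgroup.card_map_of_injective K.subtype_injective, R.card_eq_multiplicity,
    Q.card_eq_multiplicity] at hmod
  have hidx : Nat.card K = Nat.card L * NP.relIndex K := by
    rw [← Subgroup.inf_relIndex_right NP K, ← hL, ← Subgroup.relIndex_bot_left L,
      Subgroup.relIndex_mul_relIndex _ _ _ bot_le inf_le_right, Subgroup.relIndex_bot_left]
  rw [hidx, Nat.factorization_mul Nat.card_pos.ne' (hn ▸ Nat.card_pos.ne'),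
    Finsupp.add_apply, pow_add] at hmod
  rw [hn]
  by_cases hqp : q = p
  · subst hqp
    rw [Nat.factorization_eq_zero_of_not_dvd, pow_zero]
    exact fun hd => not_dvd_card_sylow (p := q) (G := G) (hn ▸ hd)
  refine Nat.ModEq.cancel_left_of_coprime ?_ (hmod.trans (by rw [mul_one]))
  exact Nat.Coprime.pow_right _ ((Nat.coprime_primes Fact.out hq).mpr (Ne.symm hqp))

/-- Strong induction package: a property multiplicative along Hall's factorisation that holds for simple groups and
in the coprime case holds for all groups. -/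
theorem card_sylow_quotient_center (H : Subgroup G) [H.Normal] (hp : ¬ p ∣ H.index) :
    Nat.card (Sylow p (H ⧸ Subgroup.center H)) = Nat.card (Sylow p G) := by
  obtain ⟨P⟩ : Nonempty (Sylow p H) := inferInstance
  rw [← card_sylow_of_index H hp, card_sylow_eq_quotient_mul P (Subgroup.center H),
    Subgroup.relIndex_eq_one.mpr ((Subgroup.center_le_centralizer _).trans (Subgroup.centralizer_le_normalizer _)),
    mul_one]

/-- Brodkey: with abelian Sylow `p`-subgroups, some two Sylow subgroups meet inside all others. -/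
theorem brodkey (hab : ∀ P : Sylow p G, IsMulCommutative (P : Subgroup G)) :
    ∃ P Q : Sylow p G, ∀ R : Sylow p G, (P : Subgroup G) ⊓ Q ≤ R := by
  classical
  haveI := Fintype.ofFinite (Sylow p G × Sylow p G)
  obtain ⟨⟨P, Q⟩, -, hmin⟩ := Finset.exists_min_image (Finset.univ : Finset (Sylow p G × Sylow p G))
    (fun PQ => Nat.card ((PQ.1 : Subgroup G) ⊓ PQ.2 : Subgroup G)) Finset.univ_nonempty
  refine ⟨P, Q, fun R => ?_⟩
  set D := (P : Subgroup G) ⊓ (Q : Subgroup G) with hD
  set N := Subgroup.normalizer (D : Set G) with hN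
  have hle : ∀ (S : Sylow p G), D ≤ S → (S : Subgroup G) ≤ N := by
    intro S hDS
    refine le_trans ?_ (Subgroup.centralizer_le_normalizer _)
    intro x hx
    rw [Subgroup.mem_centralizer_iff]
    intro y hy
    exact congrArg Subtype.val ((hab S).is_comm.comm ⟨y, hDS hy⟩ ⟨x, hx⟩)
  have hPN := hle P inf_le_left
  have hQN := hle Q inf_le_right
  have hRN : IsPGroup p (((R : Subgroup G)).subgroupOf N) :=
    R.isPGroup'.comap_of_injective N.subtype N.subtype_injective
  obtain ⟨S, hS⟩ := hRN.exists_le_sylow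
  obtain ⟨x, hx⟩ := MulAction.exists_smul_eq N (P.subtype hPN) S
  let R' : Sylow p G := (x : G)⁻¹ • R
  have h1 : (R' : Subgroup G) ⊓ N ≤ P := by
    rintro y ⟨hy1, hy2⟩
    have hy3 : (x : G) * y * (x : G)⁻¹ ∈ (R : Subgroup G) := by
      have h' : y ∈ MulAut.conj (x : G)⁻¹ • (R : Subgroup G) := by rw [← Sylow.coe_subgroup_smul]; exact hy1
      rw [Subgroup.mem_pointwise_smul_iff_inv_smul_mem] at h'
      simpa [MulAut.smul_def] using h'
    have hy4 : (⟨(x : G) * y * (x : G)⁻¹, mul_mem (mul_mem x.2 hy2) (inv_mem x.2)⟩ : N) ∈ (S : Subgroup N) :=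
      hS hy3
    rw [← hx, Sylow.smul_subtype] at hy4
    have hy5 : (x : G) * y * (x : G)⁻¹ ∈ (((x : G) • P : Sylow p G) : Subgroup G) := hy4
    rw [Sylow.coe_subgroup_smul, Subgroup.mem_pointwise_smul_iff_inv_smul_mem] at hy5
    simpa [MulAut.smul_def, mul_assoc] using hy5
  have h2 : (R' : Subgroup G) ⊓ Q ≤ D := fun y hy => ⟨h1 ⟨hy.1, hQN hy.2⟩, hy.2⟩
  have h3 : (R' : Subgroup G) ⊓ Q = D :=
    Subgroup.eq_of_le_of_card_ge h2 (hmin (R', Q) (Finset.mem_univ _))
  have h4 : D ≤ R' := h3 ▸ inf_le_left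
  intro d hd
  have hd' : (x : G)⁻¹ * d * x ∈ D := by
    have := (Subgroup.mem_normalizer_iff.mp (inv_mem x.2) d).mp hd
    simpa using this
  have h5 : (x : G)⁻¹ * d * x ∈ MulAut.conj (x : G)⁻¹ • (R : Subgroup G) := by
    rw [← Sylow.coe_subgroup_smul]; exact h4 hd'
  rw [Subgroup.mem_pointwise_smul_iff_inv_smul_mem] at h5
  simpa [MulAut.smul_def, mul_assoc] using h5

/-- A non-abelian simple group with fewer than `p^2` Sylow `p`-subgroups has Sylow subgroups of order `p`. -/
theorem card_eq_prime_of_card_sylow_lt_sq [IsSimpleGroup G] (hG : ¬ IsMulCommutative G)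
    (hpd : p ∣ Nat.card G) (hn : Nat.card (Sylow p G) < p ^ 2) (P : Sylow p G) :
    Nat.card (P : Subgroup G) = p := by
  classical
  have hp : p.Prime := Fact.out
  -- the intersection of all Sylow subgroups is trivial
  have hcore : ∀ x : G, (∀ R : Sylow p G, x ∈ (R : Subgroup G)) → x = 1 := by
    intro x hx
    set A : Subgroup G := ⨅ R : Sylow p G, (R : Subgroup G) with hA
    have hAn : A.Normal := by
      refine ⟨fun y hy g => ?_⟩
      rw [hA, Subgroup.mem_iInf] at hy ⊢
      intro R
      have h' := hy (g⁻¹ • R)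
      rw [Sylow.coe_subgroup_smul, Subgroup.mem_pointwise_smul_iff_inv_smul_mem] at h'
      simpa [MulAut.smul_def] using h'
    rcases hAn.eq_bot_or_eq_top with h | h
    · rw [← Subgroup.mem_bot, ← h, hA, Subgroup.mem_iInf]; exact hx
    · exfalso
      apply hG
      have hPtop : (P : Subgroup G) = ⊤ := top_le_iff.mp (h ▸ iInf_le _ P)
      have hpg : IsPGroup p G := by
        have := P.isPGroup'
        rw [hPtop] at this
        exact this.of_equiv Subgroup.topEquiv
      haveI : Group.IsNilpotent G := hpg.isNilpotent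
      haveI : Nontrivial G := IsSimpleGroup.toNontrivial
      rcases (inferInstance : (Subgroup.center G).Normal).eq_bot_or_eq_top with hc | hc
      · exact absurd hc (hpg.center_nontrivial |> fun h0 => by
          haveI := h0; exact (Subgroup.nontrivial_iff_ne_bot _).mp h0)
      · exact ⟨⟨fun a b => (Subgroup.mem_center_iff.mp (hc ▸ Subgroup.mem_top a) b).symm⟩⟩
  -- each intersection of two distinct Sylow subgroups has index `p`
  have hidx : ∀ S R : Sylow p G, R ≠ S → (R : Subgroup G).relIndex S = p := by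
    intro S R hne
    have hstab : (MulAction.stabilizer (S : Subgroup G) R) = (R : Subgroup G).subgroupOf S := by
      ext y
      rw [MulAction.mem_stabilizer_iff, Subgroup.mem_subgroupOf]
      constructor
      · intro h
        have hy : (y : G) ∈ Subgroup.normalizer ((R : Subgroup G) : Set G) :=
          Sylow.smul_eq_iff_mem_normalizer.mp h
        have : (y : G) ∈ (S : Subgroup G) ⊓ Subgroup.normalizer ((R : Subgroup G) : Set G) := ⟨y.2, hy⟩
        exact ((S.isPGroup'.inf_normalizer_sylow R).le this).2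
      · intro h
        exact Sylow.smul_eq_iff_mem_normalizer.mpr (Subgroup.le_normalizer h)
    obtain ⟨k, hk⟩ := IsPGroup.iff_card.mp S.isPGroup'
    have hdvd : (R : Subgroup G).relIndex S ∣ p ^ k := hk ▸ Subgroup.index_dvd_card _
    obtain ⟨j, -, hj⟩ := (Nat.dvd_prime_pow hp).mp hdvd
    have hle : (R : Subgroup G).relIndex S ≤ Nat.card (Sylow p G) := by
      rw [Subgroup.relIndex, ← hstab, MulAction.index_stabilizer]
      exact Set.ncard_le_card _
    have hj2 : j < 2 := (Nat.pow_lt_pow_iff_right hp.one_lt).mp (lt_of_le_of_lt (hj ▸ hle) hn)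
    interval_cases j
    · exfalso
      rw [pow_zero, Subgroup.relIndex_eq_one] at hj
      exact hne (Sylow.ext (S.is_maximal' R.isPGroup' hj))
    · rw [hj, pow_one]
  -- hence Sylow subgroups are abelian
  have hab : ∀ S : Sylow p G, IsMulCommutative (S : Subgroup G) := by
    intro S
    refine ⟨⟨fun a b => ?_⟩⟩
    have hcomm : (a : G) * b * (a : G)⁻¹ * (b : G)⁻¹ = 1 := by
      apply hcore
      intro R
      by_cases hR : R = S
      · subst hR
        exact mul_mem (mul_mem (mul_mem a.2 b.2) (inv_mem a.2)) (inv_mem b.2)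
      have hidx' : ((R : Subgroup G).subgroupOf S).index = p := hidx S R hR
      haveI : ((R : Subgroup G).subgroupOf S).Normal := by
        haveI := S.isPGroup'.isNilpotent
        refine Subgroup.NormalizerCondition.normal_of_coatom _ Group.normalizerCondition_of_isNilpotent ?_
        refine ⟨fun h => hp.ne_one (by rw [← hidx', h, Subgroup.index_top]), fun T hT => ?_⟩
        have h6 : T.index ∣ p := (congrArg (T.index ∣ ·) hidx').mp (Subgroup.index_dvd_of_le hT.le)
        rcases (Nat.dvd_prime hp).mp h6 with h | h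
        · exact Subgroup.index_eq_one.mp h
        · exact absurd (Subgroup.eq_of_le_of_card_ge hT.le (le_of_eq (by
            have e1 := T.card_mul_index
            have e2 := ((R : Subgroup G).subgroupOf S).card_mul_index
            rw [h] at e1
            rw [hidx', ← e1] at e2
            exact (Nat.eq_of_mul_eq_mul_right hp.pos e2).symm))) hT.ne
      have hcyc : IsCyclic ((S : Subgroup G) ⧸ (R : Subgroup G).subgroupOf S) :=
        isCyclic_of_prime_card (p := p) hidx'
      letI := hcyc.commGroup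
      have hq : ((a * b * a⁻¹ * b⁻¹ : (S : Subgroup G)) : (S : Subgroup G) ⧸ (R : Subgroup G).subgroupOf S) = 1 := by
        simp only [QuotientGroup.mk_mul, QuotientGroup.mk_inv]
        rw [mul_comm (a : (S : Subgroup G) ⧸ (R : Subgroup G).subgroupOf S) b]
        group
      rw [QuotientGroup.eq_one_iff, Subgroup.mem_subgroupOf] at hq
      simpa using hq
    apply Subtype.ext
    show (a : G) * b = b * a
    calc (a : G) * b = (a : G) * b * (a : G)⁻¹ * (b : G)⁻¹ * (b * a) := by group
      _ = b * a := by rw [hcomm, one_mul]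
  obtain ⟨P₀, Q₀, h0⟩ := brodkey hab
  have hbot : (P₀ : Subgroup G) ⊓ Q₀ = ⊥ := eq_bot_iff.mpr fun x hx => Subgroup.mem_bot.mpr (hcore x (fun R => h0 R hx))
  have hne : Q₀ ≠ P₀ := by
    intro h
    rw [h, inf_idem] at hbot
    exact P₀.ne_bot_of_dvd_card hpd hbot
  have h7 : Nat.card (P₀ : Subgroup G) = p := by
    refine Eq.trans ?_ (hidx P₀ Q₀ hne)
    rw [← Subgroup.relIndex_bot_left, ← hbot, Subgroup.inf_relIndex_left]
  rw [P.card_eq_multiplicity, ← P₀.card_eq_multiplicity, h7]

end

end Cfsg.Agent.Lib.PGroups
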