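import Cfsg.Agent.Lib.PGroups.CyclicNormal
import Cfsg.Agent.Lib.PGroups.SymplecticType
import Cfsg.Agent.Lib.Frobenius.UniqueSubgroup
import Cfsg.Agent.Lib.Classification.CyclicNormalAbelian
import Mathlib

/-!
Half-transitive linear `p`-groups.
-/

set_option autoImplicit false
set_option linter.unusedSectionVars false

namespace Cfsg.Agent.Lib.PGroups.HalfTransitive

open Finset

variable {q : ℕ} [Fact q.Prime] {V : Type*} [AddCommGroup V] [Module (ZMod q) V] [Finite V]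
  {G : Type*} [Group G] [Finite G] {p : ℕ} [hp : Fact p.Prime]
  (ρ : G →* (V ≃ₗ[ZMod q] V))

/-- The stabilizer of a vector. -/
def stab (v : V) : Subgroup G where
  carrier := {g | ρ g v = v}
  mul_mem' {g h} (hg : ρ g v = v) (hh : ρ h v = v) := by
    show ρ (g * h) v = v
    rw [map_mul]; show ρ g (ρ h v) = v; rw [hh, hg]
  one_mem' := by show ρ 1 v = v; rw [map_one]; rfl
  inv_mem' {g} (hg : ρ g v = v) := by
    show ρ g⁻¹ v = v
    conv_lhs => rw [← hg]
    show (ρ g⁻¹ * ρ g) v = v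
    rw [← map_mul, inv_mul_cancel, map_one]; rfl

theorem mem_stab {g : G} {v : V} : g ∈ stab ρ v ↔ ρ g v = v := Iff.rfl

theorem act_mul (g h : G) (v : V) : ρ (g * h) v = ρ g (ρ h v) := by rw [map_mul]; rfl

theorem act_one (v : V) : ρ 1 v = v := by rw [map_one]; rfl

theorem card_orbit (v : V) : Nat.card {u : V | ∃ g : G, ρ g v = u} = (stab ρ v).index := by
  letI : MulAction G V := MulAction.compHom V ρ
  have h := MulAction.index_stabilizer G v
  rw [show MulAction.stabilizer G v = stab ρ v from Subgroup.ext fun g => Iff.rfl] at h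
  rw [h, ← Nat.card_coe_set_eq]
  rfl

/-- All vector stabilizers have the same order. -/
def Half : Prop := ∀ v w : V, v ≠ 0 → w ≠ 0 → Nat.card (stab ρ v) = Nat.card (stab ρ w)

/-- The action is semiregular on the nonzero vectors. -/
def Semireg : Prop := ∀ v : V, v ≠ 0 → ∀ g : G, ρ g v = v → g = 1

theorem half_of_orbits
    (h : ∀ v w : V, v ≠ 0 → w ≠ 0 →
      Nat.card {u : V | ∃ g : G, ρ g v = u} = Nat.card {u : V | ∃ g : G, ρ g w = u}) :
    Half ρ := fun v w hv hw => by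
  have e := h v w hv hw
  rw [card_orbit, card_orbit] at e
  have h1 := (stab ρ v).card_mul_index
  rw [e, ← (stab ρ w).card_mul_index] at h1
  exact Nat.eq_of_mul_eq_mul_right (Nat.pos_of_ne_zero Subgroup.index_ne_zero_of_finite) h1

theorem eq_one_of_forall (hρ : Function.Injective ρ) {g : G} (h : ∀ v, ρ g v = v) : g = 1 :=
  hρ (by rw [map_one]; exact LinearEquiv.ext h)

theorem semireg_structure [Nontrivial V] (hG : IsPGroup p G) (hsr : Semireg ρ) :
    IsCyclic G ∨ ∃ n : ℕ, Nonempty (G ≃* QuaternionGroup n) := by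
  let φ : G →* MulAut (Multiplicative V) :=
    { toFun := fun g => AddEquiv.toMultiplicative (ρ g).toAddEquiv
      map_one' := MulEquiv.ext fun v => act_one ρ _
      map_mul' := fun g h => MulEquiv.ext fun v => act_mul ρ g h _ }
  have h := Cfsg.Agent.Lib.Frobenius.isCyclic_or_quaternion_of_fixedPointFree φ
    (fun a ha v hv => by
      by_contra hne
      exact ha (hsr (Multiplicative.toAdd v) hne a hv)) (p := p) (⊤ : Subgroup G) (hG.to_subgroup _)
  rcases h with h | ⟨-, m, ⟨e⟩⟩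
  · exact Or.inl (Subgroup.topEquiv.isCyclic.mp h)
  · exact Or.inr ⟨_, ⟨Subgroup.topEquiv.symm.trans e⟩⟩

/-- The case `p = q`. -/
theorem semireg_of_eq [Nontrivial V] (hG : IsPGroup p G) (hρ : Function.Injective ρ) (hh : Half ρ)
    (e : p = q) : Semireg ρ := by
  subst e
  letI : MulAction G V := MulAction.compHom V ρ
  have hd : p ∣ Nat.card V := by
    obtain ⟨v, hv⟩ := exists_ne (0 : V)
    have : addOrderOf v = p := addOrderOf_eq_prime (by
      rw [← Nat.cast_smul_eq_nsmul (ZMod p), ZMod.natCast_self, zero_smul]) hv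
    exact this ▸ addOrderOf_dvd_natCard v
  obtain ⟨v0, hv0, hne⟩ := hG.exists_fixed_point_of_prime_dvd_card_of_fixed_point V hd (a := (0 : V))
    (fun g => show ρ g 0 = 0 from map_zero _)
  intro v hv g _
  refine eq_one_of_forall ρ hρ fun w => ?_
  by_cases hw : w = 0
  · rw [hw, map_zero]
  have htop : stab ρ v0 = ⊤ := eq_top_iff.mpr fun x _ => hv0 x
  have : stab ρ w = ⊤ := Subgroup.eq_top_of_card_eq _ (by
    rw [hh w v0 hw (Ne.symm hne), htop, Subgroup.card_top])
  exact mem_stab ρ |>.mp (this ▸ Subgroup.mem_top g)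

theorem nsmul_inj (hpq : p ≠ q) {v : V} (h : p • v = 0) : v = 0 := by
  rw [← Nat.cast_smul_eq_nsmul (ZMod q), smul_eq_zero] at h
  refine h.resolve_left fun h0 => ?_
  rw [ZMod.natCast_eq_zero_iff] at h0
  exact hpq ((Nat.prime_dvd_prime_iff_eq Fact.out hp.out).mp h0).symm

/-- A splitting into two invariant subspaces forces semiregularity. -/
theorem semireg_of_split (hρ : Function.Injective ρ) (hh : Half ρ) (U W : Submodule (ZMod q) V)
    (hU : ∀ g : G, ∀ v ∈ U, ρ g v ∈ U) (hW : ∀ g : G, ∀ v ∈ W, ρ g v ∈ W)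
    (hd : ∀ v, v ∈ U → v ∈ W → v = 0) (hs : ∀ v, ∃ u ∈ U, ∃ w ∈ W, v = u + w)
    {u0 w0 : V} (hu0 : u0 ∈ U) (hu0' : u0 ≠ 0) (hw0 : w0 ∈ W) (hw0' : w0 ≠ 0) : Semireg ρ := by
  have key : ∀ u ∈ U, u ≠ 0 → ∀ w ∈ W, w ≠ 0 → stab ρ u = stab ρ w := by
    intro u hu hu' w hw hw'
    have huw : u + w ≠ 0 := fun h => hu' (hd u hu (by
      rw [eq_neg_of_add_eq_zero_left h]; exact W.neg_mem hw))
    have hsplit : ∀ g ∈ stab ρ (u + w), ρ g u = u ∧ ρ g w = w := by
      intro g hg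
      have h : ρ g u + ρ g w = u + w := by rw [← map_add]; exact hg
      have h1 : ρ g u - u = w - ρ g w := by
        rw [sub_eq_sub_iff_add_eq_add, h, add_comm]
      have h2 := hd _ (U.sub_mem (hU g u hu) hu) (h1 ▸ W.sub_mem hw (hW g w hw))
      exact ⟨sub_eq_zero.mp h2, (sub_eq_zero.mp (h1 ▸ h2)).symm⟩
    have e1 : stab ρ (u + w) = stab ρ u := Subgroup.eq_of_le_of_card_ge
      (fun g hg => (hsplit g hg).1) (hh u _ hu' huw).le
    have e2 : stab ρ (u + w) = stab ρ w := Subgroup.eq_of_le_of_card_ge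
      (fun g hg => (hsplit g hg).2) (hh w _ hw' huw).le
    rw [← e1, e2]
  have hbot : stab ρ u0 = ⊥ := by
    rw [eq_bot_iff]
    intro g hg
    refine Subgroup.mem_bot.mpr (eq_one_of_forall ρ hρ fun v => ?_)
    obtain ⟨u, hu, w, hw, rfl⟩ := hs v
    rw [map_add]
    congr 1
    · by_cases hu' : u = 0
      · rw [hu', map_zero]
      · show g ∈ stab ρ u
        rw [key u hu hu' w0 hw0 hw0', ← key u0 hu0 hu0' w0 hw0 hw0']; exact hg
    · by_cases hw' : w = 0
      · rw [hw', map_zero]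
      · show g ∈ stab ρ w
        rw [← key u0 hu0 hu0' w hw hw']; exact hg
  intro v hv g hg
  have : stab ρ v = ⊥ := Subgroup.card_eq_one.mp (by rw [hh v u0 hv hu0', hbot, Subgroup.card_bot])
  exact Subgroup.mem_bot.mp (this ▸ (mem_stab ρ).mpr hg)

/-- The orbit sum of `y`. -/
def T (p : ℕ) (y : G) (v : V) : V := ∑ j ∈ range p, ρ (y ^ j) v

theorem T_fixed {y : G} (hy : y ^ p = 1) (v : V) : ρ y (T ρ p y v) = T ρ p y v := by
  have h1 := Finset.sum_range_succ' (fun j => ρ (y ^ j) v) p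
  rw [Finset.sum_range_succ (fun j => ρ (y ^ j) v) p, hy, pow_zero] at h1
  rw [T, map_sum]
  simp only [← act_mul, ← pow_succ']
  exact (add_right_cancel h1).symm

theorem T_of_fixed {y : G} {v : V} (h : ρ y v = v) : T ρ p y v = p • v := by
  have : ∀ j : ℕ, ρ (y ^ j) v = v := fun j => (stab ρ v).pow_mem ((mem_stab ρ).mpr h) j
  simp only [T]
  rw [Finset.sum_congr rfl (fun j _ => this j), Finset.sum_const, card_range]

/-- Central elements of order `p` act without fixed points. -/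
theorem fpf_central (hρ : Function.Injective ρ) (hh : Half ρ) (hns : ¬ Semireg ρ) (hpq : p ≠ q)
    {z : G} (hz : z ∈ Subgroup.center G) (hzp : z ^ p = 1) (hz1 : z ≠ 1) {v : V}
    (hv : ρ z v = v) : v = 0 := by
  by_contra hv0
  have hcom : ∀ g : G, ∀ j : ℕ, ∀ w, ρ (z ^ j) (ρ g w) = ρ g (ρ (z ^ j) w) := fun g j w => by
    rw [← act_mul, ← act_mul, (Subgroup.mem_center_iff.mp (Subgroup.pow_mem _ hz j) g)]
  have hpu : (p : ZMod q) ≠ 0 := fun h0 => by
    rw [ZMod.natCast_eq_zero_iff] at h0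
    exact hpq ((Nat.prime_dvd_prime_iff_eq Fact.out hp.out).mp h0).symm
  let U : Submodule (ZMod q) V :=
    { carrier := {w | ρ z w = w}
      add_mem' := fun {a b} (ha : ρ z a = a) (hb : ρ z b = b) => by
        show ρ z (a + b) = a + b; rw [map_add, ha, hb]
      zero_mem' := map_zero _
      smul_mem' := fun c {a} (ha : ρ z a = a) => by show ρ z (c • a) = c • a; rw [map_smul, ha] }
  let W : Submodule (ZMod q) V :=
    { carrier := {w | T ρ p z w = 0}
      add_mem' := fun {a b} (ha : T ρ p z a = 0) (hb : T ρ p z b = 0) => by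
        show T ρ p z (a + b) = 0
        simp only [T, map_add, Finset.sum_add_distrib]
        exact (by rw [show (∑ x ∈ range p, ρ (z ^ x) a) = 0 from ha,
          show (∑ x ∈ range p, ρ (z ^ x) b) = 0 from hb, add_zero])
      zero_mem' := by show T ρ p z 0 = 0; simp [T]
      smul_mem' := fun c {a} (ha : T ρ p z a = 0) => by
        show T ρ p z (c • a) = 0
        simp only [T, map_smul, ← Finset.smul_sum]
        rw [show (∑ x ∈ range p, ρ (z ^ x) a) = 0 from ha, smul_zero] }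
  have hs : ∀ w, ∃ u ∈ U, ∃ w' ∈ W, w = u + w' := by
    intro w
    refine ⟨(p : ZMod q)⁻¹ • T ρ p z w, ?_, w - (p : ZMod q)⁻¹ • T ρ p z w, ?_, by abel⟩
    · show ρ z _ = _
      rw [map_smul, T_fixed ρ hzp]
    · show T ρ p z _ = 0
      have h2 : T ρ p z (T ρ p z w) = p • T ρ p z w := T_of_fixed ρ (T_fixed ρ hzp w)
      have h3 : T ρ p z (w - (p : ZMod q)⁻¹ • T ρ p z w) =
          T ρ p z w - (p : ZMod q)⁻¹ • T ρ p z (T ρ p z w) := by
        simp only [T, map_sub, map_smul, Finset.sum_sub_distrib, ← Finset.smul_sum]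
      rw [h3, h2, ← Nat.cast_smul_eq_nsmul (ZMod q), smul_smul, inv_mul_cancel₀ hpu, one_smul, sub_self]
  obtain ⟨w0, hw0⟩ : ∃ w, ρ z w ≠ w := by
    by_contra h
    push Not at h
    exact hz1 (eq_one_of_forall ρ hρ h)
  obtain ⟨u1, hu1, w1, hw1, e1⟩ := hs w0
  refine hns (semireg_of_split ρ hρ hh U W (fun g w (hw : ρ z w = w) => ?_)
    (fun g w (hw : T ρ p z w = 0) => ?_) (fun w (hwU : ρ z w = w) (hwW : T ρ p z w = 0) => ?_)
    hs (u0 := v) hv hv0 (w0 := w1) hw1 ?_)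
  · show ρ z (ρ g w) = ρ g w
    have := hcom g 1 w
    rwa [pow_one, hw] at this
  · show T ρ p z (ρ g w) = 0
    simp only [T, hcom g]
    rw [← map_sum, show (∑ x ∈ range p, ρ (z ^ x) w) = 0 from hw, map_zero]
  · exact nsmul_inj (q := q) hpq ((T_of_fixed ρ hwU).symm.trans hwW)
  · rintro rfl
    rw [add_zero] at e1
    exact hw0 (e1 ▸ hu1)

theorem eq_zpowers_of_cyclic {H : Type*} [Group H] [Finite H] [IsCyclic H] {n : ℕ} (hn : n.Prime)
    {a b : H} (ha : orderOf a = n) (hb : orderOf b = n) :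
    Subgroup.zpowers a = Subgroup.zpowers b := by
  classical
  haveI := Fintype.ofFinite H
  have key : ∀ c : H, orderOf c = n → (Subgroup.zpowers c : Set H) = {x : H | x ^ n = 1} := by
    intro c hc
    refine Set.eq_of_subset_of_ncard_le (fun x hx => ?_) ?_
    · obtain ⟨i, rfl⟩ := Subgroup.mem_zpowers_iff.mp hx
      show (c ^ i) ^ n = 1
      rw [← zpow_natCast, ← zpow_mul, mul_comm, zpow_mul, zpow_natCast, ← hc, pow_orderOf_eq_one,
        one_zpow]
    · rw [← Nat.card_coe_set_eq (Subgroup.zpowers c : Set H),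
        show Nat.card (Subgroup.zpowers c : Set H) = n from (Nat.card_zpowers c).trans hc,
        Set.ncard_eq_toFinset_card']
      rw [Set.toFinset_setOf]
      exact IsCyclic.card_pow_eq_one_le hn.pos
  exact SetLike.coe_injective ((key a ha).trans (key b hb).symm)

theorem cyclic_fpf (hG : IsPGroup p G) (hρ : Function.Injective ρ) (hh : Half ρ)
    (hns : ¬ Semireg ρ) (hpq : p ≠ q) (U : Subgroup G) [hUn : U.Normal] (hU : IsCyclic U) {g : G}
    (hg : g ∈ U) (hg1 : g ≠ 1) {v : V} (hv : ρ g v = v) : v = 0 := by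
  haveI : Nontrivial U := ⟨⟨g, hg⟩, 1, fun h => hg1 (congrArg Subtype.val h)⟩
  obtain ⟨z, hzU, hzc, hzo⟩ := SymplecticType.exists_central_of_normal hG U hUn
  obtain ⟨k, hk⟩ := IsPGroup.iff_orderOf.mp hG g
  cases k with
  | zero => exact absurd (orderOf_eq_one_iff.mp (by rw [hk, pow_zero])) hg1
  | succ k =>
    have hwo : orderOf (g ^ p ^ k) = p := by
      rw [orderOf_pow' g (pow_ne_zero _ hp.out.ne_zero), hk, Nat.gcd_eq_right ⟨p, pow_succ p k⟩,
        pow_succ, Nat.mul_div_cancel_left _ (pow_pos hp.out.pos k)]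
    have hwU : g ^ p ^ k ∈ U := U.pow_mem hg _
    have hZ : Subgroup.zpowers (⟨z, hzU⟩ : U) = Subgroup.zpowers (⟨g ^ p ^ k, hwU⟩ : U) := by
      exact eq_zpowers_of_cyclic hp.out (by rw [Subgroup.orderOf_mk]; exact hzo)
        (by rw [Subgroup.orderOf_mk]; exact hwo)
    have hzw : ρ z v = v := by
      obtain ⟨i, hi⟩ := Subgroup.mem_zpowers_iff.mp (hZ.le (Subgroup.mem_zpowers _))
      have hi' : (g ^ p ^ k) ^ i = z := congrArg Subtype.val hi
      rw [← mem_stab, ← hi']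
      exact Subgroup.zpow_mem _ (Subgroup.pow_mem _ ((mem_stab ρ).mpr hv) _) _
    exact fpf_central ρ hρ hh hns hpq hzc (by rw [← hzo, pow_orderOf_eq_one])
      (fun h => hp.out.ne_one (by rw [← hzo, h, orderOf_one])) hzw

omit hp in
theorem odd_quotient_sub (r : ℤ) (hr : Odd r) : ∀ i : ℕ, ∃ Q : ℤ, Odd Q ∧ r ^ (2 * i + 1) - 1 = (r - 1) * Q
  | 0 => ⟨1, odd_one, by ring⟩
  | i + 1 => by
    obtain ⟨Q, hQ, e⟩ := odd_quotient_sub r hr i
    exact ⟨r ^ 2 * Q + (r + 1), (hr.pow.mul hQ).add_even (hr.add_odd odd_one),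
      by linear_combination r ^ 2 * e⟩

omit hp in
theorem odd_quotient_add (r : ℤ) (hr : Odd r) : ∀ i : ℕ, ∃ Q : ℤ, Odd Q ∧ r ^ (2 * i + 1) + 1 = (r + 1) * Q
  | 0 => ⟨1, odd_one, by ring⟩
  | i + 1 => by
    obtain ⟨Q, hQ, e⟩ := odd_quotient_add r hr i
    exact ⟨r ^ 2 * Q + (-(r - 1)), (hr.pow.mul hQ).add_even (hr.sub_odd odd_one).neg,
      by linear_combination r ^ 2 * e⟩

omit hp in
theorem eq_one_of_odd_dvd {Q : ℤ} (hQ : Odd Q) {m : ℕ} (h : Q ∣ 2 ^ m) : Q = 1 ∨ Q = -1 := by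
  have h1 : IsCoprime Q 2 := by
    obtain ⟨t, rfl⟩ := hQ
    exact ⟨1, -t, by ring⟩
  exact Int.isUnit_iff.mp ((h1.pow_right (n := m)).isUnit_of_dvd' dvd_rfl h)

omit hp in
theorem pow_eq_two_pow_sub (hq : Odd q) {d m : ℕ} (hd : 1 ≤ d) (h : q ^ d + 1 = 2 ^ m) : d = 1 := by
  have hq1 : 1 < q := Nat.Prime.one_lt Fact.out
  rcases Nat.even_or_odd' d with ⟨i, rfl | rfl⟩
  · exfalso
    have h8 : (q ^ i) ^ 2 % 4 = 1 := by
      have := (hq.pow (n := i))
      obtain ⟨t, ht⟩ := this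
      rw [ht]; ring_nf; omega
    rw [← pow_mul, mul_comm] at h8
    have : 2 ≤ m := by
      by_contra hm
      have h2 : 2 ^ m ≤ 2 := by
        calc 2 ^ m ≤ 2 ^ 1 := Nat.pow_le_pow_right (by norm_num) (by omega)
          _ = 2 := rfl
      have : q ≤ q ^ (2 * i) := Nat.le_self_pow (by omega) q
      omega
    have h4 : 4 ∣ 2 ^ m := ⟨2 ^ (m - 2), by rw [show (4 : ℕ) = 2 ^ 2 from rfl, ← pow_add]; congr 1; omega⟩
    omega
  · obtain ⟨Q, hQ, e⟩ := odd_quotient_add (q : ℤ) (by exact_mod_cast hq) i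
    have e' : (q : ℤ) ^ (2 * i + 1) + 1 = 2 ^ m := by exact_mod_cast h
    rw [e'] at e
    rcases eq_one_of_odd_dvd hQ ⟨(q : ℤ) + 1, by rw [e]; ring⟩ with rfl | rfl
    · have h2 : (q : ℤ) ^ (2 * i + 1) = (q : ℤ) ^ 1 := by rw [pow_one]; linarith
      have h3 : q ^ (2 * i + 1) = q ^ 1 := by exact_mod_cast h2
      exact Nat.pow_right_injective hq1 h3
    · have : (0 : ℤ) < 2 ^ m := by positivity
      have : (0 : ℤ) ≤ q := by positivity
      linarith

omit hp in
theorem pow_eq_two_pow_add (hq : Odd q) {d m : ℕ} (hd : 1 ≤ d) (h : q ^ d = 2 ^ m + 1) :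
    d = 1 ∨ (q = 3 ∧ d = 2) := by
  have hq1 : 1 < q := Nat.Prime.one_lt Fact.out
  rcases Nat.even_or_odd' d with ⟨i, rfl | rfl⟩
  · right
    have hx : 2 ≤ q ^ i := le_trans hq1 (Nat.le_self_pow (by omega) q)
    have hmul : (q ^ i - 1) * (q ^ i + 1) = 2 ^ m := by
      rw [mul_comm 2 i, pow_mul] at h
      obtain ⟨y, hy⟩ : ∃ y, q ^ i = y + 1 := ⟨q ^ i - 1, by omega⟩
      rw [hy] at h ⊢
      simp only [Nat.add_sub_cancel]
      nlinarith
    obtain ⟨a, -, ha⟩ := (Nat.dvd_prime_pow Nat.prime_two).mp ⟨_, hmul.symm⟩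
    obtain ⟨b, -, hb⟩ := (Nat.dvd_prime_pow Nat.prime_two).mp ⟨q ^ i - 1, by rw [← hmul, mul_comm]⟩
    have h3 : q ^ i = 3 := by
      by_cases ha2 : 2 ≤ a
      · have h1 : 4 ∣ 2 ^ a := ⟨2 ^ (a - 2), by rw [show (4 : ℕ) = 2 ^ 2 from rfl, ← pow_add]; congr 1; omega⟩
        have h2 : 4 ∣ 2 ^ b := ⟨2 ^ (b - 2), by
          rw [show (4 : ℕ) = 2 ^ 2 from rfl, ← pow_add]; congr 1
          have : a < b := (Nat.pow_lt_pow_iff_right (by norm_num)).mp (by omega : 2 ^ a < 2 ^ b)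
          omega⟩
        omega
      · interval_cases a
        · norm_num at ha
          have ho : Odd (q ^ i) := hq.pow
          rw [show q ^ i = 2 by omega] at ho
          exact absurd ho (by decide)
        · omega
    have hi1 : i = 1 := ((Nat.Prime.pow_eq_iff Nat.prime_three).mp h3).2
    subst hi1
    exact ⟨by simpa using h3, rfl⟩
  · left
    obtain ⟨Q, hQ, e⟩ := odd_quotient_sub (q : ℤ) (by exact_mod_cast hq) i
    have e' : (q : ℤ) ^ (2 * i + 1) = 2 ^ m + 1 := by exact_mod_cast h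
    rw [e', add_sub_cancel_right] at e
    have hq' : (1 : ℤ) < q := by exact_mod_cast hq1
    rcases eq_one_of_odd_dvd hQ ⟨(q : ℤ) - 1, by rw [e]; ring⟩ with rfl | rfl
    · have h2 : (q : ℤ) ^ (2 * i + 1) = (q : ℤ) ^ 1 := by rw [pow_one]; linarith
      have h3 : q ^ (2 * i + 1) = q ^ 1 := by exact_mod_cast h2
      exact Nat.pow_right_injective hq1 h3
    · have : (0 : ℤ) < 2 ^ m := by positivity
      linarith

omit hp in
theorem card_eq_pow [Nontrivial V] : ∃ d : ℕ, 1 ≤ d ∧ Nat.card V = q ^ d :=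
  ⟨Module.finrank (ZMod q) V, Module.finrank_pos, by
    rw [Module.natCard_eq_pow_finrank (K := ZMod q), Nat.card_zmod]⟩

/-- The data of a normal `C_p × C_p` containing the central element `z`. -/
structure Frame (p : ℕ) (x z : G) : Prop where
  zc : z ∈ Subgroup.center G
  zp : z ^ p = 1
  z1 : z ≠ 1
  xp : x ^ p = 1
  xz : x ∉ Subgroup.zpowers z
  comm : ∀ g : G, g * x * g⁻¹ * x⁻¹ ∈ Subgroup.zpowers z

section Imprimitive

variable {x z : G}

theorem zpow_z_fix_eq_zero (hρ : Function.Injective ρ) (hh : Half ρ) (hns : ¬ Semireg ρ)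
    (hpq : p ≠ q) (hf : Frame p x z) {i k : ℕ} (hi : i < p) (hk : k < p) (hik : i ≠ k) {v : V}
    (h1 : ρ (x * z ^ i) v = v) (h2 : ρ (x * z ^ k) v = v) : v = 0 := by
  have h3 : (x * z ^ i)⁻¹ * (x * z ^ k) ∈ stab ρ v :=
    mul_mem (inv_mem ((mem_stab ρ).mpr h1)) ((mem_stab ρ).mpr h2)
  rw [mul_inv_rev, mul_assoc, inv_mul_cancel_left, ← zpow_natCast, ← zpow_natCast, ← zpow_neg,
    ← zpow_add] at h3
  refine fpf_central ρ hρ hh hns hpq (Subgroup.zpow_mem _ hf.zc _) ?_ ?_ h3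
  · rw [← zpow_natCast, ← zpow_mul, mul_comm, zpow_mul, zpow_natCast, hf.zp, one_zpow]
  · intro h
    rw [← orderOf_dvd_iff_zpow_eq_one, orderOf_eq_prime hf.zp hf.z1] at h
    obtain ⟨c, hc⟩ := h
    have hb : -(p : ℤ) < (p : ℤ) * c ∧ (p : ℤ) * c < p := by constructor <;> omega
    have hpp : (0 : ℤ) < p := by exact_mod_cast hp.out.pos
    have : c = 0 := by
      have h5 : -1 < c := by nlinarith
      have h6 : c < 1 := by nlinarith
      omega
    subst this
    omega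

theorem sum_T (hρ : Function.Injective ρ) (hh : Half ρ) (hns : ¬ Semireg ρ) (hpq : p ≠ q)
    (hf : Frame p x z) (v : V) : ∑ i ∈ range p, T ρ p (x * z ^ i) v = p • v := by
  have hcx : Commute x z := Subgroup.mem_center_iff.mp hf.zc x
  calc ∑ i ∈ range p, T ρ p (x * z ^ i) v
      = ∑ j ∈ range p, ∑ i ∈ range p, ρ ((x * z ^ i) ^ j) v := by
        simp only [T]; exact Finset.sum_comm
    _ = ∑ j ∈ range p, ρ (x ^ j) (T ρ p (z ^ j) v) := by
        refine Finset.sum_congr rfl fun j _ => ?_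
        rw [T, map_sum]
        refine Finset.sum_congr rfl fun i _ => ?_
        rw [← act_mul, (hcx.pow_right i).mul_pow, ← pow_mul, ← pow_mul, mul_comm i j]
    _ = ρ (x ^ 0) (T ρ p (z ^ 0) v) := by
        refine Finset.sum_eq_single_of_mem 0 (mem_range.mpr hp.out.pos) fun j hj hj0 => ?_
        rw [show T ρ p (z ^ j) v = 0 from ?_, map_zero]
        refine fpf_central ρ hρ hh hns hpq (Subgroup.pow_mem _ hf.zc j) (z := z ^ j) ?_ ?_
          (T_fixed ρ ?_ v)
        · rw [← pow_mul, mul_comm, pow_mul, hf.zp, one_pow]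
        · intro h
          rw [← orderOf_dvd_iff_pow_eq_one, orderOf_eq_prime hf.zp hf.z1] at h
          exact absurd (Nat.le_of_dvd (Nat.pos_of_ne_zero hj0) h) (not_le.mpr (mem_range.mp hj))
        · rw [← pow_mul, mul_comm, pow_mul, hf.zp, one_pow]
    _ = p • v := by
        rw [pow_zero, pow_zero, act_one, T_of_fixed ρ (act_one ρ v)]

theorem y_pow (hf : Frame p x z) (i : ℕ) : (x * z ^ i) ^ p = 1 := by
  rw [((show Commute x z from Subgroup.mem_center_iff.mp hf.zc x).pow_right i).mul_pow, hf.xp,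
    ← pow_mul, mul_comm i, pow_mul, hf.zp, one_pow, mul_one]

theorem T_other (hρ : Function.Injective ρ) (hh : Half ρ) (hns : ¬ Semireg ρ) (hpq : p ≠ q)
    (hf : Frame p x z) {i k : ℕ} (hi : i < p) (hk : k < p) (hik : i ≠ k) {a : V}
    (ha : ρ (x * z ^ i) a = a) : T ρ p (x * z ^ k) a = 0 := by
  refine zpow_z_fix_eq_zero ρ hρ hh hns hpq hf hi hk hik ?_ (T_fixed ρ (y_pow hf k) a)
  have hc : Commute (x * z ^ i) (x * z ^ k) := by
    have h1 : ∀ n : ℕ, z ^ n ∈ Subgroup.center G := fun n => Subgroup.pow_mem _ hf.zc n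
    exact Commute.mul_left ((Commute.refl x).mul_right (Subgroup.mem_center_iff.mp (h1 k) x))
      (Commute.symm (Subgroup.mem_center_iff.mp (h1 i) _))
  simp only [T, map_sum]
  refine Finset.sum_congr rfl fun j _ => ?_
  rw [← act_mul, (hc.pow_right j).eq, act_mul, ha]

theorem conj_y (hf : Frame p x z) (g : G) {i : ℕ} :
    ∃ k, k < p ∧ g * (x * z ^ i) * g⁻¹ = x * z ^ k := by
  obtain ⟨d, hd⟩ := Subgroup.mem_zpowers_iff.mp (hf.comm g)
  have hpp : (p : ℤ) ≠ 0 := by exact_mod_cast hp.out.ne_zero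
  refine ⟨((d + i) % p).toNat, ?_, ?_⟩
  · have h1 := Int.emod_nonneg (d + i) hpp
    have h2 := Int.emod_lt_of_pos (d + i) (show (0 : ℤ) < p by exact_mod_cast hp.out.pos)
    omega
  · have e : z ^ ((d + i) % p).toNat = z ^ (d + i) := by
      rw [← zpow_natCast z, Int.toNat_of_nonneg (Int.emod_nonneg _ hpp)]
      conv_rhs => rw [← zpow_mod_orderOf, orderOf_eq_prime hf.zp hf.z1]
    have hzi : z ^ i ∈ Subgroup.center G := Subgroup.pow_mem _ hf.zc i
    have hzd : z ^ d ∈ Subgroup.center G := Subgroup.zpow_mem _ hf.zc d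
    rw [e, zpow_add, zpow_natCast, ← mul_assoc x, Subgroup.mem_center_iff.mp hzd x, hd,
      inv_mul_cancel_right, ← mul_assoc g x, mul_assoc (g * x), ← Subgroup.mem_center_iff.mp hzi g⁻¹,
      ← mul_assoc]

theorem y_inj (hρ : Function.Injective ρ) (hf : Frame p x z) {i k : ℕ} (hi : i < p) (hk : k < p)
    (h : x * z ^ i = x * z ^ k) : i = k := by
  have := pow_inj_mod.mp (mul_left_cancel h)
  rwa [orderOf_eq_prime hf.zp hf.z1, Nat.mod_eq_of_lt hi, Nat.mod_eq_of_lt hk] at this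

theorem move (g : G) {i : ℕ} {k : ℕ} (hk : g * (x * z ^ i) * g⁻¹ = x * z ^ k) {a : V}
    (ha : ρ (x * z ^ i) a = a) : ρ (x * z ^ k) (ρ g a) = ρ g a := by
  rw [← hk, ← act_mul, inv_mul_cancel_right, act_mul, ha]

theorem comm_of_fix (hρ : Function.Injective ρ) (hh : Half ρ) (hns : ¬ Semireg ρ) (hpq : p ≠ q)
    (hf : Frame p x z) {i : ℕ} (hi : i < p) {a : V} (ha : ρ (x * z ^ i) a = a) (ha0 : a ≠ 0)
    {g : G} (hg : ρ (x * z ^ i) (ρ g a) = ρ g a) : g * x * g⁻¹ = x := by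
  obtain ⟨k, hk, hgk⟩ := conj_y hf g (i := i)
  have hik : k = i := by
    by_contra hne
    exact ha0 ((ρ g).map_eq_zero_iff.mp
      (zpow_z_fix_eq_zero ρ hρ hh hns hpq hf hk hi hne (move ρ g hgk ha) hg))
  subst hik
  have hzi : z ^ k ∈ Subgroup.center G := Subgroup.pow_mem _ hf.zc k
  rw [← mul_assoc g x, mul_assoc (g * x), ← Subgroup.mem_center_iff.mp hzi g⁻¹, ← mul_assoc] at hgk
  exact mul_right_cancel hgk

theorem pair (hρ : Function.Injective ρ) (hh : Half ρ) (hns : ¬ Semireg ρ) (hpq : p ≠ q)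
    (hf : Frame p x z) {i k : ℕ} (hi : i < p) (hk : k < p) (hik : i ≠ k) {a b : V}
    (ha : ρ (x * z ^ i) a = a) (hb : ρ (x * z ^ k) b = b) (ha0 : a ≠ 0) (hb0 : b ≠ 0) {g : G}
    (hg : ρ g (a + b) = a + b) : (ρ g a = a ∧ ρ g b = b) ∨ (ρ g a = b ∧ ρ g b = a) := by
  obtain ⟨i', hi', hgi⟩ := conj_y hf g (i := i)
  obtain ⟨k', hk', hgk⟩ := conj_y hf g (i := k)
  have hne : i' ≠ k' := fun e => by
    subst e
    exact hik (y_inj ρ hρ hf hi hk (mul_left_cancel (mul_right_cancel (hgi.trans hgk.symm))))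
  have hga := move ρ g hgi ha
  have hgb := move ρ g hgk hb
  have hTadd : ∀ j, ∀ u w : V, T ρ p (x * z ^ j) (u + w) = T ρ p (x * z ^ j) u + T ρ p (x * z ^ j) w :=
    fun j u w => by simp only [T, map_add, Finset.sum_add_distrib]
  rw [map_add] at hg
  have t : ∀ j, T ρ p (x * z ^ j) (ρ g a) + T ρ p (x * z ^ j) (ρ g b) =
      T ρ p (x * z ^ j) a + T ρ p (x * z ^ j) b := fun j => by rw [← hTadd, ← hTadd, hg]
  have hiin : i = i' ∨ i = k' := by
    by_contra h
    push Not at h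
    have h1 := t i
    rw [T_other ρ hρ hh hns hpq hf hi' hi (Ne.symm h.1) hga,
      T_other ρ hρ hh hns hpq hf hk' hi (Ne.symm h.2) hgb,
      T_other ρ hρ hh hns hpq hf hk hi (Ne.symm hik) hb, T_of_fixed ρ ha, add_zero, add_zero] at h1
    exact ha0 (nsmul_inj (q := q) hpq h1.symm)
  have cancel : ∀ {u w : V}, p • u = p • w → u = w := fun {u w} h => sub_eq_zero.mp
    (nsmul_inj (q := q) hpq (by rw [smul_sub, h, sub_self]))
  rcases hiin with rfl | rfl
  · have h1 := t i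
    rw [T_of_fixed ρ hga, T_other ρ hρ hh hns hpq hf hk' hi (Ne.symm hne) hgb,
      T_other ρ hρ hh hns hpq hf hk hi (Ne.symm hik) hb, T_of_fixed ρ ha, add_zero, add_zero] at h1
    have e := cancel h1
    rw [e, add_right_inj] at hg
    exact Or.inl ⟨e, hg⟩
  · have h1 := t i
    rw [T_other ρ hρ hh hns hpq hf hi' hi hne hga, T_of_fixed ρ hgb,
      T_other ρ hρ hh hns hpq hf hk hi (Ne.symm hik) hb, T_of_fixed ρ ha, add_zero, zero_add] at h1
    have e := cancel h1
    rw [e, add_comm a b, add_left_inj] at hg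
    exact Or.inr ⟨hg, e⟩

theorem exists_other (hρ : Function.Injective ρ) (hh : Half ρ) (hns : ¬ Semireg ρ) (hpq : p ≠ q)
    (hf : Frame p x z) {i : ℕ} (hi : i < p) :
    ∃ k, k < p ∧ k ≠ i ∧ ∃ b : V, b ≠ 0 ∧ ρ (x * z ^ k) b = b := by
  by_contra hc
  push Not at hc
  have hall : ∀ w : V, ρ (x * z ^ i) w = w := fun w => by
    have h1 := sum_T ρ hρ hh hns hpq hf w
    rw [Finset.sum_eq_single_of_mem i (mem_range.mpr hi) fun k hk hki => ?_] at h1
    · have h2 := T_fixed ρ (y_pow hf i) w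
      rw [h1, map_nsmul] at h2
      exact sub_eq_zero.mp (nsmul_inj (q := q) hpq (by rw [smul_sub, h2, sub_self]))
    · by_contra hne
      exact hc k (mem_range.mp hk) hki _ hne (T_fixed ρ (y_pow hf k) w)
  have := eq_one_of_forall ρ hρ hall
  rw [mul_eq_one_iff_eq_inv] at this
  exact hf.xz (this ▸ inv_mem (Subgroup.pow_mem _ (Subgroup.mem_zpowers z) i))

theorem false_of_const (hρ : Function.Injective ρ) (hh : Half ρ) (hns : ¬ Semireg ρ) (hpq : p ≠ q)
    (hf : Frame p x z) (K : Subgroup G)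
    (hK : ∀ i, i < p → ∀ a : V, a ≠ 0 → ρ (x * z ^ i) a = a → stab ρ a = K) : False := by
  have hKb : K = ⊥ := by
    rw [eq_bot_iff]
    intro g hg
    refine Subgroup.mem_bot.mpr (eq_one_of_forall ρ hρ fun v => ?_)
    refine sub_eq_zero.mp (nsmul_inj (q := q) hpq ?_)
    rw [smul_sub, ← map_nsmul, ← sum_T ρ hρ hh hns hpq hf v, map_sum, sub_eq_zero]
    refine Finset.sum_congr rfl fun i hi => ?_
    by_cases h0 : T ρ p (x * z ^ i) v = 0
    · rw [h0, map_zero]
    · exact (mem_stab ρ).mp (hK i (mem_range.mp hi) _ h0 (T_fixed ρ (y_pow hf i) v) ▸ hg)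
  refine hns fun v hv g hg => ?_
  obtain ⟨k, hk, -, b, hb, hbf⟩ := exists_other ρ hρ hh hns hpq hf hp.out.pos
  have : stab ρ v = ⊥ := Subgroup.card_eq_one.mp (by
    rw [hh v b hv hb, hK k hk b hb hbf, hKb, Subgroup.card_bot])
  exact Subgroup.mem_bot.mp (this ▸ (mem_stab ρ).mpr hg)

theorem p_eq_two (hG : IsPGroup p G) (hρ : Function.Injective ρ) (hh : Half ρ) (hns : ¬ Semireg ρ)
    (hpq : p ≠ q) (hf : Frame p x z) : p = 2 := by
  by_contra hp2
  have key : ∀ i k, i < p → k < p → i ≠ k → ∀ a b : V, a ≠ 0 → b ≠ 0 → ρ (x * z ^ i) a = a →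
      ρ (x * z ^ k) b = b → stab ρ a = stab ρ b := by
    intro i k hi hk hik a b ha hb haf hbf
    have hab : a + b ≠ 0 := fun h => ha (zpow_z_fix_eq_zero ρ hρ hh hns hpq hf hi hk hik haf (by
      rw [eq_neg_of_add_eq_zero_left h, map_neg, hbf]))
    have hs : ∀ g ∈ stab ρ (a + b), ρ g a = a ∧ ρ g b = b := by
      intro g hg
      rcases pair ρ hρ hh hns hpq hf hi hk hik haf hbf ha hb hg with h | ⟨h1, h2⟩
      · exact h
      exfalso
      have hg2 : (g * g) * x * (g * g)⁻¹ = x := comm_of_fix ρ hρ hh hns hpq hf hi haf ha (by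
        rw [show ρ (g * g) a = a by rw [act_mul, h1, h2]]; exact haf)
      have hgx : g * x * g⁻¹ = x := by
        obtain ⟨n, hn⟩ := IsPGroup.iff_orderOf.mp hG g
        have hc : g * g ∈ Subgroup.centralizer ({x} : Set G) := by
          rw [Subgroup.mem_centralizer_singleton_iff]; exact mul_inv_eq_iff_eq_mul.mp hg2
        have hodd : Odd (orderOf g) := hn ▸ (hp.out.odd_of_ne_two hp2).pow
        obtain ⟨t, ht⟩ := hodd
        have : g = (g * g) ^ (t + 1) := by
          rw [← sq, ← pow_mul, show 2 * (t + 1) = orderOf g + 1 by omega, pow_succ, pow_orderOf_eq_one,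
            one_mul]
        have hg' : g ∈ Subgroup.centralizer ({x} : Set G) := this ▸ pow_mem hc _
        rw [Subgroup.mem_centralizer_singleton_iff] at hg'
        rw [hg', mul_inv_cancel_right]
      have hga : ρ (x * z ^ i) b = b := by
        rw [← h1]
        refine move ρ g ?_ haf
        rw [← mul_assoc g x, mul_assoc (g * x),
          ← Subgroup.mem_center_iff.mp (Subgroup.pow_mem _ hf.zc i) g⁻¹, ← mul_assoc, hgx]
      exact hb (zpow_z_fix_eq_zero ρ hρ hh hns hpq hf hi hk hik hga hbf)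
    rw [← Subgroup.eq_of_le_of_card_ge (fun g hg => (hs g hg).1) (hh a _ ha hab).le,
      ← Subgroup.eq_of_le_of_card_ge (fun g hg => (hs g hg).2) (hh b _ hb hab).le]
  obtain ⟨i0, hi0, -, a0, ha0, ha0f⟩ := exists_other ρ hρ hh hns hpq hf hp.out.pos
  refine false_of_const ρ hρ hh hns hpq hf (stab ρ a0) fun i hi a ha haf => ?_
  by_cases hii : i = i0
  · subst hii
    obtain ⟨k, hk, hki, b, hb, hbf⟩ := exists_other ρ hρ hh hns hpq hf hi
    rw [key i k hi hk hki.symm a b ha hb haf hbf, key i k hi hk hki.symm a0 b ha0 hb ha0f hbf]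
  · exact key i i0 hi hi0 hii a a0 ha ha0 haf ha0f

end Imprimitive

/-- The monomial conclusion. -/
def Monomial : Prop :=
  Nat.card V = q ^ 2 ∧ (∃ m : ℕ, q = 2 ^ m + 1) ∧
    ∃ e : V ≃ₗ[ZMod q] (Fin 2 → ZMod q), ∀ f : (Fin 2 → ZMod q) ≃ₗ[ZMod q] (Fin 2 → ZMod q),
      (∃ g : G, f = e.symm.trans ((ρ g).trans e)) ↔
      ∃ a s : ZMod q, a ≠ 0 ∧ (s = 1 ∨ s = -1) ∧
        ((∀ v, f v = ![a * v 0, s * a⁻¹ * v 1]) ∨ (∀ v, f v = ![s * a⁻¹ * v 1, a * v 0]))

theorem imprimitive_two [Nontrivial V] (hG : IsPGroup p G) (hρ : Function.Injective ρ) (hh : Half ρ)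
    (hns : ¬ Semireg ρ) (hpq : p ≠ q) (hp2 : p = 2) {x z : G} (hf : Frame p x z) :
    Monomial ρ ∨ (Nat.card V = 81 ∧ q = 3) := by
  subst hp2
  have hqodd : Odd q := (Fact.out : q.Prime).odd_of_ne_two hpq.symm
  set y0 := x * z ^ 0 with hy0
  set y1 := x * z ^ 1 with hy1
  have h02 : 0 < 2 := by norm_num
  have h12 : 1 < 2 := by norm_num
  have hzero : ∀ {v : V}, ρ y0 v = v → ρ y1 v = v → v = 0 := fun {v} h1 h2 =>
    zpow_z_fix_eq_zero ρ hρ hh hns hpq hf h02 h12 (by norm_num) h1 h2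
  obtain ⟨a1, ha1, ha1f⟩ : ∃ a : V, a ≠ 0 ∧ ρ y0 a = a := by
    obtain ⟨k, hk, hk1, b, hb, hbf⟩ := exists_other ρ hρ hh hns hpq hf h12
    obtain rfl : k = 0 := by omega
    exact ⟨b, hb, hbf⟩
  -- an element interchanging the two components
  obtain ⟨g0, hg0, hg0'⟩ : ∃ g0 : G, g0 * y0 * g0⁻¹ = y1 ∧ g0 * y1 * g0⁻¹ = y0 := by
    have hxc : x ∉ Subgroup.center G := fun h => ha1 (fpf_central ρ hρ hh hns hpq
      (z := y0) (mul_mem h (Subgroup.pow_mem _ hf.zc 0)) (y_pow hf 0)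
      (fun e => hf.xz (by rw [hy0, pow_zero, mul_one] at e; exact e ▸ one_mem _)) ha1f)
    rw [Subgroup.mem_center_iff] at hxc
    push Not at hxc
    obtain ⟨g, hg⟩ := hxc
    obtain ⟨k, hk, hgk⟩ := conj_y hf g (i := 0)
    have hk1 : k = 1 := by
      by_contra hne
      obtain rfl : k = 0 := by omega
      simp only [pow_zero, mul_one] at hgk
      exact hg (mul_inv_eq_iff_eq_mul.mp hgk)
    subst hk1
    refine ⟨g, hgk, ?_⟩
    obtain ⟨k', hk', hgk'⟩ := conj_y hf g (i := 1)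
    have : k' ≠ 1 := fun e => by
      subst e
      exact absurd (y_inj ρ hρ hf h02 h12 (mul_left_cancel (mul_right_cancel (hgk.trans hgk'.symm))))
        (by norm_num)
    obtain rfl : k' = 0 := by omega
    exact hgk'
  let O : V → Prop := fun b => ∃ g, ρ g a1 = b
  have hpair : ∀ a b : V, a ≠ 0 → b ≠ 0 → ρ y0 a = a → ρ y1 b = b → (∀ g, ρ g a ≠ b) →
      stab ρ a = stab ρ b := by
    intro a b ha hb haf hbf hno
    have hab : a + b ≠ 0 := fun h => ha (hzero haf (by
      rw [eq_neg_of_add_eq_zero_left h, map_neg, hbf]))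
    have hs : ∀ g ∈ stab ρ (a + b), ρ g a = a ∧ ρ g b = b := fun g hg =>
      (pair ρ hρ hh hns hpq hf h02 h12 (by norm_num) haf hbf ha hb hg).resolve_right
        fun h => hno g h.1
    rw [← Subgroup.eq_of_le_of_card_ge (fun g hg => (hs g hg).1) (hh a _ ha hab).le,
      ← Subgroup.eq_of_le_of_card_ge (fun g hg => (hs g hg).2) (hh b _ hb hab).le]
  have hOmove : ∀ (g : G) (b : V), O (ρ g b) → O b := fun g b ⟨k, hk⟩ =>
    ⟨g⁻¹ * k, by rw [act_mul, hk, ← act_mul, inv_mul_cancel, act_one]⟩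
  have hne0 : ∀ (g : G) {b : V}, b ≠ 0 → ρ g b ≠ 0 := fun g b hb h =>
    hb ((ρ g).map_eq_zero_iff.mp h)
  have htrans : ∀ a : V, a ≠ 0 → ρ y0 a = a → O a := by
    by_contra hc
    push Not at hc
    obtain ⟨a2, ha2, ha2f, hna2⟩ := hc
    set b0 := ρ g0 a2 with hb0def
    set b1 := ρ g0 a1 with hb1def
    have hb0 : b0 ≠ 0 := hne0 g0 ha2
    have hb1 : b1 ≠ 0 := hne0 g0 ha1
    have hb0f : ρ y1 b0 = b0 := move ρ g0 hg0 ha2f
    have hb1f : ρ y1 b1 = b1 := move ρ g0 hg0 ha1f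
    have hOb0 : ¬ O b0 := fun h => hna2 (hOmove g0 a2 h)
    have hOb1 : O b1 := ⟨g0, rfl⟩
    have hV1 : ∀ b, b ≠ 0 → ρ y1 b = b → ¬ O b → stab ρ b = stab ρ a1 := fun b hb hbf hO =>
      (hpair a1 b ha1 hb ha1f hbf fun g e => hO ⟨g, e⟩).symm
    have hV0in : ∀ a, a ≠ 0 → ρ y0 a = a → O a → stab ρ a = stab ρ a1 := fun a ha haf hO => by
      rw [hpair a b0 ha hb0 haf hb0f fun g e => hna2 ?_]
      · exact hV1 b0 hb0 hb0f hOb0
      · obtain ⟨k, hk⟩ := hO
        exact hOmove g0 a2 ⟨g * k, by rw [act_mul, hk, e]⟩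
    have hV0out : ∀ a, a ≠ 0 → ρ y0 a = a → ¬ O a → stab ρ a = stab ρ b1 := fun a ha haf hO =>
      hpair a b1 ha hb1 haf hb1f fun g e => hO (hOmove g a (e ▸ hOb1))
    have h12 : stab ρ a2 = stab ρ b1 := hV0out a2 ha2 ha2f hna2
    have hK : stab ρ a1 = stab ρ a2 := by
      by_cases h0 : a1 + a2 = 0
      · rw [eq_neg_of_add_eq_zero_left h0]
        ext g
        simp only [mem_stab, map_neg, neg_inj]
      have hf12 : ρ y0 (a1 + a2) = a1 + a2 := by rw [map_add, ha1f, ha2f]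
      by_cases hO : O (a1 + a2)
      · refine Subgroup.eq_of_le_of_card_ge (fun g hg => ?_) (hh a2 a1 ha2 ha1).le
        have h : g ∈ stab ρ (a1 + a2) := (hV0in _ h0 hf12 hO).symm ▸ hg
        rw [mem_stab] at h hg ⊢
        rwa [map_add, hg, add_right_inj] at h
      · refine (Subgroup.eq_of_le_of_card_ge (fun g hg => ?_) (hh a1 a2 ha1 ha2).le).symm
        have h : g ∈ stab ρ (a1 + a2) := (hV0out _ h0 hf12 hO).symm ▸ h12 ▸ hg
        rw [mem_stab] at h hg ⊢
        rwa [map_add, hg, add_left_inj] at h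
    refine false_of_const ρ hρ hh hns hpq hf (stab ρ a1) fun i hi a ha haf => ?_
    interval_cases i
    · by_cases hO : O a
      · exact hV0in a ha haf hO
      · rw [hV0out a ha haf hO, ← h12, hK]
    · by_cases hO : O a
      · rw [← hpair a2 a ha2 ha ha2f haf fun g e => hna2 (hOmove g a2 (e ▸ hO)), hK]
      · exact hV1 a ha haf hO
  -- counting the components
  let H : Subgroup G := Subgroup.centralizer ({x} : Set G)
  have hHy : ∀ g ∈ H, g * y0 * g⁻¹ = y0 := fun g hg => by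
    have := Subgroup.mem_centralizer_singleton_iff.mp hg
    rw [hy0, pow_zero, mul_one, this, mul_inv_cancel_right]
  let V0 : Submodule (ZMod q) V :=
    { carrier := {w | ρ y0 w = w}
      add_mem' := fun {a b} (ha : ρ y0 a = a) (hb : ρ y0 b = b) => by
        show ρ y0 (a + b) = a + b; rw [map_add, ha, hb]
      zero_mem' := map_zero _
      smul_mem' := fun c {a} (ha : ρ y0 a = a) => by show ρ y0 (c • a) = c • a; rw [map_smul, ha] }
  have hV0 : ∃ k, Nat.card V0 = 2 ^ k + 1 := by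
    obtain ⟨k, hk⟩ := (hG.to_subgroup H).index (stab (ρ.comp H.subtype) a1)
    refine ⟨k, ?_⟩
    rw [← hk, ← card_orbit]
    have hset : {u : V | ∃ g : H, (ρ.comp H.subtype) g a1 = u} = (V0 : Set V) \ {0} := by
      ext u
      constructor
      · rintro ⟨g, rfl⟩
        exact ⟨move ρ (g : G) (hHy g g.2) ha1f, hne0 (g : G) ha1⟩
      · rintro ⟨hu : ρ y0 u = u, hu0⟩
        obtain ⟨g, hg⟩ := htrans u hu0 hu
        refine ⟨⟨g, ?_⟩, hg⟩
        rw [Subgroup.mem_centralizer_singleton_iff]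
        exact mul_inv_eq_iff_eq_mul.mp
          (comm_of_fix ρ hρ hh hns hpq hf h02 ha1f ha1 (by rw [hg]; exact hu))
    rw [hset, Nat.card_coe_set_eq, Set.ncard_diff_singleton_add_one V0.zero_mem (Set.toFinite _),
      ← Nat.card_coe_set_eq]
    rfl
  obtain ⟨k, hk⟩ := hV0
  haveI : Nontrivial V0 := ⟨⟨a1, ha1f⟩, 0, fun h => ha1 (congrArg Subtype.val h)⟩
  obtain ⟨d, hd, hdq⟩ := card_eq_pow (q := q) (V := V0)
  have hsq : Nat.card V = Nat.card V0 ^ 2 := by
    let φ : V0 × V0 → V := fun w => (w.1 : V) + ρ g0 (w.2 : V)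
    have hinj : Function.Injective φ := by
      rintro ⟨a, b⟩ ⟨a', b'⟩ h
      have h' : (a : V) - a' = ρ g0 ((b' : V) - b) := by
        rw [map_sub, sub_eq_sub_iff_add_eq_add, add_comm (ρ g0 (b' : V))]
        exact h
      have h0 : (a : V) - a' = 0 := hzero (V0.sub_mem a.2 a'.2)
        (h' ▸ move ρ g0 hg0 (V0.sub_mem b'.2 b.2))
      rw [h0] at h'
      exact Prod.ext (Subtype.ext (sub_eq_zero.mp h0))
        (Subtype.ext (sub_eq_zero.mp ((ρ g0).map_eq_zero_iff.mp h'.symm)).symm)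
    have hsurj : Function.Surjective φ := by
      intro v
      have h := sum_T ρ hρ hh hns hpq hf v
      rw [Finset.sum_range_succ, Finset.sum_range_one] at h
      have h2 : (2 : ZMod q) ≠ 0 := fun h0 => by
        rw [show (2 : ZMod q) = ((2 : ℕ) : ZMod q) by norm_num, ZMod.natCast_eq_zero_iff] at h0
        exact hpq ((Nat.prime_dvd_prime_iff_eq Fact.out Nat.prime_two).mp h0).symm
      have hu : ρ y1 ((2 : ZMod q)⁻¹ • T ρ 2 y1 v) = (2 : ZMod q)⁻¹ • T ρ 2 y1 v := by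
        rw [map_smul, T_fixed ρ (y_pow hf 1)]
      have hginv : g0⁻¹ * y1 * (g0⁻¹)⁻¹ = y0 := by rw [← hg0]; group
      refine ⟨(⟨(2 : ZMod q)⁻¹ • T ρ 2 y0 v, ?_⟩,
        ⟨ρ g0⁻¹ ((2 : ZMod q)⁻¹ • T ρ 2 y1 v), move ρ g0⁻¹ hginv hu⟩), ?_⟩
      · show ρ y0 _ = _
        rw [map_smul, T_fixed ρ (y_pow hf 0)]
      · show _ + ρ g0 (ρ g0⁻¹ _) = v
        rw [← act_mul, mul_inv_cancel, act_one, ← smul_add, h, ← Nat.cast_smul_eq_nsmul (ZMod q),
          smul_smul, Nat.cast_ofNat, inv_mul_cancel₀ h2, one_smul]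
    rw [sq, ← Nat.card_prod]
    exact (Nat.card_eq_of_bijective φ ⟨hinj, hsurj⟩).symm
  rcases pow_eq_two_pow_add hqodd hd (hdq.symm.trans hk) with rfl | ⟨rfl, rfl⟩
  swap
  · exact Or.inr ⟨by rw [hsq, hdq]; norm_num, rfl⟩
  left
  rw [pow_one] at hdq
  have hspan : ∀ a, ρ y0 a = a → ∃ c : ZMod q, a = c • a1 := by
    intro a ha
    have hb : Function.Bijective (fun c : ZMod q => (⟨c • a1, V0.smul_mem c ha1f⟩ : V0)) :=
      (Nat.bijective_iff_injective_and_card _).mpr
        ⟨fun c c' h => smul_left_injective (ZMod q) ha1 (congrArg Subtype.val h),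
          by rw [Nat.card_zmod, hdq]⟩
    obtain ⟨c, hc⟩ := hb.2 ⟨a, ha⟩
    exact ⟨c, (congrArg Subtype.val hc).symm⟩
  set b1 := ρ g0 a1 with hb1def
  have hb1f : ρ y1 b1 = b1 := move ρ g0 hg0 ha1f
  have hb1 : b1 ≠ 0 := hne0 g0 ha1
  have hspan1 : ∀ b, ρ y1 b = b → ∃ c : ZMod q, b = c • b1 := by
    intro b hb
    have hginv : g0⁻¹ * y1 * (g0⁻¹)⁻¹ = y0 := by rw [← hg0]; group
    obtain ⟨c, hc⟩ := hspan _ (move ρ g0⁻¹ hginv hb)
    refine ⟨c, ?_⟩
    rw [hb1def, ← map_smul, ← hc, ← act_mul, mul_inv_cancel, act_one]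
  have huniq : ∀ c c' : ZMod q, c • a1 + c' • b1 = 0 → c = 0 ∧ c' = 0 := by
    intro c c' h
    have h1 : c • a1 = -(c' • b1) := eq_neg_of_add_eq_zero_left h
    have h0 : c • a1 = 0 := hzero (by rw [map_smul, ha1f]) (by rw [h1, map_neg, map_smul, hb1f])
    rw [h0, zero_add] at h
    exact ⟨(smul_eq_zero.mp h0).resolve_right ha1, (smul_eq_zero.mp h).resolve_right hb1⟩
  let L : (Fin 2 → ZMod q) →ₗ[ZMod q] V :=
    { toFun := fun w => w 0 • a1 + w 1 • b1
      map_add' := fun u w => by simp only [Pi.add_apply, add_smul]; abel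
      map_smul' := fun c w => by simp [smul_smul, smul_add] }
  have hLinj : Function.Injective L := by
    rw [injective_iff_map_eq_zero]
    intro w hw
    obtain ⟨h0, h1⟩ := huniq _ _ hw
    funext i
    fin_cases i
    · exact h0
    · exact h1
  have hLb : Function.Bijective L := (Nat.bijective_iff_injective_and_card L).mpr
    ⟨hLinj, by rw [hsq, hdq, Nat.card_fun, Nat.card_zmod, Nat.card_fin]⟩
  let E := LinearEquiv.ofBijective L hLb
  -- every element is monomial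
  have hmon : ∀ g : G, (∃ α β : ZMod q, α ≠ 0 ∧ β ≠ 0 ∧ ρ g a1 = α • a1 ∧ ρ g b1 = β • b1) ∨
      (∃ γ δ : ZMod q, γ ≠ 0 ∧ δ ≠ 0 ∧ ρ g a1 = γ • b1 ∧ ρ g b1 = δ • a1) := by
    intro g
    obtain ⟨i, hi, hgi⟩ := conj_y hf g (i := 0)
    obtain ⟨j, hj, hgj⟩ := conj_y hf g (i := 1)
    have hne : i ≠ j := fun e => by
      subst e
      exact absurd (y_inj ρ hρ hf h02 h12 (mul_left_cancel (mul_right_cancel (hgi.trans hgj.symm))))
        (by norm_num)
    interval_cases i <;> interval_cases j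
    · exact absurd rfl hne
    · obtain ⟨α, hα⟩ := hspan _ (move ρ g hgi ha1f)
      obtain ⟨β, hβ⟩ := hspan1 _ (move ρ g hgj hb1f)
      exact Or.inl ⟨α, β, fun e => hne0 g ha1 (by rw [hα, e, zero_smul]),
        fun e => hne0 g hb1 (by rw [hβ, e, zero_smul]), hα, hβ⟩
    · obtain ⟨γ, hγ⟩ := hspan1 _ (move ρ g hgi ha1f)
      obtain ⟨δ, hδ⟩ := hspan _ (move ρ g hgj hb1f)
      exact Or.inr ⟨γ, δ, fun e => hne0 g ha1 (by rw [hγ, e, zero_smul]),
        fun e => hne0 g hb1 (by rw [hδ, e, zero_smul]), hγ, hδ⟩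
    · exact absurd rfl hne
  have hext : ∀ g g' : G, ρ g a1 = ρ g' a1 → ρ g b1 = ρ g' b1 → g = g' := by
    intro g g' h1 h2
    refine hρ (LinearEquiv.ext fun v => ?_)
    obtain ⟨w, rfl⟩ := hLb.2 v
    show ρ g (w 0 • a1 + w 1 • b1) = ρ g' (w 0 • a1 + w 1 • b1)
    simp only [map_add, map_smul, h1, h2]
  have hnt : stab ρ a1 ≠ ⊥ := fun hb => hns fun v hv g hg => by
    have : stab ρ v = ⊥ := Subgroup.card_eq_one.mp (by rw [hh v a1 hv ha1, hb, Subgroup.card_bot])
    exact Subgroup.mem_bot.mp (this ▸ (mem_stab ρ).mpr hg)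
  have hswap : ∀ t : ZMod q, t ≠ 0 → ∃ S : G, ρ S a1 = t • b1 ∧ ρ S b1 = t⁻¹ • a1 ∧
      ∀ g ∈ stab ρ (a1 + t • b1), g = 1 ∨ g = S := by
    intro t ht
    have htb : t • b1 ≠ 0 := smul_ne_zero ht hb1
    have hab : a1 + t • b1 ≠ 0 := fun h => one_ne_zero (huniq 1 t (by rwa [one_smul])).1
    have key : ∀ g ∈ stab ρ (a1 + t • b1), g = 1 ∨ (ρ g a1 = t • b1 ∧ ρ g b1 = t⁻¹ • a1) := by
      intro g hg
      rcases pair ρ hρ hh hns hpq hf h02 h12 (by norm_num) ha1f (by rw [map_smul, hb1f]) ha1 htb hg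
        with ⟨h1, h2⟩ | ⟨h1, h2⟩
      · left
        rw [map_smul] at h2
        exact hext g 1 (by rw [h1, act_one]) (by rw [act_one]; exact smul_right_injective V ht h2)
      · right
        refine ⟨h1, ?_⟩
        rw [map_smul] at h2
        rw [← h2, smul_smul, inv_mul_cancel₀ ht, one_smul]
    obtain ⟨S, hS, hS1⟩ : ∃ S ∈ stab ρ (a1 + t • b1), S ≠ 1 := by
      by_contra h
      push Not at h
      exact hnt (Subgroup.card_eq_one.mp (by
        rw [hh a1 _ ha1 hab, (Subgroup.eq_bot_iff_forall _).mpr h, Subgroup.card_bot]))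
    obtain ⟨e1, e2⟩ := (key S hS).resolve_left hS1
    exact ⟨S, e1, e2, fun g hg => (key g hg).imp_right fun h =>
      hext g S (h.1.trans e1.symm) (h.2.trans e2.symm)⟩
  choose S hSa hSb hSu using hswap
  obtain ⟨σ, hσ, hσ1⟩ := (Subgroup.bot_or_exists_ne_one _).resolve_left hnt
  have hσu : ∀ g ∈ stab ρ a1, g = 1 ∨ g = σ := by
    have h2 : Nat.card (stab ρ a1) ≤ 2 := by
      have hab : a1 + (1 : ZMod q) • b1 ≠ 0 := fun h => one_ne_zero (huniq 1 1 (by rwa [one_smul])).1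
      rw [hh a1 _ ha1 hab, ← SetLike.coe_sort_coe, Nat.card_coe_set_eq]
      refine (Set.ncard_le_ncard (t := {1, S 1 one_ne_zero}) (fun g hg => hSu 1 one_ne_zero g hg)
        (Set.toFinite _)).trans (Set.ncard_insert_le _ _ |>.trans ?_)
      rw [Set.ncard_singleton]
    intro g hg
    by_contra hne
    push Not at hne
    have h3 : ({1, σ, g} : Set G).ncard = 3 := Set.ncard_eq_three.mpr
      ⟨1, σ, g, hσ1.symm, hne.1.symm, hne.2.symm, rfl⟩
    have : ({1, σ, g} : Set G).ncard ≤ (stab ρ a1 : Set G).ncard :=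
      Set.ncard_le_ncard (by
        rintro u (rfl | rfl | rfl)
        · exact one_mem _
        · exact hσ
        · exact hg) (Set.toFinite _)
    rw [← Nat.card_coe_set_eq (stab ρ a1 : Set G)] at this
    have : (3 : ℕ) ≤ Nat.card (stab ρ a1) := h3 ▸ this
    omega
  obtain ⟨hσa, hσb⟩ : ρ σ a1 = a1 ∧ ρ σ b1 = -b1 := by
    refine ⟨hσ, ?_⟩
    rcases hmon σ with ⟨α, β, -, -, hα, hβ⟩ | ⟨γ, δ, hγ, -, hγ', -⟩
    · have hα1 : α = 1 := by
        have h := hσ
        rw [mem_stab, hα] at h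
        exact smul_left_injective (ZMod q) ha1 (h.trans (one_smul _ a1).symm)
      have hσ2 : σ * σ = 1 := (hσu _ (mul_mem hσ hσ)).resolve_right fun h => hσ1 (mul_eq_left.mp h)
      have h2 : (β * β) • b1 = (1 : ZMod q) • b1 := by
        rw [one_smul, mul_smul, ← hβ, ← map_smul, ← hβ, ← act_mul, hσ2, act_one]
      rcases mul_self_eq_one_iff.mp (smul_left_injective (ZMod q) hb1 h2) with rfl | rfl
      · refine absurd (hext σ 1 ?_ ?_) hσ1
        · rw [act_one]; exact hσ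
        · rw [act_one, hβ, one_smul]
      · rw [hβ, neg_one_smul]
    · refine absurd (huniq 1 (-γ) ?_).1 one_ne_zero
      rw [one_smul, neg_smul, ← hγ', (mem_stab ρ).mp hσ, add_neg_cancel]
  have hfwd : ∀ g : G, ∀ α β : ZMod q, α ≠ 0 → ρ g a1 = α • a1 → ρ g b1 = β • b1 →
      α * β = 1 ∨ α * β = -1 := by
    intro g α β hα h1 h2
    have hmem : S α hα * S 1 one_ne_zero * g ∈ stab ρ a1 := by
      rw [mem_stab, act_mul, act_mul, h1, map_smul, map_smul, hSa, one_smul, hSb, smul_smul,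
        mul_inv_cancel₀ hα, one_smul]
    have hb : ρ (S α hα * S 1 one_ne_zero * g) b1 = (α * β) • b1 := by
      rw [act_mul, act_mul, h2, map_smul, map_smul, hSb, inv_one, one_smul, hSa, smul_smul, mul_comm]
    rcases hσu _ hmem with e | e
    · rw [e, act_one] at hb
      exact Or.inl (smul_left_injective (ZMod q) hb1 (hb.symm.trans (one_smul _ b1).symm))
    · rw [e, hσb] at hb
      exact Or.inr (smul_left_injective (ZMod q) hb1 (hb.symm.trans (neg_one_smul _ b1).symm))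
  refine ⟨by rw [hsq, hdq], ⟨k, hdq ▸ hk⟩, E.symm, fun f => ?_⟩
  have hEf : ∀ w, E w = w 0 • a1 + w 1 • b1 := fun w => rfl
  have hcalc : ∀ (g : G) (w : Fin 2 → ZMod q), (E.trans ((ρ g).trans E.symm)) w =
      E.symm (w 0 • ρ g a1 + w 1 • ρ g b1) := fun g w => by
    show E.symm (ρ g (E w)) = _
    rw [hEf, map_add, map_smul, map_smul]
  constructor
  · rintro ⟨g, rfl⟩
    rcases hmon g with ⟨α, β, hα, -, h1, h2⟩ | ⟨γ, δ, hγ, -, h1, h2⟩
    · refine ⟨α, α * β, hα, hfwd g α β hα h1 h2, Or.inl fun v => ?_⟩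
      show (E.trans ((ρ g).trans E.symm)) v = _
      rw [hcalc, h1, h2, E.symm_apply_eq, hEf]
      simp only [Matrix.cons_val_zero, Matrix.cons_val_one, smul_smul]
      congr 2 <;> field_simp
    · have h3 : ρ (S 1 one_ne_zero * g) a1 = γ • a1 := by
        rw [act_mul, h1, map_smul, hSb, inv_one, one_smul]
      have h4 : ρ (S 1 one_ne_zero * g) b1 = δ • b1 := by
        rw [act_mul, h2, map_smul, hSa, one_smul]
      refine ⟨γ, γ * δ, hγ, hfwd _ γ δ hγ h3 h4, Or.inr fun v => ?_⟩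
      show (E.trans ((ρ g).trans E.symm)) v = _
      rw [hcalc, h1, h2, E.symm_apply_eq, hEf]
      simp only [Matrix.cons_val_zero, Matrix.cons_val_one, smul_smul]
      rw [add_comm]
      congr 2 <;> field_simp
  · rintro ⟨a, s, ha, hs, hf'⟩
    have hg : ∀ (g : G) (u w : V), ρ g a1 = u → ρ g b1 = w →
        (∀ v, E (f v) = v 0 • u + v 1 • w) → f = E.symm.symm.trans ((ρ g).trans E.symm) := by
      intro g u w h1 h2 h
      refine LinearEquiv.ext fun v => ?_
      show f v = (E.trans ((ρ g).trans E.symm)) v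
      rw [hcalc, h1, h2, ← h, E.symm_apply_apply]
    rcases hf' with hf' | hf' <;> rcases hs with rfl | rfl
    · refine ⟨S 1 one_ne_zero * S a ha, hg _ (a • a1) (a⁻¹ • b1) ?_ ?_ fun v => ?_⟩
      · rw [act_mul, hSa, map_smul, hSb, inv_one, one_smul]
      · rw [act_mul, hSb, map_smul, hSa, one_smul]
      · rw [hf', hEf]; simp [smul_smul, mul_comm]
    · refine ⟨S 1 one_ne_zero * S a ha * σ, hg _ (a • a1) (-(a⁻¹ • b1)) ?_ ?_ fun v => ?_⟩
      · rw [act_mul, hσa, act_mul, hSa, map_smul, hSb, inv_one, one_smul]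
      · rw [act_mul, hσb, act_mul, map_neg, hSb, map_neg, map_smul, hSa, one_smul]
      · rw [hf', hEf]; simp [smul_smul, mul_comm]
    · refine ⟨S a ha, hg _ (a • b1) (a⁻¹ • a1) (hSa a ha) (hSb a ha) fun v => ?_⟩
      rw [hf', hEf]; simp [smul_smul, mul_comm, add_comm]
    · refine ⟨S a ha * σ, hg _ (a • b1) (-(a⁻¹ • a1)) ?_ ?_ fun v => ?_⟩
      · rw [act_mul, hσa, hSa]
      · rw [act_mul, hσb, map_neg, hSb]
      · rw [hf', hEf]; simp [smul_smul, mul_comm, add_comm]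

/-- The dihedral or semidihedral conclusion. -/
def Reflection (V : Type*) (G : Type*) [Group G] (q : ℕ) : Prop :=
  Nat.card V = q ^ 2 ∧ ∃ m : ℕ, q = 2 ^ m - 1 ∧
    (Nonempty (G ≃* DihedralGroup (2 ^ m)) ∨ (Cfsg.IsQuasiDihedral G ∧ Nat.card G = 2 ^ (m + 2)))

theorem primitive_two [Nontrivial V] (hG : IsPGroup p G) (hρ : Function.Injective ρ) (hh : Half ρ)
    (hns : ¬ Semireg ρ) (hpq : p ≠ q) (hp2 : p = 2) (hna : ∃ x y : G, x * y ≠ y * x)
    (U : Subgroup G) (hU : IsCyclic U) (hUi : U.index = 2) : Reflection V G q := by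
  subst hp2
  have hqodd : Odd q := (Fact.out : q.Prime).odd_of_ne_two hpq.symm
  obtain ⟨n, hn⟩ := IsPGroup.iff_card.mp hG
  have hn3 : 3 ≤ n := by
    by_contra hlt
    obtain ⟨x, y, hxy⟩ := hna
    apply hxy
    interval_cases n
    · haveI := (Nat.card_eq_one_iff_unique.mp hn).1
      rw [Subsingleton.elim x y]
    · haveI : IsCyclic G := isCyclic_of_prime_card (p := 2) (by rw [hn]; rfl)
      exact (IsMulCommutative.is_comm (M := G)).comm x y
    · haveI := IsPGroup.isMulCommutative_of_card_eq_prime_sq (p := 2) hn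
      exact (IsMulCommutative.is_comm (M := G)).comm x y
  obtain ⟨a, b, hao, hb, hcases⟩ := classify_cyclic_maximal_two n hn3 hn U hU hUi hna
  obtain ⟨l, rfl⟩ : ∃ l, n = l + 3 := ⟨n - 3, by omega⟩
  simp only [show l + 3 - 1 = l + 2 by omega, show l + 3 - 2 = l + 1 by omega] at hao hcases
  set A := Subgroup.zpowers a with hAdef
  have hAc : Nat.card A = 2 ^ (l + 2) := by rw [Nat.card_zpowers, hao]
  have hAi : A.index = 2 := by
    have h := A.card_mul_index
    rw [hAc, hn, show (2 : ℕ) ^ (l + 3) = 2 ^ (l + 2) * 2 by ring] at h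
    exact Nat.eq_of_mul_eq_mul_left (by positivity) h
  haveI hAn : A.Normal := Subgroup.normal_of_index_eq_two hAi
  haveI hAcyc : IsCyclic A := Subgroup.isCyclic_zpowers a
  set z := a ^ 2 ^ (l + 1) with hzdef
  have hzo : orderOf z = 2 := by
    rw [hzdef, orderOf_pow' a (by positivity), hao, Nat.gcd_eq_right (pow_dvd_pow 2 (by omega)),
      Nat.pow_div (by omega) (by norm_num), show l + 2 - (l + 1) = 1 by omega, pow_one]
  have hzA : z ∈ A := Subgroup.pow_mem _ (Subgroup.mem_zpowers a) _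
  have hz1 : z ≠ 1 := fun h => by rw [h, orderOf_one] at hzo; omega
  haveI : Nontrivial A := ⟨⟨z, hzA⟩, 1, fun h => hz1 (congrArg Subtype.val h)⟩
  obtain ⟨z', hz'A, hz'c, hz'o⟩ := SymplecticType.exists_central_of_normal hG A hAn
  have huA : ∀ x ∈ A, orderOf x = 2 → x = z := by
    intro x hx hxo
    have e := eq_zpowers_of_cyclic (H := A) Nat.prime_two (a := ⟨x, hx⟩) (b := ⟨z, hzA⟩)
      (by rw [Subgroup.orderOf_mk, hxo]) (by rw [Subgroup.orderOf_mk, hzo])
    obtain ⟨i, hi⟩ := Subgroup.mem_zpowers_iff.mp (e.le (Subgroup.mem_zpowers _))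
    have hi' : z ^ i = x := congrArg Subtype.val hi
    rcases Int.even_or_odd' i with ⟨j, rfl | rfl⟩
    · rw [zpow_mul, zpow_two, ← sq, ← hzo, pow_orderOf_eq_one, one_zpow] at hi'
      rw [← hi', orderOf_one] at hxo; omega
    · rw [zpow_add, zpow_mul, zpow_two, ← sq, ← hzo, pow_orderOf_eq_one, one_zpow, one_mul, zpow_one] at hi'
      exact hi'.symm
  have hzc : z ∈ Subgroup.center G := huA z' hz'A hz'o ▸ hz'c
  have hzv : ∀ v, ρ z v = -v := fun v => by
    have h : ρ z (v + ρ z v) = v + ρ z v := by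
      rw [map_add, ← act_mul, ← sq, ← hzo, pow_orderOf_eq_one, act_one, add_comm]
    exact eq_neg_of_add_eq_zero_right
      (fpf_central ρ hρ hh hns hpq hzc (by rw [← hzo, pow_orderOf_eq_one]) hz1 h)
  have hfpfA : ∀ g ∈ A, g ≠ 1 → ∀ v, ρ g v = v → v = 0 := fun g hg hg1 v hv =>
    cyclic_fpf ρ hG hρ hh hns hpq A hAcyc hg hg1 hv
  have hnt : ∀ v : V, v ≠ 0 → stab ρ v ≠ ⊥ := fun v hv hb => hns fun w hw g hg => by
    have : stab ρ w = ⊥ := Subgroup.card_eq_one.mp (by rw [hh w v hw hv, hb, Subgroup.card_bot])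
    exact Subgroup.mem_bot.mp (this ▸ (mem_stab ρ).mpr hg)
  let R := {t : G // t ∉ A ∧ t * t = 1}
  have hRdef : ∀ v : V, v ≠ 0 → ∃! t : R, ρ (t : G) v = v := by
    intro v hv
    obtain ⟨g, hg, hg1⟩ := (Subgroup.bot_or_exists_ne_one _).resolve_left (hnt v hv)
    have hgA : ∀ g ∈ stab ρ v, g ≠ 1 → g ∉ A := fun g hg hg1 hgA => hv (hfpfA g hgA hg1 v hg)
    have hg2 : g * g = 1 := by
      by_contra h2
      exact hgA _ (mul_mem hg hg) h2 (Subgroup.mul_self_mem_of_index_two hAi g)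
    refine ⟨⟨g, hgA g hg hg1, hg2⟩, hg, ?_⟩
    rintro ⟨t, htA, ht2⟩ (ht : ρ t v = v)
    refine Subtype.ext ?_
    show t = g
    by_contra hne
    refine hgA (t * g) (mul_mem ((mem_stab ρ).mpr ht) hg) (fun e => hne ?_)
      ((Subgroup.mul_mem_iff_of_index_two hAi).mpr (iff_of_false htA (hgA g hg hg1)))
    rw [← mul_one t, ← hg2, ← mul_assoc, e, one_mul]
  -- all fixed spaces of the reflections have the same order
  have hFix : ∀ t : R, Nat.card {v : V // ρ (t : G) v = v} ^ 2 = Nat.card V := by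
    rintro ⟨t, htA, ht2⟩
    show Nat.card {v : V // ρ t v = v} ^ 2 = _
    let φ : A →* A := MonoidHom.mk' (fun x => ⟨x * (t * (x : G)⁻¹ * t⁻¹),
      A.mul_mem x.2 (hAn.conj_mem _ (A.inv_mem x.2) t)⟩) fun x y => Subtype.ext (by
        have hc : ∀ u ∈ A, ∀ w ∈ A, u * w = w * u := fun u hu w hw =>
          congrArg Subtype.val ((IsMulCommutative.is_comm (M := A)).comm ⟨u, hu⟩ ⟨w, hw⟩)
        show (x : G) * y * (t * ((x : G) * y)⁻¹ * t⁻¹) =
          x * (t * (x : G)⁻¹ * t⁻¹) * (y * (t * (y : G)⁻¹ * t⁻¹))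
        rw [mul_inv_rev, show t * ((y : G)⁻¹ * (x : G)⁻¹) * t⁻¹ =
          (t * (y : G)⁻¹ * t⁻¹) * (t * (x : G)⁻¹ * t⁻¹) by group,
          hc _ (hAn.conj_mem _ (A.inv_mem y.2) t) _ (hAn.conj_mem _ (A.inv_mem x.2) t),
          mul_assoc, ← mul_assoc (y : G),
          hc _ y.2 _ (hAn.conj_mem _ (A.inv_mem x.2) t)]
        simp only [mul_assoc])
    have hne : φ.range ≠ ⊥ := by
      intro h
      have hcomm : ∀ u ∈ A, t * u = u * t := by
        intro u hu
        have h1 : φ ⟨u, hu⟩ ∈ φ.range := ⟨_, rfl⟩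
        rw [h, Subgroup.mem_bot] at h1
        have h2 : u * (t * u⁻¹ * t⁻¹) = 1 := congrArg Subtype.val h1
        rw [← inv_eq_iff_mul_eq_one] at h2
        have h3 := congrArg (fun w => u * w * t) h2
        simp only [mul_inv_cancel, one_mul] at h3
        have h4 : t = u * (t * u⁻¹) := by nth_rewrite 1 [h3]; group
        calc t * u = u * (t * u⁻¹) * u := by rw [← h4]
          _ = u * t := by group
      obtain ⟨x, y, hxy⟩ := hna
      apply hxy
      have hcA : ∀ w : G, ∀ u ∈ A, w * u = u * w := by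
        intro w u hu
        by_cases hw : w ∈ A
        · exact congrArg Subtype.val ((IsMulCommutative.is_comm (M := A)).comm ⟨w, hw⟩ ⟨u, hu⟩)
        · have hwt : w * t ∈ A := (Subgroup.mul_mem_iff_of_index_two hAi).mpr (iff_of_false hw htA)
          have h5 : (w * t) * u = u * (w * t) :=
            congrArg Subtype.val ((IsMulCommutative.is_comm (M := A)).comm ⟨_, hwt⟩ ⟨u, hu⟩)
          rw [mul_assoc, hcomm u hu, ← mul_assoc, ← mul_assoc] at h5
          exact mul_right_cancel h5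
      by_cases hx : x ∈ A
      · exact (hcA y x hx).symm
      by_cases hy : y ∈ A
      · exact hcA x y hy
      have hxt : x * t ∈ A := (Subgroup.mul_mem_iff_of_index_two hAi).mpr (iff_of_false hx htA)
      have hyt : y * t ∈ A := (Subgroup.mul_mem_iff_of_index_two hAi).mpr (iff_of_false hy htA)
      have ex : x = x * t * t := by rw [mul_assoc, ht2, mul_one]
      have ey : y = y * t * t := by rw [mul_assoc, ht2, mul_one]
      have hcc := congrArg Subtype.val ((IsMulCommutative.is_comm (M := A)).comm ⟨_, hxt⟩ ⟨_, hyt⟩)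
      rw [ex, ey]
      calc x * t * t * (y * t * t) = x * t * (t * (y * t)) * t := by group
        _ = x * t * (y * t * t) * t := by rw [hcomm _ hyt]
        _ = (x * t) * (y * t) * (t * t) := by group
        _ = (y * t) * (x * t) * (t * t) := by rw [show (x * t) * (y * t) = (y * t) * (x * t) from hcc]
        _ = y * t * (x * t * t) * t := by group
        _ = y * t * (t * (x * t)) * t := by rw [hcomm _ hxt]
        _ = y * t * t * (x * t * t) := by group
    obtain ⟨w, ⟨x, hx⟩, hw1⟩ := (Subgroup.bot_or_exists_ne_one _).resolve_left hne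
    obtain ⟨j, hj⟩ := IsPGroup.iff_orderOf.mp hG (w : G)
    have hj0 : j ≠ 0 := fun h => hw1 (Subtype.ext (orderOf_eq_one_iff.mp (by rw [hj, h, pow_zero])))
    have hwz : orderOf ((w : G) ^ 2 ^ (j - 1)) = 2 := by
      rw [orderOf_pow' _ (by positivity), hj, Nat.gcd_eq_right (pow_dvd_pow 2 (by omega)),
        Nat.pow_div (by omega) (by norm_num), show j - (j - 1) = 1 by omega, pow_one]
    set u : A := x ^ 2 ^ (j - 1)
    have hu : (u : G) * (t * (u : G)⁻¹ * t⁻¹) = z := by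
      rw [← huA _ (A.pow_mem w.2 _) hwz, ← hx]
      have := congrArg Subtype.val (map_pow φ x (2 ^ (j - 1)))
      rw [Subgroup.coe_pow] at this
      exact this
    have hconj : (u : G) * t * (u : G)⁻¹ = z * t := by rw [← hu]; group
    have hconj' : (u : G)⁻¹ * (z * t) * (u : G)⁻¹⁻¹ = t := by rw [← hconj]; group
    have hzt : ∀ v, ρ (z * t) v = -(ρ t v) := fun v => by rw [act_mul, hzv]
    have hcard : Nat.card {v : V // ρ (z * t) v = v} = Nat.card {v : V // ρ t v = v} := by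
      refine Nat.card_congr (Equiv.subtypeEquiv (ρ (u : G)⁻¹).toEquiv fun v => ?_)
      show ρ (z * t) v = v ↔ ρ t (ρ (u : G)⁻¹ v) = ρ (u : G)⁻¹ v
      have e : ρ t (ρ (u : G)⁻¹ v) = ρ (u : G)⁻¹ (ρ (z * t) v) := by
        rw [← act_mul, ← act_mul]
        congr 2
        rw [← hconj]; group
      rw [e]
      exact (ρ (u : G)⁻¹).injective.eq_iff.symm
    have h2 : (2 : ZMod q) ≠ 0 := fun h0 => by
      rw [show (2 : ZMod q) = ((2 : ℕ) : ZMod q) by norm_num, ZMod.natCast_eq_zero_iff] at h0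
      exact hpq ((Nat.prime_dvd_prime_iff_eq Fact.out Nat.prime_two).mp h0).symm
    let ψ : {v : V // ρ t v = v} × {v : V // ρ (z * t) v = v} → V := fun w => (w.1 : V) + w.2
    have hψ : Function.Bijective ψ := by
      constructor
      · rintro ⟨⟨v, hv⟩, ⟨w, hw⟩⟩ ⟨⟨v', hv'⟩, ⟨w', hw'⟩⟩ (h : v + w = v' + w')
        rw [hzt] at hw hw'
        have h' := congrArg (ρ t) h
        rw [map_add, map_add, hv, hv', neg_eq_iff_eq_neg.mp hw, neg_eq_iff_eq_neg.mp hw'] at h'
        have hvv : (2 : ZMod q) • v = (2 : ZMod q) • v' := by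
          rw [two_smul, two_smul]
          linear_combination (norm := abel) h + h'
        have e := smul_right_injective V h2 hvv
        subst e
        obtain rfl := add_left_cancel h
        rfl
      · intro v
        refine ⟨(⟨(2 : ZMod q)⁻¹ • (v + ρ t v), ?_⟩, ⟨(2 : ZMod q)⁻¹ • (v - ρ t v), ?_⟩), ?_⟩
        · rw [map_smul, map_add, ← act_mul, ht2, act_one, add_comm]
        · rw [hzt, map_smul, map_sub, ← act_mul, ht2, act_one, ← smul_neg, neg_sub]
        · show _ + _ = v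
          rw [← smul_add, add_add_sub_cancel, ← two_smul (ZMod q) v, smul_smul, inv_mul_cancel₀ h2, one_smul]
    rw [← Nat.card_eq_of_bijective ψ hψ, Nat.card_prod, hcard, sq]
  have hR : ∃ N, 1 < N ∧ N ^ 2 = Nat.card V ∧ Nat.card R = N + 1 := by
    obtain ⟨v0, hv0⟩ := exists_ne (0 : V)
    obtain ⟨t0, ht0, -⟩ := hRdef v0 hv0
    set N := Nat.card {v : V // ρ (t0 : G) v = v} with hN
    have hN1 : 1 < N := Finite.one_lt_card_iff_nontrivial.mpr
      ⟨⟨v0, ht0⟩, ⟨0, map_zero _⟩, fun h => hv0 (congrArg Subtype.val h)⟩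
    refine ⟨N, hN1, hFix t0, ?_⟩
    haveI : Fintype R := Fintype.ofFinite R
    have hbij : Function.Bijective (fun w : (Σ t : R, {v : V // ρ (t : G) v = v ∧ v ≠ 0}) =>
        (⟨w.2.1, w.2.2.2⟩ : {v : V // v ≠ 0})) := by
      constructor
      · rintro ⟨t, v, hv, hv0⟩ ⟨t', v', hv', hv0'⟩ h
        obtain rfl : v = v' := congrArg Subtype.val h
        obtain rfl := (hRdef v hv0).unique hv hv'
        rfl
      · rintro ⟨v, hv⟩
        obtain ⟨t, ht, -⟩ := hRdef v hv
        exact ⟨⟨t, v, ht, hv⟩, rfl⟩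
    have h := Nat.card_eq_of_bijective _ hbij
    rw [Nat.card_sigma] at h
    have h1 : ∀ t : R, Nat.card {v : V // ρ (t : G) v = v ∧ v ≠ 0} + 1 = N := by
      intro t
      have e : Nat.card {v : V // ρ (t : G) v = v} = N :=
        Nat.pow_left_injective two_ne_zero ((hFix t).trans (hFix t0).symm)
      have h5 := Set.ncard_sdiff_singleton_add_one (s := {v : V | ρ (t : G) v = v}) (a := 0)
        (map_zero _) (Set.toFinite _)
      rw [← Nat.card_coe_set_eq, ← Nat.card_coe_set_eq] at h5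
      exact Eq.trans h5 e
    have h2 : Nat.card {v : V // v ≠ 0} + 1 = N ^ 2 := by
      rw [hFix t0]
      have h5 := Set.ncard_sdiff_singleton_add_one (s := (Set.univ : Set V))
        (a := 0) (Set.mem_univ _) (Set.toFinite _)
      rw [Set.ncard_univ, ← Nat.card_coe_set_eq] at h5
      rw [← h5]
      exact congrArg (· + 1) (Nat.card_congr (Equiv.subtypeEquivRight fun v => by simp))
    have h3 : ∀ t : R, Nat.card {v : V // ρ (t : G) v = v ∧ v ≠ 0} = N - 1 := fun t => by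
      have := h1 t; omega
    simp only [h3, Finset.sum_const, Finset.card_univ, smul_eq_mul] at h
    rw [← Nat.card_eq_fintype_card] at h
    rw [← h] at h2
    obtain ⟨M, hM⟩ : ∃ M, N = M + 1 := ⟨N - 1, by omega⟩
    rw [hM] at h2 hN1 ⊢
    simp only [Nat.add_sub_cancel] at h2
    nlinarith
  obtain ⟨N, hN1, hNV, hRN⟩ := hR
  obtain ⟨D, hD, hDq⟩ := card_eq_pow (q := q) (V := V)
  obtain ⟨d, -, hd⟩ := (Nat.dvd_prime_pow (Fact.out : q.Prime)).mp
    (hDq ▸ hNV ▸ (dvd_pow_self N two_ne_zero) : N ∣ q ^ D)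
  have hd1 : 1 ≤ d := Nat.pos_of_ne_zero fun h => by rw [h, pow_zero] at hd; omega
  -- the count of reflections
  have hsh : ∀ {c : G}, c ∉ A → ∀ t : G, t ∉ A → t * c⁻¹ ∈ A := fun hc t ht =>
    (Subgroup.mul_mem_iff_of_index_two hAi).mpr (iff_of_false ht fun h => hc (inv_mem_iff.mp h))
  have hsq : ∀ x : G, b ^ 2 = 1 → (x * b * (x * b) = 1 ↔ x * (b * x * b⁻¹) = 1) := fun x h2 => by
    have : x * b * (x * b) = x * (b * x * b⁻¹) * b ^ 2 := by group
    rw [this, h2, mul_one]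
  have hRK : b ^ 2 = 1 → Nat.card R = Nat.card {x : G // x ∈ A ∧ x * (b * x * b⁻¹) = 1} := fun h2 =>
    Nat.card_congr
      { toFun := fun t => ⟨t.1 * b⁻¹, hsh hb _ t.2.1, (hsq _ h2).mp (by
          rw [inv_mul_cancel_right]; exact t.2.2)⟩
        invFun := fun x => ⟨x.1 * b, fun h => hb ((Subgroup.mul_mem_cancel_left A x.2.1).mp h),
          (hsq _ h2).mpr x.2.2⟩
        left_inv := fun t => Subtype.ext (inv_mul_cancel_right _ _)
        right_inv := fun x => Subtype.ext (mul_inv_cancel_right _ _) }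
  have hcj : ∀ r : ℕ, b * a * b⁻¹ = a ^ r → ∀ i : ℤ,
      a ^ i * (b * a ^ i * b⁻¹) = 1 ↔ (2 : ℤ) ^ (l + 2) ∣ i + (r : ℤ) * i := by
    intro r hr i
    rw [conj_zpow_eq hr, ← zpow_add, ← orderOf_dvd_iff_zpow_eq_one, hao]
    push_cast
    rfl
  have hfin : ∀ m : ℕ, q ^ d + 1 = 2 ^ m → Nat.card V = q ^ 2 ∧ q = 2 ^ m - 1 := by
    intro m hm
    obtain rfl := pow_eq_two_pow_sub hqodd hd1 hm
    exact ⟨by rw [← hNV, hd, pow_one], by rw [pow_one] at hm; omega⟩
  rcases hcases with ⟨hb2, hba⟩ | ⟨hb2, hba⟩ | ⟨hl4, hb2, hba⟩ | ⟨hl4, hb2, hba⟩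
  · -- dihedral
    have hR2 : Nat.card R = 2 ^ (l + 2) := by
      rw [hRK hb2, ← hAc]
      refine Nat.card_congr (Equiv.subtypeEquivRight fun x => ⟨And.left, fun hx => ⟨hx, ?_⟩⟩)
      obtain ⟨i, rfl⟩ := Subgroup.mem_zpowers_iff.mp hx
      rw [← conj_zpow, hba, inv_zpow, mul_inv_cancel]
    obtain ⟨hV, hq⟩ := hfin (l + 2) (by rw [← hd, ← hRN, hR2])
    exact ⟨hV, l + 2, hq, Or.inl (Classification.mulEquiv_dihedralGroup_of_generators hao hba hb2 hb
      (by rw [hn]; ring))⟩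
  · -- quaternion
    exfalso
    haveI : IsEmpty R := ⟨fun ⟨t, htA, ht2⟩ => by
      obtain ⟨i, hi⟩ := Subgroup.mem_zpowers_iff.mp (hsh hb t htA)
      have e : t = a ^ i * b := by rw [hi, inv_mul_cancel_right]
      rw [e, show a ^ i * b * (a ^ i * b) = a ^ i * (b * a ^ i * b⁻¹) * b ^ 2 by group, ← conj_zpow,
        hba, inv_zpow, mul_inv_cancel, one_mul, hb2] at ht2
      exact hz1 ht2⟩
    rw [Nat.card_of_isEmpty] at hRN
    omega
  · -- modular
    exfalso
    have hle : Nat.card R ≤ 2 := by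
      rw [hRK hb2]
      have hsub : ∀ x : {x : G // x ∈ A ∧ x * (b * x * b⁻¹) = 1}, (x : G) ∈ Subgroup.zpowers z := by
        rintro ⟨x, hxA, hx⟩
        obtain ⟨i, rfl⟩ := Subgroup.mem_zpowers_iff.mp hxA
        rw [hcj _ hba] at hx
        push_cast at hx
        have h1 : (2 : ℤ) * 2 ^ (l + 1) ∣ 2 * ((1 + 2 ^ l) * i) := by
          rw [← pow_succ']
          exact (by ring : i + (1 + 2 ^ (l + 1)) * i = 2 * ((1 + 2 ^ l) * i)) ▸ hx
        have h2 : (2 : ℤ) ^ (l + 1) ∣ (1 + 2 ^ l) * i := (mul_dvd_mul_iff_left two_ne_zero).mp h1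
        have hcop : IsCoprime ((2 : ℤ) ^ (l + 1)) (1 + 2 ^ l) := by
          refine IsCoprime.pow_left ?_
          obtain ⟨e, rfl⟩ : ∃ e, l = e + 1 := ⟨l - 1, by omega⟩
          exact ⟨-2 ^ e, 1, by ring⟩
        obtain ⟨c, rfl⟩ := hcop.dvd_of_dvd_mul_left h2
        refine Subgroup.mem_zpowers_iff.mpr ⟨c, ?_⟩
        rw [hzdef, ← zpow_natCast, ← zpow_mul]
        push_cast
        rfl
      calc _ ≤ Nat.card (Subgroup.zpowers z) :=
            Nat.card_le_card_of_injective (fun x => ⟨x.1, hsub x⟩) fun x y h => Subtype.ext (by simpa using h)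
        _ = 2 := by rw [Nat.card_zpowers, hzo]
    omega
  · -- semidihedral
    obtain ⟨e, rfl⟩ : ∃ e, l = e + 1 := ⟨l - 1, by omega⟩
    have hr : ((2 ^ (e + 2) - 1 : ℕ) : ℤ) = 2 ^ (e + 2) - 1 := by
      rw [Nat.cast_sub Nat.one_le_two_pow]; push_cast; ring
    have hR2 : Nat.card R = 2 ^ (e + 2) := by
      rw [hRK hb2, show Nat.card {x : G // x ∈ A ∧ x * (b * x * b⁻¹) = 1} =
        Nat.card (Subgroup.zpowers (a ^ 2)) from Nat.card_congr (Equiv.subtypeEquivRight fun x => ?_),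
        Nat.card_zpowers, orderOf_pow' a two_ne_zero, hao, Nat.gcd_eq_right (dvd_pow_self 2 (by omega)),
        show (2 : ℕ) ^ (e + 1 + 2) = 2 ^ (e + 2) * 2 by ring, Nat.mul_div_cancel _ two_pos]
      constructor
      · rintro ⟨hxA, hx⟩
        obtain ⟨i, rfl⟩ := Subgroup.mem_zpowers_iff.mp hxA
        rw [hcj _ hba, show (e + 1 + 1 : ℕ) = e + 2 from rfl, hr,
          show i + (2 ^ (e + 2) - 1) * i = 2 ^ (e + 2) * i by ring,
          show (2 : ℤ) ^ (e + 1 + 2) = 2 ^ (e + 2) * 2 by ring] at hx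
        obtain ⟨c, rfl⟩ := (mul_dvd_mul_iff_left (by positivity)).mp hx
        exact Subgroup.mem_zpowers_iff.mpr ⟨c, by rw [← zpow_natCast, ← zpow_mul]; rfl⟩
      · intro hx
        obtain ⟨c, rfl⟩ := Subgroup.mem_zpowers_iff.mp hx
        refine ⟨Subgroup.zpow_mem _ (Subgroup.pow_mem _ (Subgroup.mem_zpowers a) 2) c, ?_⟩
        rw [← zpow_natCast, ← zpow_mul, hcj _ hba, show (e + 1 + 1 : ℕ) = e + 2 from rfl, hr]
        exact ⟨c, by push_cast; ring⟩
    obtain ⟨hV, hq⟩ := hfin (e + 2) (by rw [← hd, ← hRN, hR2])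
    refine ⟨hV, e + 2, hq, Or.inr ⟨⟨e + 3, by omega, by rw [hn], a, b, hao, orderOf_eq_prime hb2 fun h =>
      hb (h ▸ one_mem _), hba⟩, by rw [hn]⟩⟩

theorem main [Nontrivial V] (hG : IsPGroup p G) (hρ : Function.Injective ρ) (hh : Half ρ) :
    Semireg ρ ∨ Reflection V G q ∨ Monomial ρ ∨ (Nat.card V = 81 ∧ q = 3 ∧ p = 2) := by
  by_cases hns : Semireg ρ
  · exact Or.inl hns
  have hpq : p ≠ q := fun e => hns (semireg_of_eq ρ hG hρ hh e)
  by_cases hcyc : ∀ B : Subgroup G, B.Normal → IsMulCommutative B → IsCyclic B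
  · obtain ⟨U, hUn, hUc, hCU⟩ := Classification.exists_normal_abelian_selfCentralizing hG
    have hU := hcyc U hUn hUc
    by_cases hna : ∃ x y : G, x * y ≠ y * x
    · obtain ⟨n, hn⟩ := IsPGroup.iff_card.mp (hG.to_subgroup U)
      have hna' : ¬ IsMulCommutative G := fun h => by
        obtain ⟨x, y, hxy⟩ := hna; exact hxy (h.is_comm.comm x y)
      rcases CyclicNormal.main hG hna' U hU n hn hCU with ⟨hp2, hcard, -⟩ | ⟨-, hel, hc, hch⟩
      · refine Or.inr (Or.inl (primitive_two ρ hG hρ hh hns hpq hp2 hna U hU ?_))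
        have h := U.card_mul_index
        rw [hcard, hn, hp2, pow_succ] at h
        exact Nat.eq_of_mul_eq_mul_left (by positivity) h
      · exfalso
        haveI := hch
        haveI := hcyc _ inferInstance hel.1
        set E := Cfsg.omegaOne p (Subgroup.centralizer (Cfsg.powerClosure p 1 U : Set G))
        obtain ⟨g, hg⟩ := IsCyclic.exists_ofOrder_eq_natCard (α := E)
        have : orderOf g ≤ p := orderOf_le_of_pow_eq_one hp.out.pos (Subtype.ext (hel.2 g g.2))
        rw [hg, hc] at this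
        nlinarith [hp.out.two_le]
    · exfalso
      push Not at hna
      have hUt : U = ⊤ := by
        rw [← hCU, eq_top_iff]
        exact fun g _ => Subgroup.mem_centralizer_iff.mpr fun u _ => hna u g
      refine hns fun v hv g hg => by_contra fun hg1 => hv ?_
      exact cyclic_fpf ρ hG hρ hh hns hpq U hU (hUt ▸ Subgroup.mem_top g) hg1 hg
  · push Not at hcyc
    obtain ⟨B, hBn, hBc, hB⟩ := hcyc
    haveI : Nontrivial B := by
      by_contra h
      rw [not_nontrivial_iff_subsingleton] at h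
      exact hB inferInstance
    obtain ⟨z, hzB, hzc, hzo⟩ := SymplecticType.exists_central_of_normal hG B hBn
    have hzp : z ^ p = 1 := by rw [← hzo, pow_orderOf_eq_one]
    have hz1 : z ≠ 1 := fun h => hp.out.ne_one (by rw [← hzo, h, orderOf_one])
    let E : Subgroup G :=
      { carrier := {e | e ∈ B ∧ e ^ p = 1}
        mul_mem' := fun {u w} hu hw => ⟨mul_mem hu.1 hw.1, by
          have : Commute u w := congrArg Subtype.val (hBc.is_comm.comm ⟨u, hu.1⟩ ⟨w, hw.1⟩)
          rw [this.mul_pow, hu.2, hw.2, one_mul]⟩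
        one_mem' := ⟨one_mem _, one_pow _⟩
        inv_mem' := fun {u} hu => ⟨inv_mem hu.1, by rw [inv_pow, hu.2, inv_one]⟩ }
    haveI hEn : E.Normal := ⟨fun e he g => ⟨hBn.conj_mem e he.1 g, by
      rw [conj_pow, he.2, mul_one, mul_inv_cancel]⟩⟩
    haveI : (Subgroup.zpowers z).Normal := ⟨fun e he g => by
      have : e ∈ Subgroup.center G := Subgroup.zpowers_le.mpr hzc he
      rw [Subgroup.mem_center_iff.mp this g, mul_inv_cancel_right]; exact he⟩
    have hEne : ¬ E ≤ Subgroup.zpowers z := by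
      intro hle
      classical
      refine hB (Cfsg.Agent.Lib.Frobenius.isCyclic_of_commute_of_prime_roots
        (fun u w => hBc.is_comm.comm u w) fun r hr => ?_)
      by_cases hrp : r = p
      · subst hrp
        calc Nat.card {u : B // u ^ r = 1} ≤ Nat.card (Subgroup.zpowers z) := by
              refine Nat.card_le_card_of_injective (fun u => ⟨(u.1 : G), hle ⟨u.1.2, ?_⟩⟩)
                (fun u w h => Subtype.ext (Subtype.ext (by simpa using h)))
              rw [← Subgroup.coe_pow, u.2]; rfl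
          _ = r := by rw [Nat.card_zpowers, hzo]
      · haveI : Subsingleton {u : B // u ^ r = 1} := by
          refine ⟨fun u w => ?_⟩
          have h1 : ∀ u : {u : B // u ^ r = 1}, u.1 = 1 := fun u => by
            obtain ⟨k, hk⟩ := IsPGroup.iff_orderOf.mp (hG.to_subgroup B) u.1
            rcases (Nat.dvd_prime hr).mp (orderOf_dvd_of_pow_eq_one u.2) with h | h
            · exact orderOf_eq_one_iff.mp h
            · exact absurd ((Nat.prime_dvd_prime_iff_eq hr hp.out).mp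
                (hr.dvd_of_dvd_pow (dvd_of_eq (h.symm.trans hk)))) hrp
          exact Subtype.ext ((h1 u).trans (h1 w).symm)
        exact (Finite.card_le_one_iff_subsingleton.mpr this).trans hr.one_lt.le
    haveI : Nontrivial (E.map (QuotientGroup.mk' (Subgroup.zpowers z))) := by
      rw [Subgroup.nontrivial_iff_ne_bot, Ne, Subgroup.map_eq_bot_iff, QuotientGroup.ker_mk']
      exact hEne
    obtain ⟨w, ⟨x, hxE, rfl⟩, hwc, hwo⟩ := SymplecticType.exists_central_of_normal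
      (hG.to_quotient (Subgroup.zpowers z)) _
      (Subgroup.Normal.map hEn _ (QuotientGroup.mk'_surjective _))
    have hf : Frame p x z :=
      { zc := hzc, zp := hzp, z1 := hz1, xp := hxE.2
        xz := fun h => by
          rw [show QuotientGroup.mk' (Subgroup.zpowers z) x = 1 from (QuotientGroup.eq_one_iff x).mpr h,
            orderOf_one] at hwo
          exact hp.out.ne_one hwo.symm
        comm := fun g => by
          rw [← QuotientGroup.eq_one_iff]
          show QuotientGroup.mk' (Subgroup.zpowers z) _ = 1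
          rw [map_mul, map_mul, map_mul, map_inv, map_inv,
            Subgroup.mem_center_iff.mp hwc (QuotientGroup.mk' _ g)]
          group }
    have hp2 := p_eq_two ρ hG hρ hh hns hpq hf
    rcases imprimitive_two ρ hG hρ hh hns hpq hp2 hf with h | ⟨h1, h2⟩
    · exact Or.inr (Or.inr (Or.inl h))
    · exact Or.inr (Or.inr (Or.inr ⟨h1, h2, hp2⟩))

end Cfsg.Agent.Lib.PGroups.HalfTransitive
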