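import Mathlib

/-!
# Fixed-point-free automorphisms of order three

A nilpotent group without elements of order three having an automorphism `σ` with
`n * σ n * σ (σ n) = 1` for all `n` has class at most two.
-/

set_option autoImplicit false

namespace Cfsg.Agent.Lib.PGroups.FpfThree

variable {Q : Type*} [Group Q]

open Subgroup
open scoped commutatorElement

theorem comm_apply (σ : Q ≃* Q) (h : ∀ n, n * σ n * σ (σ n) = 1) (n : Q) :
    n * σ n = σ n * n := by
  have h1 : σ (σ n) = (n * σ n)⁻¹ := eq_inv_of_mul_eq_one_right (h n)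
  have h2 : σ (σ n⁻¹) = (n⁻¹ * σ n⁻¹)⁻¹ := eq_inv_of_mul_eq_one_right (h n⁻¹)
  rw [map_inv, map_inv, h1, inv_inv, mul_inv_rev, inv_inv, inv_inv] at h2
  exact h2

theorem apply_three (σ : Q ≃* Q) (h : ∀ n, n * σ n * σ (σ n) = 1) (n : Q) :
    σ (σ (σ n)) = n := by
  have h1 := h (σ n)
  have h2 : σ n * σ (σ n) = n⁻¹ := eq_inv_of_mul_eq_one_right (by rw [← mul_assoc]; exact h n)
  rw [h2] at h1
  exact (inv_mul_eq_one.mp h1).symm

/-- The case of class at most three. -/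
theorem commutator_mem_center (σ : Q ≃* Q) (h : ∀ n, n * σ n * σ (σ n) = 1)
    (h3 : ∀ q : Q, q ^ 3 = 1 → q = 1) (H : ∀ a b c : Q, ⁅⁅a, b⁆, c⁆ ∈ center Q) (a b : Q) :
    ⁅a, b⁆ ∈ center Q := by
  -- linearity of `⁅w, ·⁆` for `w` with central commutators
  have hr : ∀ w : Q, (∀ c : Q, ⁅w, c⁆ ∈ center Q) → ∀ c d : Q, ⁅w, c * d⁆ = ⁅w, c⁆ * ⁅w, d⁆ := by
    intro w hw c d
    calc ⁅w, c * d⁆ = ⁅w, c⁆ * (c * ⁅w, d⁆ * c⁻¹) := by group
      _ = ⁅w, c⁆ * ⁅w, d⁆ := by rw [mem_center_iff.mp (hw d) c, mul_inv_cancel_right]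
  have hl : ∀ v w : Q, (∀ c : Q, ⁅w, c⁆ ∈ center Q) → ∀ c : Q, ⁅v * w, c⁆ = ⁅v, c⁆ * ⁅w, c⁆ := by
    intro v w hw c
    calc ⁅v * w, c⁆ = v * ⁅w, c⁆ * v⁻¹ * ⁅v, c⁆ := by group
      _ = ⁅w, c⁆ * ⁅v, c⁆ := by rw [mem_center_iff.mp (hw c) v, mul_inv_cancel_right]
      _ = ⁅v, c⁆ * ⁅w, c⁆ := (mem_center_iff.mp (hw c) _).symm
  have hinv : ∀ w : Q, (∀ c : Q, ⁅w, c⁆ ∈ center Q) → ∀ c : Q, ⁅w, c⁻¹⁆ = ⁅w, c⁆⁻¹ := by
    intro w hw c
    refine eq_inv_of_mul_eq_one_left ?_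
    rw [← hr w hw, inv_mul_cancel, commutatorElement_one_right]
  have hkill : ∀ w : Q, (∀ c : Q, ⁅w, c⁆ ∈ center Q) → ∀ u v : Q, ⁅w, ⁅u, v⁆⁆ = 1 := by
    intro w hw u v
    rw [commutatorElement_def u v, hr w hw, hr w hw, hr w hw, hinv w hw, hinv w hw,
      mem_center_iff.mp (hw v) ⁅w, u⁆]
    group
  -- an inner conjugate of a commutator behaves like the commutator
  have hconj : ∀ x u v c : Q, ⁅x * ⁅u, v⁆ * x⁻¹, c⁆ = ⁅⁅u, v⁆, c⁆ := by
    intro x u v c
    have hz : ⁅⁅u, v⁆⁻¹, x⁆ ∈ center Q := by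
      have e : ⁅u, v⁆⁻¹ = ⁅v, u⁆ := by group
      rw [e]; exact H v u x
    have e1 : x * ⁅u, v⁆ * x⁻¹ = ⁅u, v⁆ * ⁅⁅u, v⁆⁻¹, x⁆ := by group
    have hzc : ∀ d : Q, ⁅⁅⁅u, v⁆⁻¹, x⁆, d⁆ = 1 := fun d => by
      rw [commutatorElement_eq_one_iff_mul_comm]; exact (mem_center_iff.mp hz d).symm
    rw [e1, hl _ _ (fun d => by rw [hzc d]; exact one_mem _), hzc, mul_one]
  -- the trilinear map
  let T : Q → Q → Q → Q := fun a b c => ⁅⁅a, b⁆, c⁆
  have T1 : ∀ a a' b c, T (a * a') b c = T a b c * T a' b c := by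
    intro a a' b c
    have e : ⁅a * a', b⁆ = (a * ⁅a', b⁆ * a⁻¹) * ⁅a, b⁆ := by group
    show ⁅⁅a * a', b⁆, c⁆ = _
    rw [e, hl _ _ (H a b), hconj]
    exact mem_center_iff.mp (H a b c) _
  have Tanti : ∀ a b c, T a b c * T b a c = 1 := by
    intro a b c
    show ⁅⁅a, b⁆, c⁆ * ⁅⁅b, a⁆, c⁆ = 1
    rw [← hl _ _ (H b a)]
    have e : ⁅a, b⁆ * ⁅b, a⁆ = 1 := by group
    rw [e, commutatorElement_one_left]
  have T2 : ∀ a b b' c, T a (b * b') c = T a b c * T a b' c := by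
    intro a b b' c
    have e : ⁅a, b * b'⁆ = ⁅a, b⁆ * (b * ⁅a, b'⁆ * b⁻¹) := by group
    show ⁅⁅a, b * b'⁆, c⁆ = _
    rw [e, hl _ _ (fun d => by rw [hconj]; exact H a b' d), hconj]
  have Ts : ∀ a b c, σ (T a b c) = T (σ a) (σ b) (σ c) := by
    intro a b c; show σ ⁅⁅a, b⁆, c⁆ = _; rw [map_commutatorElement, map_commutatorElement]
  have T0 : ∀ a c, T a (σ a) c = 1 := by
    intro a c
    show ⁅⁅a, σ a⁆, c⁆ = 1
    rw [commutatorElement_eq_one_iff_mul_comm.mpr (comm_apply σ h a), commutatorElement_one_left]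
  -- shifting between the first two arguments
  have S1 : ∀ a b c, T (σ a) b c = T a (σ b) c := by
    intro a b c
    have e := T0 (a * b) c
    rw [map_mul, T1, T2, T2, T0, T0, one_mul, mul_one] at e
    calc T (σ a) b c = T a (σ b) c * T b (σ a) c * T (σ a) b c := by rw [e, one_mul]
      _ = T a (σ b) c := by rw [mul_assoc, Tanti, mul_one]
  -- shifting between the commutator and the last argument
  have S2 : ∀ a b c, T a b (σ c) = T (σ a) (σ b) c := by
    intro a b c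
    show ⁅⁅a, b⁆, σ c⁆ = ⁅⁅σ a, σ b⁆, c⁆
    rw [← map_commutatorElement]
    set w := ⁅a, b⁆ with hw
    have hW : σ w = ⁅σ a, σ b⁆ := map_commutatorElement σ a b
    have hk : ⁅w, σ c⁆ ∈ center Q := H a b (σ c)
    have hk' : ⁅σ w, c⁆ ∈ center Q := by rw [hW]; exact H _ _ c
    have hww : w * σ w = σ w * w := commutatorElement_eq_one_iff_mul_comm.mp
      (by rw [hW]; exact hkill w (H a b) _ _)
    have hcc := comm_apply σ h c
    have e := comm_apply σ h (c * w)
    rw [map_mul] at e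
    have e1 : w * σ c = ⁅w, σ c⁆ * (σ c * w) := by group
    have e2 : σ w * c = ⁅σ w, c⁆ * (c * σ w) := by group
    have l : c * w * (σ c * σ w) = ⁅w, σ c⁆ * ((c * σ c) * (w * σ w)) := by
      calc c * w * (σ c * σ w) = c * (w * σ c) * σ w := by group
        _ = c * ⁅w, σ c⁆ * (σ c * w * σ w) := by rw [e1]; group
        _ = ⁅w, σ c⁆ * c * (σ c * w * σ w) := by rw [mem_center_iff.mp hk c]
        _ = _ := by group
    have r : σ c * σ w * (c * w) = ⁅σ w, c⁆ * ((c * σ c) * (w * σ w)) := by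
      calc σ c * σ w * (c * w) = σ c * (σ w * c) * w := by group
        _ = σ c * ⁅σ w, c⁆ * (c * σ w * w) := by rw [e2]; group
        _ = ⁅σ w, c⁆ * σ c * (c * σ w * w) := by rw [mem_center_iff.mp hk' (σ c)]
        _ = ⁅σ w, c⁆ * ((σ c * c) * (σ w * w)) := by group
        _ = _ := by rw [hcc, hww]
    rw [l, r] at e
    exact mul_right_cancel e
  have s3 := apply_three σ h
  have Tσ : ∀ a b c, σ (T a b c) = T (σ a) b c := by
    intro a b c
    rw [Ts, S2, ← S1 _ (σ b) c, ← S1, s3]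
  -- the Jacobi identity
  have J : ∀ x y z, T x y z * T y z x * T z x y = 1 := by
    intro x y z
    have HW : y⁻¹ * ⁅⁅x⁻¹, y⁆⁻¹, z⁻¹⁆ * y * (z⁻¹ * ⁅⁅y⁻¹, z⁆⁻¹, x⁻¹⁆ * z) *
        (x⁻¹ * ⁅⁅z⁻¹, x⁆⁻¹, y⁻¹⁆ * x) = 1 := by group
    have hterm : ∀ u v w g : Q, g⁻¹ * ⁅⁅u⁻¹, v⁆⁻¹, w⁻¹⁆ * g = (T u v w)⁻¹ := by
      intro u v w g
      have e : ⁅u⁻¹, v⁆⁻¹ = ⁅v, u⁻¹⁆ := by group
      rw [e]
      have hc : ⁅⁅v, u⁻¹⁆, w⁻¹⁆ ∈ center Q := H _ _ _
      rw [mem_center_iff.mp hc g⁻¹, inv_mul_cancel_right]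
      show T v u⁻¹ w⁻¹ = _
      have i2 : T v u⁻¹ w⁻¹ = (T v u w⁻¹)⁻¹ := eq_inv_of_mul_eq_one_left (by
        rw [← T2, inv_mul_cancel]
        show ⁅⁅v, 1⁆, _⁆ = 1
        rw [commutatorElement_one_right, commutatorElement_one_left])
      have i3 : T v u w⁻¹ = (T v u w)⁻¹ := hinv _ (H v u) w
      rw [i2, i3, inv_inv]
      exact eq_inv_of_mul_eq_one_left (Tanti v u w)
    rw [hterm, hterm, hterm] at HW
    have c1 := mem_center_iff.mp (H x y z : T x y z ∈ center Q)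
    have c2 := mem_center_iff.mp (H y z x : T y z x ∈ center Q)
    have : (T z x y * T y z x * T x y z)⁻¹ = 1 := by rw [← HW]; group
    rw [inv_eq_one] at this
    rw [← this, c1 (T z x y * T y z x), c2 (T z x y), mul_assoc]
  have main : ∀ x y z, T y z x = 1 := by
    intro x y z
    refine h3 _ ?_
    have h1 := J x y z
    have h2 := J (σ x) y z
    have e1 : T y z (σ x) = σ (σ (T y z x)) := by rw [S2, ← S1, Tσ, Tσ]
    have e2 : T z (σ x) y = σ (T z x y) := by rw [← S1, Tσ]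
    rw [← Tσ, e1, e2] at h2
    have h1' := congrArg σ h1
    rw [map_mul, map_mul, map_one, ← h2] at h1'
    have e3 : σ (T y z x) = σ (σ (T y z x)) := mul_left_cancel (mul_right_cancel h1')
    have e4 : T y z x = σ (T y z x) := σ.injective e3
    have := h (T y z x)
    rw [← e4, ← e4] at this
    rw [pow_succ, pow_two]; exact this
  exact mem_center_iff.mpr fun c => (commutatorElement_eq_one_iff_mul_comm.mp (main c a b)).symm

/-- A nilpotent group without elements of order three having an automorphism `σ` with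
`n * σ n * σ (σ n) = 1` for all `n` has class at most two. -/
theorem commutator_mem_center' {N : Type*} [Group N] [Group.IsNilpotent N] (σ : N ≃* N)
    (h : ∀ n, n * σ n * σ (σ n) = 1)
    (h3 : ∀ (M : Subgroup N) [M.Normal], ∀ q : N ⧸ M, q ^ 3 = 1 → q = 1) :
    Group.nilpotencyClass N ≤ 2 := by
  set L := (⊤ : Subgroup N).lowerCentralSeries 3 with hL
  haveI : L.Normal := inferInstance
  have hσL' : L.map σ.toMonoidHom = L := by
    rw [hL, Subgroup.map_lowerCentralSeries, Subgroup.map_top_of_surjective _ σ.surjective]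
  let τ : N ⧸ L ≃* N ⧸ L := QuotientGroup.congr L L σ hσL'
  have hτ : ∀ q : N ⧸ L, q * τ q * τ (τ q) = 1 := by
    intro q
    induction q using QuotientGroup.induction_on with
    | H n =>
      show ((n : N ⧸ L) * ((σ n : N) : N ⧸ L) * ((σ (σ n) : N) : N ⧸ L)) = 1
      rw [← QuotientGroup.mk_mul, ← QuotientGroup.mk_mul, h, QuotientGroup.mk_one]
  have hg : ∀ a b c : N, ⁅⁅a, b⁆, c⁆ ∈ (⊤ : Subgroup N).lowerCentralSeries 2 := fun a b c =>
    commutator_mem_commutator (commutator_mem_commutator (mem_top a) (mem_top b)) (mem_top c)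
  have H : ∀ a b c : N ⧸ L, ⁅⁅a, b⁆, c⁆ ∈ center (N ⧸ L) := by
    intro a b c
    induction a using QuotientGroup.induction_on with
    | H a =>
      induction b using QuotientGroup.induction_on with
      | H b =>
        induction c using QuotientGroup.induction_on with
        | H c =>
          rw [mem_center_iff]
          intro d
          induction d using QuotientGroup.induction_on with
          | H d =>
            refine (commutatorElement_eq_one_iff_mul_comm.mp ?_).symm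
            show ((⁅⁅⁅a, b⁆, c⁆, d⁆ : N) : N ⧸ L) = 1
            rw [QuotientGroup.eq_one_iff]
            exact commutator_mem_commutator (hg a b c) (mem_top d)
  have key := commutator_mem_center τ hτ (h3 L) H
  have h1 : (⊤ : Subgroup N).lowerCentralSeries 1 ≤ (center (N ⧸ L)).comap (QuotientGroup.mk' L) := by
    show ⁅(⊤ : Subgroup N), ⊤⁆ ≤ _
    exact commutator_le.mpr fun a _ b _ => key (a : N ⧸ L) (b : N ⧸ L)
  have h2 : (⊤ : Subgroup N).lowerCentralSeries 2 ≤ L := by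
    show ⁅(⊤ : Subgroup N).lowerCentralSeries 1, (⊤ : Subgroup N)⁆ ≤ L
    refine commutator_le.mpr fun a ha b _ => (QuotientGroup.eq_one_iff _).mp ?_
    exact commutatorElement_eq_one_iff_mul_comm.mpr ((mem_center_iff.mp (h1 ha)) (b : N ⧸ L)).symm
  have stat : ∀ n, (⊤ : Subgroup N).lowerCentralSeries 2 ≤ (⊤ : Subgroup N).lowerCentralSeries (n + 2) := by
    intro n
    induction n with
    | zero => exact le_rfl
    | succ n ih => exact h2.trans (commutator_mono ih le_rfl)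
  rw [← Subgroup.lowerCentralSeries_eq_bot_iff_nilpotencyClass_le, eq_bot_iff]
  refine (stat (Group.nilpotencyClass N)).trans ?_
  exact (Subgroup.lowerCentralSeries_antitone _ (Nat.le_add_right _ 2)).trans
    Subgroup.lowerCentralSeries_nilpotencyClass.le

end Cfsg.Agent.Lib.PGroups.FpfThree
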