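import Cfsg.Agent.S2119
import Mathlib

/-!
Automorphisms of alternating groups of odd order come from the symmetric group, degree six included.
-/

set_option autoImplicit false
set_option linter.style.haveILetI false
set_option linter.unusedSimpArgs false

namespace Cfsg.Agent.Lib.PGroups.AutAlternating

open Equiv Equiv.Perm Cfsg.Agent.Lib.Perm.ThreeBlocks Cfsg.Agent.S2119

theorem conjNormal_injective {n : ℕ} (hn : 4 ≤ n) :
    Function.Injective (MulAut.conjNormal : Equiv.Perm (Fin n) →* MulAut ↥(alternatingGroup (Fin n))) := by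
  classical
  have hA : ∀ {u v w : Fin n}, u ≠ v → v ≠ w → u ≠ w → cyc u v w ∈ alternatingGroup (Fin n) :=
    fun h₁ h₂ h₃ => (cyc_isThreeCycle h₁ h₂ h₃).mem_alternatingGroup
  intro σ τ h
  by_contra hne
  obtain ⟨x, hx⟩ : ∃ x, (τ⁻¹ * σ) x ≠ x := by
    by_contra hh
    simp only [not_exists, ne_eq, not_not] at hh
    exact hne (inv_mul_eq_one.1 (Equiv.ext hh)).symm
  set ρ := τ⁻¹ * σ with hρ
  have h1 : ∀ y ∈ alternatingGroup (Fin n), ρ * y * ρ⁻¹ = y := by
    intro y hy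
    have := congrArg (fun f : MulAut (alternatingGroup (Fin n)) => ((f ⟨y, hy⟩ : alternatingGroup (Fin n)) : Perm (Fin n))) h
    simp only [MulAut.conjNormal_apply] at this
    rw [hρ, show τ⁻¹ * σ * y * (τ⁻¹ * σ)⁻¹ = τ⁻¹ * (σ * y * σ⁻¹) * τ by group, this]
    group
  have hex : ∀ S : Finset (Fin n), S.card ≤ 3 → ∃ b, b ∉ S := fun S hS => by
    by_contra hh
    simp only [not_exists, not_not] at hh
    rw [Finset.eq_univ_iff_forall.2 hh, Finset.card_univ, Fintype.card_fin] at hS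
    omega
  obtain ⟨b, hb⟩ := hex {x, ρ x} (Finset.card_le_two.trans (by norm_num))
  obtain ⟨c, hc⟩ := hex {x, ρ x, b} Finset.card_le_three
  simp only [Finset.mem_insert, Finset.mem_singleton, not_or] at hb hc
  have h2 := h1 _ (hA (u := x) (v := b) (w := c) (Ne.symm hb.1) (Ne.symm hc.2.2) (Ne.symm hc.1))
  rw [cyc_conj] at h2
  have h3 := DFunLike.congr_fun h2 (ρ x)
  rw [cyc_left (ρ.injective.ne (Ne.symm hb.1)) (ρ.injective.ne (Ne.symm hc.1)),
    cyc_other hx (Ne.symm hb.2) (Ne.symm hc.2.1)] at h3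
  exact hb.1 (ρ.injective h3)

/-- An automorphism keeping 3-cycles is conjugation by a permutation. -/
theorem of_threeCycle {n : ℕ} (hn : 4 ≤ n) (φ : MulAut ↥(alternatingGroup (Fin n)))
    (hφ : ∀ z : alternatingGroup (Fin n), (z : Perm (Fin n)).IsThreeCycle →
      ((φ z : alternatingGroup (Fin n)) : Perm (Fin n)).IsThreeCycle) :
    ∃ σ : Perm (Fin n), (MulAut.conjNormal σ : MulAut ↥(alternatingGroup (Fin n))) = φ := by
  classical
  have hA : ∀ {u v w : Fin n}, u ≠ v → v ≠ w → u ≠ w → cyc u v w ∈ alternatingGroup (Fin n) :=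
    fun h₁ h₂ h₃ => (cyc_isThreeCycle h₁ h₂ h₃).mem_alternatingGroup
  let a : Fin n := ⟨0, by omega⟩
  let b : Fin n := ⟨1, by omega⟩
  have hab : a ≠ b := by simp [a, b, Fin.ext_iff]
  let I := {i : Fin n // i ≠ a ∧ i ≠ b}
  let x : I → alternatingGroup (Fin n) := fun i => ⟨cyc a b i, hA hab i.2.2.symm i.2.1.symm⟩
  let y : I → Perm (Fin n) := fun i => ((φ (x i) : alternatingGroup (Fin n)) : Perm (Fin n))
  have hy : ∀ i, (y i).IsThreeCycle := fun i =>
    hφ (x i) (cyc_isThreeCycle hab i.2.2.symm i.2.1.symm)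
  have hinj : Function.Injective y := by
    intro i j hij
    have h := congrArg (fun w : alternatingGroup (Fin n) => (w : Perm (Fin n)) b) (φ.injective (Subtype.ext hij))
    simp only [x] at h
    rw [cyc_mid i.2.1 i.2.2, cyc_mid j.2.1 j.2.2] at h
    exact Subtype.ext h
  have hprod : ∀ i j, i ≠ j → (y i * y j) ^ 2 = 1 ∧ y i * y j ≠ 1 := by
    intro i j hij
    have hij' : (i : Fin n) ≠ j := fun e => hij (Subtype.ext e)
    have e1 : (cyc a b (i : Fin n) * cyc a b j) ^ 2 = 1 := by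
      ext u
      by_cases ha : u = a
      · subst ha
        simp [sq, mul_apply, cyc_left hab j.2.1.symm, cyc_left hab i.2.1.symm, cyc_mid i.2.1 i.2.2,
          cyc_mid j.2.1 j.2.2, cyc_other j.2.1 j.2.2 hij'.symm, cyc_other i.2.1 i.2.2 hij', cyc_right]
      by_cases hb : u = b
      · subst hb
        simp [sq, mul_apply, cyc_left hab j.2.1.symm, cyc_left hab i.2.1.symm, cyc_mid i.2.1 i.2.2,
          cyc_mid j.2.1 j.2.2, cyc_other j.2.1 j.2.2 hij'.symm, cyc_other i.2.1 i.2.2 hij', cyc_right]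
      by_cases hi : u = i
      · subst hi
        simp [sq, mul_apply, cyc_left hab j.2.1.symm, cyc_left hab i.2.1.symm, cyc_mid i.2.1 i.2.2,
          cyc_mid j.2.1 j.2.2, cyc_other j.2.1 j.2.2 hij'.symm, cyc_other i.2.1 i.2.2 hij', cyc_right]
      by_cases hj : u = j
      · subst hj
        simp [sq, mul_apply, cyc_left hab j.2.1.symm, cyc_left hab i.2.1.symm, cyc_mid i.2.1 i.2.2,
          cyc_mid j.2.1 j.2.2, cyc_other j.2.1 j.2.2 hij'.symm, cyc_other i.2.1 i.2.2 hij', cyc_right]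
      simp [sq, mul_apply, cyc_other ha hb hi, cyc_other ha hb hj]
    refine ⟨?_, fun h => ?_⟩
    · have : (x i * x j) ^ 2 = 1 := Subtype.ext e1
      have := congrArg φ this
      rw [map_pow, map_mul, map_one] at this
      exact congrArg Subtype.val this
    · have h' : φ (x i * x j) = φ 1 := by rw [map_mul, map_one]; exact Subtype.ext h
      have h'' := congrArg (fun w : alternatingGroup (Fin n) => (w : Perm (Fin n)) a) (φ.injective h')
      simp [x, mul_apply, cyc_left hab j.2.1.symm, cyc_mid i.2.1 i.2.2] at h''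
      exact i.2.1 h''
  let i₀ : I := ⟨⟨2, by omega⟩, by simp [a, b, Fin.ext_iff]⟩
  let i₁ : I := ⟨⟨3, by omega⟩, by simp [a, b, Fin.ext_iff]⟩
  have h01 : i₀ ≠ i₁ := fun h => absurd (congrArg (fun t : I => ((t : Fin n) : ℕ)) h) (show (2 : ℕ) ≠ 3 by omega)
  obtain ⟨c₀, d₀, e₀, q1, q2, q3, h0⟩ := exists_cyc (hy i₀)
  obtain ⟨f₀, f1, f2, f3, hf⟩ := pair q1 q2 q3 (hy i₁) (h0 ▸ (hprod _ _ h01).1) (h0 ▸ (hprod _ _ h01).2)
  obtain ⟨c, d, e, f, hcd, hde, hce, hfc, hfd, hfe, hye, hyf⟩ : ∃ c d e f, c ≠ d ∧ d ≠ e ∧ c ≠ e ∧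
      f ≠ c ∧ f ≠ d ∧ f ≠ e ∧ y i₀ = cyc c d e ∧ y i₁ = cyc c d f := by
    rcases hf with hf | hf | hf
    · exact ⟨c₀, d₀, e₀, f₀, q1, q2, q3, f1, f2, f3, h0, hf⟩
    · exact ⟨d₀, e₀, c₀, f₀, q2, q3.symm, q1.symm, f2, f3, f1, h0.trans (cyc_rot q1 q2 q3), hf⟩
    · exact ⟨e₀, c₀, d₀, f₀, q3.symm, q1, q2.symm, f3, f1, f2,
        h0.trans (by rw [cyc_rot q1 q2 q3, cyc_rot q2 q3.symm q1.symm]), hf⟩
  have hshape : ∀ i, ∃ g, g ≠ c ∧ g ≠ d ∧ y i = cyc c d g := by
    intro i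
    by_cases hi0 : i = i₀
    · exact ⟨e, hce.symm, hde.symm, hi0 ▸ hye⟩
    by_cases hi1 : i = i₁
    · exact ⟨f, hfc, hfd, hi1 ▸ hyf⟩
    exact third hcd hde hce hfc hfd hfe.symm (hy i) (hye ▸ (hprod _ _ (Ne.symm hi0)).1)
      (hye ▸ (hprod _ _ (Ne.symm hi0)).2) (hyf ▸ (hprod _ _ (Ne.symm hi1)).1)
      (hyf ▸ (hprod _ _ (Ne.symm hi1)).2)
  choose g hgc hgd hg using hshape
  let s : Fin n → Fin n := fun u => if ha : u = a then c else if hb : u = b then d else g ⟨u, ha, hb⟩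
  have hs : Function.Injective s := by
    intro u v huv
    simp only [s] at huv
    split_ifs at huv with ha hb hb' hb''
    all_goals first
      | exact (‹u = _›).trans (‹v = _›).symm
      | exact absurd huv hcd
      | exact absurd huv.symm hcd
      | exact absurd huv (hgc _)
      | exact absurd huv.symm (hgc _)
      | exact absurd huv (hgd _)
      | exact absurd huv.symm (hgd _)
      | exact congrArg Subtype.val (hinj ((hg _).trans ((congrArg (cyc c d) huv).trans (hg _).symm)) :)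
  let σ : Perm (Fin n) := Equiv.ofBijective s (Finite.injective_iff_bijective.1 hs)
  refine ⟨σ, ?_⟩
  let H : Subgroup (Perm (Fin n)) :=
    ((φ : alternatingGroup (Fin n) →* alternatingGroup (Fin n)).eqLocus
      (MulAut.conjNormal σ : MulAut (alternatingGroup (Fin n))).toMonoidHom).map (alternatingGroup (Fin n)).subtype
  have hH : ∀ i : I, cyc a b (i : Fin n) ∈ H := by
    intro i
    refine ⟨x i, Subtype.ext ?_, rfl⟩
    show y i = σ * cyc a b i * σ⁻¹
    rw [cyc_conj, hg]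
    congr 1 <;> simp [σ, s, hab.symm, i.2.1, i.2.2]
  have hfull : ∀ B : Finset (Fin n), Full H ({a, b, (i₀ : Fin n)} ∪ B) := by
    intro B
    induction B using Finset.induction with
    | empty =>
      intro u hu v hv w hw h₁ h₂ h₃
      have k0 := hH i₀
      have k1 := inv_mem k0
      rw [cyc_inv] at k1
      have r0 := cyc_rot hab i₀.2.2.symm i₀.2.1.symm
      have r1 := cyc_rot i₀.2.2.symm i₀.2.1 hab.symm
      have r2 := cyc_rot i₀.2.2 hab.symm i₀.2.1
      have r3 := cyc_rot hab.symm i₀.2.1.symm i₀.2.2.symm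
      simp only [Finset.union_empty, Finset.mem_insert, Finset.mem_singleton] at hu hv hw
      rcases hu with rfl | rfl | rfl <;> rcases hv with rfl | rfl | rfl <;> rcases hw with rfl | rfl | rfl
      all_goals first
        | exact absurd rfl h₁
        | exact absurd rfl h₂
        | exact absurd rfl h₃
        | exact k0
        | exact k1
        | exact r0 ▸ k0
        | exact r1 ▸ r0 ▸ k0
        | exact r2 ▸ k1
        | exact r3 ▸ r2 ▸ k1
    | insert u B hu ih =>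
      rw [Finset.union_insert]
      by_cases hmem : u ∈ ({a, b, (i₀ : Fin n)} ∪ B)
      · rwa [Finset.insert_eq_self.2 hmem]
      · have ha : u ≠ a := fun e => hmem (by simp [e])
        have hb : u ≠ b := fun e => hmem (by simp [e])
        exact full_insert ih (a := a) (b := b) (by simp) (by simp) hab hmem (hH ⟨u, ha, hb⟩)
  have hle : alternatingGroup (Fin n) ≤ H := by
    rw [← closure_three_cycles_eq_alternating, Subgroup.closure_le]
    intro t ht
    obtain ⟨u, v, w, h₁, h₂, h₃, rfl⟩ := exists_cyc ht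
    exact hfull Finset.univ u (by simp) v (by simp) w (by simp) h₁ h₂ h₃
  apply MulEquiv.ext
  intro z
  obtain ⟨z', hz', hzz⟩ := hle z.2
  obtain rfl : z' = z := Subtype.ext hzz
  exact hz'.symm

/-- Odd-order automorphisms are conjugations. -/
theorem of_odd {n : ℕ} (hn : 5 ≤ n) (φ : MulAut ↥(alternatingGroup (Fin n))) (hodd : Odd (orderOf φ)) :
    φ ∈ (MulAut.conjNormal : Equiv.Perm (Fin n) →* MulAut ↥(alternatingGroup (Fin n))).range := by
  classical
  by_cases h6 : n = 6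
  swap
  · exact (Cfsg.Agent.S2119.result n (by omega) h6).2 φ
  subst h6
  set R := (MulAut.conjNormal : Equiv.Perm (Fin 6) →* MulAut ↥(alternatingGroup (Fin 6))).range
  suffices hsq : φ ^ 2 ∈ R by
    obtain ⟨k, hk⟩ := hodd
    have : φ = (φ ^ 2) ^ (k + 1) := by
      rw [← pow_mul, show 2 * (k + 1) = (2 * k + 1) + 1 by ring, pow_succ, ← hk, pow_orderOf_eq_one, one_mul]
    rw [this]
    exact pow_mem hsq _
  have hall : ∀ (χ : MulAut ↥(alternatingGroup (Fin 6))) (z₀ : alternatingGroup (Fin 6)),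
      (z₀ : Perm (Fin 6)).IsThreeCycle → ((χ z₀ : alternatingGroup (Fin 6)) : Perm (Fin 6)).IsThreeCycle → χ ∈ R := by
    intro χ z₀ hz₀ hχ
    refine of_threeCycle (by norm_num) χ fun z hz => ?_
    obtain ⟨c, hc⟩ := isConj_iff.mp (alternatingGroup.isThreeCycle_isConj (by simp) hz₀ hz)
    rw [← hc, map_mul, map_mul, map_inv, Subgroup.coe_mul, Subgroup.coe_mul, Subgroup.coe_inv]
    exact (Equiv.Perm.cycleType_conj).trans hχ
  obtain ⟨z₀, hz₀⟩ : ∃ z₀ : alternatingGroup (Fin 6), (z₀ : Perm (Fin 6)).IsThreeCycle :=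
    ⟨⟨cyc 0 1 2, (cyc_isThreeCycle (by decide) (by decide) (by decide)).mem_alternatingGroup⟩,
      cyc_isThreeCycle (by decide) (by decide) (by decide)⟩
  by_cases h1 : ((φ z₀ : alternatingGroup (Fin 6)) : Perm (Fin 6)).IsThreeCycle
  · exact pow_mem (hall φ z₀ hz₀ h1) 2
  by_cases h2 : ((φ (φ z₀) : alternatingGroup (Fin 6)) : Perm (Fin 6)).IsThreeCycle
  · refine hall (φ ^ 2) z₀ hz₀ ?_
    rw [sq, MulAut.mul_apply]; exact h2
  exfalso
  -- both images are double 3-cycles, hence conjugate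
  have htype : ∀ w : alternatingGroup (Fin 6), orderOf w = 3 → ¬ (w : Perm (Fin 6)).IsThreeCycle →
      (w : Perm (Fin 6)).cycleType = {3, 3} := by
    intro w hw hw3
    have ho : orderOf (w : Perm (Fin 6)) = 3 := by rw [Subgroup.orderOf_coe, hw]
    obtain ⟨k, hk⟩ := cycleType_prime_order (by rw [ho]; norm_num : (orderOf (w : Perm (Fin 6))).Prime)
    rw [ho] at hk
    have hsum := sum_cycleType_le (w : Perm (Fin 6))
    rw [hk, Multiset.sum_replicate, smul_eq_mul, Fintype.card_fin] at hsum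
    rcases k with _ | _ | k
    · exact absurd hk hw3
    · exact hk
    · omega
  have hz3 : orderOf z₀ = 3 := by rw [← Subgroup.orderOf_coe]; exact hz₀.orderOf
  have t1 := htype (φ z₀) (by rw [MulEquiv.orderOf_eq, hz3]) h1
  have t2 := htype (φ (φ z₀)) (by rw [MulEquiv.orderOf_eq, MulEquiv.orderOf_eq, hz3]) h2
  -- a double 3-cycle commutes with an odd permutation
  let v₀ : Perm (Fin 6) := cyc 0 1 2 * cyc 3 4 5
  let τ₀ : Perm (Fin 6) := Equiv.swap 0 3 * Equiv.swap 1 4 * Equiv.swap 2 5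
  have hv₀ : v₀.cycleType = {3, 3} := by
    have hd : (cyc (0 : Fin 6) 1 2).Disjoint (cyc 3 4 5) := by
      unfold cyc Equiv.Perm.Disjoint; decide
    rw [hd.cycleType_mul, (cyc_isThreeCycle (by decide) (by decide) (by decide)).cycleType,
      (cyc_isThreeCycle (by decide) (by decide) (by decide)).cycleType]
    rfl
  have hτ₀ : τ₀ * v₀ = v₀ * τ₀ := by
    unfold τ₀ v₀ cyc; decide
  have hsign : Perm.sign τ₀ = -1 := by
    show Perm.sign (Equiv.swap 0 3 * Equiv.swap 1 4 * Equiv.swap 2 5 : Perm (Fin 6)) = -1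
    simp [map_mul, Perm.sign_swap']
  obtain ⟨g, hg⟩ := isConj_iff.mp (Equiv.Perm.isConj_iff_cycleType_eq.mpr (hv₀.trans t1.symm))
  obtain ⟨s, hs⟩ := isConj_iff.mp (Equiv.Perm.isConj_iff_cycleType_eq.mpr (t1.trans t2.symm))
  obtain ⟨s', hs', hsig⟩ : ∃ s' : Perm (Fin 6), s' * ((φ z₀ : alternatingGroup (Fin 6)) : Perm (Fin 6)) * s'⁻¹ =
      ((φ (φ z₀) : alternatingGroup (Fin 6)) : Perm (Fin 6)) ∧ Perm.sign s' = 1 := by
    rcases Int.units_eq_one_or (Perm.sign s) with h | h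
    · exact ⟨s, hs, h⟩
    · refine ⟨s * (g * τ₀ * g⁻¹), ?_, by simp [map_mul, map_inv, h, hsign]⟩
      have e : (g * τ₀ * g⁻¹) * ((φ z₀ : alternatingGroup (Fin 6)) : Perm (Fin 6)) * (g * τ₀ * g⁻¹)⁻¹ =
          ((φ z₀ : alternatingGroup (Fin 6)) : Perm (Fin 6)) := by
        rw [← hg]
        calc g * τ₀ * g⁻¹ * (g * v₀ * g⁻¹) * (g * τ₀ * g⁻¹)⁻¹ = g * (τ₀ * v₀) * τ₀⁻¹ * g⁻¹ := by group
          _ = g * v₀ * g⁻¹ := by rw [hτ₀]; group
      rw [mul_inv_rev]
      calc s * (g * τ₀ * g⁻¹) * ((φ z₀ : alternatingGroup (Fin 6)) : Perm (Fin 6)) * ((g * τ₀ * g⁻¹)⁻¹ * s⁻¹)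
          = s * ((g * τ₀ * g⁻¹) * ((φ z₀ : alternatingGroup (Fin 6)) : Perm (Fin 6)) * (g * τ₀ * g⁻¹)⁻¹) * s⁻¹ := by group
        _ = _ := by rw [e, hs]
  have hconj : (⟨s', hsig⟩ : alternatingGroup (Fin 6)) * φ z₀ * (⟨s', hsig⟩ : alternatingGroup (Fin 6))⁻¹ = φ (φ z₀) :=
    Subtype.ext hs'
  apply h1
  have h' := congrArg φ.symm hconj
  simp only [map_mul, map_inv, MulEquiv.symm_apply_apply] at h'
  rw [← h', Subgroup.coe_mul, Subgroup.coe_mul, Subgroup.coe_inv]
  exact (Equiv.Perm.cycleType_conj).trans hz₀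

end Cfsg.Agent.Lib.PGroups.AutAlternating
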