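import Mathlib.GroupTheory.Solvable
import Mathlib.GroupTheory.Perm.Sign
import Mathlib.GroupTheory.Perm.Support
import Mathlib.GroupTheory.SpecificGroups.Alternating

/-! Permutation groups moving at most four points are solvable. -/

set_option autoImplicit false
set_option linter.style.haveILetI false

namespace Cfsg.Agent.Lib.PGroups

open scoped commutatorElement

/-- The Klein four-group inside `S₄`. -/
def vierPerm : Subgroup (Equiv.Perm (Fin 4)) where
  carrier := {σ | σ * σ = 1 ∧ Equiv.Perm.sign σ = 1}
  one_mem' := by decide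
  mul_mem' := by
    intro a b
    revert a b
    decide +kernel
  inv_mem' := by
    intro a
    revert a
    decide +kernel

theorem isSolvable_perm_four : Group.IsSolvable (Equiv.Perm (Fin 4)) := by
  rw [Group.isSolvable_def]
  refine ⟨3, ?_⟩
  have h1 : derivedSeries (Equiv.Perm (Fin 4)) 1 ≤ alternatingGroup (Fin 4) := by
    rw [derivedSeries_succ, derivedSeries_zero, Subgroup.commutator_le]
    intro a _ b _
    rw [Equiv.Perm.mem_alternatingGroup, commutatorElement_def]
    revert a b
    simp only [Subgroup.mem_top, forall_const]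
    decide +kernel
  have h2 : ⁅alternatingGroup (Fin 4), alternatingGroup (Fin 4)⁆ ≤ vierPerm := by
    rw [Subgroup.commutator_le]
    intro a ha b hb
    show ⁅a, b⁆ * ⁅a, b⁆ = 1 ∧ Equiv.Perm.sign ⁅a, b⁆ = 1
    revert a b
    simp only [Equiv.Perm.mem_alternatingGroup, commutatorElement_def]
    decide +kernel
  have h3 : ⁅vierPerm, vierPerm⁆ = ⊥ := by
    rw [eq_bot_iff, Subgroup.commutator_le]
    intro a ha b hb
    rw [Subgroup.mem_bot]
    change a * a = 1 ∧ Equiv.Perm.sign a = 1 at ha
    change b * b = 1 ∧ Equiv.Perm.sign b = 1 at hb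
    revert a b
    simp only [commutatorElement_def]
    decide +kernel
  rw [eq_bot_iff, ← h3, derivedSeries_succ, derivedSeries_succ]
  exact Subgroup.commutator_mono (le_trans (Subgroup.commutator_mono h1 h1) h2)
    (le_trans (Subgroup.commutator_mono h1 h1) h2)

theorem isSolvable_perm_of_card_le_four {α : Type*} [Fintype α] [DecidableEq α]
    (h : Fintype.card α ≤ 4) : Group.IsSolvable (Equiv.Perm α) := by
  haveI := isSolvable_perm_four
  obtain ⟨e⟩ : Nonempty (α ↪ Fin 4) := Function.Embedding.nonempty_of_card_le (by simpa using h)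
  exact Group.isSolvable_of_isSolvable_injective (Equiv.Perm.viaEmbeddingHom_injective e)

/-- A permutation group supported on at most four points is solvable. -/
theorem isSolvable_of_support_le_four {α : Type*} [Fintype α] [DecidableEq α] (s : Finset α)
    (hs : s.card ≤ 4) (H : Subgroup (Equiv.Perm α)) (hH : ∀ σ ∈ H, σ.support ⊆ s) :
    Group.IsSolvable H := by
  have hle : H ≤ (Equiv.Perm.ofSubtype : Equiv.Perm {x // x ∈ s} →* Equiv.Perm α).range := by
    intro σ hσ
    have h1 : ∀ x, σ x ∈ s ↔ x ∈ s := by
      intro x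
      by_cases hx : σ x = x
      · rw [hx]
      · exact ⟨fun _ => hH σ hσ (Equiv.Perm.mem_support.mpr hx),
          fun _ => hH σ hσ (Equiv.Perm.mem_support.mpr (fun h => hx (σ.injective h)))⟩
    exact ⟨σ.subtypePerm h1, Equiv.Perm.ofSubtype_subtypePerm h1
      (fun x hx => hH σ hσ (Equiv.Perm.mem_support.mpr hx))⟩
  haveI : Group.IsSolvable (Equiv.Perm {x // x ∈ s}) := isSolvable_perm_of_card_le_four (by simpa using hs)
  haveI : Group.IsSolvable (Equiv.Perm.ofSubtype : Equiv.Perm {x // x ∈ s} →* Equiv.Perm α).range :=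
    Group.isSolvable_of_surjective (MonoidHom.rangeRestrict_surjective _)
  exact Group.isSolvable_of_isSolvable_injective (Subgroup.inclusion_injective hle)

end Cfsg.Agent.Lib.PGroups
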