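import Cfsg.Agent.Lib.Cores.Frattini
import Mathlib.LinearAlgebra.Matrix.GeneralLinearGroup.Card
import Mathlib.Algebra.Module.ZMod
import Mathlib.Algebra.Field.ZMod
import Mathlib.GroupTheory.GroupAction.Quotient

/-! Burnside's basis theorem: generating tuples of a finite `p`-group and bounds on automorphism groups. -/

set_option autoImplicit false
set_option linter.style.haveILetI false

namespace Cfsg.Agent.Lib.PGroups

variable {G : Type*} [Group G]

/-- A free action of a finite group divides the cardinality of the set acted on. -/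
theorem card_dvd_of_free_action {A X : Type*} [Group A] [MulAction A X] [Finite A] [Finite X]
    (h : ∀ (a : A) (x : X), a • x = x → a = 1) : Nat.card A ∣ Nat.card X := by
  classical
  haveI := Fintype.ofFinite X
  haveI := Fintype.ofFinite A
  rw [Nat.card_congr (MulAction.selfEquivSigmaOrbits A X), Nat.card_sigma]
  refine Finset.dvd_sum fun ω _ => ?_
  rw [Nat.card_congr (MulAction.orbitEquivQuotientStabilizer A ω.out)]
  have hs : MulAction.stabilizer A ω.out = ⊥ :=
    eq_bot_iff.mpr fun a ha => Subgroup.mem_bot.mpr (h a _ ha)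
  rw [hs, ← Subgroup.index, Subgroup.index_bot]

/-- A group of order dividing `p ^ r` has a generating family indexed by `Fin r`. -/
theorem exists_generators_of_card {Q : Type*} [Group Q] [Finite Q] {p : ℕ} [Fact p.Prime] {r : ℕ}
    (h : Nat.card Q ∣ p ^ r) : ∃ f : Fin r → Q, Subgroup.closure (Set.range f) = ⊤ := by
  have hp : p.Prime := Fact.out
  suffices H : ∀ k ≤ r, ∃ f : Fin k → Q, Subgroup.closure (Set.range f) = ⊤ ∨
      p ^ k ≤ Nat.card (Subgroup.closure (Set.range f)) by
    obtain ⟨f, hf | hf⟩ := H r le_rfl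
    · exact ⟨f, hf⟩
    · exact ⟨f, Subgroup.eq_top_of_card_eq _ (le_antisymm (Subgroup.card_le_card_group _)
        ((Nat.le_of_dvd (pow_pos hp.pos r) h).trans hf))⟩
  intro k
  induction k with
  | zero => intro _; exact ⟨Fin.elim0, Or.inr (by simpa using Nat.one_le_iff_ne_zero.mpr Nat.card_pos.ne')⟩
  | succ k ih =>
    intro hk
    obtain ⟨f, hf⟩ := ih (Nat.le_of_succ_le hk)
    have hmono : ∀ x, Subgroup.closure (Set.range f) ≤ Subgroup.closure (Set.range (Fin.snoc f x : Fin (k+1) → Q)) := by
      intro x
      refine Subgroup.closure_mono ?_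
      rintro _ ⟨i, rfl⟩
      exact ⟨i.castSucc, by simp⟩
    rcases hf with hf | hf
    · exact ⟨Fin.snoc f 1, Or.inl (top_le_iff.mp (hf ▸ hmono 1))⟩
    by_cases htop : Subgroup.closure (Set.range f) = ⊤
    · exact ⟨Fin.snoc f 1, Or.inl (top_le_iff.mp (htop ▸ hmono 1))⟩
    obtain ⟨x, hx⟩ : ∃ x, x ∉ Subgroup.closure (Set.range f) := by
      by_contra hc
      push Not at hc
      exact htop (eq_top_iff.mpr fun x _ => hc x)
    refine ⟨Fin.snoc f x, Or.inr ?_⟩
    set A := Subgroup.closure (Set.range f)
    set B := Subgroup.closure (Set.range (Fin.snoc f x : Fin (k+1) → Q))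
    have hxB : x ∈ B := Subgroup.subset_closure ⟨Fin.last k, by simp⟩
    have hlt : A < B := lt_of_le_of_ne (hmono x) fun he => hx (he ▸ hxB)
    obtain ⟨j, -, hj⟩ := (Nat.dvd_prime_pow hp).mp ((Subgroup.card_subgroup_dvd_card B).trans h)
    have hgt : p ^ k < Nat.card B := lt_of_le_of_lt hf (Set.Finite.card_lt_card (Set.toFinite _) hlt)
    rw [hj] at hgt ⊢
    exact Nat.pow_le_pow_right hp.pos ((Nat.pow_lt_pow_iff_right hp.one_lt).mp hgt)

theorem closure_eq_top_of_mk [Finite G] {r : ℕ} (f : Fin r → G)
    (h : Subgroup.closure (Set.range fun i => (f i : G ⧸ frattini G)) = ⊤) :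
    Subgroup.closure (Set.range f) = ⊤ := by
  apply frattini_nongenerating
  have h1 : (Subgroup.closure (Set.range f)).map (QuotientGroup.mk' (frattini G)) = ⊤ := by
    rw [MonoidHom.map_closure, ← Set.range_comp]
    exact h
  have h2 := congrArg (Subgroup.comap (QuotientGroup.mk' (frattini G))) h1
  rwa [Subgroup.comap_map_eq, QuotientGroup.ker_mk', Subgroup.comap_top] at h2

theorem mk_closure_eq_top {r : ℕ} (N : Subgroup G) [N.Normal] (f : Fin r → G)
    (h : Subgroup.closure (Set.range f) = ⊤) :
    Subgroup.closure (Set.range fun i => (f i : G ⧸ N)) = ⊤ := by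
  have h1 : (Subgroup.closure (Set.range f)).map (QuotientGroup.mk' N) = ⊤ := by
    rw [h]; exact Subgroup.map_top_of_surjective _ (QuotientGroup.mk'_surjective N)
  rwa [MonoidHom.map_closure, ← Set.range_comp] at h1

/-- Tuples with prescribed images in a quotient correspond to tuples of elements of the kernel. -/
noncomputable def fibreEquiv (N : Subgroup G) [N.Normal] {r : ℕ} (g : Fin r → G ⧸ N) :
    {f : Fin r → G // ∀ i, (f i : G ⧸ N) = g i} ≃ (Fin r → N) where
  toFun f i := ⟨(g i).out⁻¹ * f.1 i, QuotientGroup.eq.mp (by rw [QuotientGroup.out_eq', f.2 i])⟩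
  invFun φ := ⟨fun i => (g i).out * φ i, fun i => by
    rw [QuotientGroup.mk_mul_of_mem _ (φ i).2, QuotientGroup.out_eq']⟩
  left_inv f := by ext i; simp
  right_inv φ := by ext i; simp

theorem aut_eq_one_of_fix_generators {r : ℕ} (f : Fin r → G)
    (h : Subgroup.closure (Set.range f) = ⊤) (α : MulAut G) (hα : ∀ i, α (f i) = f i) : α = 1 := by
  have := MonoidHom.eq_of_eqOn_dense h (f := α.toMonoidHom) (g := MonoidHom.id G)
    (by rintro _ ⟨i, rfl⟩; exact hα i)
  exact MulEquiv.ext fun x => DFunLike.congr_fun this x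

/-- Automorphisms trivial on the Frattini quotient form a group of order dividing `|Φ|^r`. -/
theorem card_dvd_frattini_pow [Finite G] {r : ℕ} (g : Fin r → G ⧸ frattini G)
    (hg : Subgroup.closure (Set.range g) = ⊤) (A : Subgroup (MulAut G))
    (hA : ∀ α ∈ A, ∀ x : G, α x * x⁻¹ ∈ frattini G) :
    Nat.card A ∣ Nat.card (frattini G) ^ r := by
  have hmk : ∀ (a : A) (x : G), (((a : MulAut G) x : G) : G ⧸ frattini G) = x := by
    intro a x
    have := hA a a.2 x
    rw [← QuotientGroup.eq_one_iff, QuotientGroup.mk_mul, QuotientGroup.mk_inv, mul_inv_eq_one] at this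
    exact this
  letI : MulAction A {f : Fin r → G // ∀ i, (f i : G ⧸ frattini G) = g i} :=
    { smul := fun a f => ⟨fun i => (a : MulAut G) (f.1 i), fun i => by rw [hmk]; exact f.2 i⟩
      one_smul := fun f => rfl
      mul_smul := fun a b f => rfl }
  have := card_dvd_of_free_action (A := A) (X := {f : Fin r → G // ∀ i, (f i : G ⧸ frattini G) = g i}) ?_
  · rwa [Nat.card_congr (fibreEquiv _ g), Nat.card_pi, Finset.prod_const, Finset.card_univ,
      Fintype.card_fin] at this
  · intro a f hf
    refine Subtype.ext (aut_eq_one_of_fix_generators f.1 (closure_eq_top_of_mk f.1 ?_) _ fun i => ?_)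
    · rw [show (fun i => (f.1 i : G ⧸ frattini G)) = g from funext f.2]; exact hg
    · exact congrFun (congrArg Subtype.val hf) i

theorem closure_eq_top_iff_span {Q : Type*} [CommGroup Q] {p : ℕ} [Module (ZMod p) (Additive Q)]
    {ι : Type*} (f : ι → Q) : Subgroup.closure (Set.range f) = ⊤ ↔
      Submodule.span (ZMod p) (Set.range (fun i => Additive.ofMul (f i))) = ⊤ := by
  have hs : ∀ i, Additive.ofMul (f i) ∈ Submodule.span (ZMod p) (Set.range (fun i => Additive.ofMul (f i))) :=
    fun i => Submodule.subset_span ⟨i, rfl⟩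
  have hc : ∀ i, f i ∈ Subgroup.closure (Set.range f) := fun i => Subgroup.subset_closure ⟨i, rfl⟩
  constructor
  · intro h
    refine eq_top_iff.mpr fun x _ => ?_
    have hle : Subgroup.closure (Set.range f) ≤ AddSubgroup.toSubgroup'
        (Submodule.span (ZMod p) (Set.range (fun i => Additive.ofMul (f i)))).toAddSubgroup := by
      rw [Subgroup.closure_le]
      rintro _ ⟨i, rfl⟩
      exact hs i
    exact hle (h ▸ Subgroup.mem_top (Additive.toMul x))
  · intro h
    refine eq_top_iff.mpr fun x _ => ?_
    have hle : Submodule.span (ZMod p) (Set.range (fun i => Additive.ofMul (f i))) ≤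
        AddSubgroup.toZModSubmodule p (Subgroup.toAddSubgroup (Subgroup.closure (Set.range f))) := by
      rw [Submodule.span_le]
      rintro _ ⟨i, rfl⟩
      exact hc i
    exact hle (h ▸ Submodule.mem_top : Additive.ofMul x ∈ _)

/-- The number of generating `r`-tuples of an elementary abelian group of order `p ^ r`. -/
theorem card_generating_tuples {Q : Type*} [Group Q] [Finite Q] {p r : ℕ} [Fact p.Prime]
    (hc : ∀ a b : Q, a * b = b * a) (he : ∀ a : Q, a ^ p = 1) (hcard : Nat.card Q = p ^ r) :
    Nat.card {f : Fin r → Q // Subgroup.closure (Set.range f) = ⊤} =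
      ∏ i ∈ Finset.range r, (p ^ r - p ^ i) := by
  classical
  letI : CommGroup Q := { (inferInstance : Group Q) with mul_comm := hc }
  haveI : Fintype Q := Fintype.ofFinite Q
  letI : Module (ZMod p) (Additive Q) := AddCommGroup.zmodModule fun x =>
    show Additive.ofMul ((Additive.toMul x) ^ p) = 0 by rw [he]; rfl
  haveI : Module.Finite (ZMod p) (Additive Q) := Module.Finite.of_finite
  have hfr : Module.finrank (ZMod p) (Additive Q) = r := by
    have h1 := Module.card_eq_pow_finrank (K := ZMod p) (V := Additive Q)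
    rw [ZMod.card, show Fintype.card (Additive Q) = p ^ r by
      rw [← Nat.card_eq_fintype_card, ← hcard]; rfl] at h1
    exact (Nat.pow_right_injective (Fact.out : p.Prime).two_le h1).symm
  have key : ∀ f : Fin r → Q, Subgroup.closure (Set.range f) = ⊤ ↔
      LinearIndependent (ZMod p) (Additive.ofMul ∘ f) := by
    intro f
    refine (closure_eq_top_iff_span (Q := Q) (p := p) f).trans ?_
    constructor
    · intro h
      refine linearIndependent_of_top_le_span_of_card_eq_finrank ?_ (by rw [Fintype.card_fin, hfr])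
      exact fun x _ => h.symm ▸ Submodule.mem_top
    · intro h
      rcases Nat.eq_zero_or_pos r with hr | hr
      · subst hr
        have : Subsingleton Q := (Nat.card_eq_one_iff_unique.mp (by rw [hcard, pow_zero])).1
        haveI : Subsingleton (Additive Q) := this
        refine Submodule.eq_top_iff'.mpr fun x => ?_
        rw [Subsingleton.elim x 0]
        exact Submodule.zero_mem _
      haveI : Nonempty (Fin r) := ⟨⟨0, hr⟩⟩
      exact h.span_eq_top_of_card_eq_finrank (by rw [Fintype.card_fin, hfr])
  have e : {f : Fin r → Q // Subgroup.closure (Set.range f) = ⊤} ≃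
      {s : Fin r → Additive Q // LinearIndependent (ZMod p) s} :=
    Equiv.subtypeEquiv ((Equiv.refl (Fin r)).arrowCongr Additive.ofMul) (fun f => key f)
  rw [Nat.card_congr e, card_linearIndependent (by rw [hfr]), hfr, ZMod.card,
    Finset.prod_range (fun i => p ^ r - p ^ i)]

/-- `|Aut G|` divides `|Φ|^r` times the number of generating `r`-tuples of the Frattini quotient. -/
theorem card_mulAut_dvd [Finite G] {r : ℕ} :
    Nat.card (MulAut G) ∣ Nat.card (frattini G) ^ r *
      Nat.card {f : Fin r → G ⧸ frattini G // Subgroup.closure (Set.range f) = ⊤} := by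
  letI : MulAction (MulAut G) {f : Fin r → G // Subgroup.closure (Set.range f) = ⊤} :=
    { smul := fun α f => ⟨fun i => α (f.1 i), by
        have h := congrArg (Subgroup.map α.toMonoidHom) f.2
        rw [MonoidHom.map_closure, ← Set.range_comp,
          Subgroup.map_top_of_surjective _ α.surjective] at h
        exact h⟩
      one_smul := fun f => rfl
      mul_smul := fun a b f => rfl }
  have h := card_dvd_of_free_action (A := MulAut G)
    (X := {f : Fin r → G // Subgroup.closure (Set.range f) = ⊤})
    fun α f hf => aut_eq_one_of_fix_generators f.1 f.2 α fun i => congrFun (congrArg Subtype.val hf) i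
  refine h.trans (dvd_of_eq ?_)
  let π : {f : Fin r → G // Subgroup.closure (Set.range f) = ⊤} →
      {f : Fin r → G ⧸ frattini G // Subgroup.closure (Set.range f) = ⊤} :=
    fun f => ⟨fun i => (f.1 i : G ⧸ frattini G), mk_closure_eq_top _ f.1 f.2⟩
  haveI := Fintype.ofFinite {f : Fin r → G ⧸ frattini G // Subgroup.closure (Set.range f) = ⊤}
  rw [Nat.card_congr (Equiv.sigmaFiberEquiv π).symm, Nat.card_sigma]
  have hfib : ∀ g, Nat.card {f // π f = g} = Nat.card (frattini G) ^ r := by
    intro g
    have e : {f // π f = g} ≃ {f : Fin r → G // ∀ i, (f i : G ⧸ frattini G) = g.1 i} :=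
      { toFun := fun f => ⟨f.1.1, fun i => congrFun (congrArg Subtype.val f.2) i⟩
        invFun := fun f => ⟨⟨f.1, closure_eq_top_of_mk f.1 (by rw [funext f.2]; exact g.2)⟩,
          Subtype.ext (funext f.2)⟩
        left_inv := fun f => rfl
        right_inv := fun f => rfl }
    rw [Nat.card_congr (e.trans (fibreEquiv _ g.1)), Nat.card_pi, Finset.prod_const, Finset.card_univ,
      Fintype.card_fin]
  rw [Finset.sum_congr rfl (fun g _ => hfib g), Finset.sum_const, Finset.card_univ, smul_eq_mul,
    ← Nat.card_eq_fintype_card, mul_comm]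

end Cfsg.Agent.Lib.PGroups
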