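import Cfsg.Agent.Lib.Cores.Frattini
import Cfsg.Agent.Lib.LocalEven.Subnormal
import Mathlib

/-!
Three commuting involutory automorphisms of a `p`-group, `p` odd, with few large fixed subgroups.
-/

set_option autoImplicit false
set_option linter.style.haveILetI false
set_option linter.unusedSectionVars false

open scoped commutatorElement

namespace Cfsg.Agent.Lib.PGroups.Broad

variable {P : Type*} [Group P] [Finite P] {p : ℕ} [hp : Fact p.Prime]

theorem exists_sqrt (hP : IsPGroup p P) (hp2 : p ≠ 2) (n : P) : ∃ l : ℕ, (n ^ l) ^ 2 = n := by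
  obtain ⟨k, hk⟩ := hP n
  obtain ⟨c, hc⟩ : Odd (p ^ k) := (hp.out.odd_of_ne_two hp2).pow
  refine ⟨c + 1, ?_⟩
  rw [← pow_mul, show (c + 1) * 2 = (2 * c + 1) + 1 by ring, pow_succ, ← hc, hk, one_mul]

theorem eq_one_of_inv_eq (hP : IsPGroup p P) (hp2 : p ≠ 2) {n : P} (h : n⁻¹ = n) : n = 1 := by
  obtain ⟨l, hl⟩ := exists_sqrt hP hp2 n
  have h2 : n ^ 2 = 1 := by
    rw [sq]; nth_rewrite 1 [← h]; exact inv_mul_cancel n
  rw [← hl, ← pow_mul, mul_comm, pow_mul, h2, one_pow]

/-- Fixed cosets of an involutory automorphism contain fixed points. -/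
theorem lift_fixed (hP : IsPGroup p P) (hp2 : p ≠ 2) (N : Subgroup P) {T : MulAut P}
    (hT : ∀ y, T (T y) = y) (x : P) (hx : x⁻¹ * T x ∈ N) : ∃ m ∈ N, T (x * m) = x * m := by
  let n := x⁻¹ * T x
  obtain ⟨l, hl⟩ := exists_sqrt hP hp2 n
  refine ⟨n ^ l, N.pow_mem hx l, ?_⟩
  have hn : T n = n⁻¹ := by
    show T (x⁻¹ * T x) = (x⁻¹ * T x)⁻¹
    rw [map_mul, map_inv, hT, mul_inv_rev, inv_inv]
  rw [map_mul, map_pow, hn, inv_pow, show T x = x * (n ^ l) ^ 2 by rw [hl]; simp [n], sq]
  simp [mul_assoc]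

/-- The induced map on the Frattini quotient. -/
noncomputable def bar (T : MulAut P) : P ⧸ frattini P →* P ⧸ frattini P :=
  QuotientGroup.map (frattini P) (frattini P) T.toMonoidHom
    (Subgroup.characteristic_iff_comap_eq.mp inferInstance T).ge

theorem bar_mk (T : MulAut P) (x : P) : bar T (x : P ⧸ frattini P) = ((T x : P) : P ⧸ frattini P) := rfl

theorem bar_mul (S T : MulAut P) (w : P ⧸ frattini P) : bar (S * T) w = bar S (bar T w) := by
  obtain ⟨x, rfl⟩ := QuotientGroup.mk_surjective w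
  rw [bar_mk, bar_mk, bar_mk]; rfl

theorem bar_one (w : P ⧸ frattini P) : bar 1 w = w := by
  obtain ⟨x, rfl⟩ := QuotientGroup.mk_surjective w
  rw [bar_mk]; rfl

theorem quot_pow (hP : IsPGroup p P) (w : P ⧸ frattini P) : w ^ p = 1 := by
  obtain ⟨x, rfl⟩ := QuotientGroup.mk_surjective w
  rw [← QuotientGroup.mk_pow, QuotientGroup.eq_one_iff]
  exact Cores.pow_mem_frattini hP x

theorem quot_comm (hP : IsPGroup p P) (a b : P ⧸ frattini P) : a * b = b * a := by
  haveI := hP.isNilpotent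
  exact ((Subgroup.Normal.quotient_commutative_iff_commutator_le (N := frattini P)).mpr
    Cores.commutator_le_frattini).is_comm.comm a b

theorem top_of_quot (H : Subgroup P) (h : H.map (QuotientGroup.mk' (frattini P)) = ⊤) : H = ⊤ := by
  refine frattini_nongenerating (eq_top_iff.mpr fun x _ => ?_)
  obtain ⟨y, hy, hyx⟩ := (h ▸ Subgroup.mem_top (x : P ⧸ frattini P) :
    (x : P ⧸ frattini P) ∈ H.map (QuotientGroup.mk' (frattini P)))
  have h2 : y⁻¹ * x ∈ frattini P := QuotientGroup.eq.mp hyx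
  have := Subgroup.mul_mem_sup hy h2
  rwa [mul_inv_cancel_left] at this

/-- A set of elements generating modulo the Frattini subgroup generates. -/
theorem closure_top (S : Set P) (h : Subgroup.closure ((fun x : P => (x : P ⧸ frattini P)) '' S) = ⊤) :
    Subgroup.closure S = ⊤ :=
  top_of_quot _ (by rw [MonoidHom.map_closure]; exact h)

/-- Eigenvectors. -/
def Eig (I : Subgroup (MulAut P)) (w : P ⧸ frattini P) : Prop :=
  ∀ T ∈ I, bar T w = w ∨ bar T w = w⁻¹

theorem eig_top (hP : IsPGroup p P) (hp2 : p ≠ 2) (I : Subgroup (MulAut P))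
    (h2 : ∀ T ∈ I, T * T = 1) (hc : ∀ S ∈ I, ∀ T ∈ I, S * T = T * S) :
    Subgroup.closure {w | Eig I w} = ⊤ := by
  classical
  haveI : Finite (MulAut P) := Finite.of_injective (fun e : MulAut P => (e : P → P)) fun a b h => by
    exact MulEquiv.ext fun x => congrFun h x
  suffices h : ∀ s : Finset (MulAut P), (∀ T ∈ s, T ∈ I) →
      Subgroup.closure {w : P ⧸ frattini P | ∀ T ∈ s, bar T w = w ∨ bar T w = w⁻¹} = ⊤ by
    haveI := Fintype.ofFinite (MulAut P)
    have := h (Finset.univ.filter fun T => T ∈ I) (fun T hT => (Finset.mem_filter.mp hT).2)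
    convert this using 3
    ext w
    simp [Eig]
  intro s
  induction s using Finset.induction_on with
  | empty => intro _; simp
  | insert T s _ ih =>
    intro hs
    rw [eq_top_iff, ← ih fun S hS => hs S (Finset.mem_insert_of_mem hS), Subgroup.closure_le]
    intro w hw
    have hTI := hs T (Finset.mem_insert_self T s)
    have hTT : ∀ v, bar T (bar T v) = v := fun v => by rw [← bar_mul, h2 T hTI, bar_one]
    have hcm : ∀ S ∈ s, ∀ v, bar S (bar T v) = bar T (bar S v) := fun S hS v => by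
      rw [← bar_mul, ← bar_mul, hc S (hs S (Finset.mem_insert_of_mem hS)) T hTI]
    have key : ∀ u, (bar T u = u ∨ bar T u = u⁻¹) → (∀ S ∈ s, bar S u = u ∨ bar S u = u⁻¹) →
        u ∈ Subgroup.closure {w : P ⧸ frattini P | ∀ S ∈ insert T s, bar S w = w ∨ bar S w = w⁻¹} := by
      intro u hu hu'
      refine Subgroup.subset_closure fun S hS => ?_
      rcases Finset.mem_insert.mp hS with rfl | hS
      · exact hu
      · exact hu' S hS
    have ha : w * bar T w ∈ Subgroup.closure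
        {w : P ⧸ frattini P | ∀ S ∈ insert T s, bar S w = w ∨ bar S w = w⁻¹} := by
      refine key _ (Or.inl (by rw [map_mul, hTT, quot_comm hP])) fun S hS => ?_
      rcases hw S hS with e | e
      · left; rw [map_mul, hcm S hS, e]
      · right; rw [map_mul, hcm S hS, e, map_inv, mul_inv_rev, quot_comm hP]
    have hb : w * (bar T w)⁻¹ ∈ Subgroup.closure
        {w : P ⧸ frattini P | ∀ S ∈ insert T s, bar S w = w ∨ bar S w = w⁻¹} := by
      refine key _ (Or.inr (by rw [map_mul, map_inv, hTT, mul_inv_rev, inv_inv])) fun S hS => ?_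
      rcases hw S hS with e | e
      · left; rw [map_mul, map_inv, hcm S hS, e]
      · right; rw [map_mul, map_inv, hcm S hS, e, map_inv, mul_inv_rev, quot_comm hP (bar T w)⁻¹⁻¹]
    obtain ⟨l, hl⟩ := exists_sqrt (hP.to_quotient (frattini P)) hp2 w
    have hw2 : (w * bar T w) * (w * (bar T w)⁻¹) = w ^ 2 := by
      rw [quot_comm hP w (bar T w)⁻¹, mul_assoc, mul_inv_cancel_left, sq]
    have := Subgroup.pow_mem _ (Subgroup.mul_mem _ ha hb) l
    rw [hw2, ← pow_mul, mul_comm, pow_mul, hl] at this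
    exact this

/-- Three elements in a cyclic fixed image. -/
theorem mem_zpowers_of_fixed (hP : IsPGroup p P) (hp2 : p ≠ 2) {T : MulAut P} (hT : ∀ y, T (T y) = y)
    {g : P} (hg : ∀ x : P, (T x = x ↔ x ∈ Subgroup.zpowers g)) {u v : P ⧸ frattini P}
    (hu : bar T u = u) (hv : bar T v = v) (hu1 : u ≠ 1) : v ∈ Subgroup.zpowers u := by
  have key : ∀ w, bar T w = w → w ∈ Subgroup.zpowers (g : P ⧸ frattini P) := by
    intro w hw
    obtain ⟨x, rfl⟩ := QuotientGroup.mk_surjective w
    obtain ⟨m, hm, hfix⟩ := lift_fixed hP hp2 (frattini P) hT x (QuotientGroup.eq.mp hw.symm)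
    obtain ⟨i, hi⟩ := (hg _).mp hfix
    refine ⟨i, ?_⟩
    show (g : P ⧸ frattini P) ^ i = _
    rw [← QuotientGroup.mk_zpow, show g ^ i = x * m from hi, QuotientGroup.mk_mul,
      (QuotientGroup.eq_one_iff m).mpr hm, mul_one]
  have hgu : (g : P ⧸ frattini P) ∈ Subgroup.zpowers u := by
    have hle : Subgroup.zpowers u ≤ Subgroup.zpowers (g : P ⧸ frattini P) := Subgroup.zpowers_le.mpr (key u hu)
    have heq := Subgroup.eq_of_le_of_card_ge hle (by
      rw [Nat.card_zpowers, Nat.card_zpowers, orderOf_eq_prime (quot_pow hP u) hu1]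
      exact Nat.le_of_dvd hp.out.pos (orderOf_dvd_of_pow_eq_one (quot_pow hP _)))
    rw [heq]; exact Subgroup.mem_zpowers _
  exact Subgroup.zpowers_le.mpr hgu (key v hv)

theorem main (hP : IsPGroup p P) (hp2 : p ≠ 2) (I : Subgroup (MulAut P))
    (h2 : ∀ T ∈ I, T * T = 1) (hc : ∀ S ∈ I, ∀ T ∈ I, S * T = T * S) (hI8 : Nat.card I = 8)
    (I₀ : Subgroup (MulAut P)) (hI₀ : I₀ < I)
    (hdisj : ∀ T ∈ I₀, T ≠ 1 → ∃ g : P, ∀ x : P, (T x = x ↔ x ∈ Subgroup.zpowers g))
    (hprod : ∀ T ∈ I, ∀ T' ∈ I, T ≠ 1 → T' ≠ 1 → (¬ ∃ g : P, ∀ x : P, (T x = x ↔ x ∈ Subgroup.zpowers g)) →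
      (¬ ∃ g : P, ∀ x : P, (T' x = x ↔ x ∈ Subgroup.zpowers g)) → T * T' ∈ I₀) :
    IsMulCommutative P ∧ (∃ a b c : P, Subgroup.closure {a, b, c} = ⊤) ∧ (¬ ∃ a b : P, Subgroup.closure {a, b} = ⊤) ∧
      Nat.card {T : MulAut P // T ∈ I ∧ T ≠ 1 ∧ ¬ ∃ g : P, ∀ x : P, (T x = x ↔ x ∈ Subgroup.zpowers g)} = 3 ∧
      Subgroup.closure {T : MulAut P | T ∈ I ∧ T ≠ 1 ∧ ¬ ∃ g : P, ∀ x : P, (T x = x ↔ x ∈ Subgroup.zpowers g)} = I ∧
      (I₀ : Set (MulAut P)) = {S : MulAut P | ∃ T T' : MulAut P, T ∈ I ∧ T' ∈ I ∧ T ≠ 1 ∧ T' ≠ 1 ∧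
        (¬ ∃ g : P, ∀ x : P, (T x = x ↔ x ∈ Subgroup.zpowers g)) ∧ (¬ ∃ g : P, ∀ x : P, (T' x = x ↔ x ∈ Subgroup.zpowers g)) ∧ S = T * T'} := by
  classical
  let W := P ⧸ frattini P
  have hWP : IsPGroup p W := hP.to_quotient _
  have htwo : ∀ T ∈ I, ∀ y, T (T y) = y := fun T hT y => by
    rw [← MulAut.mul_apply, h2 T hT]; rfl
  have hfaith : ∀ T ∈ I, (∀ w : W, bar T w = w) → T = 1 := by
    intro T hT h
    let F : Subgroup P := T.toMonoidHom.eqLocus (MonoidHom.id P)
    have : F = ⊤ := top_of_quot F (eq_top_iff.mpr fun w _ => by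
      obtain ⟨x, rfl⟩ := QuotientGroup.mk_surjective w
      obtain ⟨m, hm, hfix⟩ := lift_fixed hP hp2 (frattini P) (htwo T hT) x (QuotientGroup.eq.mp (h x).symm)
      exact ⟨x * m, hfix, by
        rw [QuotientGroup.mk'_apply, QuotientGroup.mk_mul, (QuotientGroup.eq_one_iff m).mpr hm, mul_one]⟩)
    exact MulEquiv.ext fun x => (this ▸ Subgroup.mem_top x : x ∈ F)
  have heig := eig_top hP hp2 I h2 hc
  have hmove : ∀ T ∈ I, T ≠ 1 → ∃ w : W, Eig I w ∧ bar T w ≠ w := by
    intro T hT hT1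
    by_contra hcon
    push Not at hcon
    refine hT1 (hfaith T hT fun w => ?_)
    have hw : w ∈ Subgroup.closure {w | Eig I w} := heig ▸ Subgroup.mem_top w
    exact (Subgroup.closure_le ((bar T).eqLocus (MonoidHom.id W))).mpr (fun v hv => hcon v hv) hw
  have hneg : ∀ T ∈ I, ∀ w, Eig I w → bar T w ≠ w → bar T w = w⁻¹ := fun T hT w hw h =>
    (hw T hT).resolve_left h
  have hex : ∀ T : MulAut P, ∀ w : W, bar T w ≠ w → w ≠ 1 := fun T w h e => h (by rw [e, map_one])
  have hinv : ∀ w : W, w ≠ 1 → w⁻¹ ≠ w := fun w hw e => hw (eq_one_of_inv_eq hWP hp2 e)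
  -- the basis
  obtain ⟨T₁, hT₁, hT₁1⟩ : ∃ T ∈ I, T ≠ 1 := by
    by_contra hcon
    push Not at hcon
    have : I = ⊥ := (Subgroup.eq_bot_iff_forall _).mpr hcon
    rw [this, Subgroup.card_bot] at hI8
    omega
  have hker : ∀ (S : Finset W), S.card ≤ 2 → (∀ w ∈ S, Eig I w) → ∃ T ∈ I, T ≠ 1 ∧ ∀ w ∈ S, bar T w = w := by
    intro S hS hSe
    by_contra hcon
    push Not at hcon
    let f : I → (S → Bool) := fun T w => decide (bar (T : MulAut P) w = w)
    have hf : Function.Injective f := by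
      intro A B hAB
      have hAB' : ∀ w : S, (bar (A : MulAut P) w = w ↔ bar (B : MulAut P) w = w) := fun w => by
        simpa [f] using congrFun hAB w
      by_contra hne
      obtain ⟨w, hwS, hw⟩ := hcon ((A : MulAut P) * B) (I.mul_mem A.2 B.2) (fun e => hne (Subtype.ext (by
        have : (A : MulAut P) * B * B = B := by rw [e, one_mul]
        rwa [mul_assoc, h2 B B.2, mul_one] at this)))
      apply hw
      rw [bar_mul]
      by_cases h : bar (B : MulAut P) w = w
      · rw [h, (hAB' ⟨w, hwS⟩).mpr h]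
      · rw [hneg B B.2 w (hSe w hwS) h, map_inv,
          hneg A A.2 w (hSe w hwS) (fun h' => h ((hAB' ⟨w, hwS⟩).mp h')), inv_inv]
    have h3 := Nat.card_le_card_of_injective f hf
    rw [hI8, Nat.card_fun, Nat.card_eq_fintype_card (α := S), Fintype.card_coe,
      Nat.card_eq_fintype_card, Fintype.card_bool] at h3
    have := Nat.pow_le_pow_right (show 0 < 2 by norm_num) hS
    omega
  obtain ⟨w₁, hw₁, hm₁⟩ := hmove T₁ hT₁ hT₁1
  obtain ⟨T₂, hT₂, hT₂1, hf₂⟩ := hker {w₁} (by simp) (by simpa using hw₁)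
  replace hf₂ : bar T₂ w₁ = w₁ := hf₂ w₁ (by simp)
  obtain ⟨w₂, hw₂, hm₂⟩ := hmove T₂ hT₂ hT₂1
  obtain ⟨e₃, he₃, he₃1, hf₃⟩ := hker {w₁, w₂} (Finset.card_le_two) (by simp [hw₁, hw₂])
  have h31 : bar e₃ w₁ = w₁ := hf₃ w₁ (by simp)
  have h32 : bar e₃ w₂ = w₂ := hf₃ w₂ (by simp)
  obtain ⟨w₃, hw₃, hm₃⟩ := hmove e₃ he₃ he₃1
  have h33 := hneg e₃ he₃ w₃ hw₃ hm₃
  obtain ⟨e₂, he₂, h21, h22, h23⟩ : ∃ e ∈ I, bar e w₁ = w₁ ∧ bar e w₂ = w₂⁻¹ ∧ bar e w₃ = w₃ := by
    have h22 := hneg T₂ hT₂ w₂ hw₂ hm₂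
    rcases hw₃ T₂ hT₂ with h | h
    · exact ⟨T₂, hT₂, hf₂, h22, h⟩
    · exact ⟨T₂ * e₃, I.mul_mem hT₂ he₃, by rw [bar_mul, h31, hf₂], by rw [bar_mul, h32, h22],
        by rw [bar_mul, h33, map_inv, h, inv_inv]⟩
  obtain ⟨e₁, he₁, h11, h12, h13⟩ : ∃ e ∈ I, bar e w₁ = w₁⁻¹ ∧ bar e w₂ = w₂ ∧ bar e w₃ = w₃ := by
    have h11 := hneg T₁ hT₁ w₁ hw₁ hm₁
    rcases hw₂ T₁ hT₁ with h | h <;> rcases hw₃ T₁ hT₁ with h' | h'
    · exact ⟨T₁, hT₁, h11, h, h'⟩
    · exact ⟨T₁ * e₃, I.mul_mem hT₁ he₃, by rw [bar_mul, h31, h11], by rw [bar_mul, h32, h],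
        by rw [bar_mul, h33, map_inv, h', inv_inv]⟩
    · exact ⟨T₁ * e₂, I.mul_mem hT₁ he₂, by rw [bar_mul, h21, h11], by rw [bar_mul, h22, map_inv, h, inv_inv],
        by rw [bar_mul, h23, h']⟩
    · refine ⟨T₁ * (e₂ * e₃), I.mul_mem hT₁ (I.mul_mem he₂ he₃), ?_, ?_, ?_⟩
      · rw [bar_mul, bar_mul, h31, h21, h11]
      · rw [bar_mul, bar_mul, h32, h22, map_inv, h, inv_inv]
      · rw [bar_mul, bar_mul, h33, map_inv, h23, map_inv, h', inv_inv]
  have n1 := hex _ _ hm₁
  have n2 := hex _ _ hm₂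
  have n3 := hex _ _ hm₃
  -- single signs are broad
  have hbroad : ∀ T ∈ I, ∀ S ∈ I, ∀ u v : W, u ≠ 1 → v ≠ 1 → bar T u = u → bar T v = v → bar S u = u →
      bar S v = v⁻¹ → ¬ ∃ g : P, ∀ x : P, (T x = x ↔ x ∈ Subgroup.zpowers g) := by
    intro T hT S _ u v hu hv hTu hTv hSu hSv ⟨g, hg⟩
    obtain ⟨i, hi⟩ := mem_zpowers_of_fixed hP hp2 (htwo T hT) hg hTu hTv hu
    apply hinv v hv
    rw [← hSv, ← hi, map_zpow, hSu]
  have hne1 : ∀ T : MulAut P, ∀ w : W, w ≠ 1 → bar T w = w⁻¹ → T ≠ 1 := fun T w hw h e =>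
    hinv w hw (by rw [← h, e, bar_one])
  have b1 := hbroad e₁ he₁ e₃ he₃ w₂ w₃ n2 n3 h12 h13 h32 h33
  have b2 := hbroad e₂ he₂ e₃ he₃ w₁ w₃ n1 n3 h21 h23 h31 h33
  have b3 := hbroad e₃ he₃ e₂ he₂ w₁ w₂ n1 n2 h31 h32 h21 h22
  have e1ne := hne1 e₁ w₁ n1 h11
  have e2ne := hne1 e₂ w₂ n2 h22
  have e3ne := hne1 e₃ w₃ n3 h33
  have m12 := hprod e₁ he₁ e₂ he₂ e1ne e2ne b1 b2
  have m13 := hprod e₁ he₁ e₃ he₃ e1ne e3ne b1 b3
  have m23 := hprod e₂ he₂ e₃ he₃ e2ne e3ne b2 b3
  -- the fixed line of a double sign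
  have hline : ∀ T ∈ I₀, ∀ u v : W, u ≠ 1 → T ≠ 1 → bar T u = u → bar T v = v → v ∈ Subgroup.zpowers u := by
    intro T hT u v hu hT1 h h'
    obtain ⟨g, hg⟩ := hdisj T hT hT1
    exact mem_zpowers_of_fixed hP hp2 (htwo T (hI₀.le hT)) hg h h' hu
  have n12 : e₁ * e₂ ≠ 1 := hne1 _ w₁ n1 (by rw [bar_mul, h21, h11])
  have n13 : e₁ * e₃ ≠ 1 := hne1 _ w₁ n1 (by rw [bar_mul, h31, h11])
  have n23 : e₂ * e₃ ≠ 1 := hne1 _ w₂ n2 (by rw [bar_mul, h32, h22])
  have hgen : Subgroup.closure ({w₁, w₂, w₃} : Set W) = ⊤ := by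
    rw [eq_top_iff, ← heig, Subgroup.closure_le]
    intro w hw
    have hsub : ∀ u ∈ ({w₁, w₂, w₃} : Set W), w ∈ Subgroup.zpowers u →
        w ∈ Subgroup.closure ({w₁, w₂, w₃} : Set W) := fun u hu h =>
      Subgroup.zpowers_le.mpr (Subgroup.subset_closure hu) h
    rcases hw _ (hI₀.le m12) with h | h
    · exact hsub w₃ (by simp) (hline _ m12 w₃ w n3 n12 (by rw [bar_mul, h23, h13]) h)
    rcases hw _ (hI₀.le m13) with h' | h'
    · exact hsub w₂ (by simp) (hline _ m13 w₂ w n2 n13 (by rw [bar_mul, h32, h12]) h')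
    refine hsub w₁ (by simp) (hline _ m23 w₁ w n1 n23 (by rw [bar_mul, h31, h21]) ?_)
    have e : e₂ * e₃ = (e₁ * e₂) * (e₁ * e₃) := by
      rw [hc e₁ he₁ e₂ he₂, mul_assoc, ← mul_assoc e₁ e₁, h2 e₁ he₁, one_mul]
    rw [e, bar_mul, h', map_inv, h, inv_inv]
  -- determination by signs
  have hdet : ∀ T ∈ I, bar T w₁ = w₁ → bar T w₂ = w₂ → bar T w₃ = w₃ → T = 1 := by
    intro T hT a b c
    refine hfaith T hT fun w => ?_
    exact (Subgroup.closure_le ((bar T).eqLocus (MonoidHom.id W))).mpr (by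
      rintro u (rfl | rfl | rfl) <;> assumption) (hgen ▸ Subgroup.mem_top w)
  let z := e₁ * (e₂ * e₃)
  have hz1 : bar z w₁ = w₁⁻¹ := by rw [bar_mul, bar_mul, h31, h21, h11]
  have hz2 : bar z w₂ = w₂⁻¹ := by rw [bar_mul, bar_mul, h32, h22, map_inv, h12]
  have hz3 : bar z w₃ = w₃⁻¹ := by rw [bar_mul, bar_mul, h33, map_inv, h23, map_inv, h13]
  have hzI : z ∈ I := I.mul_mem he₁ (I.mul_mem he₂ he₃)
  have hzinv : ∀ w : W, bar z w = w⁻¹ := by
    intro w
    let ι : W →* W :=
      { toFun := fun v => v⁻¹, map_one' := inv_one,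
        map_mul' := fun a b => by rw [mul_inv_rev, quot_comm hP] }
    exact (Subgroup.closure_le ((bar z).eqLocus ι)).mpr (by
      rintro u (rfl | rfl | rfl) <;> assumption) (hgen ▸ Subgroup.mem_top w)
  have heq : ∀ T ∈ I, T = 1 ∨ T = e₁ ∨ T = e₂ ∨ T = e₃ ∨ T = e₁ * e₂ ∨ T = e₁ * e₃ ∨ T = e₂ * e₃ ∨ T = z := by
    intro T hT
    have key : ∀ S ∈ I, bar T w₁ = bar S w₁ → bar T w₂ = bar S w₂ → bar T w₃ = bar S w₃ → T = S := by
      intro S hS a b c
      have hh : S * T = 1 := hdet (S * T) (I.mul_mem hS hT) (by rw [bar_mul, a, ← bar_mul, h2 S hS, bar_one])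
        (by rw [bar_mul, b, ← bar_mul, h2 S hS, bar_one]) (by rw [bar_mul, c, ← bar_mul, h2 S hS, bar_one])
      calc T = (S * S) * T := by rw [h2 S hS, one_mul]
        _ = S := by rw [mul_assoc, hh, mul_one]
    rcases hw₁ T hT with a | a <;> rcases hw₂ T hT with b | b <;> rcases hw₃ T hT with c | c
    · exact Or.inl (hdet T hT a b c)
    · exact Or.inr (Or.inr (Or.inr (Or.inl (key e₃ he₃ (a.trans h31.symm) (b.trans h32.symm) (c.trans h33.symm)))))
    · exact Or.inr (Or.inr (Or.inl (key e₂ he₂ (a.trans h21.symm) (b.trans h22.symm) (c.trans h23.symm))))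
    · exact Or.inr (Or.inr (Or.inr (Or.inr (Or.inr (Or.inr (Or.inl (key _ (I.mul_mem he₂ he₃)
        (by rw [a, bar_mul, h31, h21]) (by rw [b, bar_mul, h32, h22]) (by rw [c, bar_mul, h33, map_inv, h23]))))))))
    · exact Or.inr (Or.inl (key e₁ he₁ (a.trans h11.symm) (b.trans h12.symm) (c.trans h13.symm)))
    · exact Or.inr (Or.inr (Or.inr (Or.inr (Or.inr (Or.inl (key _ (I.mul_mem he₁ he₃)
        (by rw [a, bar_mul, h31, h11]) (by rw [b, bar_mul, h32, h12]) (by rw [c, bar_mul, h33, map_inv, h13])))))))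
    · exact Or.inr (Or.inr (Or.inr (Or.inr (Or.inl (key _ (I.mul_mem he₁ he₂)
        (by rw [a, bar_mul, h21, h11]) (by rw [b, bar_mul, h22, map_inv, h12]) (by rw [c, bar_mul, h23, h13]))))))
    · exact Or.inr (Or.inr (Or.inr (Or.inr (Or.inr (Or.inr (Or.inr (key z hzI (a.trans hz1.symm)
        (b.trans hz2.symm) (c.trans hz3.symm))))))))
  -- the commutator subgroup
  haveI := hP.isNilpotent
  let ws : Fin 3 → W := ![w₁, w₂, w₃]
  have habel : commutator P = ⊥ := by
    by_contra hC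
    let C := commutator P
    haveI hCc : C.Characteristic := inferInstanceAs (commutator P).Characteristic
    have hPC : ⁅(⊤ : Subgroup P), C⁆ ≤ C := Subgroup.commutator_le_right _ _
    let N : Subgroup P := ⁅(⊤ : Subgroup P), C⁆ ⊔ (frattini C).map C.subtype
    haveI : ((frattini C).map C.subtype).Normal := inferInstance
    haveI hNn : N.Normal := Subgroup.sup_normal _ _
    have hNC : N ≤ C := sup_le hPC (Subgroup.map_subtype_le _)
    have hNlt : N ≠ C := by
      intro h
      apply hC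
      have h1 : ⁅(⊤ : Subgroup P), C⁆ = C := by
        have h2' : (⁅(⊤ : Subgroup P), C⁆.subgroupOf C) ⊔ frattini C = ⊤ := by
          apply Subgroup.map_injective C.subtype_injective
          rw [Subgroup.map_sup, Subgroup.map_subgroupOf_eq_of_le hPC, ← MonoidHom.range_eq_map, Subgroup.range_subtype]
          exact h
        have := frattini_nongenerating h2'
        rw [← Subgroup.map_subgroupOf_eq_of_le hPC, this, ← MonoidHom.range_eq_map, Subgroup.range_subtype]
      obtain ⟨n, hn⟩ := Subgroup.nilpotent_iff_lowerCentralSeries.mp (inferInstance : Group.IsNilpotent P)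
      have hall : ∀ k, C ≤ (⊤ : Subgroup P).lowerCentralSeries k := by
        intro k
        induction k with
        | zero => exact le_top
        | succ k ih =>
          show C ≤ ⁅(⊤ : Subgroup P).lowerCentralSeries k, ⊤⁆
          calc C = ⁅C, (⊤ : Subgroup P)⁆ := by rw [Subgroup.commutator_comm, h1]
            _ ≤ _ := Subgroup.commutator_mono ih le_rfl
      exact eq_bot_iff.mpr (hn ▸ hall n)
    have hNinv : ∀ T : MulAut P, ∀ x ∈ N, T x ∈ N := by
      intro T x hx
      have hCmap : C.map T.toMonoidHom = C := Subgroup.characteristic_iff_map_eq.mp hCc T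
      have hF : ((frattini C).map C.subtype).Characteristic := inferInstance
      have hmap : N.map T.toMonoidHom = N := by
        rw [Subgroup.map_sup, Subgroup.map_commutator, hCmap,
          Subgroup.map_top_of_surjective _ T.surjective, Subgroup.characteristic_iff_map_eq.mp hF T]
      exact hmap ▸ Subgroup.mem_map_of_mem _ hx
    let π := QuotientGroup.mk' N
    have hcen : ∀ c ∈ C, ∀ x : P, π x * π c = π c * π x := by
      intro c hcC x
      rw [← map_mul, ← map_mul]
      refine QuotientGroup.eq.mpr ?_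
      have := le_sup_left (b := (frattini C).map C.subtype) (Subgroup.commutator_mem_commutator
        (Subgroup.mem_top (x⁻¹)) (C.inv_mem hcC))
      have e : (x * c)⁻¹ * (c * x) = (⁅x⁻¹, c⁻¹⁆)⁻¹ := by
        simp only [commutatorElement_def]; group
      rw [e]
      exact N.inv_mem this
    have hcp : ∀ c ∈ C, π c ^ p = 1 := by
      intro c hcC
      rw [← map_pow]
      refine (QuotientGroup.eq_one_iff _).mpr (Subgroup.mem_sup_right ?_)
      exact ⟨⟨c, hcC⟩ ^ p, Cores.pow_mem_frattini (hP.to_subgroup C) _, rfl⟩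
    -- lifts
    choose lift hlift using fun w : W => QuotientGroup.mk_surjective (s := frattini P) w
    have hcomm : ∀ i j : Fin 3, π (lift (ws i)) * π (lift (ws j)) = π (lift (ws j)) * π (lift (ws i)) := by
      have key : ∀ T ∈ I₀, T ≠ 1 → ∀ u v w : W, u ≠ 1 → bar T u = u → bar T v = v⁻¹ → bar T w = w⁻¹ →
          π (lift v) * π (lift w) = π (lift w) * π (lift v) := by
        intro T hT hT1 u v w hu hTu hTv hTw
        obtain ⟨g, hg⟩ := hdisj T hT hT1
        -- images of the lifts modulo centre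
        have hc2 : ∀ x y : P, (x : W) = y → ∀ a : P, π ⁅x, a⁆ = π ⁅y, a⁆ := by
          intro x y hxy a
          have hfr : x⁻¹ * y ∈ frattini P := QuotientGroup.eq.mp hxy
          have hz : π (x⁻¹ * y) * π a = π a * π (x⁻¹ * y) := by
            let Z : Subgroup P := (Subgroup.center (P ⧸ N)).comap π
            have hCZ : C ≤ Z := fun c hcC => Subgroup.mem_center_iff.mpr fun q => by
              obtain ⟨q, rfl⟩ := QuotientGroup.mk'_surjective N q
              exact hcen c hcC q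
            have hpow : ∀ s : P, s ^ p ∈ Z := by
              intro s
              refine Subgroup.mem_center_iff.mpr fun q => ?_
              obtain ⟨q, rfl⟩ := QuotientGroup.mk'_surjective N q
              have hd : Commute (π s) (π ⁅q, s⁆) := hcen _ (Subgroup.commutator_mem_commutator (Subgroup.mem_top q) (Subgroup.mem_top s)) s
              have hd2 : Commute (π ⁅q, s⁆) (π s) := hd.symm
              have e : π q * π s * (π q)⁻¹ = π ⁅q, s⁆ * π s := by
                rw [← map_inv, ← map_mul, ← map_mul, ← map_mul, commutatorElement_def, inv_mul_cancel_right]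
              show π q * π (s ^ p) = π (s ^ p) * π q
              rw [map_pow, ← mul_inv_eq_iff_eq_mul, ← conj_pow, e, hd2.mul_pow,
                hcp _ (Subgroup.commutator_mem_commutator (Subgroup.mem_top q) (Subgroup.mem_top s)), one_mul]
            have hle : frattini P ≤ Z := LocalEven.frattini_le_of_quotient_elementary (p := p) hCZ hpow
            exact ((Subgroup.mem_center_iff.mp (hle hfr)) (π a)).symm
          have e : y = x * (x⁻¹ * y) := by group
          have e' : π y = π x * π (x⁻¹ * y) := by rw [← map_mul, ← e]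
          simp only [commutatorElement_def, map_mul, map_inv]
          rw [e']
          calc π x * π a * (π x)⁻¹ * (π a)⁻¹
              = π x * (π a * π (x⁻¹ * y)) * (π (x⁻¹ * y))⁻¹ * (π x)⁻¹ * (π a)⁻¹ := by group
            _ = π x * (π (x⁻¹ * y) * π a) * (π (x⁻¹ * y))⁻¹ * (π x)⁻¹ * (π a)⁻¹ := by rw [hz]
            _ = _ := by group
        have hc3 : ∀ x x' y y' : P, (x : W) = x' → (y : W) = y' → π ⁅x, y⁆ = π ⁅x', y'⁆ := by
          intro x x' y y' hx hy
          rw [hc2 x x' hx y, ← commutatorElement_inv y x', map_inv, hc2 y y' hy x', ← map_inv, commutatorElement_inv]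
        have hinv2 : ∀ a b : P, π ⁅a⁻¹, b⁻¹⁆ = π ⁅a, b⁆ := by
          intro a b
          have hk := hcen _ (Subgroup.commutator_mem_commutator (Subgroup.mem_top a⁻¹) (Subgroup.mem_top b⁻¹)) (b * a)
          calc π ⁅a⁻¹, b⁻¹⁆ = (π (b * a) * π ⁅a⁻¹, b⁻¹⁆) * (π (b * a))⁻¹ := by rw [hk]; group
            _ = π ⁅a, b⁆ := by
              simp only [map_commutatorElement, map_mul, map_inv, commutatorElement_def]; group
        let c := ⁅lift v, lift w⁆
        have hcC : c ∈ C := Subgroup.commutator_mem_commutator (Subgroup.mem_top _) (Subgroup.mem_top _)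
        have hfixed : ∀ S ∈ I, bar S v = v⁻¹ → bar S w = w⁻¹ → π (S c) = π c := by
          intro S _ hv hw
          rw [map_commutatorElement, hc3 (S (lift v)) (lift v)⁻¹ (S (lift w)) (lift w)⁻¹, hinv2]
          · rw [← bar_mk, hlift, hv, QuotientGroup.mk_inv, hlift]
          · rw [← bar_mk, hlift, hw, QuotientGroup.mk_inv, hlift]
        have hcovN : ∀ y : P, π (T y) = π y → π y ∈ Subgroup.zpowers (π g) := by
          intro y hy
          obtain ⟨m, hm, hfix⟩ := lift_fixed hP hp2 N (htwo T (hI₀.le hT)) y (QuotientGroup.eq.mp hy.symm)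
          obtain ⟨i, hi⟩ := (hg _).mp hfix
          exact ⟨i, by
            show π g ^ i = π y
            rw [← map_zpow, show g ^ i = y * m from hi, map_mul, show π m = 1 from (QuotientGroup.eq_one_iff m).mpr hm, mul_one]⟩
        obtain ⟨a, ha⟩ := hcovN c (hfixed T (hI₀.le hT) hTv hTw)
        -- `g` is outside the Frattini subgroup and `z` acts on it as an inversion modulo it
        have hgW : (g : W) ≠ 1 := by
          intro e
          obtain ⟨m, hm, hfix⟩ := lift_fixed hP hp2 (frattini P) (htwo T (hI₀.le hT)) (lift u)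
            (QuotientGroup.eq.mp (by rw [← bar_mk, hlift, hTu]))
          obtain ⟨i, hi⟩ := (hg _).mp hfix
          apply hu
          have h' : ((g : W)) ^ i = ((lift u * m : P) : W) := by rw [← QuotientGroup.mk_zpow]; exact congrArg _ hi
          rw [e, one_zpow, QuotientGroup.mk_mul, (QuotientGroup.eq_one_iff m).mpr hm, mul_one, hlift] at h'
          exact h'.symm
        obtain ⟨s, hs⟩ : z g ∈ Subgroup.zpowers g := (hg _).mp (by
          rw [← MulAut.mul_apply, hc T (hI₀.le hT) z hzI, MulAut.mul_apply, (hg g).mpr (Subgroup.mem_zpowers g)])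
        have hsp : (p : ℤ) ∣ s + 1 := by
          rw [← orderOf_eq_prime (quot_pow hP (g : W)) hgW, orderOf_dvd_iff_zpow_eq_one, zpow_add, zpow_one,
            ← QuotientGroup.mk_zpow, show g ^ s = z g from hs, ← bar_mk, hzinv, inv_mul_cancel]
        have hzc : π (z c) = π c := hfixed z hzI (hzinv v) (hzinv w)
        have hd : π c ^ s = π c := by
          have hga : (g ^ a)⁻¹ * c ∈ N := QuotientGroup.eq.mp (show π (g ^ a) = π c by rw [map_zpow]; exact ha)
          have h1 : π (z (g ^ a)) = π (z c) := QuotientGroup.eq.mpr (by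
            have := hNinv z _ hga
            rwa [map_mul, map_inv] at this)
          calc π c ^ s = (π g ^ a) ^ s := by rw [show π g ^ a = π c from ha]
            _ = π ((g ^ s) ^ a) := by rw [map_zpow, map_zpow, ← zpow_mul, ← zpow_mul, mul_comm]
            _ = π (z (g ^ a)) := by rw [show g ^ s = z g from hs, map_zpow z]
            _ = π c := h1.trans hzc
        obtain ⟨t, ht⟩ := hsp
        have h3 : π c ^ (2 : ℕ) = 1 := by
          have e1 : π c ^ (s + 1) = π c ^ (2 : ℕ) := by rw [zpow_add, zpow_one, hd, sq]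
          rw [← e1, ht, zpow_mul, zpow_natCast, hcp c hcC, one_zpow]
        have h4 : π c = 1 := eq_one_of_inv_eq (hP.to_quotient N) hp2 (inv_eq_of_mul_eq_one_right (by rw [← sq]; exact h3))
        rw [show π c = ⁅π (lift v), π (lift w)⁆ from map_commutatorElement π _ _, commutatorElement_eq_one_iff_mul_comm] at h4
        exact h4
      have k12 := key _ m12 n12 w₃ w₁ w₂ n3 (by rw [bar_mul, h23, h13]) (by rw [bar_mul, h21, h11]) (by rw [bar_mul, h22, map_inv, h12])
      have k13 := key _ m13 n13 w₂ w₁ w₃ n2 (by rw [bar_mul, h32, h12]) (by rw [bar_mul, h31, h11]) (by rw [bar_mul, h33, map_inv, h13])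
      have k23 := key _ m23 n23 w₁ w₂ w₃ n1 (by rw [bar_mul, h31, h21]) (by rw [bar_mul, h32, h22]) (by rw [bar_mul, h33, map_inv, h23])
      intro i j
      fin_cases i <;> fin_cases j
      all_goals first
        | rfl
        | exact k12
        | exact k12.symm
        | exact k13
        | exact k13.symm
        | exact k23
        | exact k23.symm
    have hgenP : Subgroup.closure (Set.range fun i => lift (ws i)) = ⊤ := by
      refine closure_top _ (eq_top_iff.mpr ?_)
      rw [← hgen]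
      refine Subgroup.closure_mono ?_
      rintro u (rfl | rfl | rfl)
      · exact ⟨_, ⟨0, rfl⟩, hlift _⟩
      · exact ⟨_, ⟨1, rfl⟩, hlift _⟩
      · exact ⟨_, ⟨2, rfl⟩, hlift _⟩
    have hab : ∀ x y : P, π x * π y = π y * π x := by
      have hstep : ∀ i, ∀ y : P, π (lift (ws i)) * π y = π y * π (lift (ws i)) := fun i y => by
        have : y ∈ (Subgroup.centralizer {π (lift (ws i))}).comap π := by
          refine (Subgroup.closure_le _).mpr ?_ (hgenP ▸ Subgroup.mem_top y)
          rintro _ ⟨j, rfl⟩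
          exact Subgroup.mem_centralizer_singleton_iff.mpr (hcomm j i)
        exact (Subgroup.mem_centralizer_singleton_iff.mp this).symm
      intro x y
      have : x ∈ (Subgroup.centralizer {π y}).comap π := by
        refine (Subgroup.closure_le _).mpr ?_ (hgenP ▸ Subgroup.mem_top x)
        rintro _ ⟨j, rfl⟩
        exact Subgroup.mem_centralizer_singleton_iff.mpr (hstep j y)
      exact Subgroup.mem_centralizer_singleton_iff.mp this
    refine hNlt (le_antisymm hNC ?_)
    show commutator P ≤ N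
    exact (Subgroup.Normal.quotient_commutative_iff_commutator_le (N := N)).mp ⟨⟨fun q r => by
      obtain ⟨q, rfl⟩ := QuotientGroup.mk'_surjective N q
      obtain ⟨r, rfl⟩ := QuotientGroup.mk'_surjective N r
      exact hab q r⟩⟩
  have hcommP : ∀ x y : P, x * y = y * x := fun x y => by
    rw [← commutatorElement_eq_one_iff_mul_comm, ← Subgroup.mem_bot, ← habel]
    exact Subgroup.commutator_mem_commutator (Subgroup.mem_top x) (Subgroup.mem_top y)
  -- the inversion has no fixed points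
  have hzfree : ∀ x : P, z x = x → x ∈ Subgroup.zpowers (1 : P) := by
    let F : Subgroup P := z.toMonoidHom.eqLocus (MonoidHom.id P)
    let sq' : P →* P := { toFun := fun t => t ^ p, map_one' := one_pow p, map_mul' := fun u v => (show Commute u v from hcommP u v).mul_pow p }
    have hFp : ∀ x ∈ F, ∃ y ∈ F, y ^ p = x := by
      intro x hx
      have hx' : z x = x := hx
      have hxF : x ∈ frattini P := by
        rw [← QuotientGroup.eq_one_iff]
        refine eq_one_of_inv_eq hWP hp2 ?_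
        rw [← hzinv, bar_mk, hx']
      obtain ⟨y, hy⟩ : ∃ y : P, y ^ p = x := by
        have hle : frattini P ≤ sq'.range := LocalEven.frattini_le_of_quotient_elementary (p := p)
          (by show commutator P ≤ _; rw [habel]; exact bot_le) (fun t => ⟨t, rfl⟩)
        exact hle hxF
      obtain ⟨l, hl⟩ := exists_sqrt hP hp2 x
      refine ⟨(y * z y) ^ l, ?_, ?_⟩
      · show z ((y * z y) ^ l) = (y * z y) ^ l
        rw [map_pow, map_mul, htwo z hzI, hcommP]
      · have e : (y * z y) ^ p = x ^ 2 := by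
          rw [(show Commute y (z y) from hcommP _ _).mul_pow, ← map_pow, hy, hx', sq]
        rw [← pow_mul, mul_comm, pow_mul, e, ← pow_mul, mul_comm, pow_mul, hl]
    have hF : ∀ n : ℕ, ∀ x ∈ F, ∃ y ∈ F, y ^ p ^ n = x := by
      intro n
      induction n with
      | zero => intro x hx; exact ⟨x, hx, by simp⟩
      | succ n ih =>
        intro x hx
        obtain ⟨y, hy, e⟩ := hFp x hx
        obtain ⟨y', hy', e'⟩ := ih y hy
        exact ⟨y', hy', by rw [pow_succ, pow_mul, e', e]⟩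
    intro x hx
    obtain ⟨n, hn⟩ := hP.exists_card_eq
    obtain ⟨y, -, hy⟩ := hF n x hx
    rw [← hy, ← hn, pow_card_eq_one']
    exact Subgroup.one_mem _
  have hbr : ∀ T ∈ I, T ≠ 1 → ((¬ ∃ g : P, ∀ x : P, (T x = x ↔ x ∈ Subgroup.zpowers g)) ↔ T = e₁ ∨ T = e₂ ∨ T = e₃) := by
    intro T hT hT1
    constructor
    · intro hb
      rcases heq T hT with h | h | h | h | h | h | h | h
      · exact absurd h hT1
      · exact Or.inl h
      · exact Or.inr (Or.inl h)
      · exact Or.inr (Or.inr h)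
      · exact absurd (hdisj T (h ▸ m12) hT1) hb
      · exact absurd (hdisj T (h ▸ m13) hT1) hb
      · exact absurd (hdisj T (h ▸ m23) hT1) hb
      · refine absurd ⟨1, fun x => ⟨fun e => hzfree x (h ▸ e), fun e => ?_⟩⟩ hb
        rw [Subgroup.zpowers_one_eq_bot, Subgroup.mem_bot] at e
        rw [e, map_one]
    · rintro (rfl | rfl | rfl) <;> assumption
  have hset : {T : MulAut P | T ∈ I ∧ T ≠ 1 ∧ ¬ ∃ g : P, ∀ x : P, (T x = x ↔ x ∈ Subgroup.zpowers g)} = {e₁, e₂, e₃} := by
    ext T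
    constructor
    · rintro ⟨a, b, c⟩; exact (hbr T a b).mp c
    · rintro (rfl | rfl | rfl)
      · exact ⟨he₁, e1ne, b1⟩
      · exact ⟨he₂, e2ne, b2⟩
      · exact ⟨he₃, e3ne, b3⟩
  have d12 : e₁ ≠ e₂ := fun h => hinv w₁ n1 (by rw [← h11, h, h21])
  have d13 : e₁ ≠ e₃ := fun h => hinv w₁ n1 (by rw [← h11, h, h31])
  have d23 : e₂ ≠ e₃ := fun h => hinv w₂ n2 (by rw [← h22, h, h32])
  refine ⟨⟨⟨hcommP⟩⟩, ?_, ?_, ?_, ?_, ?_⟩
  · choose lift hlift using fun w : W => QuotientGroup.mk_surjective (s := frattini P) w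
    refine ⟨lift w₁, lift w₂, lift w₃, closure_top _ ?_⟩
    rw [Set.image_insert_eq, Set.image_insert_eq, Set.image_singleton, hlift, hlift, hlift]
    exact hgen
  · rintro ⟨a, b, hab⟩
    have htop : Subgroup.closure {(a : W), (b : W)} = ⊤ := by
      have := congrArg (Subgroup.map (QuotientGroup.mk' (frattini P))) hab
      rw [MonoidHom.map_closure, Subgroup.map_top_of_surjective _ (QuotientGroup.mk'_surjective _),
        Set.image_insert_eq, Set.image_singleton] at this
      exact this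
    -- at most `p ^ 2` elements against three independent ones
    letI : CommGroup W := { (inferInstance : Group W) with mul_comm := quot_comm hP }
    have hle : Nat.card W ≤ p ^ 2 := by
      let f : Fin p × Fin p → W := fun i => (a : W) ^ (i.1 : ℕ) * (b : W) ^ (i.2 : ℕ)
      have hsurj : Function.Surjective f := by
        intro w
        obtain ⟨m, n, hmn⟩ := Subgroup.mem_closure_pair.mp (htop ▸ Subgroup.mem_top w :
          w ∈ Subgroup.closure {(a : W), (b : W)})
        have red : ∀ (x : W) (m : ℤ), ∃ i : Fin p, x ^ (i : ℕ) = x ^ m := fun x m => by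
          refine ⟨⟨(m % p).toNat, ?_⟩, ?_⟩
          · have := Int.emod_lt_of_pos m (show (0 : ℤ) < p by exact_mod_cast hp.out.pos)
            have := Int.emod_nonneg m (show (p : ℤ) ≠ 0 by exact_mod_cast hp.out.ne_zero)
            omega
          · rw [← zpow_natCast, Int.toNat_of_nonneg (Int.emod_nonneg m (by exact_mod_cast hp.out.ne_zero))]
            conv_rhs => rw [← Int.emod_add_ediv_mul m p, zpow_add, mul_comm (m / p), zpow_mul, zpow_natCast,
              quot_pow hP, one_zpow, mul_one]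
        obtain ⟨i, hi⟩ := red a m
        obtain ⟨j, hj⟩ := red b n
        exact ⟨(i, j), by show (a : W) ^ (i : ℕ) * (b : W) ^ (j : ℕ) = w; rw [hi, hj, hmn]⟩
      have := Nat.card_le_card_of_surjective f hsurj
      rwa [Nat.card_prod, Nat.card_fin, ← sq] at this
    have hge : p ^ 3 ≤ Nat.card W := by
      let f : Fin p × Fin p × Fin p → W := fun i => w₁ ^ (i.1 : ℕ) * w₂ ^ (i.2.1 : ℕ) * w₃ ^ (i.2.2 : ℕ)
      have hf : Function.Injective f := by
        have hsep : ∀ (S : MulAut P) (i i' : Fin p) (w r r' : W), w ≠ 1 → bar S w = w⁻¹ → bar S r = r → bar S r' = r' →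
            w ^ (i : ℕ) * r = w ^ (i' : ℕ) * r' → i = i' ∧ r = r' := by
          intro S i i' w r r' hw hS hr hr' h
          have h' := congrArg (bar S) h
          rw [map_mul, map_mul, map_pow, map_pow, hS, hr, hr', inv_pow, inv_pow] at h'
          have h2' : (w ^ (i : ℕ)) * (w ^ (i : ℕ)) = (w ^ (i' : ℕ)) * (w ^ (i' : ℕ)) := by
            calc (w ^ (i : ℕ)) * (w ^ (i : ℕ)) = (w ^ (i : ℕ) * r) * ((w ^ (i : ℕ))⁻¹ * r)⁻¹ := by
                  rw [mul_inv_rev, inv_inv, mul_assoc, mul_inv_cancel_left]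
              _ = (w ^ (i' : ℕ) * r') * ((w ^ (i' : ℕ))⁻¹ * r')⁻¹ := by rw [h, h']
              _ = _ := by rw [mul_inv_rev, inv_inv, mul_assoc, mul_inv_cancel_left]
          rw [← pow_add, ← pow_add, pow_eq_pow_iff_modEq, orderOf_eq_prime (quot_pow hP w) hw, ← two_mul, ← two_mul] at h2'
          have hii : i = i' := by
            refine Fin.ext (Nat.ModEq.eq_of_lt_of_lt ?_ i.2 i'.2)
            exact Nat.ModEq.cancel_left_of_coprime ((hp.out.coprime_iff_not_dvd).mpr fun hd =>
              hp2 ((Nat.prime_dvd_prime_iff_eq hp.out Nat.prime_two).mp hd)) h2'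
          subst hii
          exact ⟨rfl, mul_left_cancel h⟩
        rintro ⟨i, j, k⟩ ⟨i', j', k'⟩ h
        have h' : w₁ ^ (i : ℕ) * (w₂ ^ (j : ℕ) * w₃ ^ (k : ℕ)) = w₁ ^ (i' : ℕ) * (w₂ ^ (j' : ℕ) * w₃ ^ (k' : ℕ)) := by
          simpa only [f, mul_assoc] using h
        obtain ⟨rfl, h''⟩ := hsep e₁ i i' w₁ _ _ n1 h11 (by rw [map_mul, map_pow, map_pow, h12, h13])
          (by rw [map_mul, map_pow, map_pow, h12, h13]) h'
        obtain ⟨rfl, h'''⟩ := hsep e₂ j j' w₂ _ _ n2 h22 (by rw [map_pow, h23]) (by rw [map_pow, h23]) h''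
        obtain ⟨rfl, -⟩ := hsep e₃ k k' w₃ 1 1 n3 h33 (map_one _) (map_one _) (by rw [mul_one, mul_one]; exact h''')
        rfl
      have := Nat.card_le_card_of_injective f hf
      rw [Nat.card_prod, Nat.card_prod, Nat.card_fin] at this
      rwa [pow_succ', sq]
    have := Nat.pow_lt_pow_right hp.out.one_lt (show 2 < 3 by norm_num)
    omega
  · rw [show {T : MulAut P // T ∈ I ∧ T ≠ 1 ∧ ¬ ∃ g : P, ∀ x : P, (T x = x ↔ x ∈ Subgroup.zpowers g)} =
      ({e₁, e₂, e₃} : Set (MulAut P)) from congrArg (fun s : Set (MulAut P) => ↥s) hset, Nat.card_coe_set_eq,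
      Set.ncard_eq_three]
    exact ⟨e₁, e₂, e₃, d12, d13, d23, rfl⟩
  · rw [hset]
    refine le_antisymm ((Subgroup.closure_le I).mpr (by rintro T (rfl | rfl | rfl) <;> assumption)) fun T hT => ?_
    have a1 : e₁ ∈ Subgroup.closure ({e₁, e₂, e₃} : Set (MulAut P)) := Subgroup.subset_closure (by simp)
    have a2 : e₂ ∈ Subgroup.closure ({e₁, e₂, e₃} : Set (MulAut P)) := Subgroup.subset_closure (by simp)
    have a3 : e₃ ∈ Subgroup.closure ({e₁, e₂, e₃} : Set (MulAut P)) := Subgroup.subset_closure (by simp)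
    rcases heq T hT with rfl | rfl | rfl | rfl | rfl | rfl | rfl | rfl
    exacts [one_mem _, a1, a2, a3, mul_mem a1 a2, mul_mem a1 a3, mul_mem a2 a3, mul_mem a1 (mul_mem a2 a3)]
  · ext S
    constructor
    · intro hS
      have hno : ∀ T, T = e₁ ∨ T = e₂ ∨ T = e₃ → T ∉ I₀ := by
        rintro T hTe hTI
        have : T ≠ 1 := by rcases hTe with rfl | rfl | rfl <;> assumption
        have hnb := hdisj T hTI this
        rcases hTe with rfl | rfl | rfl
        exacts [b1 hnb, b2 hnb, b3 hnb]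
      rcases heq S (hI₀.le hS) with rfl | rfl | rfl | rfl | rfl | rfl | rfl | h
      · exact ⟨e₁, e₁, he₁, he₁, e1ne, e1ne, b1, b1, (h2 e₁ he₁).symm⟩
      · exact absurd hS (hno _ (Or.inl rfl))
      · exact absurd hS (hno _ (Or.inr (Or.inl rfl)))
      · exact absurd hS (hno _ (Or.inr (Or.inr rfl)))
      · exact ⟨e₁, e₂, he₁, he₂, e1ne, e2ne, b1, b2, rfl⟩
      · exact ⟨e₁, e₃, he₁, he₃, e1ne, e3ne, b1, b3, rfl⟩
      · exact ⟨e₂, e₃, he₂, he₃, e2ne, e3ne, b2, b3, rfl⟩
      · exfalso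
        refine hno e₁ (Or.inl rfl) ?_
        have := I₀.mul_mem (h ▸ hS : z ∈ I₀) (I₀.inv_mem m23)
        rwa [show z * (e₂ * e₃)⁻¹ = e₁ from mul_inv_cancel_right _ _] at this
    · rintro ⟨T, T', a, a', c, c', d, d', rfl⟩
      exact hprod T a T' a' c c' d d'

end Cfsg.Agent.Lib.PGroups.Broad
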