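import Mathlib
import Cfsg.Agent.Lib.PGroups.ClassGraph
import Cfsg.Agent.Lib.Coprime.Generation
import Cfsg.Agent.Lib.Solvable.Nilpotent
import Cfsg.Agent.Lib.Cores.PCore

/-!
Tools for groups with few conjugacy class sizes: centralizers, local Sylow counts and a
fixed-point-free bound.
-/

set_option autoImplicit false

namespace Cfsg.Agent.Lib.PGroups.ClassStep

open Subgroup Cfsg.Agent.Lib.PGroups.ClassGraph

universe u
variable {G : Type u} [Group G]

/-- The centralizer of one element. -/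
abbrev Cg (g : G) : Subgroup G := centralizer ({g} : Set G)

theorem mem_Cg {g x : G} : x ∈ Cg g ↔ x * g = g * x := mem_centralizer_singleton_iff

theorem self_mem_Cg (g : G) : g ∈ Cg g := mem_Cg.2 rfl

/-- `x` has order a power of `r`. -/
def PE (r : ℕ) (x : G) : Prop := ∃ k, orderOf x = r ^ k

theorem PE.isPGroup [Finite G] {r : ℕ} [Fact r.Prime] {x : G} (h : PE r x) : IsPGroup r (zpowers x) := by
  obtain ⟨k, hk⟩ := h
  exact IsPGroup.of_card (by rw [Nat.card_zpowers, hk])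

theorem pe_of_mem {r : ℕ} [Fact r.Prime] {P : Subgroup G} (hP : IsPGroup r P) {x : G} (hx : x ∈ P) : PE r x := by
  obtain ⟨k, hk⟩ := IsPGroup.iff_orderOf.1 hP ⟨x, hx⟩
  exact ⟨k, by rw [← hk, ← orderOf_coe]⟩

theorem PE.coprime {r t : ℕ} (hr : r.Prime) (ht : t.Prime) (hne : r ≠ t) {x y : G} (hx : PE r x) (hy : PE t y) :
    (orderOf x).Coprime (orderOf y) := by
  obtain ⟨i, hi⟩ := hx
  obtain ⟨j, hj⟩ := hy
  rw [hi, hj]
  exact Nat.Coprime.pow _ _ ((Nat.coprime_primes hr ht).2 hne)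

theorem PE.not_dvd {r t : ℕ} (hr : r.Prime) (ht : t.Prime) (hne : t ≠ r) {x : G} (hx : PE r x) : ¬ t ∣ orderOf x := by
  obtain ⟨i, hi⟩ := hx
  rw [hi]
  exact fun h => hne ((Nat.prime_dvd_prime_iff_eq ht hr).1 (ht.dvd_of_dvd_pow h))

theorem PE.conj {r : ℕ} {x : G} (h : PE r x) (g : G) : PE r (g * x * g⁻¹) := by
  obtain ⟨k, hk⟩ := h
  exact ⟨k, by rw [← hk]; exact (MulAut.conj g).orderOf_eq x⟩

theorem eq_of_le_of_index_le [Finite G] {K L : Subgroup G} (h : K ≤ L) (hi : K.index ≤ L.index) : K = L := by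
  refine eq_of_le_of_card_ge h ?_
  have h1 := K.card_mul_index
  have h2 := L.card_mul_index
  have h3 := Nat.mul_le_mul_left (Nat.card L) hi
  rw [h2, ← h1] at h3
  exact Nat.le_of_mul_le_mul_right h3 (Nat.pos_of_ne_zero index_ne_zero_of_finite)

theorem card_Cg (g : G) : Nat.card (Cg g) * cl g = Nat.card G := card_mul_index _

theorem cl_eq_card_div [Finite G] {g : G} {k : ℕ} (h : cl g = k) : Nat.card (Cg g) * k = Nat.card G := h ▸ card_Cg g

theorem factorization_Cg [Finite G] (g : G) (p : ℕ) :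
    (Nat.card (Cg g)).factorization p + (cl g).factorization p = (Nat.card G).factorization p := by
  rw [← card_Cg g, Nat.factorization_mul Nat.card_pos.ne' (cl_pos g).ne']
  rfl

theorem pow_eq_self {x : G} {n : ℕ} (h : n.Coprime (orderOf x)) : ∃ m, (x ^ n) ^ m = x :=
  exists_pow_eq_self_of_coprime h

/-- The centralizer of a product of commuting elements of coprime orders. -/
theorem cent_mul {a b : G} (hab : a * b = b * a) (hcop : (orderOf a).Coprime (orderOf b)) :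
    Cg (a * b) = Cg a ⊓ Cg b := by
  refine le_antisymm (fun x hx => ?_) fun x hx => ?_
  · have hx' : Commute x (a * b) := mem_Cg.1 hx
    obtain ⟨i, hi⟩ := pow_eq_self (x := a) hcop.symm
    obtain ⟨j, hj⟩ := pow_eq_self (x := b) hcop
    have ea : ((a * b) ^ orderOf b) ^ i = a := by
      rw [Commute.mul_pow hab, pow_orderOf_eq_one, mul_one, hi]
    have eb : ((a * b) ^ orderOf a) ^ j = b := by
      rw [Commute.mul_pow hab, pow_orderOf_eq_one, one_mul, hj]
    refine ⟨mem_Cg.2 ?_, mem_Cg.2 ?_⟩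
    · rw [← ea]; exact ((hx'.pow_right _).pow_right _).eq
    · rw [← eb]; exact ((hx'.pow_right _).pow_right _).eq
  · exact mem_Cg.2 (Commute.mul_right (mem_Cg.1 hx.1) (mem_Cg.1 hx.2))

theorem Cg_conj (a g : G) : Cg (a * g * a⁻¹) = (Cg g).map (MulAut.conj a).toMonoidHom := by
  ext x
  rw [mem_map_equiv, MulAut.conj_symm_apply, mem_Cg, mem_Cg]
  constructor
  · intro h
    calc a⁻¹ * x * a * g = a⁻¹ * (x * (a * g * a⁻¹)) * a := by group
      _ = _ := by rw [h]; group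
  · intro h
    calc x * (a * g * a⁻¹) = a * (a⁻¹ * x * a * g) * a⁻¹ := by group
      _ = _ := by rw [h]; group

theorem card_le_factorization [Finite G] {p : ℕ} [Fact p.Prime] {U K : Subgroup G} (hU : IsPGroup p U) (hUK : U ≤ K) :
    Nat.card U ≤ p ^ (Nat.card K).factorization p := by
  obtain ⟨j, hj⟩ := IsPGroup.iff_card.1 hU
  rw [hj]
  refine Nat.pow_le_pow_right (Fact.out : p.Prime).pos ?_
  exact ((Fact.out : p.Prime).pow_dvd_iff_le_factorization Nat.card_pos.ne').1 (hj ▸ card_dvd_of_le hUK)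

/-- A Sylow subgroup of `K` containing a given `p`-subgroup, inside `G`. -/
theorem exists_sylow_in [Finite G] {p : ℕ} [Fact p.Prime] {Y K : Subgroup G} (hY : IsPGroup p Y) (hYK : Y ≤ K) :
    ∃ U : Subgroup G, Y ≤ U ∧ U ≤ K ∧ IsPGroup p U ∧ Nat.card U = p ^ (Nat.card K).factorization p := by
  obtain ⟨R, hR⟩ := (hY.of_equiv (subgroupOfEquivOfLe hYK).symm).exists_le_sylow
  refine ⟨(R : Subgroup K).map K.subtype, fun y hy => ⟨⟨y, hYK hy⟩, hR (mem_subgroupOf.2 hy), rfl⟩,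
    map_subtype_le _, R.isPGroup'.map _, ?_⟩
  rw [card_map_of_injective K.subtype_injective, R.card_eq_multiplicity]

theorem eq_of_card [Finite G] {p : ℕ} [Fact p.Prime] {U V K : Subgroup G} (hUV : U ≤ V) (hVK : V ≤ K)
    (hV : IsPGroup p V) (hU : Nat.card U = p ^ (Nat.card K).factorization p) : U = V :=
  eq_of_le_of_card_ge hUV (hU ▸ card_le_factorization hV hVK)

/-- A Sylow subgroup meets a subgroup it normalizes in a Sylow subgroup. -/
theorem sylow_inf [Finite G] {p : ℕ} [Fact p.Prime] (P : Sylow p G) (K : Subgroup G)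
    (hP : (P : Subgroup G) ≤ normalizer (K : Set G)) :
    Nat.card ((P : Subgroup G) ⊓ K : Subgroup G) = p ^ (Nat.card K).factorization p := by
  have hp : p.Prime := Fact.out
  refine le_antisymm (card_le_factorization (P.2.to_le inf_le_left) inf_le_right) ?_
  obtain ⟨U, -, hUK, hU, hUc⟩ := exists_sylow_in (G := G) (p := p) (Y := ⊥) (K := K) IsPGroup.of_bot bot_le
  haveI : (K.subgroupOf (normalizer (K : Set G))).Normal := normal_in_normalizer
  obtain ⟨R, hR⟩ := (hU.of_equiv (subgroupOfEquivOfLe (hUK.trans le_normalizer)).symm).exists_le_sylow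
  obtain ⟨n, hn⟩ := MulAction.exists_smul_eq (normalizer (K : Set G)) R (P.subtype hP)
  rw [← hUc]
  have hle : U.map (MulAut.conj (n : G)).toMonoidHom ≤ (P : Subgroup G) ⊓ K := by
    rintro _ ⟨x, hx, rfl⟩
    refine ⟨?_, (mem_normalizer_iff.1 n.2 x).1 (hUK hx)⟩
    have h1 : (MulAut.conj n) ⟨x, (hUK.trans le_normalizer) hx⟩ ∈
        ((P.subtype hP : Sylow p (normalizer (K : Set G))) : Subgroup (normalizer (K : Set G))) := by
      rw [← hn, Sylow.coe_subgroup_smul]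
      exact ⟨_, hR (mem_subgroupOf.2 hx), rfl⟩
    rw [Sylow.coe_subtype, mem_subgroupOf] at h1
    exact h1
  refine le_trans ?_ (card_le_of_le hle)
  rw [card_map_of_injective (MulAut.conj (n : G)).injective]

/-- A `p`-element outside the central subgroup, inside a subgroup with the same `p`-part. -/
theorem nc_mem [Finite G] {p : ℕ} [Fact p.Prime] {C C₀ Zs : Subgroup G}
    (hv : (Nat.card C).factorization p = (Nat.card C₀).factorization p) (hZ₀ : Zs ≤ C₀) {x₀ : G} (hx₀ : x₀ ∈ C₀)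
    (hpe : PE p x₀) (hx₀Z : x₀ ∉ Zs) (hZc : ∀ z ∈ Zs, x₀ * z = z * x₀) :
    ∃ u ∈ C, PE p u ∧ u ∉ Zs := by
  obtain ⟨U, -, hUC, hU, hUc⟩ := exists_sylow_in (G := G) (p := p) (Y := ⊥) (K := C) IsPGroup.of_bot bot_le
  by_contra hcon
  push Not at hcon
  have hUZ : U ≤ Zs := fun x hx => hcon x (hUC hx) (pe_of_mem hU hx)
  have hnorm : zpowers x₀ ≤ normalizer (U : Set G) := by
    rw [zpowers_le]
    refine mem_normalizer_iff.2 fun y => ⟨fun hy => ?_, fun hy => ?_⟩
    · rw [hZc y (hUZ hy), mul_inv_cancel_right]; exact hy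
    · have h1 := hZc _ (hUZ hy)
      have h2 : x₀ * y * x₀⁻¹ = y := by
        have h3 : y = x₀⁻¹ * (x₀ * y * x₀⁻¹ * x₀) := by group
        rw [← h1] at h3
        rw [inv_mul_cancel_left] at h3
        exact h3.symm
      rwa [h2] at hy
  have hsup : IsPGroup p (zpowers x₀ ⊔ U : Subgroup G) := hpe.isPGroup.to_sup_of_normal_right' hU hnorm
  have heq : U = zpowers x₀ ⊔ U := eq_of_card (K := C₀) le_sup_right
    (sup_le (zpowers_le.2 hx₀) (hUZ.trans hZ₀)) hsup (hUc.trans (by rw [hv]))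
  exact hx₀Z (hUZ (heq ▸ (le_sup_left : zpowers x₀ ≤ _) (mem_zpowers x₀)))

/-- A `p`-part of an element outside a subgroup. -/
theorem exists_part [Finite G] {K : Subgroup G} {x : G} (hx : x ∉ K) :
    ∃ n r : ℕ, r.Prime ∧ PE r (x ^ n) ∧ x ^ n ∉ K := by
  by_contra hcon
  push Not at hcon
  exact hx (mem_of_parts K x fun n q k hq hk => hcon n q hq ⟨k, hk⟩)

theorem le_of_parts [Finite G] {K L : Subgroup G} (h : ∀ x ∈ K, ∀ r : ℕ, r.Prime → PE r x → x ∈ L) : K ≤ L :=
  fun x hx => mem_of_parts L x fun n q k hq hk => h _ (pow_mem hx n) q hq ⟨k, hk⟩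

/-- An element of order `p` modulo a central subgroup in the second centre, inside a normal subgroup. -/
theorem exists_second [Finite G] {p : ℕ} [Fact p.Prime] {P P₁ Zs : Subgroup G} (hP : IsPGroup p P) (hP₁ : P₁ ≤ P)
    (hn : P ≤ normalizer (P₁ : Set G)) (hZ : ∀ z ∈ Zs, ∀ g ∈ P, g * z = z * g) (hnot : ¬ P₁ ≤ Zs) :
    ∃ u ∈ P₁, u ∉ Zs ∧ u ^ p ∈ Zs ∧ ∀ g ∈ P, g * u * g⁻¹ * u⁻¹ ∈ Zs := by
  have hp : p.Prime := Fact.out
  haveI : (Zs.subgroupOf P).Normal := ⟨fun z hz g => by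
    rw [mem_subgroupOf] at hz ⊢
    push_cast
    rwa [hZ _ hz _ g.2, mul_inv_cancel_right]⟩
  haveI : (P₁.subgroupOf P).Normal := normal_subgroupOf_of_le_normalizer hn
  set π := QuotientGroup.mk' (Zs.subgroupOf P) with hπ
  set N := (P₁.subgroupOf P).map π with hN
  haveI : N.Normal := Subgroup.Normal.map inferInstance π (QuotientGroup.mk'_surjective _)
  have hQ : IsPGroup p (↥P ⧸ Zs.subgroupOf P) := hP.to_quotient _
  haveI := hQ.isNilpotent
  have hN0 : N ≠ ⊥ := by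
    intro h
    apply hnot
    intro x hx
    have h1 : π ⟨x, hP₁ hx⟩ ∈ N := mem_map_of_mem π (mem_subgroupOf.2 hx)
    rw [h, mem_bot, hπ, QuotientGroup.mk'_apply, QuotientGroup.eq_one_iff] at h1
    exact mem_subgroupOf.1 h1
  obtain ⟨⟨w, hw⟩, hw1'⟩ := ne_bot_iff_exists_ne_one.1 (Cfsg.Agent.Lib.Solvable.inf_center_ne_bot hN0)
  have hw1 : w ≠ 1 := fun h => hw1' (Subtype.ext h)
  obtain ⟨k, hk⟩ := IsPGroup.iff_orderOf.1 hQ w
  obtain ⟨k, rfl⟩ : ∃ i, k = i + 1 := Nat.exists_eq_succ_of_ne_zero fun h => hw1 (orderOf_eq_one_iff.1 (by rw [hk, h, pow_zero]))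
  obtain ⟨hwN, hwc⟩ := hw
  set w' := w ^ p ^ k with hw'
  have hord : orderOf w' = p := by
    rw [hw', orderOf_pow_of_dvd (pow_ne_zero _ hp.ne_zero) (hk ▸ pow_dvd_pow p (Nat.le_succ k)), hk,
      Nat.pow_div (Nat.le_succ k) hp.pos, Nat.succ_eq_add_one, Nat.add_sub_cancel_left, pow_one]
  obtain ⟨y, hy, hye⟩ := mem_map.1 (pow_mem hwN (p ^ k))
  refine ⟨(y : G), mem_subgroupOf.1 hy, fun h => ?_, ?_, fun g hg => ?_⟩
  · have h1 : π y = 1 := (QuotientGroup.eq_one_iff y).2 (mem_subgroupOf.2 h)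
    rw [hye, ← hw'] at h1
    rw [h1, orderOf_one] at hord
    exact hp.ne_one hord.symm
  · have h1 : π (y ^ p) = 1 := by rw [map_pow, hye, ← hw', ← hord, pow_orderOf_eq_one]
    rw [hπ, QuotientGroup.mk'_apply, QuotientGroup.eq_one_iff, mem_subgroupOf] at h1
    exact h1
  · have hc : π y ∈ center (↥P ⧸ Zs.subgroupOf P) := hye ▸ pow_mem hwc _
    have h1 : π (⟨g, hg⟩ * y * (⟨g, hg⟩ : ↥P)⁻¹ * y⁻¹) = 1 := by
      simp only [map_mul, map_inv, mem_center_iff.1 hc, mul_inv_cancel_right, mul_inv_cancel]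
    rw [hπ, QuotientGroup.mk'_apply, QuotientGroup.eq_one_iff, mem_subgroupOf] at h1
    exact h1

/-- Commuting from a central commutator. -/
theorem comm_of_comm_comm {x h : G} (hcop : (orderOf x).Coprime (orderOf h))
    (hx : Commute (x * h * x⁻¹ * h⁻¹) x) (hh : Commute (x * h * x⁻¹ * h⁻¹) h) : x * h = h * x := by
  set c := x * h * x⁻¹ * h⁻¹ with hc
  have e1 : x * h * x⁻¹ = c * h := by rw [hc]; group
  have e2 : h * x * h⁻¹ = c⁻¹ * x := by rw [hc]; group
  have h1 : ∀ k : ℕ, h ^ k * x * (h ^ k)⁻¹ = c⁻¹ ^ k * x := by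
    intro k
    induction k with
    | zero => simp
    | succ k ih =>
      have h2 : h * c⁻¹ ^ k = c⁻¹ ^ k * h := ((hh.inv_left).symm.pow_right k).eq
      calc h ^ (k + 1) * x * (h ^ (k + 1))⁻¹ = h * (h ^ k * x * (h ^ k)⁻¹) * h⁻¹ := by rw [pow_succ']; group
        _ = c⁻¹ ^ k * (h * x * h⁻¹) := by rw [ih, ← mul_assoc h, h2]; group
        _ = _ := by rw [e2, ← mul_assoc, ← pow_succ]
  have h2 : ∀ k : ℕ, x ^ k * h * (x ^ k)⁻¹ = c ^ k * h := by
    intro k
    induction k with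
    | zero => simp
    | succ k ih =>
      have h3 : x * c ^ k = c ^ k * x := (hx.symm.pow_right k).eq
      calc x ^ (k + 1) * h * (x ^ (k + 1))⁻¹ = x * (x ^ k * h * (x ^ k)⁻¹) * x⁻¹ := by rw [pow_succ']; group
        _ = c ^ k * (x * h * x⁻¹) := by rw [ih, ← mul_assoc x, h3]; group
        _ = _ := by rw [e1, ← mul_assoc, ← pow_succ]
  have o1 : orderOf c ∣ orderOf h := by
    have := h1 (orderOf h)
    rw [pow_orderOf_eq_one, one_mul, inv_one, mul_one] at this
    rw [← orderOf_inv]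
    exact orderOf_dvd_of_pow_eq_one (mul_right_cancel (by rw [one_mul]; exact this.symm))
  have o2 : orderOf c ∣ orderOf x := by
    have := h2 (orderOf x)
    rw [pow_orderOf_eq_one, one_mul, inv_one, mul_one] at this
    exact orderOf_dvd_of_pow_eq_one (mul_right_cancel (by rw [one_mul]; exact this.symm))
  have hc1 : c = 1 := orderOf_eq_one_iff.1 (Nat.eq_one_of_dvd_coprimes hcop o2 o1)
  rw [hc1, one_mul] at e1
  calc x * h = x * h * x⁻¹ * x := by group
    _ = h * x := by rw [e1]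

/-- Subgroups of coprime index factorize the group. -/
theorem exists_mul_of_index_coprime [Finite G] {B C : Subgroup G} (hcop : B.index.Coprime C.index) (a : G) :
    ∃ y ∈ B, ∃ z ∈ C, a = y * z := by
  have hidx : (B ⊓ C).index = B.index * C.index :=
    Nat.le_antisymm index_inf_le (Nat.le_of_dvd (Nat.pos_of_ne_zero index_ne_zero_of_finite)
      (hcop.mul_dvd_of_dvd_of_dvd (index_dvd_of_le inf_le_left) (index_dvd_of_le inf_le_right)))
  have hcard : C.relIndex B = C.index := by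
    have h := relIndex_mul_index (inf_le_left : B ⊓ C ≤ B)
    rw [hidx, inf_relIndex_left, mul_comm B.index] at h
    exact Nat.eq_of_mul_eq_mul_right (Nat.pos_of_ne_zero index_ne_zero_of_finite) h
  have hinj : Function.Injective
      (Quotient.map' (fun y : B => (y : G)) (by
        intro y y' h
        rw [QuotientGroup.leftRel_apply] at h ⊢
        exact h) : B ⧸ C.subgroupOf B → G ⧸ C) := by
    intro y y' h
    induction y using QuotientGroup.induction_on with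
    | _ y =>
      induction y' using QuotientGroup.induction_on with
      | _ y' =>
        have h' : ((y : G) : G ⧸ C) = ((y' : G) : G ⧸ C) := h
        exact QuotientGroup.eq.mpr (QuotientGroup.eq.mp h' :)
  have hbij := (Nat.bijective_iff_injective_and_card _).mpr ⟨hinj, by
    show Nat.card (B ⧸ C.subgroupOf B) = Nat.card (G ⧸ C)
    rw [← index_eq_card, ← index_eq_card]; exact hcard⟩
  obtain ⟨y, hy⟩ := hbij.2 (a : G ⧸ C)
  induction y using QuotientGroup.induction_on with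
  | _ y => exact ⟨y, y.2, _, QuotientGroup.eq.mp hy, (mul_inv_cancel_left _ _).symm⟩

open Cfsg.Agent.Lib.Coprime in
/-- Fixed-point-free pairs of commuting automorphisms of exponent `p`. -/
theorem pow_mem_of_fpf {p : ℕ} [Fact p.Prime] {V : Type*} [CommGroup V] (Z₀ : Subgroup V) (a b : MulAut V)
    (hab : Commute a b) (ha : a ^ p = 1) (hb : b ^ p = 1)
    (hfix : ∀ s : ZMod p × ZMod p, s ≠ 0 → ∀ w, pairPow a b s w = w → w ∈ Z₀) (v : V) : v ^ p ∈ Z₀ := by
  classical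
  let f : ZMod p × ZMod p → V := fun x => pairPow a b x v
  have hadd : ∀ x y, f (x + y) = pairPow a b x (f y) := fun x y => by
    show pairPow a b (x + y) v = _
    rw [pairPow_add hab ha hb]
    rfl
  have h0 : f 0 = v := by simp [f, pairPow]
  have hline : ∀ s : ZMod p × ZMod p, s ≠ 0 → ∀ g : ZMod p → ZMod p × ZMod p, (∀ j, g (j + 1) = s + g j) →
      ∏ j, f (g j) ∈ Z₀ := by
    intro s hs g hg
    refine hfix s hs _ ?_
    rw [map_prod]
    refine Fintype.prod_equiv (Equiv.addRight (1 : ZMod p)) _ _ fun j => ?_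
    show pairPow a b s (f (g j)) = f (g (j + 1))
    rw [hg, hadd]
  have hwhole : ∏ x, f x ∈ Z₀ := by
    refine hfix (1, 0) (by simp) _ ?_
    rw [map_prod]
    exact Fintype.prod_equiv (Equiv.addLeft ((1, 0) : ZMod p × ZMod p)) _ _ fun x => (hadd _ x).symm
  have key := pow_prime_mul_norm f
  rw [h0] at key
  have hlhs : (∏ i : ZMod p, ∏ j : ZMod p, f (j, i * j)) * ∏ j : ZMod p, f (0, j) ∈ Z₀ := by
    refine mul_mem (prod_mem fun i _ => hline (1, i) (by simp) (fun j => (j, i * j)) fun j => ?_)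
      (hline (0, 1) (by simp) (fun j => (0, j)) fun j => ?_)
    · simp only [Prod.mk_add_mk, Prod.mk.injEq]
      constructor <;> ring
    · simp only [Prod.mk_add_mk, Prod.mk.injEq]
      constructor <;> ring
  rw [key] at hlhs
  exact (Subgroup.mul_mem_cancel_right _ hwhole).1 hlhs

open Cfsg.Agent.Lib.Coprime in
/-- The second-centre element has centralizer of index at most `p` in the `p`-group. -/
theorem index_dvd_prime [Finite G] {p : ℕ} [Fact p.Prime] {P K Zs : Subgroup G} (hP : IsPGroup p P) {u : G}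
    (hu : u ∈ P) (hZ : ∀ z ∈ Zs, ∀ g ∈ P, g * z = z * g) (hcomm : ∀ g ∈ P, g * u * g⁻¹ * u⁻¹ ∈ Zs)
    (hup : u ^ p ∈ Zs) (hPK : P ≤ normalizer (K : Set G)) (hKab : ∀ x ∈ K, ∀ y ∈ K, x * y = y * x)
    (hcent : ∀ g ∈ P ⊓ Cg u, ∀ w ∈ K, g * w = w * g) (hfix : ∀ w ∈ K, w ∉ Zs → P ⊓ Cg w ≤ Cg u)
    {v : G} (hv : v ∈ K) (hvZ : v ∉ Zs) (hvo : (orderOf v).Coprime p) : (P ⊓ Cg u).relIndex P ∣ p := by
  classical
  have hp : p.Prime := Fact.out
  have hθ : ∀ g h : ↥P, ((g * h : ↥P) : G) * u * ((g * h : ↥P) : G)⁻¹ * u⁻¹ =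
      ((g : G) * u * (g : G)⁻¹ * u⁻¹) * ((h : G) * u * (h : G)⁻¹ * u⁻¹) := by
    intro g h
    have hzc := hZ _ (hcomm h h.2) g g.2
    have hzg := hZ _ (hcomm h h.2) _ (mul_mem (mul_mem (mul_mem g.2 hu) (inv_mem g.2)) (inv_mem hu))
    push_cast
    calc (g : G) * h * u * ((g : G) * h)⁻¹ * u⁻¹
        = (g : G) * ((h : G) * u * (h : G)⁻¹ * u⁻¹) * (u * (g : G)⁻¹ * u⁻¹) := by group
      _ = ((h : G) * u * (h : G)⁻¹ * u⁻¹) * ((g : G) * u * (g : G)⁻¹ * u⁻¹) := by rw [hzc]; group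
      _ = _ := hzg.symm
  let θ : ↥P →* ↥P := MonoidHom.mk' (fun g => ⟨(g : G) * u * (g : G)⁻¹ * u⁻¹,
    mul_mem (mul_mem (mul_mem g.2 hu) (inv_mem g.2)) (inv_mem hu)⟩) fun g h => Subtype.ext (hθ g h)
  have hker : θ.ker = (P ⊓ Cg u).subgroupOf P := by
    ext g
    rw [MonoidHom.mem_ker, mem_subgroupOf, mem_inf, mem_Cg]
    constructor
    · intro h
      refine ⟨g.2, ?_⟩
      have h1 : (g : G) * u * (g : G)⁻¹ * u⁻¹ = 1 := congrArg Subtype.val h
      calc (g : G) * u = ((g : G) * u * (g : G)⁻¹ * u⁻¹) * (u * g) := by group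
        _ = u * g := by rw [h1, one_mul]
    · intro h
      refine Subtype.ext ?_
      show (g : G) * u * (g : G)⁻¹ * u⁻¹ = 1
      rw [h.2]; group
  have hexp : ∀ g, θ g ^ p = 1 := fun g => by
    refine Subtype.ext ?_
    show ((g : G) * u * (g : G)⁻¹ * u⁻¹) ^ p = 1
    set z := (g : G) * u * (g : G)⁻¹ * u⁻¹ with hz
    have hzu : Commute z u := (hZ z (hcomm g g.2) u hu).symm
    have h1 : ((g : G) * u * (g : G)⁻¹) ^ p = u ^ p := by
      rw [conj_pow, hZ _ hup _ g.2, mul_inv_cancel_right]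
    rw [show (g : G) * u * (g : G)⁻¹ = z * u by rw [hz]; group, hzu.mul_pow] at h1
    exact mul_right_cancel (by rw [one_mul]; exact h1)
  have hidx : (P ⊓ Cg u).relIndex P = Nat.card θ.range := by
    rw [relIndex, ← hker, index_ker]
  rw [hidx]
  by_contra hcon
  obtain ⟨g, hg⟩ : ∃ g, θ g ≠ 1 := by
    by_contra! h
    refine hcon ?_
    rw [show θ.range = ⊥ by rw [eq_bot_iff]; rintro _ ⟨g, rfl⟩; exact h g, card_bot]
    exact one_dvd p
  obtain ⟨g', hg'⟩ : ∃ g', θ g' ∉ zpowers (θ g) := by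
    by_contra! h
    refine hcon ?_
    rw [show θ.range = zpowers (θ g) from le_antisymm (by rintro _ ⟨g', rfl⟩; exact h g') (zpowers_le.2 ⟨g, rfl⟩),
      Nat.card_zpowers]
    exact orderOf_dvd_of_pow_eq_one (hexp g)
  have hg'p : orderOf (θ g) = p := orderOf_eq_prime (hexp g) hg
  -- the action on `K`
  have hmem : ∀ (h : ↥P) (w : ↥K), (h : G) * w * (h : G)⁻¹ ∈ K := fun h w => (mem_normalizer_iff.1 (hPK h.2) _).1 w.2
  letI : CommGroup ↥K := { (inferInstance : Group ↥K) with mul_comm := fun x y => Subtype.ext (hKab x x.2 y y.2) }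
  let act : ↥P → MulAut ↥K := fun h =>
    { toFun := fun w => ⟨(h : G) * w * (h : G)⁻¹, hmem h w⟩
      invFun := fun w => ⟨(h : G)⁻¹ * w * (h : G), by simpa using hmem h⁻¹ w⟩
      left_inv := fun w => Subtype.ext (show (h : G)⁻¹ * ((h : G) * w * (h : G)⁻¹) * h = w by group)
      right_inv := fun w => Subtype.ext (show (h : G) * ((h : G)⁻¹ * w * h) * (h : G)⁻¹ = w by group)
      map_mul' := fun w w' => Subtype.ext (show (h : G) * ((w : G) * w') * (h : G)⁻¹ =
        ((h : G) * w * (h : G)⁻¹) * ((h : G) * w' * (h : G)⁻¹) by group) }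
  let φ : ↥P →* MulAut ↥K := MonoidHom.mk' act fun h h' => MulEquiv.ext fun w => Subtype.ext
    (show ((h : G) * h') * w * ((h : G) * h')⁻¹ = (h : G) * ((h' : G) * w * (h' : G)⁻¹) * (h : G)⁻¹ by group)
  have htriv : ∀ h : ↥P, θ h = 1 → φ h = 1 := fun h hh => MulEquiv.ext fun w => Subtype.ext <| by
    have hmem' : h ∈ θ.ker := hh
    rw [hker, mem_subgroupOf] at hmem'
    show (h : G) * w * (h : G)⁻¹ = w
    rw [hcent _ hmem' _ w.2, mul_inv_cancel_right]
  have ha : φ g ^ p = 1 := by rw [← map_pow]; exact htriv _ (by rw [map_pow, hexp])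
  have hb : φ g' ^ p = 1 := by rw [← map_pow]; exact htriv _ (by rw [map_pow, hexp])
  have hθc : ∀ x y : ↥P, θ x * θ y = θ y * θ x := fun x y => Subtype.ext (hZ _ (hcomm y y.2) _ (θ x).2)
  have hab : Commute (φ g) (φ g') := by
    have h1 : φ (g * g' * (g' * g)⁻¹) = 1 := htriv _ (by rw [map_mul, map_inv, map_mul, map_mul, hθc, mul_inv_cancel])
    rw [map_mul, map_inv, mul_inv_eq_one, map_mul, map_mul] at h1
    exact h1
  have hfix' : ∀ s : ZMod p × ZMod p, s ≠ 0 → ∀ w : ↥K, pairPow (φ g) (φ g') s w = w → w ∈ Zs.subgroupOf K := by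
    intro s hs w hw
    by_contra hwZ
    rw [mem_subgroupOf] at hwZ
    set h := g ^ s.1.val * g' ^ s.2.val with hh
    have e : φ h = pairPow (φ g) (φ g') s := by rw [hh, map_mul, map_pow, map_pow]; rfl
    have hw' : (h : G) * w * (h : G)⁻¹ = w := by
      have h1 : (φ h) w = w := by rw [e]; exact hw
      exact congrArg Subtype.val h1
    have h2 : (h : G) ∈ Cg u := hfix w w.2 hwZ ⟨h.2, mem_Cg.2 (mul_inv_eq_iff_eq_mul.1 hw')⟩
    have h3 : θ h = 1 := by
      show h ∈ θ.ker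
      rw [hker, mem_subgroupOf]
      exact ⟨h.2, h2⟩
    rw [hh, map_mul, map_pow, map_pow] at h3
    have hj : s.2.val = 0 := by
      by_contra hj
      apply hg'
      have h4 : θ g' ^ s.2.val ∈ zpowers (θ g) := by
        rw [eq_inv_of_mul_eq_one_right h3]
        exact inv_mem (npow_mem_zpowers _ _)
      obtain ⟨i, hi⟩ := exists_pow_eq_self_of_coprime (x := θ g') (n := s.2.val) (by
        refine Nat.Coprime.coprime_dvd_right (orderOf_dvd_of_pow_eq_one (hexp g')) ?_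
        exact (hp.coprime_iff_not_dvd.2 fun hd => hj (Nat.eq_zero_of_dvd_of_lt hd (ZMod.val_lt _))).symm)
      rw [← hi]
      exact pow_mem h4 i
    rw [hj, pow_zero, mul_one, ← orderOf_dvd_iff_pow_eq_one, hg'p] at h3
    exact hs (Prod.ext ((ZMod.val_eq_zero _).1 (Nat.eq_zero_of_dvd_of_lt h3 (ZMod.val_lt _))) ((ZMod.val_eq_zero _).1 hj))
  have hvp := mem_subgroupOf.1 (pow_mem_of_fpf (Zs.subgroupOf K) (φ g) (φ g') hab ha hb hfix' ⟨v, hv⟩)
  obtain ⟨i, hi⟩ := exists_pow_eq_self_of_coprime (x := v) (n := p) hvo.symm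
  exact hvZ (hi ▸ pow_mem (show v ^ p ∈ Zs from hvp) i)

/-- The central `r`-part of a subgroup. -/
def cpart (D : Subgroup G) (r : ℕ) : Subgroup G where
  carrier := {x | x ∈ D ∧ x ∈ centralizer (D : Set G) ∧ ∃ k, x ^ r ^ k = 1}
  one_mem' := ⟨one_mem D, one_mem _, 0, one_pow _⟩
  mul_mem' := by
    rintro x y ⟨hx, hxc, i, hi⟩ ⟨hy, hyc, j, hj⟩
    refine ⟨mul_mem hx hy, mul_mem hxc hyc, i + j, ?_⟩
    have hxy : Commute x y := (mem_centralizer_iff.1 hxc y hy).symm
    rw [hxy.mul_pow, pow_add, pow_mul, hi, one_pow, one_mul, mul_comm, pow_mul, hj, one_pow]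
  inv_mem' := by
    rintro x ⟨hx, hxc, i, hi⟩
    exact ⟨inv_mem hx, inv_mem hxc, i, by rw [inv_pow, hi, inv_one]⟩

theorem cpart_le (D : Subgroup G) (r : ℕ) : cpart D r ≤ D := fun _ h => h.1

theorem cpart_comm {D : Subgroup G} {r : ℕ} {x : G} (hx : x ∈ cpart D r) {y : G} (hy : y ∈ D) : x * y = y * x :=
  (mem_centralizer_iff.1 hx.2.1 y hy).symm

theorem cpart_pe {D : Subgroup G} {r : ℕ} (hr : r.Prime) {x : G} (hx : x ∈ cpart D r) : PE r x := by
  obtain ⟨k, hk⟩ := hx.2.2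
  obtain ⟨j, -, hj⟩ := (Nat.dvd_prime_pow hr).1 (orderOf_dvd_of_pow_eq_one hk)
  exact ⟨j, hj⟩

theorem mem_cpart {D : Subgroup G} {r : ℕ} {x : G} (hx : x ∈ D) (hc : ∀ y ∈ D, y * x = x * y) (hpe : PE r x) :
    x ∈ cpart D r := by
  obtain ⟨k, hk⟩ := hpe
  exact ⟨hx, mem_centralizer_iff.2 hc, k, by rw [← hk, pow_orderOf_eq_one]⟩

theorem cpart_normalizer [Finite G] {D : Subgroup G} {r : ℕ} {P : Subgroup G} (hP : P ≤ normalizer (D : Set G)) :
    P ≤ normalizer (cpart D r : Set G) := by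
  have key : ∀ g ∈ P, ∀ x ∈ cpart D r, g * x * g⁻¹ ∈ cpart D r := by
    rintro g hg x ⟨hx, hxc, k, hk⟩
    refine ⟨(mem_normalizer_iff.1 (hP hg) x).1 hx, mem_centralizer_iff.2 fun y hy => ?_, k, by rw [conj_pow, hk]; group⟩
    have h1 : g⁻¹ * y * g ∈ D := by simpa using (mem_normalizer_iff.1 (hP (inv_mem hg)) y).1 hy
    have h2 := mem_centralizer_iff.1 hxc _ h1
    calc y * (g * x * g⁻¹) = g * (g⁻¹ * y * g * x) * g⁻¹ := by group
      _ = _ := by rw [h2]; group
  intro g hg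
  refine mem_normalizer_iff.2 fun x => ⟨key g hg x, fun h => ?_⟩
  have := key g⁻¹ (inv_mem hg) _ h
  simpa [mul_assoc] using this

theorem Cg_invariant {P Zs : Subgroup G} {u : G} (hu : u ∈ P) (hcomm : ∀ g ∈ P, g * u * g⁻¹ * u⁻¹ ∈ Zs)
    (hZ : Zs ≤ center G) : P ≤ normalizer (Cg u : Set G) := by
  have key : ∀ g ∈ P, ∀ x ∈ Cg u, g * x * g⁻¹ ∈ Cg u := by
    intro g hg x hx
    have hz := mem_center_iff.1 (hZ (hcomm g⁻¹ (inv_mem hg))) x
    set z := g⁻¹ * u * g⁻¹⁻¹ * u⁻¹ with hzdef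
    have e : g⁻¹ * u * g = z * u := by rw [hzdef]; group
    rw [mem_Cg] at hx ⊢
    calc g * x * g⁻¹ * u = g * (x * (g⁻¹ * u * g)) * g⁻¹ := by group
      _ = g * (g⁻¹ * u * g * x) * g⁻¹ := by
          rw [e, ((show Commute x z from hz).mul_right (show Commute x u from hx)).eq]
      _ = u * (g * x * g⁻¹) := by group
  intro g hg
  refine mem_normalizer_iff.2 fun x => ⟨key g hg x, fun h => ?_⟩
  have := key g⁻¹ (inv_mem hg) _ h
  simpa [mul_assoc] using this

/-- An element whose class has prime power size for its own prime lies in the core. -/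
theorem mem_pCore_of_class [Finite G] {p j : ℕ} [Fact p.Prime] {a : G} (ha : PE p a) (hcl : cl a = p ^ j) :
    a ∈ Cfsg.pCore p G := by
  have hp : p.Prime := Fact.out
  obtain ⟨P, hP⟩ := ha.isPGroup.exists_le_sylow
  have haP : a ∈ (P : Subgroup G) := hP (mem_zpowers a)
  have hcop : (P : Subgroup G).index.Coprime (Cg a).index := by
    show (P : Subgroup G).index.Coprime (cl a)
    rw [hcl]
    exact Nat.Coprime.pow_right _ (hp.coprime_iff_not_dvd.2 P.not_dvd_index).symm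
  have hsub : normalClosure ({a} : Set G) ≤ (P : Subgroup G) := by
    refine (closure_le _).2 ?_
    intro x hx
    obtain ⟨a', ha', hconj⟩ := Group.mem_conjugatesOfSet_iff.1 hx
    rw [Set.mem_singleton_iff.1 ha'] at hconj
    obtain ⟨g, rfl⟩ := isConj_iff.1 hconj
    obtain ⟨y, hy, z, hz, rfl⟩ := exists_mul_of_index_coprime hcop g
    have e : y * z * a * (y * z)⁻¹ = y * a * y⁻¹ := by
      rw [show y * z * a = y * (z * a) by group, mem_Cg.1 hz]; group
    rw [SetLike.mem_coe, e]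
    exact mul_mem (mul_mem hy haP) (inv_mem hy)
  exact Cfsg.Agent.Lib.Cores.le_pCore normalClosure_normal (P.2.to_le hsub) (subset_normalClosure rfl)

/-- A normal `p`-subgroup is inside the centralizer of a `p`-element it contains. -/
theorem le_of_centralized [Finite G] {p : ℕ} [Fact p.Prime] {T : Subgroup G} [T.Normal] (hT : IsPGroup p T)
    {a b : G} (haT : a ∈ T) (hb : (orderOf b).Coprime p) (hbT : ∀ x ∈ T ⊓ Cg a, b * x = x * b)
    (hC : Cg b ≤ Cg a) : T ≤ Cg a := by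
  by_contra hcon
  set T₀ := (T ⊓ Cg a).subgroupOf T with hT₀
  haveI := hT.isNilpotent
  have hlt : T₀ < ⊤ := lt_top_iff_ne_top.2 fun h => hcon fun x hx =>
    (mem_subgroupOf.1 (show (⟨x, hx⟩ : T) ∈ T₀ by rw [h]; exact mem_top _)).2
  obtain ⟨g, hgN, hgT⟩ := SetLike.exists_of_lt (Group.normalizerCondition_of_isNilpotent (G := T) T₀ hlt)
  set c := b * g * b⁻¹ * (g : G)⁻¹ with hc
  have hcT : c ∈ T := mul_mem (Normal.conj_mem inferInstance (g : G) g.2 b) (inv_mem g.2)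
  have haT₀ : (⟨a, haT⟩ : T) ∈ T₀ := mem_subgroupOf.2 ⟨haT, self_mem_Cg a⟩
  have h1 : (g : G)⁻¹ * a * g ∈ T ⊓ Cg a := by
    have := (mem_normalizer_iff.1 (inv_mem hgN) _).1 haT₀
    rw [hT₀, mem_subgroupOf] at this
    simpa using this
  have h2 := hbT _ h1
  have ha2 := hbT a ⟨haT, self_mem_Cg a⟩
  have hca : c ∈ Cg a := by
    rw [mem_Cg]
    have e : b * (g : G) * b⁻¹ * ((g : G)⁻¹ * a * g) = a * (b * g * b⁻¹) := by
      calc b * (g : G) * b⁻¹ * ((g : G)⁻¹ * a * g) = b * g * b⁻¹ * (((g : G)⁻¹ * a * g) * b) * b⁻¹ := by group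
        _ = b * a * g * b⁻¹ := by rw [← h2]; group
        _ = _ := by rw [ha2]; group
    calc c * a = b * (g : G) * b⁻¹ * ((g : G)⁻¹ * a * g) * (g : G)⁻¹ := by rw [hc]; group
      _ = a * c := by rw [e, hc]; group
  have hcb : Commute b c := hbT c ⟨hcT, hca⟩
  have h3 : ∀ k : ℕ, b ^ k * g * (b ^ k)⁻¹ = c ^ k * g := by
    intro k
    induction k with
    | zero => simp
    | succ k ih =>
      calc b ^ (k + 1) * g * (b ^ (k + 1))⁻¹ = b * (b ^ k * g * (b ^ k)⁻¹) * b⁻¹ := by rw [pow_succ']; group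
        _ = c ^ k * (b * g * b⁻¹) := by rw [ih, ← mul_assoc b, (hcb.pow_right k).eq]; group
        _ = _ := by rw [show b * g * b⁻¹ = c * g by rw [hc]; group, ← mul_assoc, ← pow_succ]
  have h4 := h3 (orderOf b)
  rw [pow_orderOf_eq_one, one_mul, inv_one, mul_one] at h4
  have h5 : orderOf c ∣ orderOf b := orderOf_dvd_of_pow_eq_one (mul_right_cancel (by rw [one_mul]; exact h4.symm))
  have h6 : c = 1 := by
    obtain ⟨k, hk⟩ := IsPGroup.iff_orderOf.1 hT ⟨c, hcT⟩
    rw [← orderOf_coe] at hk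
    exact orderOf_eq_one_iff.1 (Nat.eq_one_of_dvd_coprimes (hb.pow_right k) h5 (hk ▸ dvd_refl _))
  refine hgT (mem_subgroupOf.2 ⟨g.2, hC (mem_Cg.2 ?_)⟩)
  have h7 : b * (g : G) * b⁻¹ * (g : G)⁻¹ = 1 := h6
  calc (g : G) * b = (b * (g : G) * b⁻¹ * (g : G)⁻¹)⁻¹ * (b * g) := by group
    _ = b * g := by rw [h7, inv_one, one_mul]

end Cfsg.Agent.Lib.PGroups.ClassStep
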