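import Mathlib
import Cfsg.Agent.Lib.PGroups.ClassStepTools
import Cfsg.Agent.S4035

/-!
Class sizes `1, m, m * n` with coprime `m, n`: basic facts and the case distinction.
-/

set_option autoImplicit false

namespace Cfsg.Agent.Lib.PGroups.ClassStep

open Subgroup Cfsg.Agent.Lib.PGroups.ClassGraph

universe u
variable {G : Type u} [Group G]

/-- The class sizes are `1`, `m` and `m * n`. -/
structure Hyp (G : Type u) [Group G] (m n : ℕ) : Prop where
  hm : 1 < m
  hn : 1 < n
  cop : m.Coprime n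
  size : ∀ x : G, cl x = 1 ∨ cl x = m ∨ cl x = m * n
  exm : ∃ x : G, cl x = m
  exmn : ∃ x : G, cl x = m * n

theorem mem_Cg_conj {a g x : G} : x ∈ Cg (a * g * a⁻¹) ↔ a⁻¹ * x * a ∈ Cg g := by
  rw [Cg_conj, mem_map_equiv, MulAut.conj_symm_apply]

theorem not_mem_center_conj {a g : G} (h : g ∉ center G) : a * g * a⁻¹ ∉ center G := fun hc => h (by
  have h1 := mem_center_iff.1 hc a
  have h2 : a * g * a⁻¹ = g := mul_left_cancel (h1.trans (inv_mul_cancel_right _ _))
  rwa [h2] at hc)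

theorem center_le_Cg (g : G) : center G ≤ Cg g := fun x hx => mem_Cg.2 (mem_center_iff.1 hx g).symm

theorem center_le_centralizer (s : Set G) : center G ≤ centralizer s :=
  fun _ hx => mem_centralizer_iff.2 fun y _ => mem_center_iff.1 hx y

/-- Comparing cardinalities prime by prime. -/
theorem card_dvd_of_sylows [Finite G] {K L : Subgroup G}
    (h : ∀ r : ℕ, r.Prime → ∃ U : Subgroup G, U ≤ L ∧ Nat.card U = r ^ (Nat.card K).factorization r) :
    Nat.card K ∣ Nat.card L := by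
  rw [← Nat.factorization_le_iff_dvd Nat.card_pos.ne' Nat.card_pos.ne']
  intro r
  by_cases hr : r.Prime
  · obtain ⟨U, hUL, hU⟩ := h r hr
    exact (hr.pow_dvd_iff_le_factorization Nat.card_pos.ne').1 (hU ▸ card_dvd_of_le hUL)
  · rw [Nat.factorization_eq_zero_of_not_prime _ hr]
    exact Nat.zero_le _

theorem le_of_sylows [Finite G] {K L : Subgroup G} (hLK : L ≤ K)
    (h : ∀ r : ℕ, r.Prime → ∃ U : Subgroup G, U ≤ L ∧ Nat.card U = r ^ (Nat.card K).factorization r) : K ≤ L :=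
  (eq_of_le_of_card_ge hLK (Nat.le_of_dvd Nat.card_pos (card_dvd_of_sylows h))).ge

/-- A subgroup is normalized once normalized by enough Sylow subgroups. -/
theorem le_normalizer_of_sylows [Finite G] {Y K : Subgroup G} (hYK : Y ≤ K)
    (h : ∀ r : ℕ, r.Prime → (Nat.card Y).factorization r ≠ (Nat.card K).factorization r →
      ∃ P : Subgroup G, P ≤ K ∧ P ≤ normalizer (Y : Set G) ∧ Nat.card P = r ^ (Nat.card K).factorization r) :
    K ≤ normalizer (Y : Set G) := by
  refine le_trans (le_of_sylows (L := K ⊓ normalizer (Y : Set G)) inf_le_left fun r hr => ?_) inf_le_right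
  haveI : Fact r.Prime := ⟨hr⟩
  by_cases he : (Nat.card Y).factorization r = (Nat.card K).factorization r
  · obtain ⟨U, -, hUY, -, hU⟩ := exists_sylow_in (G := G) (p := r) (Y := ⊥) (K := Y) IsPGroup.of_bot bot_le
    exact ⟨U, le_inf (hUY.trans hYK) (hUY.trans le_normalizer), by rw [hU, he]⟩
  · obtain ⟨P, hPK, hPY, hP⟩ := h r hr he
    exact ⟨P, le_inf hPK hPY, hP⟩

/-- A subgroup of prime index in a `p`-group is normalized. -/
theorem le_normalizer_of_prime_index [Finite G] {p : ℕ} [Fact p.Prime] {U P : Subgroup G} (hP : IsPGroup p P)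
    (hUP : U ≤ P) (hc : Nat.card P = p * Nat.card U) : P ≤ normalizer (U : Set G) := by
  have hp : p.Prime := Fact.out
  rw [← normal_subgroupOf_iff_le_normalizer hUP]
  set U' := U.subgroupOf P with hU'
  haveI := hP.isNilpotent
  have hidx : U'.index = p := by
    have h := U'.card_mul_index
    rw [show Nat.card U' = Nat.card U from Nat.card_congr (subgroupOfEquivOfLe hUP).toEquiv, hc, mul_comm p] at h
    exact Nat.eq_of_mul_eq_mul_left Nat.card_pos h
  have hne : U' < ⊤ := lt_top_iff_ne_top.2 fun h => hp.ne_one (by rw [← hidx, h, index_top])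
  have hlt := Group.normalizerCondition_of_isNilpotent (G := P) U' hne
  rw [← normalizer_eq_top_iff, ← index_eq_one]
  rcases (Nat.dvd_prime hp).1 (hidx ▸ index_dvd_of_le hlt.le) with h | h
  · exact h
  · exact absurd (eq_of_le_of_index_le hlt.le (by rw [hidx, h])) hlt.ne

theorem le_normalizer_centralizer {U P : Subgroup G} (h : P ≤ normalizer (U : Set G)) :
    P ≤ normalizer (centralizer (U : Set G) : Set G) := by
  have key : ∀ g ∈ P, ∀ x ∈ centralizer (U : Set G), g * x * g⁻¹ ∈ centralizer (U : Set G) := by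
    intro g hg x hx
    refine mem_centralizer_iff.2 fun y hy => ?_
    have hy' : g⁻¹ * y * g ∈ U := by simpa using (mem_normalizer_iff.1 (h (inv_mem hg)) y).1 hy
    calc y * (g * x * g⁻¹) = g * (g⁻¹ * y * g * x) * g⁻¹ := by group
      _ = _ := by rw [mem_centralizer_iff.1 hx _ hy']; group
  intro g hg
  refine mem_normalizer_iff.2 fun x => ⟨key g hg x, fun hx => ?_⟩
  have := key g⁻¹ (inv_mem hg) _ hx
  simpa [mul_assoc] using this

/-- A `p`-element centralizing a full `p`-subgroup of `K` lies in it. -/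
theorem mem_of_full [Finite G] {p : ℕ} [Fact p.Prime] {U K : Subgroup G} (hU : IsPGroup p U) (hUK : U ≤ K)
    (hc : Nat.card U = p ^ (Nat.card K).factorization p) {x : G} (hx : x ∈ K) (hpe : PE p x)
    (hxU : ∀ y ∈ U, x * y = y * x) : x ∈ U := by
  have hn : zpowers x ≤ normalizer (U : Set G) := by
    refine zpowers_le.2 (centralizer_le_normalizer _ ?_)
    exact mem_centralizer_iff.2 fun y hy => (hxU y hy).symm
  have he := eq_of_card (K := K) (le_sup_right : U ≤ zpowers x ⊔ U) (sup_le (zpowers_le.2 hx) hUK)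
    (hpe.isPGroup.to_sup_of_normal_right' hU hn) hc
  rw [he]
  exact le_sup_left (a := zpowers x) (b := U) (mem_zpowers x)

theorem mem_sylow_of_comm [Finite G] {p : ℕ} [Fact p.Prime] (P : Sylow p G) {x : G} (hpe : PE p x)
    (hx : x ∈ centralizer ((P : Subgroup G) : Set G)) : x ∈ (P : Subgroup G) :=
  mem_of_full (K := ⊤) P.isPGroup' le_top (by rw [Subgroup.card_top, P.card_eq_multiplicity]) (mem_top x) hpe
    fun y hy => (mem_centralizer_iff.1 hx y hy).symm

theorem exists_conj_sylow [Finite G] {p : ℕ} [Fact p.Prime] (P : Sylow p G) {U : Subgroup G} (hU : IsPGroup p U) :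
    ∃ a : G, ∀ x ∈ U, a * x * a⁻¹ ∈ (P : Subgroup G) := by
  obtain ⟨P', hP'⟩ := hU.exists_le_sylow
  obtain ⟨a, ha⟩ := MulAction.exists_smul_eq G P' P
  refine ⟨a, fun x hx => ?_⟩
  rw [← ha, Sylow.coe_subgroup_smul]
  exact ⟨x, hP' hx, rfl⟩

namespace Hyp

variable {m n : ℕ}

theorem cl_nc (hG : Hyp G m n) {g : G} (hg : g ∉ center G) : cl g = m ∨ cl g = m * n :=
  (hG.size g).resolve_left fun h => hg (cl_eq_one.1 h)

theorem nc_of_m (hG : Hyp G m n) {g : G} (hg : cl g = m) : g ∉ center G := fun h => by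
  have := cl_eq_one.2 h; have := hG.hm; omega

theorem nc_of_mn (hG : Hyp G m n) {g : G} (hg : cl g = m * n) : g ∉ center G := fun h => by
  have h1 := cl_eq_one.2 h
  have h2 := Nat.eq_one_of_mul_eq_one_right (hg.symm.trans h1)
  have := hG.hm; omega

theorem m_lt (hG : Hyp G m n) : m < m * n := by
  have := hG.hm; have := hG.hn; nlinarith

theorem cl_le (hG : Hyp G m n) (g : G) : cl g ≤ m * n := by
  have h1 := hG.m_lt
  have := hG.hm
  rcases hG.size g with h | h | h <;> omega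

theorem m_dvd (hG : Hyp G m n) {g : G} (hg : g ∉ center G) : m ∣ cl g := by
  rcases hG.cl_nc hg with h | h <;> rw [h]
  exact dvd_mul_right _ _

theorem not_dvd_m (hG : Hyp G m n) {q : ℕ} (hq : q.Prime) (hqn : q ∣ n) : ¬ q ∣ m := fun h =>
  hq.ne_one (Nat.eq_one_of_dvd_coprimes hG.cop h hqn)

theorem not_dvd_n (hG : Hyp G m n) {p : ℕ} (hp : p.Prime) (hpm : p ∣ m) : ¬ p ∣ n := fun h =>
  hG.not_dvd_m hp h hpm

variable [Finite G]

theorem cl_eq_of_le (hG : Hyp G m n) {g w : G} (hg : cl g = m) (h : Cg g ≤ Cg w) (hw : w ∉ center G) :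
    cl w = m ∧ Cg w = Cg g := by
  have hd : cl w ∣ cl g := index_dvd_of_le h
  have hwm : cl w = m := Nat.dvd_antisymm (hg ▸ hd) (hG.m_dvd hw)
  exact ⟨hwm, (eq_of_le_of_index_le h (show cl g ≤ cl w by rw [hg, hwm])).symm⟩

/-- A centralizer of maximal size. -/
theorem le_of_big (hG : Hyp G m n) {x y : G} (hx : cl x = m * n) (hxy : x * y = y * x)
    (hcop : (orderOf x).Coprime (orderOf y)) : Cg x ≤ Cg y := by
  have he := cent_mul hxy hcop
  have h1 : Cg (x * y) = Cg x := eq_of_le_of_index_le (he ▸ inf_le_left) (by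
    show cl (x * y) ≤ cl x
    rw [hx]
    exact hG.cl_le _)
  rw [← h1, he]
  exact inf_le_right

theorem eq_of_big (hG : Hyp G m n) {x y : G} (hx : cl x = m * n) (hy : cl y = m * n) (hxy : x * y = y * x)
    (hcop : (orderOf x).Coprime (orderOf y)) : Cg x = Cg y :=
  le_antisymm (hG.le_of_big hx hxy hcop) (hG.le_of_big hy hxy.symm hcop.symm)

theorem fact_m (hG : Hyp G m n) {p : ℕ} (hp : p.Prime) (hpm : p ∣ m) {g : G} (hg : g ∉ center G) :
    (Nat.card (Cg g)).factorization p + m.factorization p = (Nat.card G).factorization p := by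
  have e : (cl g).factorization p = m.factorization p := by
    rcases hG.cl_nc hg with h | h
    · rw [h]
    · rw [h, Nat.factorization_mul (by have := hG.hm; omega) (by have := hG.hn; omega), Finsupp.add_apply,
        Nat.factorization_eq_zero_of_not_dvd (hG.not_dvd_n hp hpm), add_zero]
  rw [← e]
  exact factorization_Cg g p

theorem fact_eq (hG : Hyp G m n) {p : ℕ} (hp : p.Prime) (hpm : p ∣ m) {g g' : G} (hg : g ∉ center G)
    (hg' : g' ∉ center G) : (Nat.card (Cg g)).factorization p = (Nat.card (Cg g')).factorization p := by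
  have := hG.fact_m hp hpm hg
  have := hG.fact_m hp hpm hg'
  omega

theorem sylow_le (hG : Hyp G m n) {g : G} (hg : cl g = m) {q : ℕ} [Fact q.Prime] (hqn : q ∣ n) :
    ∃ S : Sylow q G, (S : Subgroup G) ≤ Cg g := by
  obtain ⟨U, -, hUC, -, hU⟩ := exists_sylow_in (G := G) (p := q) (Y := ⊥) (K := Cg g) IsPGroup.of_bot bot_le
  have h := factorization_Cg g q
  rw [hg, Nat.factorization_eq_zero_of_not_dvd (hG.not_dvd_m Fact.out hqn), add_zero] at h
  exact ⟨Sylow.ofCard U (by rw [hU, h]), hUC⟩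

/-- A class of size `m` meets the centralizer of each Sylow subgroup for a divisor of `n`. -/
theorem conj_into (hG : Hyp G m n) {g : G} (hg : cl g = m) {q : ℕ} [Fact q.Prime] (hqn : q ∣ n) (Q : Sylow q G) :
    ∃ a : G, a * g * a⁻¹ ∈ centralizer ((Q : Subgroup G) : Set G) := by
  obtain ⟨S, hS⟩ := hG.sylow_le hg hqn
  obtain ⟨a, ha⟩ := MulAction.exists_smul_eq G S Q
  refine ⟨a, mem_centralizer_iff.2 fun y hy => ?_⟩
  rw [← ha, Sylow.coe_subgroup_smul] at hy
  obtain ⟨z, hz, rfl⟩ := hy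
  show a * z * a⁻¹ * (a * g * a⁻¹) = a * g * a⁻¹ * (a * z * a⁻¹)
  calc a * z * a⁻¹ * (a * g * a⁻¹) = a * (z * g) * a⁻¹ := by group
    _ = _ := by rw [mem_Cg.1 (hS hz)]; group

theorem cl_of_cent (hG : Hyp G m n) {q : ℕ} [Fact q.Prime] (hqn : q ∣ n) (Q : Sylow q G) {g : G}
    (hg : g ∈ centralizer ((Q : Subgroup G) : Set G)) (hgc : g ∉ center G) : cl g = m := by
  refine (hG.cl_nc hgc).resolve_right fun h => Q.not_dvd_index (dvd_trans (dvd_mul_of_dvd_right hqn m) ?_)
  rw [← h]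
  exact index_dvd_of_le fun y hy => mem_Cg.2 (mem_centralizer_iff.1 hg y hy)

theorem exists_nc_pe (hG : Hyp G m n) {l : ℕ} [Fact l.Prime] (hl : l ∣ m * n) :
    ∃ x : G, PE l x ∧ x ∉ center G := by
  by_contra! hcon
  obtain ⟨g, hg⟩ := hG.exmn
  obtain ⟨P⟩ : Nonempty (Sylow l G) := inferInstance
  refine P.not_dvd_index (hl.trans ?_)
  rw [← hg]
  exact index_dvd_of_le fun y hy => center_le_Cg g (hcon y (pe_of_mem P.isPGroup' hy))

theorem exists_nc_mem_sylow (hG : Hyp G m n) {q : ℕ} [Fact q.Prime] (hqn : q ∣ n) (Q : Sylow q G) :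
    ∃ x ∈ (Q : Subgroup G), x ∉ center G := by
  obtain ⟨x, hx, hxc⟩ := hG.exists_nc_pe (dvd_mul_of_dvd_right hqn m)
  obtain ⟨a, ha⟩ := exists_conj_sylow Q hx.isPGroup
  exact ⟨_, ha x (mem_zpowers x), not_mem_center_conj hxc⟩

/-- Elements of class size `m` of prime power order exist. -/
theorem exists_m_pe (hG : Hyp G m n) : ∃ x : G, ∃ r : ℕ, r.Prime ∧ PE r x ∧ cl x = m := by
  obtain ⟨g, hg⟩ := hG.exm
  obtain ⟨i, r, hr, hpe, hnc⟩ := exists_part (hG.nc_of_m hg)
  exact ⟨g ^ i, r, hr, hpe, Nat.dvd_antisymm (hg ▸ cl_pow_dvd g i) (hG.m_dvd hnc)⟩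

theorem exists_regular (hG : Hyp G m n) {q : ℕ} [Fact q.Prime] (hqn : q ∣ n) :
    ∃ x : G, (orderOf x).Coprime q ∧ cl x = m * n := by
  have hq : q.Prime := Fact.out
  by_contra! hcon
  obtain ⟨Q⟩ : Nonempty (Sylow q G) := inferInstance
  obtain ⟨hQn, H, hHn, -, hint, hsup⟩ := Cfsg.Agent.S4035.result (p := q) (fun x hx => by
    rw [ncard_carrier]
    rcases hG.size x with h | h | h
    · rw [h]; exact hq.not_dvd_one
    · rw [h]; exact hG.not_dvd_m hq hqn
    · exact absurd h (hcon x hx)) Q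
  haveI := hQn
  haveI := hHn
  obtain ⟨x, hxQ, hxc⟩ := hG.exists_nc_mem_sylow hqn Q
  have hle : H ≤ Cg x := fun y hy =>
    mem_Cg.2 ((commute_of_normal_of_disjoint _ _ hQn hHn (disjoint_iff.2 hint) x y hxQ hy).symm).eq
  have h1 : cl x ∣ H.index := index_dvd_of_le hle
  have h2 : H.index ∣ Nat.card (Q : Subgroup G) := by
    rw [← relIndex_top_right H, ← hsup, relIndex_sup_right]
    exact relIndex_dvd_card H _
  rw [Q.card_eq_multiplicity] at h2
  obtain ⟨p, hp, hpm⟩ := Nat.exists_prime_and_dvd (ne_of_gt hG.hm)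
  have h3 := hp.dvd_of_dvd_pow (((hpm.trans (hG.m_dvd hxc)).trans h1).trans h2)
  rw [Nat.prime_dvd_prime_iff_eq hp hq] at h3
  exact hG.not_dvd_m hq hqn (h3 ▸ hpm)

/-- The second-centre argument: `p` divides `m` exactly once. -/
theorem fact_one (hG : Hyp G m n) {p t : ℕ} [Fact p.Prime] (hpm : p ∣ m) (ht : t.Prime) (hne : t ≠ p)
    (P : Sylow p G) {u v : G} (hu : u ∈ (P : Subgroup G)) (huc : u ∉ center G) (hup : u ^ p ∈ center G)
    (hcomm : ∀ g ∈ (P : Subgroup G), g * u * g⁻¹ * u⁻¹ ∈ center G) (hvu : v ∈ Cg u) (hvt : PE t v)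
    (hvc : v ∉ center G) (hle : Cg u ≤ Cg v) : m.factorization p = 1 := by
  have hp : p.Prime := Fact.out
  have hn0 : (P : Subgroup G) ≤ normalizer (Cg u : Set G) := Cg_invariant hu hcomm le_rfl
  have hvK : v ∈ cpart (Cg u) t := mem_cpart hvu (fun y hy => mem_Cg.1 (hle hy)) hvt
  have hcard : Nat.card ((P : Subgroup G) ⊓ Cg u : Subgroup G) = p ^ (Nat.card (Cg u)).factorization p :=
    sylow_inf P _ hn0
  have hd := index_dvd_prime (P := (P : Subgroup G)) (K := cpart (Cg u) t) (Zs := center G) P.isPGroup' hu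
    (fun z hz g _ => mem_center_iff.1 hz g) hcomm hup (cpart_normalizer hn0)
    (fun x hx y hy => cpart_comm hx (cpart_le _ _ hy)) (fun g hg w hw => (cpart_comm hw hg.2).symm)
    (fun w hw hwc => by
      have h1 : (P : Subgroup G) ⊓ Cg u ≤ (P : Subgroup G) ⊓ Cg w :=
        inf_le_inf le_rfl fun y hy => mem_Cg.2 (cpart_comm hw hy).symm
      have h2 := eq_of_card (K := Cg w) h1 inf_le_right (P.2.to_le inf_le_left)
        (by rw [hcard, hG.fact_eq hp hpm huc hwc])
      rw [← h2]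
      exact inf_le_right)
    hvK hvc (by
      obtain ⟨k, hk⟩ := hvt
      rw [hk]
      exact Nat.Coprime.pow_left _ ((Nat.coprime_primes ht hp).2 hne))
  have h3 := relIndex_mul_relIndex (⊥ : Subgroup G) ((P : Subgroup G) ⊓ Cg u) P bot_le inf_le_left
  rw [relIndex_bot_left, relIndex_bot_left] at h3
  rw [hcard, P.card_eq_multiplicity, ← hG.fact_m hp hpm huc, pow_add] at h3
  rw [Nat.eq_of_mul_eq_mul_left (pow_pos hp.pos _) h3] at hd
  have h4 : m.factorization p ≤ 1 := (Nat.pow_dvd_pow_iff_le_right hp.one_lt).1 (by rwa [pow_one])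
  have h5 := (hp.factorization_pos_of_dvd (by have := hG.hm; omega) hpm)
  omega

end Hyp

/-- All elements of prime power order with class size `m` belong to one prime. -/
def OnePrime (G : Type u) [Group G] (m : ℕ) : Prop :=
  ∃ s : ℕ, s.Prime ∧ ∀ (x : G) (r : ℕ), r.Prime → PE r x → cl x = m → r = s

/-- A Sylow centralizer which is central in a common centralizer `H` and involves two primes. -/
structure TwoData (G : Type u) [Group G] (m n : ℕ) (q : ℕ) (Q : Sylow q G) (H : Subgroup G) : Prop where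
  dvd : q ∣ n
  le : centralizer ((Q : Subgroup G) : Set G) ≤ H
  comm : ∀ g ∈ centralizer ((Q : Subgroup G) : Set G), ∀ h ∈ H, h * g = g * h
  cent : ∀ w ∈ centralizer ((Q : Subgroup G) : Set G), w ∉ center G → cl w = m ∧ Cg w = H
  two : ∃ r t : ℕ, r.Prime ∧ t.Prime ∧ r ≠ t ∧
    (∃ w ∈ centralizer ((Q : Subgroup G) : Set G), PE r w ∧ w ∉ center G) ∧
    (∃ w ∈ centralizer ((Q : Subgroup G) : Set G), PE t w ∧ w ∉ center G)

/-- The case distinction. -/
theorem dichotomy [Finite G] {m n : ℕ} (hG : Hyp G m n) {q : ℕ} [Fact q.Prime] (hqn : q ∣ n) (Q : Sylow q G) :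
    OnePrime G m ∨ ∃ H, TwoData G m n q Q H := by
  classical
  set M := centralizer ((Q : Subgroup G) : Set G) with hM
  by_cases htwo : ∃ r t : ℕ, r.Prime ∧ t.Prime ∧ r ≠ t ∧
      (∃ w ∈ M, PE r w ∧ w ∉ center G) ∧ (∃ w ∈ M, PE t w ∧ w ∉ center G)
  · right
    have hq : q.Prime := Fact.out
    -- the elements of `M` with coprime orders commute
    have hcomm : ∀ w ∈ M, ∀ w' ∈ M, ∀ r t : ℕ, r.Prime → t.Prime → r ≠ t → PE r w → PE t w' → w * w' = w' * w := by
      intro w hw w' hw' r t hr ht hne hpw hpw'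
      by_cases hb : r = q ∨ t = q
      · rcases hb with rfl | rfl
        · exact mem_centralizer_iff.1 hw' w (mem_sylow_of_comm Q hpw hw)
        · exact (mem_centralizer_iff.1 hw w' (mem_sylow_of_comm Q hpw' hw')).symm
      · push Not at hb
        obtain ⟨x, hxQ, hxc⟩ := hG.exists_nc_mem_sylow hqn Q
        have hxpe : PE q x := pe_of_mem Q.isPGroup' hxQ
        rcases hG.cl_nc hxc with h | h
        · obtain ⟨a, ha⟩ := hG.conj_into h hqn Q
          have hbQ := mem_sylow_of_comm Q (hxpe.conj a) ha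
          have hnc := not_mem_center_conj (a := a) hxc
          have key : ∀ z ∈ M, ∀ l : ℕ, l.Prime → l ≠ q → PE l z → Cg (a * x * a⁻¹) ≤ Cg z := by
            intro z hz l hl hlq hpz
            have hc : a * x * a⁻¹ * z = z * (a * x * a⁻¹) := mem_centralizer_iff.1 hz _ hbQ
            have hcp := PE.coprime hq hl hlq.symm (hxpe.conj a) hpz
            have he := cent_mul hc hcp
            have hmm : a * x * a⁻¹ * z ∈ M := mul_mem ha hz
            have hnc' : a * x * a⁻¹ * z ∉ center G := fun h' => by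
              have h1 := cl_dvd_mul hc hcp
              rw [cl_eq_one.2 h', Nat.dvd_one] at h1
              exact hnc (cl_eq_one.1 h1)
            have h1 := hG.cl_of_cent hqn Q hmm hnc'
            have h2 := hG.cl_of_cent hqn Q ha hnc
            have h3 : Cg (a * x * a⁻¹ * z) = Cg (a * x * a⁻¹) :=
              eq_of_le_of_index_le (he ▸ inf_le_left) (show cl _ ≤ cl _ by rw [h1, h2])
            rw [← h3, he]
            exact inf_le_right
          have h1 : w' ∈ Cg (a * x * a⁻¹) := mem_Cg.2 (mem_centralizer_iff.1 hw' _ hbQ).symm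
          exact (mem_Cg.1 (key w hw r hr hb.1 hpw h1)).symm
        · have h1 : Cg x ≤ Cg w :=
            hG.le_of_big h (mem_centralizer_iff.1 hw x hxQ) (PE.coprime hq hr hb.1.symm hxpe hpw)
          exact (mem_Cg.1 (h1 (mem_Cg.2 (mem_centralizer_iff.1 hw' x hxQ).symm))).symm
    have heq : ∀ w ∈ M, ∀ w' ∈ M, ∀ r t : ℕ, r.Prime → t.Prime → r ≠ t → PE r w → PE t w' →
        w ∉ center G → w' ∉ center G → Cg w = Cg w' := by
      intro w hw w' hw' r t hr ht hne hpw hpw' hwc hwc'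
      have hc := hcomm w hw w' hw' r t hr ht hne hpw hpw'
      have hcp := PE.coprime hr ht hne hpw hpw'
      have he := cent_mul hc hcp
      have hnc : w * w' ∉ center G := fun h' => by
        have h1 := cl_dvd_mul hc hcp
        rw [cl_eq_one.2 h', Nat.dvd_one] at h1
        exact hwc (cl_eq_one.1 h1)
      have h1 := hG.cl_of_cent hqn Q (mul_mem hw hw') hnc
      have h2 := hG.cl_of_cent hqn Q hw hwc
      have h3 := hG.cl_of_cent hqn Q hw' hwc'
      have e1 : Cg (w * w') = Cg w := eq_of_le_of_index_le (he ▸ inf_le_left) (show cl _ ≤ cl _ by rw [h1, h2])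
      have e2 : Cg (w * w') = Cg w' := eq_of_le_of_index_le (he ▸ inf_le_right) (show cl _ ≤ cl _ by rw [h1, h3])
      rw [← e1, e2]
    obtain ⟨r, t, hr, ht, hne, ⟨a, ha, hpa, hac⟩, ⟨b, hb, hpb, hbc⟩⟩ := htwo
    have hab := heq a ha b hb r t hr ht hne hpa hpb hac hbc
    have hall : ∀ w ∈ M, ∀ l : ℕ, l.Prime → PE l w → Cg a ≤ Cg w := by
      intro w hw l hl hpw
      by_cases hwc : w ∈ center G
      · exact fun y _ => mem_Cg.2 (mem_center_iff.1 hwc y)
      by_cases hlr : l = r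
      · rw [heq w hw b hb l t hl ht (hlr ▸ hne) hpw hpb hwc hbc, hab]
      · rw [heq w hw a ha l r hl hr hlr hpw hpa hwc hac]
    have hcen : ∀ g ∈ M, Cg a ≤ Cg g := by
      intro g hg y hy
      have h1 : g ∈ Cg y := mem_of_parts _ g fun i l k hl hk =>
        mem_Cg.2 (mem_Cg.1 (hall _ (pow_mem hg i) l hl ⟨k, hk⟩ hy)).symm
      exact mem_Cg.2 (mem_Cg.1 h1).symm
    refine ⟨Cg a, hqn, ?_, fun g hg h hh => mem_Cg.1 (hcen g hg hh), fun w hw hwc => ?_,
      ⟨r, t, hr, ht, hne, ⟨a, ha, hpa, hac⟩, ⟨b, hb, hpb, hbc⟩⟩⟩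
    · intro g hg
      exact mem_Cg.2 (mem_Cg.1 (hcen g hg (self_mem_Cg a))).symm
    · exact ⟨hG.cl_of_cent hqn Q hw hwc, (hG.cl_eq_of_le (hG.cl_of_cent hqn Q ha hac) (hcen w hw) hwc).2⟩
  · left
    obtain ⟨x, s, hs, hxs, hxm⟩ := hG.exists_m_pe
    refine ⟨s, hs, fun y r hr hy hym => ?_⟩
    by_contra hne
    obtain ⟨a, ha⟩ := hG.conj_into hxm hqn Q
    obtain ⟨c, hc⟩ := hG.conj_into hym hqn Q
    exact htwo ⟨r, s, hr, hs, hne, ⟨_, hc, hy.conj c, not_mem_center_conj (hG.nc_of_m hym)⟩,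
      ⟨_, ha, hxs.conj a, not_mem_center_conj (hG.nc_of_m hxm)⟩⟩

end Cfsg.Agent.Lib.PGroups.ClassStep
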