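import Mathlib
import Cfsg.Agent.Lib.PGroups.ClassStepBasic

/-!
Class sizes `1, m, m * n`: the single prime of the small classes does not divide `n`.
-/

set_option autoImplicit false

namespace Cfsg.Agent.Lib.PGroups.ClassStep

open Subgroup Cfsg.Agent.Lib.PGroups.ClassGraph

universe u
variable {G : Type u} [Group G] [Finite G] {m n s : ℕ}

theorem big_of_ne (hG : Hyp G m n) (hα : ∀ (x : G) (r : ℕ), r.Prime → PE r x → cl x = m → r = s) {x : G} {r : ℕ}
    (hr : r.Prime) (hne : r ≠ s) (hx : PE r x) (hxc : x ∉ center G) : cl x = m * n :=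
  (hG.cl_nc hxc).resolve_left fun h => hne (hα x r hr hx h)

theorem exists_s (hG : Hyp G m n) (hα : ∀ (x : G) (r : ℕ), r.Prime → PE r x → cl x = m → r = s) :
    ∃ a : G, PE s a ∧ cl a = m := by
  obtain ⟨x, r, hr, hx, hxm⟩ := hG.exists_m_pe
  exact ⟨x, hα x r hr hx hxm ▸ hx, hxm⟩

theorem fact_cl_eq (g g' : G) (h : cl g = cl g') (r : ℕ) :
    (Nat.card (Cg g)).factorization r = (Nat.card (Cg g')).factorization r := by
  have h1 := factorization_Cg g r
  have h2 := factorization_Cg g' r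
  rw [h] at h1
  omega

set_option maxHeartbeats 1000000 in
theorem alpha_one (hG : Hyp G m n) (hs : s.Prime) (hα : ∀ (x : G) (r : ℕ), r.Prime → PE r x → cl x = m → r = s)
    (hsn : s ∣ n) : False := by
  haveI : Fact s.Prime := ⟨hs⟩
  obtain ⟨a₀, ha₀, ha₀m⟩ := exists_s hG hα
  have hne : ∀ p, p.Prime → p ∣ m → p ≠ s := fun p hp hpm h => hG.not_dvd_m hs hsn (h ▸ hpm)
  -- every centralizer has noncentral elements for each divisor of `m`
  have hin : ∀ p, p.Prime → p ∣ m → ∀ g : G, g ∉ center G → ∃ v ∈ Cg g, PE p v ∧ v ∉ center G := by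
    intro p hp hpm g hg
    haveI : Fact p.Prime := ⟨hp⟩
    obtain ⟨x, hx, hxc⟩ := hG.exists_nc_pe (l := p) (dvd_mul_of_dvd_left hpm n)
    exact nc_mem (hG.fact_eq hp hpm hg hxc) (center_le_Cg x) (self_mem_Cg x) hx hxc
      fun z hz => mem_center_iff.1 hz x
  have F1 : ∀ p, p.Prime → p ∣ m → ∀ v : G, PE p v → v ∉ center G → ∃ a, PE s a ∧ cl a = m ∧ v ∈ Cg a := by
    intro p hp hpm v hv hvc
    obtain ⟨v₀, hv₀a, hv₀, hv₀c⟩ := hin p hp hpm a₀ (hG.nc_of_m ha₀m)
    have hb := big_of_ne hG hα hp (hne p hp hpm) hv hvc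
    have hb₀ := big_of_ne hG hα hp (hne p hp hpm) hv₀ hv₀c
    obtain ⟨x, hxv, hx, hxc⟩ := nc_mem (C := Cg v) (fact_cl_eq v v₀ (hb.trans hb₀.symm) s) (center_le_Cg v₀)
      (mem_Cg.2 (mem_Cg.1 hv₀a).symm) ha₀ (hG.nc_of_m ha₀m) fun z hz => mem_center_iff.1 hz a₀
    rcases hG.cl_nc hxc with h | h
    · exact ⟨x, hx, h, mem_Cg.2 (mem_Cg.1 hxv).symm⟩
    · have he := hG.eq_of_big hb h (mem_Cg.1 hxv).symm (PE.coprime hp hs (hne p hp hpm) hv hx)
      obtain ⟨S, hS⟩ := hx.isPGroup.exists_le_sylow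
      obtain ⟨c, hc⟩ := hG.conj_into ha₀m hsn S
      have h1 : c * a₀ * c⁻¹ ∈ Cg v := he ▸ mem_Cg.2 (mem_centralizer_iff.1 hc x (hS (mem_zpowers x))).symm
      exact ⟨_, ha₀.conj c, (cl_conj c a₀).trans ha₀m, mem_Cg.2 (mem_Cg.1 h1).symm⟩
  have hfact : ∀ p, p.Prime → p ∣ m → m.factorization p = 1 := by
    intro p hp hpm
    haveI : Fact p.Prime := ⟨hp⟩
    obtain ⟨P⟩ : Nonempty (Sylow p G) := inferInstance
    obtain ⟨u, hu, huc, hup, hcomm⟩ := exists_second (P := (P : Subgroup G)) (Zs := center G) P.isPGroup' le_rfl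
      le_normalizer (fun z hz g _ => mem_center_iff.1 hz g) (fun h => by
        obtain ⟨x, hx, hxc⟩ := hG.exists_nc_pe (l := p) (dvd_mul_of_dvd_left hpm n)
        obtain ⟨c, hc⟩ := exists_conj_sylow P hx.isPGroup
        exact not_mem_center_conj hxc (h (hc x (mem_zpowers x))))
    have hup' := pe_of_mem P.isPGroup' hu
    obtain ⟨v, hv, hvm, hvu⟩ := F1 p hp hpm u hup' huc
    have hvc : v ∉ center G := hG.nc_of_m hvm
    exact hG.fact_one hpm hs (hne p hp hpm).symm P hu huc hup hcomm (mem_Cg.2 (mem_Cg.1 hvu).symm) hv hvc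
      (hG.le_of_big (big_of_ne hG hα hp (hne p hp hpm) hup' huc) (mem_Cg.1 hvu)
        (PE.coprime hp hs (hne p hp hpm) hup' hv))
  obtain ⟨p, hp, hpm⟩ := Nat.exists_prime_and_dvd (ne_of_gt hG.hm)
  haveI : Fact p.Prime := ⟨hp⟩
  have hps := hne p hp hpm
  -- the `p`-elements centralizing `a` centralize its normal closure
  have F2 : ∀ a, PE s a → cl a = m → ∀ v ∈ Cg a, PE p v → v ∉ center G →
      ∀ w ∈ normalClosure ({a} : Set G), w * v = v * w := by
    intro a ha ham v hva hv hvc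
    have hb := big_of_ne hG hα hp hps hv hvc
    set K := cpart (Cg v) s with hK
    have haK : ∀ x ∈ Cg v, PE s x → x ∈ K := fun x hx hxs => mem_cpart hx
      (fun y hy => mem_Cg.1 (hG.le_of_big hb (mem_Cg.1 hx).symm (PE.coprime hp hs hps hv hxs) hy)) hxs
    have hN : (normalizer (K : Set G)).index.Coprime (Cg a).index := by
      refine Nat.coprime_of_dvd fun l hl h1 h2 => ?_
      rw [show (Cg a).index = m from ham] at h2
      haveI : Fact l.Prime := ⟨hl⟩
      obtain ⟨v', hv'v, hv', hv'c, hv'e⟩ : ∃ v' ∈ Cg v, PE l v' ∧ v' ∉ center G ∧ Cg v' = Cg v := by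
        by_cases hlp : l = p
        · exact ⟨v, self_mem_Cg v, hlp ▸ hv, hvc, rfl⟩
        · obtain ⟨v', hv'v, hv', hv'c⟩ := hin l hl h2 v hvc
          exact ⟨v', hv'v, hv', hv'c, (hG.eq_of_big hb (big_of_ne hG hα hl (hne l hl h2) hv' hv'c)
            (mem_Cg.1 hv'v).symm (PE.coprime hp hl (Ne.symm hlp) hv hv')).symm⟩
      obtain ⟨U, hvU, hUC, hU, hUc⟩ := exists_sylow_in hv'.isPGroup (zpowers_le.2 hv'v)
      obtain ⟨P', hP'⟩ := hU.exists_le_sylow
      have hn' : (P' : Subgroup G) ≤ normalizer (U : Set G) := le_normalizer_of_prime_index P'.isPGroup' hP' (by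
        rw [P'.card_eq_multiplicity, hUc, ← hG.fact_m hl h2 hvc, hfact l hl h2, pow_succ, mul_comm])
      have hn'' := le_normalizer_centralizer hn'
      have key : ∀ g ∈ (P' : Subgroup G), ∀ x ∈ K, g * x * g⁻¹ ∈ K := by
        intro g hg x hx
        have hxU : x ∈ centralizer (U : Set G) :=
          mem_centralizer_iff.2 fun y hy => (cpart_comm hx (hUC hy)).symm
        have h3 := (mem_normalizer_iff.1 (hn'' hg) x).1 hxU
        refine haK _ (hv'e ▸ mem_Cg.2 (mem_centralizer_iff.1 h3 v' (hvU (mem_zpowers v'))).symm) ?_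
        exact (cpart_pe hs hx).conj g
      have hle : (P' : Subgroup G) ≤ normalizer (K : Set G) := fun g hg => mem_normalizer_iff.2 fun x =>
        ⟨key g hg x, fun hx => by simpa [mul_assoc] using key g⁻¹ (inv_mem hg) _ hx⟩
      exact P'.not_dvd_index (h1.trans (index_dvd_of_le hle))
    have hsub : normalClosure ({a} : Set G) ≤ K := by
      refine (closure_le _).2 fun x hx => ?_
      obtain ⟨a', ha', hconj⟩ := Group.mem_conjugatesOfSet_iff.1 hx
      rw [Set.mem_singleton_iff.1 ha'] at hconj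
      obtain ⟨g, rfl⟩ := isConj_iff.1 hconj
      obtain ⟨y, hy, z, hz, rfl⟩ := exists_mul_of_index_coprime hN g
      rw [SetLike.mem_coe, show y * z * a * (y * z)⁻¹ = y * a * y⁻¹ by
        rw [show y * z * a = y * (z * a) by group, mem_Cg.1 hz]; group]
      exact (mem_normalizer_iff.1 hy a).1 (haK a (mem_Cg.2 (mem_Cg.1 hva).symm) ha)
    exact fun w hw => cpart_comm (hsub hw) (self_mem_Cg v)
  let CW : G → Subgroup G := fun a => centralizer (normalClosure ({a} : Set G) : Set G)
  haveI hCWn : ∀ a, (CW a).Normal := fun a =>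
    Subgroup.normal_centralizer
  have hU : ∀ a, PE s a → cl a = m → ∀ U ≤ Cg a, IsPGroup p U → U ≤ CW a := by
    intro a ha ham U hUa hU x hx
    refine mem_centralizer_iff.2 fun w hw => ?_
    by_cases hxc : x ∈ center G
    · exact mem_center_iff.1 hxc w
    · exact F2 a ha ham x (hUa hx) (pe_of_mem hU hx) hxc w hw
  have hCWle : ∀ a, CW a ≤ Cg a := fun a x hx =>
    mem_Cg.2 (mem_centralizer_iff.1 hx a (subset_normalClosure rfl)).symm
  obtain ⟨P⟩ : Nonempty (Sylow p G) := inferInstance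
  have hPn : ∀ K : Subgroup G, K.Normal → (P : Subgroup G) ≤ normalizer (K : Set G) := fun K hK => by
    haveI := hK
    rw [normalizer_eq_top]; exact le_top
  -- the `p`-part of the centralizer of the normal closure
  have hπ : ∀ a, PE s a → cl a = m →
      (Nat.card (CW a)).factorization p + 1 = (Nat.card G).factorization p := by
    intro a ha ham
    obtain ⟨U, -, hUa, hUp, hUc⟩ := exists_sylow_in (G := G) (p := p) (Y := ⊥) (K := Cg a) IsPGroup.of_bot bot_le
    have h1 : p ^ (Nat.card (Cg a)).factorization p ∣ Nat.card (CW a) := hUc ▸ card_dvd_of_le (hU a ha ham U hUa hUp)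
    have h2 := (hp.pow_dvd_iff_le_factorization Nat.card_pos.ne').1 h1
    have h3 : (Nat.card (CW a)).factorization p ≤ (Nat.card (Cg a)).factorization p :=
      (Nat.factorization_le_iff_dvd Nat.card_pos.ne' Nat.card_pos.ne').2 (card_dvd_of_le (hCWle a)) p
    have h4 := hG.fact_m hp hpm (hG.nc_of_m ham)
    rw [hfact p hp hpm] at h4
    omega
  have hcardW : ∀ a, PE s a → cl a = m → ∀ g : G, g ∉ center G →
      Nat.card ((P : Subgroup G) ⊓ CW a : Subgroup G) = p ^ (Nat.card (Cg g)).factorization p := by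
    intro a ha ham g hg
    rw [sylow_inf P _ (hPn _ (hCWn a))]
    have h4 := hG.fact_m hp hpm hg
    have h5 := hπ a ha ham
    rw [hfact p hp hpm] at h4
    congr 1
    omega
  have heq : ∀ a a', PE s a → cl a = m → PE s a' → cl a' = m →
      (P : Subgroup G) ⊓ CW a = (P : Subgroup G) ⊓ CW a' := by
    intro a a' ha ham ha' ham'
    suffices h : ∃ U : Subgroup G, IsPGroup p U ∧ U ≤ CW a ⊓ CW a' ∧
        Nat.card ((P : Subgroup G) ⊓ CW a : Subgroup G) ≤ Nat.card U by
      obtain ⟨U, hUp, hUle, hUc⟩ := h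
      have h1 : Nat.card U ≤ Nat.card ((P : Subgroup G) ⊓ (CW a ⊓ CW a') : Subgroup G) := by
        rw [sylow_inf P _ (hPn _ inferInstance)]
        exact card_le_factorization hUp hUle
      have e1 := eq_of_le_of_card_ge (inf_le_inf le_rfl inf_le_left :
        (P : Subgroup G) ⊓ (CW a ⊓ CW a') ≤ (P : Subgroup G) ⊓ CW a) (hUc.trans h1)
      have e2 := eq_of_le_of_card_ge (inf_le_inf le_rfl inf_le_right :
        (P : Subgroup G) ⊓ (CW a ⊓ CW a') ≤ (P : Subgroup G) ⊓ CW a') (le_of_eq_of_le (by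
          rw [hcardW a' ha' ham' a (hG.nc_of_m ham), hcardW a ha ham a (hG.nc_of_m ham)]) (hUc.trans h1))
      exact e1.symm.trans e2
    have hac := hG.nc_of_m ham
    by_cases hv : a * a' ∈ center G
    · obtain ⟨U, -, hUa, hUp, hUc⟩ := exists_sylow_in (G := G) (p := p) (Y := ⊥) (K := Cg a) IsPGroup.of_bot bot_le
      refine ⟨U, hUp, le_inf (hU a ha ham U hUa hUp) (hU a' ha' ham' U (fun x hx => mem_Cg.2 ?_) hUp),
        by rw [hcardW a ha ham a hac, hUc]⟩
      calc x * a' = a⁻¹ * (x * (a * a')) := by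
            rw [← mul_assoc x, mem_Cg.1 (hUa hx)]; group
        _ = a⁻¹ * (a * a' * x) := by rw [mem_center_iff.1 hv x]
        _ = a' * x := by group
    · obtain ⟨U, -, hUv, hUp, hUc⟩ := exists_sylow_in (G := G) (p := p) (Y := ⊥) (K := Cg (a * a'))
        IsPGroup.of_bot bot_le
      by_cases hall : U ≤ Cg a
      · refine ⟨U, hUp, le_inf (hU a ha ham U hall hUp) (hU a' ha' ham' U (fun x hx => mem_Cg.2 ?_) hUp),
          by rw [hcardW a ha ham _ hv, hUc]⟩
        calc x * a' = a⁻¹ * (x * (a * a')) := by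
              rw [← mul_assoc x, mem_Cg.1 (hall hx)]; group
          _ = a⁻¹ * (a * a' * x) := by rw [mem_Cg.1 (hUv hx)]
          _ = a' * x := by group
      · obtain ⟨g, hgU, hga⟩ := SetLike.not_le_iff_exists.1 hall
        set c := g * a * g⁻¹ * a⁻¹ with hc
        have hself : ∀ b : G, b ∈ normalClosure ({b} : Set G) := fun b => subset_normalClosure (Set.mem_singleton b)
        have hgv := mem_Cg.1 (hUv hgU)
        have hcW : c ∈ normalClosure ({a} : Set G) :=
          mul_mem (Normal.conj_mem normalClosure_normal a (hself a) g)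
            (inv_mem (hself a))
        have hcW' : c ∈ normalClosure ({a'} : Set G) := by
          have e : c = a * (a' * (g * a'⁻¹ * g⁻¹)) * a⁻¹ := by
            calc c = g * (a * a') * a'⁻¹ * g⁻¹ * a⁻¹ := by rw [hc]; group
              _ = _ := by rw [hgv]; group
          rw [e]
          exact Normal.conj_mem normalClosure_normal _ (mul_mem (hself a')
            (Normal.conj_mem normalClosure_normal _ (inv_mem (hself a')) g)) a
        have hcc : c ∉ center G := fun h => hga (mem_Cg.2 (comm_of_comm_comm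
          (PE.coprime hp hs hps (pe_of_mem hUp hgU) ha) (show Commute c g from (mem_center_iff.1 h g).symm)
          (show Commute c a from (mem_center_iff.1 h a).symm)))
        have k1 : ∀ b, c ∈ normalClosure ({b} : Set G) → (P : Subgroup G) ⊓ CW b ≤ Cg c := fun b hb x hx =>
          mem_Cg.2 (mem_centralizer_iff.1 hx.2 c hb).symm
        have hmeet : IsPGroup p ((P : Subgroup G) ⊓ Cg c : Subgroup G) := P.2.to_le inf_le_left
        have e1 := eq_of_card (K := Cg c) (le_inf inf_le_left (k1 a hcW)) inf_le_right hmeet (hcardW a ha ham c hcc)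
        have e2 := eq_of_card (K := Cg c) (le_inf inf_le_left (k1 a' hcW')) inf_le_right hmeet
          (hcardW a' ha' ham' c hcc)
        refine ⟨(P : Subgroup G) ⊓ CW a, P.2.to_le inf_le_left, le_inf inf_le_right ?_, le_rfl⟩
        rw [e1, ← e2]
        exact inf_le_right
  obtain ⟨x, hxP, hxW⟩ : ∃ x ∈ (P : Subgroup G), x ∉ CW a₀ := by
    by_contra! h
    have h1 := hπ a₀ ha₀ ha₀m
    have h2 := sylow_inf P _ (hPn _ (hCWn a₀))
    rw [inf_eq_left.2 h, P.card_eq_multiplicity] at h2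
    have := Nat.pow_right_injective hp.two_le h2
    omega
  have hxpe := pe_of_mem P.isPGroup' hxP
  have hxc : x ∉ center G := fun h => hxW (center_le_centralizer _ h)
  obtain ⟨a, ha, ham, hxa⟩ := F1 p hp hpm x hxpe hxc
  have h1 : x ∈ (P : Subgroup G) ⊓ CW a :=
    ⟨hxP, hU a ha ham (zpowers x) (zpowers_le.2 hxa) hxpe.isPGroup (mem_zpowers x)⟩
  rw [← heq a₀ a ha₀ ha₀m ha ham] at h1
  exact hxW h1.2

end Cfsg.Agent.Lib.PGroups.ClassStep
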