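import Mathlib
import Cfsg.Agent.Lib.PGroups.ClassStepAlphaOne

/-!
Class sizes `1, m, m * n`: the small classes cannot belong to a single prime.
-/

set_option autoImplicit false

namespace Cfsg.Agent.Lib.PGroups.ClassStep

open Subgroup Cfsg.Agent.Lib.PGroups.ClassGraph

universe u
variable {G : Type u} [Group G] [Finite G] {m n s : ℕ}

set_option maxHeartbeats 1000000 in
theorem alpha_two (hG : Hyp G m n) (hs : s.Prime) (hα : ∀ (x : G) (r : ℕ), r.Prime → PE r x → cl x = m → r = s)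
    (hsn : ¬ s ∣ n) : False := by
  haveI : Fact s.Prime := ⟨hs⟩
  obtain ⟨q, hq, hqn⟩ := Nat.exists_prime_and_dvd (ne_of_gt hG.hn)
  haveI : Fact q.Prime := ⟨hq⟩
  have hqs : q ≠ s := fun h => hsn (h ▸ hqn)
  obtain ⟨Q⟩ : Nonempty (Sylow q G) := inferInstance
  obtain ⟨a, ha, ham, haQ⟩ : ∃ a, PE s a ∧ cl a = m ∧ a ∈ centralizer ((Q : Subgroup G) : Set G) := by
    obtain ⟨a, ha, ham⟩ := exists_s hG hα
    obtain ⟨c, hc⟩ := hG.conj_into ham hqn Q
    exact ⟨_, ha.conj c, (cl_conj c a).trans ham, hc⟩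
  set H := Cg a with hH
  have hQH : (Q : Subgroup G) ≤ H := fun y hy => mem_Cg.2 (mem_centralizer_iff.1 haQ y hy)
  have hac := hG.nc_of_m ham
  have hB := fun {x : G} {r : ℕ} => big_of_ne (x := x) (r := r) hG hα
  have inB : ∀ l, l.Prime → l ≠ s → ∀ x₀, PE l x₀ → x₀ ∉ center G → ∀ g, cl g = m * n →
      ∃ v ∈ Cg g, PE l v ∧ v ∉ center G := by
    intro l hl hls x₀ hx₀ hx₀c g hg
    haveI : Fact l.Prime := ⟨hl⟩
    exact nc_mem (fact_cl_eq g x₀ (hg.trans (hB hl hls hx₀ hx₀c).symm) l) (center_le_Cg x₀) (self_mem_Cg x₀)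
      hx₀ hx₀c fun z hz => mem_center_iff.1 hz x₀
  obtain ⟨xq, hxqQ, hxqc⟩ := hG.exists_nc_mem_sylow hqn Q
  have hxq : PE q xq := pe_of_mem Q.isPGroup' hxqQ
  by_cases ht : ∃ t : ℕ, t.Prime ∧ t ≠ s ∧ t ≠ q ∧ ∃ x : G, PE t x ∧ x ∉ center G
  · obtain ⟨t, ht, hts, htq, xt, hxt, hxtc⟩ := ht
    have other : ∀ r, ∃ l, l.Prime ∧ l ≠ s ∧ l ≠ r ∧ ∀ g, cl g = m * n → ∃ v ∈ Cg g, PE l v ∧ v ∉ center G := by
      intro r
      by_cases hr : r = q
      · exact ⟨t, ht, hts, hr ▸ htq, inB t ht hts xt hxt hxtc⟩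
      · exact ⟨q, hq, hqs, Ne.symm hr, inB q hq hqs xq hxq hxqc⟩
    have abel : ∀ y r, r.Prime → r ≠ s → PE r y → y ∉ center G → ∀ z ∈ Cg y, Cg y ≤ Cg z := by
      intro y r hr hrs hy hyc z hz w hw
      have hb := hB hr hrs hy hyc
      have hpart : ∀ (z' : G) (k : ℕ), k.Prime → z' ∈ Cg y → PE k z' → Cg y ≤ Cg z' := by
        intro z' k hk hz' hpz
        by_cases hkr : k = r
        · obtain ⟨l, hl, hls, hlr, hv⟩ := other r
          obtain ⟨v, hvy, hv, hvc⟩ := hv y hb
          have hbv := hB hl hls hv hvc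
          have he := hG.eq_of_big hb hbv (mem_Cg.1 hvy).symm (PE.coprime hr hl hlr.symm hy hv)
          rw [he]
          exact hG.le_of_big hbv (mem_Cg.1 (he ▸ hz' : z' ∈ Cg v)).symm (PE.coprime hl hk (hkr ▸ hlr) hv hpz)
        · exact hG.le_of_big hb (mem_Cg.1 hz').symm (PE.coprime hr hk (Ne.symm hkr) hy hpz)
      exact mem_Cg.2 (mem_Cg.1 (mem_of_parts (Cg w) z fun i k j hk hj => mem_Cg.2
        (mem_Cg.1 (hpart _ k hk (pow_mem hz i) ⟨j, hj⟩ hw)).symm)).symm
    have hone : ∀ k, k.Prime → k ∣ n → n.factorization k = 1 := by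
      intro k hk hkn
      haveI : Fact k.Prime := ⟨hk⟩
      have hks : k ≠ s := fun h => hsn (h ▸ hkn)
      obtain ⟨P⟩ : Nonempty (Sylow k G) := inferInstance
      obtain ⟨u, hu, huc, hup, hcomm⟩ := exists_second (P := (P : Subgroup G)) (Zs := center G) P.isPGroup' le_rfl
        le_normalizer (fun z hz g _ => mem_center_iff.1 hz g) (fun h => by
          obtain ⟨x, hxP, hxc⟩ := hG.exists_nc_mem_sylow hkn P
          exact hxc (h hxP))
      have hupe := pe_of_mem P.isPGroup' hu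
      have hb := hB hk hks hupe huc
      obtain ⟨l, hl, hls, hlk, hv⟩ := other k
      obtain ⟨v, hvu, hv, hvc⟩ := hv u hb
      have hn0 : (P : Subgroup G) ≤ normalizer (Cg u : Set G) := Cg_invariant hu hcomm le_rfl
      have hvK : v ∈ cpart (Cg u) l := mem_cpart hvu (fun y hy =>
        mem_Cg.1 (abel u k hk hks hupe huc v hvu hy)) hv
      have hd := index_dvd_prime (P := (P : Subgroup G)) (K := cpart (Cg u) l) (Zs := center G) P.isPGroup' hu
        (fun z hz g _ => mem_center_iff.1 hz g) hcomm hup (cpart_normalizer hn0)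
        (fun x hx y hy => cpart_comm hx (cpart_le _ _ hy)) (fun g hg w hw => (cpart_comm hw hg.2).symm)
        (fun w hw hwc => by
          have hw' := cpart_pe hl hw
          rw [hG.eq_of_big hb (hB hl hls hw' hwc) (mem_Cg.1 (cpart_le _ _ hw)).symm
            (PE.coprime hk hl hlk.symm hupe hw')]
          exact inf_le_right)
        hvK hvc (by
          obtain ⟨j, hj⟩ := hv
          rw [hj]
          exact Nat.Coprime.pow_left _ ((Nat.coprime_primes hl hk).2 hlk))
      have hcard := sylow_inf P _ hn0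
      have h3 := relIndex_mul_relIndex (⊥ : Subgroup G) ((P : Subgroup G) ⊓ Cg u) P bot_le inf_le_left
      rw [relIndex_bot_left, relIndex_bot_left, hcard, P.card_eq_multiplicity, ← factorization_Cg u k, hb,
        Nat.factorization_mul (by have := hG.hm; omega) (by have := hG.hn; omega), Finsupp.add_apply,
        Nat.factorization_eq_zero_of_not_dvd (hG.not_dvd_m hk hkn), zero_add, pow_add] at h3
      rw [Nat.eq_of_mul_eq_mul_left (pow_pos hk.pos _) h3] at hd
      have h4 : n.factorization k ≤ 1 := (Nat.pow_dvd_pow_iff_le_right hk.one_lt).1 (by rwa [pow_one])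
      have h5 := hk.factorization_pos_of_dvd (by have := hG.hn; omega) hkn
      omega
    have hnorm : ∀ y ∈ (Q : Subgroup G), y ∉ center G → Cg y ≤ H ∧ H ≤ normalizer (Cg y : Set G) := by
      intro y hyQ hyc
      have hy := pe_of_mem Q.isPGroup' hyQ
      have hb := hB hq hqs hy hyc
      have hle : Cg y ≤ H := abel y q hq hqs hy hyc a (mem_Cg.2 (mem_centralizer_iff.1 haQ y hyQ).symm)
      refine ⟨hle, le_normalizer_of_sylows hle fun k hk hne => ?_⟩
      haveI : Fact k.Prime := ⟨hk⟩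
      have f1 := factorization_Cg y k
      have f2 := factorization_Cg a k
      rw [hb, Nat.factorization_mul (by have := hG.hm; omega) (by have := hG.hn; omega), Finsupp.add_apply] at f1
      rw [ham] at f2
      have hkn : k ∣ n := Nat.dvd_of_factorization_pos (n := n) (p := k) (by
        intro h0
        apply hne
        rw [hH]
        omega)
      have hks : k ≠ s := fun h => hsn (h ▸ hkn)
      obtain ⟨x, hx, hxc⟩ := hG.exists_nc_pe (l := k) (dvd_mul_of_dvd_right hkn m)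
      obtain ⟨v, hvy, hv, hvc⟩ := inB k hk hks x hx hxc y hb
      obtain ⟨U, hvU, hUY, hU, hUc⟩ := exists_sylow_in hv.isPGroup (zpowers_le.2 hvy)
      obtain ⟨P, hUP, hPH, hP, hPc⟩ := exists_sylow_in hU (hUY.trans hle)
      have hn' := le_normalizer_centralizer (le_normalizer_of_prime_index hP hUP (by
        have := hone k hk hkn
        have := Nat.factorization_eq_zero_of_not_dvd (hG.not_dvd_m hk hkn)
        rw [hPc, hUc, ← pow_succ']
        congr 1
        rw [hH]
        omega))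
      have e : Cg y = centralizer (U : Set G) := by
        refine le_antisymm (fun z hz => mem_centralizer_iff.2 fun w hw => ?_) fun z hz => ?_
        · exact (mem_Cg.1 (abel y q hq hqs hy hyc w (hUY hw) hz)).symm
        · have e' : Cg y = Cg v := eq_of_le_of_index_le (abel y q hq hqs hy hyc v hvy)
            (show cl y ≤ cl v by rw [hb, hB hk hks hv hvc])
          exact e' ▸ mem_Cg.2 (mem_centralizer_iff.1 hz v (hvU (mem_zpowers v))).symm
      exact ⟨P, hPH, e ▸ hn', hPc⟩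
    obtain ⟨y, hy, y', hy', hyy⟩ : ∃ y ∈ (Q : Subgroup G), ∃ y' ∈ (Q : Subgroup G), y * y' ≠ y' * y := by
      by_contra! h
      have h1 := hG.cl_of_cent hqn Q (mem_centralizer_iff.2 fun z hz => h z hz xq hxqQ) hxqc
      rw [hB hq hqs hxq hxqc] at h1
      exact hG.m_lt.ne' h1
    have hyc : y ∉ center G := fun h => hyy (mem_center_iff.1 h y').symm
    have hy'c : y' ∉ center G := fun h => hyy (mem_center_iff.1 h y)
    obtain ⟨hYH, hYn⟩ := hnorm y hy hyc
    obtain ⟨hY'H, hY'n⟩ := hnorm y' hy' hy'c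
    have hype := pe_of_mem Q.isPGroup' hy
    have hy'pe := pe_of_mem Q.isPGroup' hy'
    obtain ⟨u, huy', hu, huc⟩ := inB t ht hts xt hxt hxtc y' (hB hq hqs hy'pe hy'c)
    set c := y * u * y⁻¹ * u⁻¹ with hc
    have hcY : c ∈ Cg y := by
      rw [show c = y * (u * y⁻¹ * u⁻¹) by rw [hc]; group]
      exact mul_mem (self_mem_Cg y)
        ((mem_normalizer_iff.1 (hYn (hY'H huy')) y⁻¹).1 (inv_mem (self_mem_Cg y)))
    have hcY' : c ∈ Cg y' := mul_mem ((mem_normalizer_iff.1 (hY'n (hQH hy)) u).1 huy') (inv_mem huy')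
    have hcy : y * u = u * y := comm_of_comm_comm (PE.coprime hq ht htq.symm hype hu) (mem_Cg.1 hcY)
      (mem_Cg.1 (abel y' q hq hqs hy'pe hy'c u huy' hcY'))
    have e1 := hG.eq_of_big (hB hq hqs hype hyc) (hB ht hts hu huc) hcy (PE.coprime hq ht htq.symm hype hu)
    have e2 := hG.eq_of_big (hB hq hqs hy'pe hy'c) (hB ht hts hu huc) (mem_Cg.1 huy').symm
      (PE.coprime hq ht htq.symm hy'pe hu)
    exact hyy (mem_Cg.1 (show y ∈ Cg y' from (e1.trans e2.symm) ▸ self_mem_Cg y))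
  · push Not at ht
    have hcen : ∀ (x : G) (r : ℕ), r.Prime → r ≠ s → r ≠ q → PE r x → x ∈ center G := fun x r hr h1 h2 hx =>
      ht r hr h1 h2 x hx
    have hpm : ∀ p, p.Prime → p ∣ m → p = s := by
      intro p hp hpm
      haveI : Fact p.Prime := ⟨hp⟩
      obtain ⟨x, hx, hxc⟩ := hG.exists_nc_pe (l := p) (dvd_mul_of_dvd_left hpm n)
      by_contra h
      exact hxc (hcen x p hp h (fun h' => hG.not_dvd_m hq hqn (h' ▸ hpm)) hx)
    have hmpow : m = s ^ m.primeFactorsList.length :=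
      Nat.eq_prime_pow_of_unique_prime_dvd (by have := hG.hm; omega) fun {d} hd hdm => hpm d hd hdm
    have hsm : s ∣ m := by
      obtain ⟨p, hp, h⟩ := Nat.exists_prime_and_dvd (ne_of_gt hG.hm)
      exact hpm p hp h ▸ h
    haveI : (Cfsg.pCore s G).Normal := inferInstance
    set T := Cfsg.pCore s G with hT
    have hTp : IsPGroup s T := Cfsg.Agent.Lib.Cores.pCore_isPGroup s G
    have hmT : ∀ x, PE s x → cl x = m → x ∈ T := fun x hx hxm => mem_pCore_of_class hx (hxm.trans hmpow)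
    have key : ∀ y ∈ H, PE q y → y ∉ center G → Cg y ≤ H ∧ T ⊓ H ≤ Cg y := by
      intro y hy hyp hyc
      have hle : Cg y ≤ H := hG.le_of_big (hB hq hqs hyp hyc) (mem_Cg.1 hy) (PE.coprime hq hs hqs hyp ha)
      obtain ⟨U, -, hUy, hU, hUc⟩ := exists_sylow_in (G := G) (p := s) (Y := ⊥) (K := Cg y) IsPGroup.of_bot bot_le
      have hn' : U ≤ normalizer ((T ⊓ H : Subgroup G) : Set G) := fun g hg => by
        have hgH := hle (hUy hg)
        refine mem_normalizer_iff.2 fun x => ⟨fun hx => ⟨Normal.conj_mem ‹_› x hx.1 g,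
          H.mul_mem (H.mul_mem hgH hx.2) (H.inv_mem hgH)⟩, fun hx => ?_⟩
        have h1 : g⁻¹ * (g * x * g⁻¹) * g⁻¹⁻¹ ∈ T ⊓ H := ⟨Normal.conj_mem ‹_› _ hx.1 g⁻¹,
          H.mul_mem (H.mul_mem (H.inv_mem hgH) hx.2) (H.inv_mem (H.inv_mem hgH))⟩
        simpa [mul_assoc] using h1
      have he := eq_of_card (K := H) (le_sup_left : U ≤ U ⊔ (T ⊓ H)) (sup_le (hUy.trans hle) inf_le_right)
        (hU.to_sup_of_normal_right' (hTp.to_le inf_le_left) hn') (by rw [hUc, hG.fact_eq hs hsm hyc hac])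
      exact ⟨hle, (le_sup_right.trans he.ge).trans hUy⟩
    obtain ⟨hxqH, hxqT⟩ := key xq (hQH hxqQ) hxq hxqc
    have hTH : T ≤ H := le_of_centralized hTp (hmT a ha ham) (b := xq) (by
      obtain ⟨k, hk⟩ := hxq
      rw [hk]
      exact Nat.Coprime.pow_left _ ((Nat.coprime_primes hq hs).2 hqs))
      (fun x hx => (mem_Cg.1 (hxqT hx)).symm) hxqH
    have hCH : centralizer (T : Set G) = H := by
      refine le_antisymm (fun x hx => mem_Cg.2 (mem_centralizer_iff.1 hx a (hmT a ha ham)).symm) ?_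
      refine le_of_sylows (fun x hx => mem_Cg.2 (mem_centralizer_iff.1 hx a (hmT a ha ham)).symm) fun r hr => ?_
      haveI : Fact r.Prime := ⟨hr⟩
      by_cases hrq : r = q
      · subst hrq
        refine ⟨Q, fun y hy => mem_centralizer_iff.2 fun w hw => ?_, ?_⟩
        · by_cases hyc : y ∈ center G
          · exact mem_center_iff.1 hyc w
          · exact mem_Cg.1 ((key y (hQH hy) (pe_of_mem Q.isPGroup' hy) hyc).2 ⟨hw, hTH hw⟩)
        · have f2 := factorization_Cg a r
          rw [ham, Nat.factorization_eq_zero_of_not_dvd (hG.not_dvd_m hr hqn), add_zero] at f2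
          rw [Q.card_eq_multiplicity, hH, f2]
      by_cases hrs : r = s
      · subst hrs
        obtain ⟨U, -, hUy, hU, hUc⟩ := exists_sylow_in (G := G) (p := r) (Y := ⊥) (K := Cg xq) IsPGroup.of_bot bot_le
        refine ⟨U, fun x hx => mem_centralizer_iff.2 fun w hw => ?_, by rw [hUc, hG.fact_eq hr hsm hxqc hac]⟩
        exact mem_Cg.1 ((hG.le_of_big (hB hq hqs hxq hxqc) (mem_Cg.1 (hUy hx)).symm
          (PE.coprime hq hr hqs hxq (pe_of_mem hU hx))) (hxqT ⟨hw, hTH hw⟩))
      obtain ⟨U, -, hUH, hU, hUc⟩ := exists_sylow_in (G := G) (p := r) (Y := ⊥) (K := H) IsPGroup.of_bot bot_le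
      exact ⟨U, fun x hx => center_le_centralizer _ (hcen x r hr hrs hrq (pe_of_mem hU hx)), hUc⟩
    haveI hHn : H.Normal := hCH ▸ Subgroup.normal_centralizer
    have hallq : ∀ y, PE q y → y ∈ H := by
      intro y hy
      obtain ⟨c, hc⟩ := exists_conj_sylow Q hy.isPGroup
      have h1 := hHn.conj_mem _ (hQH (hc y (mem_zpowers y))) c⁻¹
      simpa [mul_assoc] using h1
    obtain ⟨S⟩ : Nonempty (Sylow s G) := inferInstance
    have hSH : (S : Subgroup G) ≤ H := by
      intro x hx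
      have hxp := pe_of_mem S.isPGroup' hx
      by_cases hxc : x ∈ center G
      · exact center_le_Cg a hxc
      rcases hG.cl_nc hxc with h | h
      · exact hTH (hmT x hxp h)
      · obtain ⟨y, hyx, hy, hyc⟩ := inB q hq hqs xq hxq hxqc x h
        exact (key y (hallq y hy) hy hyc).1 (mem_Cg.2 (mem_Cg.1 hyx).symm)
    exact S.not_dvd_index ((hsm.trans (ham ▸ dvd_refl (cl a) : m ∣ H.index)).trans (index_dvd_of_le hSH))

theorem not_onePrime (hG : Hyp G m n) : ¬ OnePrime G m := by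
  rintro ⟨s, hs, hα⟩
  by_cases hsn : s ∣ n
  · exact alpha_one hG hs hα hsn
  · exact alpha_two hG hs hα hsn

end Cfsg.Agent.Lib.PGroups.ClassStep
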