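import Mathlib
import Cfsg.Agent.Lib.PGroups.ClassStepBasic

/-!
Class sizes `1, m, m * n` with two primes in a Sylow centralizer: the common centralizer is abelian.
-/

set_option autoImplicit false

namespace Cfsg.Agent.Lib.PGroups.ClassStep

open Subgroup Cfsg.Agent.Lib.PGroups.ClassGraph

universe u
variable {G : Type u} [Group G] [Finite G] {m n q : ℕ} [Fact q.Prime] {Q : Sylow q G} {H : Subgroup G}

theorem card_eq_of_index {A B : Subgroup G} (h : A.index = B.index) : Nat.card A = Nat.card B := by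
  have h1 := A.card_mul_index
  have h2 := B.card_mul_index
  rw [h] at h1
  exact Nat.eq_of_mul_eq_mul_right (Nat.pos_of_ne_zero index_ne_zero_of_finite) (h1.trans h2.symm)

theorem map_conj_of_normal (K : Subgroup G) [hK : K.Normal] (c : G) : K.map (MulAut.conj c).toMonoidHom = K := by
  refine eq_of_le_of_card_ge ?_ (by rw [card_map_of_injective (f := (MulAut.conj c).toMonoidHom) (MulAut.conj c).injective])
  rintro _ ⟨x, hx, rfl⟩
  exact hK.conj_mem x hx c

theorem le_normalizer_inf {P A B : Subgroup G} (hA : P ≤ normalizer (A : Set G)) (hB : P ≤ normalizer (B : Set G)) :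
    P ≤ normalizer ((A ⊓ B : Subgroup G) : Set G) := fun g hg => mem_normalizer_iff.2 fun x =>
  ⟨fun hx => ⟨(mem_normalizer_iff.1 (hA hg) x).1 hx.1, (mem_normalizer_iff.1 (hB hg) x).1 hx.2⟩,
    fun hx => ⟨(mem_normalizer_iff.1 (hA hg) x).2 hx.1, (mem_normalizer_iff.1 (hB hg) x).2 hx.2⟩⟩

set_option maxHeartbeats 1000000 in
theorem TwoData.le_centralizer (hG : Hyp G m n) (hD : TwoData G m n q Q H) :
    H ≤ centralizer ((Q : Subgroup G) : Set G) := by
  have hq : q.Prime := Fact.out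
  have hqn := hD.dvd
  set M := centralizer ((Q : Subgroup G) : Set G) with hM
  have hZM : center G ≤ M := center_le_centralizer _
  obtain ⟨r₁, r₂, hr₁, hr₂, hr₁₂, ⟨w₁, hw₁, hw₁p, hw₁c⟩, ⟨w₂, hw₂, hw₂p, hw₂c⟩⟩ := hD.two
  obtain ⟨hw₁m, hw₁H⟩ := hD.cent w₁ hw₁ hw₁c
  have hidx : H.index = m := by rw [← hw₁H]; exact hw₁m
  have hQH : (Q : Subgroup G) ≤ H := hw₁H ▸ fun y hy => mem_Cg.2 (mem_centralizer_iff.1 hw₁ y hy)
  have hMC : ∀ x ∈ H, M ≤ H ⊓ Cg x := fun x hx z hz => ⟨hD.le hz, mem_Cg.2 (hD.comm z hz x hx).symm⟩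
  have other : ∀ r : ℕ, ∃ l, ∃ w : G, l.Prime ∧ l ≠ r ∧ w ∈ M ∧ PE l w ∧ w ∉ center G := by
    intro r
    by_cases h : r₁ = r
    · exact ⟨r₂, w₂, hr₂, h ▸ hr₁₂.symm, hw₂, hw₂p, hw₂c⟩
    · exact ⟨r₁, w₁, hr₁, h, hw₁, hw₁p, hw₁c⟩
  have hW : ∀ (x : G) (r : ℕ), r.Prime → PE r x → x ∈ H → x ∉ M → (H ⊓ Cg x).index = m * n := by
    intro x r hr hx hxH hxM
    obtain ⟨l, w, hl, hlr, hw, hwp, hwc⟩ := other r
    have e := cent_mul (hD.comm w hw x hxH).symm (PE.coprime hl hr hlr hwp hx)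
    rw [(hD.cent w hw hwc).2] at e
    rw [← e]
    show cl (w * x) = m * n
    have hd : m ∣ cl (w * x) := hidx ▸ index_dvd_of_le (e ▸ inf_le_left : Cg (w * x) ≤ H)
    rcases hG.size (w * x) with h | h | h
    · rw [h, Nat.dvd_one] at hd; exact absurd hd (ne_of_gt hG.hm)
    · refine absurd ?_ hxM
      have h1 : Cg (w * x) = H := eq_of_le_of_index_le (e ▸ inf_le_left) (le_of_eq (h.trans hidx.symm))
      rw [e] at h1
      exact mem_centralizer_iff.2 fun y hy => mem_Cg.1 (show y ∈ Cg x from (h1.ge (hQH hy)).2)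
    · exact h
  have hnotM : ∀ x, x ∉ M → x ∉ center G := fun x h h' => h (hZM h')
  have hmconj : ∀ x, cl x = m → ∃ c : G, c * x * c⁻¹ ∈ M ∧ Cg (c * x * c⁻¹) = H := by
    intro x hx
    obtain ⟨c, hc⟩ := hG.conj_into hx hqn Q
    exact ⟨c, hc, (hD.cent _ hc (not_mem_center_conj (hG.nc_of_m hx))).2⟩
  have key : ∀ (x y : G) (r t : ℕ), r.Prime → t.Prime → r ≠ t → PE r x → PE t y → x ∈ H → y ∈ H → x ∉ M → y ∉ M →
      x * y = y * x → H ⊓ Cg x ≤ Cg y := by
    intro x y r t hr ht hrt hx hy hxH hyH hxM hyM hxy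
    have hix := hW x r hr hx hxH hxM
    have hiy := hW y t ht hy hyH hyM
    have hcp := PE.coprime hr ht hrt hx hy
    by_cases h3 : ∃ l w, l.Prime ∧ l ≠ r ∧ l ≠ t ∧ w ∈ M ∧ PE l w ∧ w ∉ center G
    · obtain ⟨l, w, hl, hlr, hlt, hw, hwp, hwc⟩ := h3
      have e1 := cent_mul hxy hcp
      have e := cent_mul (a := w) (b := x * y) (hD.comm w hw _ (mul_mem hxH hyH)).symm (by
        rw [(show Commute x y from hxy).orderOf_mul_eq_mul_orderOf_of_coprime hcp]
        exact Nat.Coprime.mul_right (PE.coprime hl hr hlr hwp hx) (PE.coprime hl ht hlt hwp hy))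
      rw [(hD.cent w hw hwc).2, e1, ← inf_assoc] at e
      have h1 : Cg (w * (x * y)) = H ⊓ Cg x :=
        eq_of_le_of_index_le (e ▸ inf_le_left) ((hG.cl_le _).trans_eq hix.symm)
      rw [e] at h1
      exact h1.ge.trans inf_le_right
    push Not at h3
    have hprimes : ∀ (x' : G) (l : ℕ), l.Prime → PE l x' → cl x' = m → l = r ∨ l = t := by
      intro x' l hl hx' hx'm
      obtain ⟨c, hc, -⟩ := hmconj x' hx'm
      by_contra! h
      exact not_mem_center_conj (hG.nc_of_m hx'm) (h3 l _ hl h.1 h.2 hc (hx'.conj c))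
    rcases hG.cl_nc (hnotM x hxM) with hxm | hxb
    swap
    · exact inf_le_right.trans (hG.le_of_big hxb hxy hcp)
    rcases hG.cl_nc (hnotM y hyM) with hym | hyb
    swap
    · have h1 := hG.le_of_big hyb hxy.symm hcp.symm
      have h2 : H ⊓ Cg y = H ⊓ Cg x :=
        eq_of_le_of_index_le (le_inf inf_le_left (inf_le_right.trans h1)) (le_of_eq (hiy.trans hix.symm))
      exact h2.ge.trans inf_le_right
    by_cases hl : ∃ l v, l.Prime ∧ l ≠ r ∧ l ≠ t ∧ PE l v ∧ v ∉ center G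
    · obtain ⟨l, v₁, hl, hlr, hlt, hv₁, hv₁c⟩ := hl
      haveI : Fact l.Prime := ⟨hl⟩
      have hbig : ∀ v : G, PE l v → v ∉ center G → cl v = m * n := fun v hv hvc =>
        (hG.cl_nc hvc).resolve_left fun h => (hprimes v l hl hv h).elim hlr hlt
      obtain ⟨v, hv, hvp, hvc⟩ := nc_mem (C := H ⊓ Cg x)
        (by rw [card_eq_of_index (hix.trans (hbig v₁ hv₁ hv₁c).symm : (H ⊓ Cg x).index = (Cg v₁).index)])
        (center_le_Cg v₁) (self_mem_Cg v₁) hv₁ hv₁c fun z hz => mem_center_iff.1 hz v₁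
      have hb := hbig v hvp hvc
      have h1 := hG.le_of_big hb (mem_Cg.1 hv.2) (PE.coprime hl hr hlr hvp hx)
      obtain ⟨l', a, hl', hl'l, ha, hap, hac⟩ := other l
      have h2 := hG.le_of_big hb (hD.comm a ha v hv.1) (PE.coprime hl hl' hl'l.symm hvp hap)
      rw [(hD.cent a ha hac).2] at h2
      have h4 : Cg v = H ⊓ Cg x := eq_of_le_of_index_le (le_inf h2 h1) (le_of_eq ((show (Cg v).index = m * n from hb).trans hix.symm))
      have hyv : y ∈ Cg v := h4 ▸ ⟨hyH, mem_Cg.2 hxy.symm⟩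
      exact h4 ▸ hG.le_of_big hb (mem_Cg.1 hyv).symm (PE.coprime hl ht hlt hvp hy)
    push Not at hl
    have hrtall : ∀ (l : ℕ) (v : G), l.Prime → PE l v → v ∉ center G → l = r ∨ l = t := by
      intro l v h1 h2 h3
      by_contra! h
      exact h3 (hl l v h1 h.1 h.2 h2)
    have h2p : ∀ l, l = r ∨ l = t → ∃ w ∈ M, PE l w ∧ w ∉ center G := by
      intro l hlrt
      have e₁ := hrtall r₁ w₁ hr₁ hw₁p hw₁c
      have e₂ := hrtall r₂ w₂ hr₂ hw₂p hw₂c
      by_cases h : r₁ = l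
      · exact ⟨w₁, hw₁, h ▸ hw₁p, hw₁c⟩
      · refine ⟨w₂, hw₂, ?_, hw₂c⟩
        rwa [show l = r₂ by omega]
    obtain ⟨xq, hxqQ, hxqc⟩ := hG.exists_nc_mem_sylow hqn Q
    have hqrt := hrtall q xq hq (pe_of_mem Q.isPGroup' hxqQ) hxqc
    obtain ⟨p, hprt, hpq, hp⟩ : ∃ p, (p = r ∨ p = t) ∧ p ≠ q ∧ p.Prime := by
      rcases hqrt with h | h
      · exact ⟨t, Or.inr rfl, fun e => hrt (h.symm.trans e.symm), ht⟩
      · exact ⟨r, Or.inl rfl, fun e => hrt (e.trans h), hr⟩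
    haveI : Fact p.Prime := ⟨hp⟩
    have hpm : ∀ d, d.Prime → d ∣ m → d = p := by
      intro d hd hdm
      haveI : Fact d.Prime := ⟨hd⟩
      obtain ⟨v, hv, hvc⟩ := hG.exists_nc_pe (l := d) (dvd_mul_of_dvd_left hdm n)
      have h1 := hrtall d v hd hv hvc
      have h2 : d ≠ q := fun h => hG.not_dvd_m hq hqn (h ▸ hdm)
      omega
    have hmpow : m = p ^ m.primeFactorsList.length :=
      Nat.eq_prime_pow_of_unique_prime_dvd (by have := hG.hm; omega) fun {d} hd hdm => hpm d hd hdm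
    obtain ⟨ap, hap, happ, hapc⟩ := h2p p hprt
    obtain ⟨aq, haq, haqp, haqc⟩ := h2p q hqrt
    obtain ⟨hapm, hapH⟩ := hD.cent ap hap hapc
    obtain ⟨haqm, haqH⟩ := hD.cent aq haq haqc
    haveI hTn : (Cfsg.pCore p G).Normal := inferInstance
    set T := Cfsg.pCore p G with hT
    have hTp : IsPGroup p T := Cfsg.Agent.Lib.Cores.pCore_isPGroup p G
    have hmT : ∀ x : G, PE p x → cl x = m → x ∈ T := fun x hx hxm => mem_pCore_of_class hx (hxm.trans hmpow)
    have hTH : T ≤ H := hapH ▸ le_of_centralized hTp (hmT ap happ hapm) (b := aq) (by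
      obtain ⟨k, hk⟩ := haqp
      rw [hk]
      exact Nat.Coprime.pow_left _ ((Nat.coprime_primes hq hp).2 hpq.symm))
      (fun z hz => (hD.comm aq haq z (hapH ▸ hz.2)).symm) (by rw [haqH, hapH])
    by_cases hv : ∃ v ∈ T, cl v = m * n
    · obtain ⟨v, hvT, hb⟩ := hv
      have hvp : PE p v := pe_of_mem hTp hvT
      have hle : ∀ w, cl w = m → Cg v ≤ Cg w := by
        intro w hwm
        obtain ⟨c, -, hc⟩ := hmconj w hwm
        have hcv : c * v * c⁻¹ ∈ H := hTH (hTn.conj_mem v hvT c)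
        have h1 := hG.le_of_big ((cl_conj c v).trans hb) (hD.comm aq haq _ hcv)
          (PE.coprime hp hq hpq (hvp.conj c) haqp)
        rw [haqH, ← hc, Cg_conj, Cg_conj] at h1
        exact (map_le_map_iff_of_injective (MulAut.conj c).injective).1 h1
      have h2 : Cg v ≤ H := hw₁H ▸ hle w₁ hw₁m
      have h4 : Cg v = H ⊓ Cg x := eq_of_le_of_index_le (le_inf h2 (hle x hxm)) (le_of_eq ((show (Cg v).index = m * n from hb).trans hix.symm))
      exact h4 ▸ hle y hym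
    push Not at hv
    exfalso
    obtain ⟨P⟩ : Nonempty (Sylow p G) := inferInstance
    obtain ⟨u, huT, huc, hup, hcomm⟩ := exists_second (P := (P : Subgroup G)) (P₁ := T) (Zs := center G) P.isPGroup'
      (Cfsg.Agent.Lib.Cores.pCore_le_sylow P) (by rw [normalizer_eq_top]; exact le_top)
      (fun z hz g _ => mem_center_iff.1 hz g) (fun h => hapc (h (hmT ap happ hapm)))
    have hum : cl u = m := (hG.cl_nc huc).resolve_right (hv u huT)
    have hn0 : (P : Subgroup G) ≤ normalizer (Cg u : Set G) :=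
      Cg_invariant (Cfsg.Agent.Lib.Cores.pCore_le_sylow P huT) hcomm le_rfl
    have hcopi : (P : Subgroup G).index.Coprime (Cg u).index := by
      rw [show (Cg u).index = m from hum, hmpow]
      exact Nat.Coprime.pow_right _ (hp.coprime_iff_not_dvd.2 P.not_dvd_index).symm
    haveI hUn : (Cg u).Normal := normalizer_eq_top_iff.1 (eq_top_iff.2 fun g _ => by
      obtain ⟨y, hy, z, hz, rfl⟩ := exists_mul_of_index_coprime hcopi g
      exact mul_mem (hn0 hy) (le_normalizer hz))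
    obtain ⟨c, -, hc⟩ := hmconj u hum
    have hHu : H = Cg u := by
      rw [← hc, Cg_conj]
      exact map_conj_of_normal (Cg u) c
    obtain ⟨d, -, hd⟩ := hmconj x hxm
    have h5 : Cg x = H := by
      refine map_injective (MulAut.conj d).injective (f := (MulAut.conj d).toMonoidHom) ?_
      rw [← Cg_conj, hd, hHu]
      exact (map_conj_of_normal (Cg u) d).symm
    rw [h5, inf_idem, hidx] at hix
    exact hG.m_lt.ne hix
  intro x₀ hx₀
  by_contra hx₀M
  obtain ⟨i₀, r₀, hr₀, hp₀, hnM₀⟩ := exists_part (K := M) hx₀M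
  have hxH₀ := pow_mem hx₀ i₀
  -- only one prime occurs outside `M`
  have hone : ∀ (x : G) (r : ℕ), r.Prime → PE r x → x ∈ H → x ∉ M → ∀ (x' : G) (r' : ℕ), r'.Prime → PE r' x' → x' ∈ H → x' ∉ M → r = r' := by
    intro x r hr hxp hxH hxM x' r' hr' hxp' hxH' hxM'
    by_contra hrr
    have oth : ∀ k : ℕ, ∃ l, ∃ z : G, l.Prime ∧ l ≠ k ∧ z ∈ H ∧ z ∉ M ∧ PE l z := by
      intro k
      by_cases h : r = k
      · exact ⟨r', x', hr', fun e => hrr (h.trans e.symm), hxH', hxM', hxp'⟩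
      · exact ⟨r, x, hr, h, hxH, hxM, hxp⟩
    have sub : ∀ (z : G) (k : ℕ), k.Prime → PE k z → z ∈ H → z ∉ M → ∀ (z₁ : G) (l : ℕ), l.Prime → PE l z₁ → z₁ ∈ H → z₁ ∉ M →
        ∃ v ∈ H ⊓ Cg z, PE l v ∧ v ∉ M := by
      intro z k hk hz hzH hzM z₁ l hl hz₁ hz₁H hz₁M
      haveI : Fact l.Prime := ⟨hl⟩
      exact nc_mem (C := H ⊓ Cg z)
        (by rw [card_eq_of_index ((hW z k hk hz hzH hzM).trans (hW z₁ l hl hz₁ hz₁H hz₁M).symm)])
        (hMC z₁ hz₁H) ⟨hz₁H, self_mem_Cg z₁⟩ hz₁ hz₁M fun w hw => hD.comm w hw z₁ hz₁H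
    have abel : ∀ (z : G) (k : ℕ), k.Prime → PE k z → z ∈ H → z ∉ M → ∀ w ∈ H ⊓ Cg z, H ⊓ Cg z ≤ Cg w := by
      intro z k hk hz hzH hzM w hw b hb
      have hpart : ∀ (w' : G) (j : ℕ), j.Prime → w' ∈ H ⊓ Cg z → PE j w' → H ⊓ Cg z ≤ Cg w' := by
        intro w' j hj hw' hjp
        by_cases hwM : w' ∈ M
        · exact fun a ha => mem_Cg.2 (hD.comm w' hwM a ha.1)
        by_cases hjk : j = k
        · obtain ⟨l, z₁, hl, hlk, hz₁H, hz₁M, hz₁p⟩ := oth k
          obtain ⟨v, hv, hvp, hvM⟩ := sub z k hk hz hzH hzM z₁ l hl hz₁p hz₁H hz₁M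
          have h1 := key z v k l hk hl hlk.symm hz hvp hzH hv.1 hzM hvM (mem_Cg.1 hv.2).symm
          have h2 := key v w' l j hl hj (hjk ▸ hlk) hvp hjp hv.1 hw'.1 hvM hwM (mem_Cg.1 (h1 hw')).symm
          exact (le_inf inf_le_left h1).trans h2
        · exact key z w' k j hk hj (Ne.symm hjk) hz hjp hzH hw'.1 hzM hwM (mem_Cg.1 hw'.2).symm
      exact mem_Cg.2 (mem_Cg.1 (mem_of_parts (Cg b) w fun i j e hj he => mem_Cg.2
        (mem_Cg.1 (hpart _ j hj (pow_mem hw i) ⟨e, he⟩ hb)).symm)).symm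
    have aeq : ∀ (z : G) (k : ℕ), k.Prime → PE k z → z ∈ H → z ∉ M → ∀ (w : G) (j : ℕ), j.Prime → PE j w → w ∈ H ⊓ Cg z → w ∉ M →
        H ⊓ Cg w = H ⊓ Cg z := by
      intro z k hk hz hzH hzM w j hj hjp hw hwM
      exact (eq_of_le_of_index_le (le_inf inf_le_left (abel z k hk hz hzH hzM w hw))
        (le_of_eq ((hW z k hk hz hzH hzM).trans (hW w j hj hjp hw.1 hwM).symm))).symm
    have hfact : ∀ (z : G) (k : ℕ), k.Prime → PE k z → z ∈ H → z ∉ M → ∀ j,
        (Nat.card (H ⊓ Cg z : Subgroup G)).factorization j + n.factorization j = (Nat.card H).factorization j := by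
      intro z k hk hz hzH hzM j
      have h1 := (H ⊓ Cg z).card_mul_index
      rw [hW z k hk hz hzH hzM, ← H.card_mul_index, hidx, mul_comm m n, ← mul_assoc] at h1
      have h2 := Nat.eq_of_mul_eq_mul_right (by have := hG.hm; omega) h1
      rw [← h2, Nat.factorization_mul Nat.card_pos.ne' (by have := hG.hn; omega), Finsupp.add_apply]
    have hsyl : ∀ k, k.Prime → k ∣ n → (Nat.card H).factorization k = (Nat.card G).factorization k := by
      intro k hk hkn
      rw [← H.card_mul_index, hidx, Nat.factorization_mul Nat.card_pos.ne' (by have := hG.hm; omega),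
        Finsupp.add_apply, Nat.factorization_eq_zero_of_not_dvd (hG.not_dvd_m hk hkn), add_zero]
    have hzk : ∀ k, k.Prime → k ∣ n → ∀ R : Subgroup G, R ≤ H → IsPGroup k R →
        Nat.card R = k ^ (Nat.card H).factorization k → ¬ R ≤ M := by
      intro k hk hkn R hRH hR hRc hRM
      haveI : Fact k.Prime := ⟨hk⟩
      have h1 := card_le_factorization hR (hRM.trans (hMC x hxH))
      rw [hRc] at h1
      have h2 := (Nat.pow_le_pow_iff_right hk.one_lt).1 h1
      have h3 := hfact x r hr hxp hxH hxM k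
      have h4 := hk.factorization_pos_of_dvd (by have := hG.hn; omega) hkn
      omega
    have hn1 : ∀ k, k.Prime → k ∣ n → n.factorization k = 1 := by
      intro k hk hkn
      haveI : Fact k.Prime := ⟨hk⟩
      obtain ⟨R₀, -, hRH, hR, hRc⟩ := exists_sylow_in (G := G) (p := k) (Y := ⊥) (K := H) IsPGroup.of_bot bot_le
      let R : Sylow k G := Sylow.ofCard R₀ (by rw [hRc, hsyl k hk hkn])
      obtain ⟨u, hu, huM, hup, hcomm⟩ := exists_second (P := R₀) (P₁ := R₀) (Zs := M) hR le_rfl le_normalizer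
        (fun z hz g hg => hD.comm z hz g (hRH hg)) (hzk k hk hkn R₀ hRH hR hRc)
      have hupe := pe_of_mem hR hu
      obtain ⟨l, z₁, hl, hlk, hz₁H, hz₁M, hz₁p⟩ := oth k
      obtain ⟨v, hv, hvp, hvM⟩ := sub u k hk hupe (hRH hu) huM z₁ l hl hz₁p hz₁H hz₁M
      have hn0 : R₀ ≤ normalizer ((H ⊓ Cg u : Subgroup G) : Set G) := by
        have kk : ∀ g ∈ R₀, ∀ b ∈ H ⊓ Cg u, g * b * g⁻¹ ∈ H ⊓ Cg u := by
          intro g hg b hb
          refine ⟨H.mul_mem (H.mul_mem (hRH hg) hb.1) (H.inv_mem (hRH hg)), mem_Cg.2 ?_⟩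
          have hz := hD.comm _ (hcomm g⁻¹ (inv_mem hg)) b hb.1
          calc g * b * g⁻¹ * u = g * (b * ((g⁻¹ * u * g⁻¹⁻¹ * u⁻¹) * u)) * g⁻¹ := by group
            _ = g * ((g⁻¹ * u * g⁻¹⁻¹ * u⁻¹) * (u * b)) * g⁻¹ := by
                rw [← mul_assoc b, hz, mul_assoc _ b u, mem_Cg.1 hb.2]
            _ = u * (g * b * g⁻¹) := by group
        exact fun g hg => mem_normalizer_iff.2 fun b => ⟨kk g hg b, fun hb => by
          simpa [mul_assoc] using kk g⁻¹ (inv_mem hg) _ hb⟩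
      have hab := abel u k hk hupe (hRH hu) huM
      have hvK : v ∈ cpart (H ⊓ Cg u) l := mem_cpart hv (fun b hb => mem_Cg.1 (hab v hv hb)) hvp
      have hd := index_dvd_prime (P := R₀) (K := cpart (H ⊓ Cg u) l) (Zs := M) hR hu
        (fun z hz g hg => hD.comm z hz g (hRH hg)) hcomm hup (cpart_normalizer hn0)
        (fun a ha b hb => cpart_comm ha (cpart_le _ _ hb))
        (fun g hg w hw => (cpart_comm hw ⟨hRH hg.1, hg.2⟩).symm)
        (fun w hw hwM b hb => by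
          have h1 : b ∈ H ⊓ Cg w := ⟨hRH hb.1, hb.2⟩
          rw [aeq u k hk hupe (hRH hu) huM w l hl (cpart_pe hl hw) (cpart_le _ _ hw) hwM] at h1
          exact h1.2)
        hvK hvM (by
          obtain ⟨j, hj⟩ := hvp
          rw [hj]
          exact Nat.Coprime.pow_left _ ((Nat.coprime_primes hl hk).2 hlk))
      have hcard : Nat.card (R₀ ⊓ Cg u : Subgroup G) = k ^ (Nat.card (H ⊓ Cg u : Subgroup G)).factorization k := by
        rw [← sylow_inf R _ hn0]
        show _ = Nat.card (R₀ ⊓ (H ⊓ Cg u) : Subgroup G)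
        rw [← inf_assoc, inf_eq_left.2 hRH]
      have h3 := relIndex_mul_relIndex (⊥ : Subgroup G) (R₀ ⊓ Cg u) R₀ bot_le inf_le_left
      rw [relIndex_bot_left, relIndex_bot_left, hcard, hRc, ← hfact u k hk hupe (hRH hu) huM k, pow_add] at h3
      rw [Nat.eq_of_mul_eq_mul_left (pow_pos hk.pos _) h3] at hd
      have h4 : n.factorization k ≤ 1 := (Nat.pow_dvd_pow_iff_le_right hk.one_lt).1 (by rwa [pow_one])
      have h5 := hk.factorization_pos_of_dvd (by have := hG.hn; omega) hkn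
      omega
    have hnorm : ∀ (z : G) (k : ℕ), k.Prime → PE k z → z ∈ H → z ∉ M → H ≤ normalizer ((H ⊓ Cg z : Subgroup G) : Set G) := by
      intro z k hk hz hzH hzM
      refine le_normalizer_of_sylows inf_le_left fun j hj hne => ?_
      haveI : Fact j.Prime := ⟨hj⟩
      have hjn : j ∣ n := Nat.dvd_of_factorization_pos (by
        intro h0
        have := hfact z k hk hz hzH hzM j
        omega)
      obtain ⟨R₀, -, hRH, hR, hRc⟩ := exists_sylow_in (G := G) (p := j) (Y := ⊥) (K := H) IsPGroup.of_bot bot_le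
      obtain ⟨zj, hzjR, hzjM⟩ := SetLike.not_le_iff_exists.1 (hzk j hj hjn R₀ hRH hR hRc)
      obtain ⟨v, hv, hvp, hvM⟩ := sub z k hk hz hzH hzM zj j hj (pe_of_mem hR hzjR) (hRH hzjR) hzjM
      obtain ⟨U, hvU, hUA, hU, hUc⟩ := exists_sylow_in hvp.isPGroup (zpowers_le.2 hv)
      obtain ⟨P, hUP, hPH, hP, hPc⟩ := exists_sylow_in hU (hUA.trans inf_le_left)
      have hnU := le_normalizer_centralizer (le_normalizer_of_prime_index hP hUP (by
        rw [hPc, hUc, ← pow_succ', ← hfact z k hk hz hzH hzM j, hn1 j hj hjn]))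
      have e : H ⊓ Cg z = H ⊓ centralizer (U : Set G) := by
        refine le_antisymm (le_inf inf_le_left fun a ha => mem_centralizer_iff.2 fun b hb => ?_) fun a ha => ?_
        · exact (mem_Cg.1 (abel z k hk hz hzH hzM b (hUA hb) ha)).symm
        · rw [← aeq z k hk hz hzH hzM v j hj hvp hv hvM]
          exact ⟨ha.1, mem_Cg.2 (mem_centralizer_iff.1 ha.2 v (hvU (mem_zpowers v))).symm⟩
      exact ⟨P, hPH, e ▸ le_normalizer_inf (hPH.trans le_normalizer) hnU, hPc⟩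
    obtain ⟨h, hhH, hhA⟩ : ∃ h ∈ H, h ∉ H ⊓ Cg x := by
      by_contra! hle
      have h1 : H ⊓ Cg x = H := le_antisymm inf_le_left hle
      have h2 := hW x r hr hxp hxH hxM
      rw [h1, hidx] at h2
      exact hG.m_lt.ne h2
    obtain ⟨i, k, hk, hkp, hkA⟩ := exists_part hhA
    set g := h ^ i with hg
    have hgH : g ∈ H := pow_mem hhH i
    have hgM : g ∉ M := fun hc => hkA (hMC x hxH hc)
    obtain ⟨l, z₁, hl, hlk, hz₁H, hz₁M, hz₁p⟩ := oth k
    obtain ⟨v, hv, hvp, hvM⟩ := sub x r hr hxp hxH hxM z₁ l hl hz₁p hz₁H hz₁M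
    have hcA : g * v * g⁻¹ * v⁻¹ ∈ H ⊓ Cg x :=
      mul_mem ((mem_normalizer_iff.1 (hnorm x r hr hxp hxH hxM hgH) v).1 hv) (inv_mem hv)
    have hcB : g * v * g⁻¹ * v⁻¹ ∈ H ⊓ Cg g := by
      rw [show g * v * g⁻¹ * v⁻¹ = g * (v * g⁻¹ * v⁻¹) by group]
      exact mul_mem ⟨hgH, self_mem_Cg g⟩
        ((mem_normalizer_iff.1 (hnorm g k hk hkp hgH hgM hv.1) g⁻¹).1 (inv_mem ⟨hgH, self_mem_Cg g⟩))
    have hgv := comm_of_comm_comm (PE.coprime hk hl hlk.symm hkp hvp) (mem_Cg.1 hcB.2)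
      (mem_Cg.1 (abel x r hr hxp hxH hxM v hv hcA))
    have h9 : g ∈ H ⊓ Cg v := ⟨hgH, mem_Cg.2 hgv⟩
    rw [aeq x r hr hxp hxH hxM v l hl hvp hv hvM] at h9
    exact hkA h9
  have hQM : ¬ (Q : Subgroup G) ≤ M := fun h => Q.not_dvd_index
    ((dvd_mul_of_dvd_right hqn m).trans ((hW _ r₀ hr₀ hp₀ hxH₀ hnM₀) ▸ index_dvd_of_le (h.trans (hMC _ hxH₀))))
  obtain ⟨xq, hxqQ, hxqM⟩ := SetLike.not_le_iff_exists.1 hQM
  have hxqp : PE q xq := pe_of_mem Q.isPGroup' hxqQ
  have hinM : ∀ (z : G) (r : ℕ), r.Prime → r ≠ q → PE r z → z ∈ H → z ∈ M := by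
    intro z r hr hne hz hzH
    by_contra h
    exact hne (hone z r hr hz hzH h xq q hq hxqp (hQH hxqQ) hxqM)
  obtain ⟨y, hyq, hyb⟩ := hG.exists_regular (q := q) hqn
  obtain ⟨i, r, hr, hrp, hrc⟩ := exists_part (hG.nc_of_mn hyb)
  have hne : ∀ (j k : ℕ), k.Prime → PE k (y ^ j) → y ^ j ≠ 1 → k ≠ q := by
    intro j k hk hkp h1 hkq
    obtain ⟨e, he⟩ := hkp
    have h2 := orderOf_eq_one_iff.not.2 h1
    have h3 : (orderOf (y ^ j)).Coprime q := Nat.Coprime.coprime_dvd_left (orderOf_pow_dvd j) hyq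
    rw [he, hkq] at h3 h2
    exact h2 (by
      rcases Nat.eq_zero_or_pos e with rfl | he'
      · simp
      · exact absurd ((Nat.coprime_pow_left_iff he' _ _).1 h3) (by rw [Nat.coprime_self]; exact hq.ne_one))
  have hrq : r ≠ q := hne i r hr hrp fun h => hrc (h ▸ one_mem _)
  rcases hG.cl_nc hrc with hxm | hxb
  · obtain ⟨c, -, hc⟩ := hmconj _ hxm
    have hyH : c * y * c⁻¹ ∈ H := by
      rw [← hc, Cg_conj]
      exact mem_map_of_mem _ (mem_Cg.2 (by rw [← pow_succ, ← pow_succ']))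
    have hyM : c * y * c⁻¹ ∈ M := mem_of_parts M _ fun j k e hk he => by
      by_cases h1 : y ^ j = 1
      · rw [conj_pow, h1, mul_one, mul_inv_cancel]; exact one_mem M
      · refine hinM _ k hk (hne j k hk ⟨e, ?_⟩ h1) ⟨e, he⟩ (pow_mem hyH j)
        rw [← he, conj_pow]
        exact ((MulAut.conj c).orderOf_eq _).symm
    have h1 := hG.cl_of_cent hqn Q hyM (not_mem_center_conj (hG.nc_of_mn hyb))
    rw [cl_conj, hyb] at h1
    exact hG.m_lt.ne' h1
  · set z := y ^ i with hz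
    obtain ⟨t, htz, htp, htc⟩ := nc_mem (p := q) (C := Cg z)
      (by rw [card_eq_of_index ((hW xq q hq hxqp (hQH hxqQ) hxqM).trans hxb.symm :
        (H ⊓ Cg xq).index = (Cg z).index)])
      (hZM.trans (hMC xq (hQH hxqQ))) ⟨hQH hxqQ, self_mem_Cg xq⟩ hxqp (hnotM xq hxqM)
      (fun a ha => mem_center_iff.1 ha xq)
    obtain ⟨w, hwm, hwz⟩ : ∃ w, cl w = m ∧ z ∈ Cg w := by
      rcases hG.cl_nc htc with h | h
      · exact ⟨t, h, mem_Cg.2 (mem_Cg.1 htz).symm⟩
      · obtain ⟨c, hc⟩ := exists_conj_sylow Q htp.isPGroup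
        obtain ⟨hw₁m', -⟩ := hD.cent w₁ hw₁ hw₁c
        have he := hG.eq_of_big hxb h (mem_Cg.1 htz).symm (PE.coprime hr hq hrq hrp htp)
        have h2 : c⁻¹ * w₁ * c⁻¹⁻¹ ∈ Cg z := by
          rw [he, mem_Cg]
          calc c⁻¹ * w₁ * c⁻¹⁻¹ * t = c⁻¹ * (w₁ * (c * t * c⁻¹)) * c := by group
            _ = c⁻¹ * (c * t * c⁻¹ * w₁) * c := by rw [mem_centralizer_iff.1 hw₁ _ (hc t (mem_zpowers t))]
            _ = _ := by group
        exact ⟨_, (cl_conj _ _).trans hw₁m', mem_Cg.2 (mem_Cg.1 h2).symm⟩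
    obtain ⟨d, -, hd⟩ := hmconj w hwm
    have hzH : d * z * d⁻¹ ∈ H := by
      rw [← hd, Cg_conj]
      exact mem_map_of_mem _ hwz
    have h1 := hG.cl_of_cent hqn Q (hinM _ r hr hrq (hrp.conj d) hzH) (not_mem_center_conj hrc)
    rw [cl_conj, hxb] at h1
    exact hG.m_lt.ne' h1

end Cfsg.Agent.Lib.PGroups.ClassStep
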