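import Mathlib
import Cfsg.Agent.Lib.PGroups.ClassStepBetaOne

/-!
Class sizes `1, m, m * n` with an abelian common centralizer: the structure of the group.
-/

set_option autoImplicit false

namespace Cfsg.Agent.Lib.PGroups.ClassStep

open Subgroup Cfsg.Agent.Lib.PGroups.ClassGraph
open scoped commutatorElement

universe u
variable {G : Type u} [Group G]

/-- A centralizer of index `m` which is abelian and is the centralizer of all of its noncentral elements. -/
structure Abel (G : Type u) [Group G] (m n q : ℕ) (H : Subgroup G) : Prop where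
  hq : q.Prime
  dvd : q ∣ n
  index : H.index = m
  comm : ∀ a ∈ H, ∀ b ∈ H, a * b = b * a
  cent : ∀ w ∈ H, w ∉ center G → cl w = m ∧ Cg w = H
  cen_le : center G ≤ H
  conj : ∀ x, cl x = m → ∃ c : G, c * x * c⁻¹ ∈ H
  wq : ∃ w ∈ H, PE q w ∧ w ∉ center G

variable [Finite G] {m n q : ℕ} {H : Subgroup G}

theorem abel_of_twoData [Fact q.Prime] {Q : Sylow q G} (hG : Hyp G m n) (hD : TwoData G m n q Q H) :
    Abel G m n q H := by
  have e : centralizer ((Q : Subgroup G) : Set G) = H := le_antisymm hD.le (hD.le_centralizer hG)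
  obtain ⟨r, t, -, -, -, ⟨w, hw, -, hwc⟩, -⟩ := hD.two
  obtain ⟨hwm, hwH⟩ := hD.cent w hw hwc
  have hQH : (Q : Subgroup G) ≤ H := hwH ▸ fun y hy => mem_Cg.2 (mem_centralizer_iff.1 hw y hy)
  obtain ⟨x, hxQ, hxc⟩ := hG.exists_nc_mem_sylow hD.dvd Q
  exact {
    hq := Fact.out
    dvd := hD.dvd
    index := hwH ▸ hwm
    comm := fun a ha b hb => hD.comm b (e.symm ▸ hb) a ha
    cent := fun w' hw' => hD.cent w' (e.symm ▸ hw')
    cen_le := hwH ▸ center_le_Cg w
    conj := fun y hy => e ▸ hG.conj_into hy hD.dvd Q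
    wq := ⟨x, hQH hxQ, pe_of_mem Q.isPGroup' hxQ, hxc⟩ }

namespace Abel

theorem Cg_eq (hG : Hyp G m n) (hA : Abel G m n q H) {g z : G} (hg : cl g = m) (hz : z ∈ Cg g) (hzc : z ∉ center G) :
    Cg z = Cg g := by
  obtain ⟨d, hd⟩ := hA.conj g hg
  have h1 := (hA.cent _ hd (not_mem_center_conj (hG.nc_of_m hg))).2
  have hz' : d * z * d⁻¹ ∈ H := by
    rw [← h1, Cg_conj]
    exact mem_map_of_mem _ hz
  have h2 := (hA.cent _ hz' (not_mem_center_conj hzc)).2
  refine map_injective (f := (MulAut.conj d).toMonoidHom) (MulAut.conj d).injective ?_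
  rw [← Cg_conj, ← Cg_conj, h1, h2]

theorem exists_pe (hG : Hyp G m n) (hA : Abel G m n q H) {p : ℕ} [Fact p.Prime] (hpm : p ∣ m) :
    ∃ v ∈ H, PE p v ∧ v ∉ center G := by
  obtain ⟨w, hw, -, hwc⟩ := hA.wq
  obtain ⟨x, hx, hxc⟩ := hG.exists_nc_pe (l := p) (dvd_mul_of_dvd_left hpm n)
  rw [← (hA.cent w hw hwc).2]
  exact nc_mem (hG.fact_eq Fact.out hpm hwc hxc) (center_le_Cg x) (self_mem_Cg x) hx hxc
    fun z hz => mem_center_iff.1 hz x

theorem fact_H (hG : Hyp G m n) (hA : Abel G m n q H) (k : ℕ) :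
    (Nat.card H).factorization k + m.factorization k = (Nat.card G).factorization k := by
  rw [← H.card_mul_index, hA.index, Nat.factorization_mul Nat.card_pos.ne' (by have := hG.hm; omega)]
  rfl

theorem normal (hG : Hyp G m n) (hA : Abel G m n q H) : H.Normal := by
  obtain ⟨w, hwH, hwp, hwc⟩ := hA.wq
  have hq := hA.hq
  by_cases huniq : ∃ p, p.Prime ∧ ∀ d, d.Prime → d ∣ m → d = p
  · obtain ⟨p, hp, hpd⟩ := huniq
    haveI : Fact p.Prime := ⟨hp⟩
    have hmpow : m = p ^ m.primeFactorsList.length :=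
      Nat.eq_prime_pow_of_unique_prime_dvd (by have := hG.hm; omega) fun {d} hd hdm => hpd d hd hdm
    have hpm : p ∣ m := by
      obtain ⟨d, hd, h⟩ := Nat.exists_prime_and_dvd (ne_of_gt hG.hm)
      exact hpd d hd h ▸ h
    have hpq : q ≠ p := fun h => hG.not_dvd_m hq hA.dvd (h ▸ hpm)
    obtain ⟨a, haH, hap, hac⟩ := hA.exists_pe hG hpm
    obtain ⟨ham, haeq⟩ := hA.cent a haH hac
    haveI hTn : (Cfsg.pCore p G).Normal := inferInstance
    set T := Cfsg.pCore p G with hT
    have haT : a ∈ T := mem_pCore_of_class hap (ham.trans hmpow)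
    have hTH : T ≤ H := haeq ▸ le_of_centralized (Cfsg.Agent.Lib.Cores.pCore_isPGroup p G) haT (b := w) (by
      obtain ⟨k, hk⟩ := hwp
      rw [hk]
      exact Nat.Coprime.pow_left _ ((Nat.coprime_primes hq hp).2 hpq))
      (fun z hz => hA.comm w hwH z (haeq ▸ hz.2)) (by rw [(hA.cent w hwH hwc).2, haeq])
    refine ⟨fun x hx d => ?_⟩
    have h1 : d⁻¹ * a * d⁻¹⁻¹ ∈ H := hTH (hTn.conj_mem a haT d⁻¹)
    have h2 := (hA.cent _ h1 (not_mem_center_conj hac)).2
    rw [Cg_conj, haeq] at h2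
    rw [← h2, mem_map_equiv, MulAut.conj_symm_apply] at hx
    simpa using hx
  · have hfact : ∀ p, p.Prime → p ∣ m → m.factorization p = 1 := by
      intro p hp hpm
      haveI : Fact p.Prime := ⟨hp⟩
      push Not at huniq
      obtain ⟨t, ht, htm, htp⟩ := huniq p hp
      haveI : Fact t.Prime := ⟨ht⟩
      obtain ⟨P⟩ : Nonempty (Sylow p G) := inferInstance
      obtain ⟨u, hu, huc, hup, hcomm⟩ := exists_second (P := (P : Subgroup G)) (Zs := center G) P.isPGroup' le_rfl
        le_normalizer (fun z hz g _ => mem_center_iff.1 hz g) (fun h => by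
          obtain ⟨x, hx, hxc⟩ := hG.exists_nc_pe (l := p) (dvd_mul_of_dvd_left hpm n)
          obtain ⟨c, hc⟩ := exists_conj_sylow P hx.isPGroup
          exact not_mem_center_conj hxc (h (hc x (mem_zpowers x))))
      obtain ⟨x, hx, hxc⟩ := hG.exists_nc_pe (l := t) (dvd_mul_of_dvd_left htm n)
      obtain ⟨v, hvu, hv, hvc⟩ := nc_mem (C := Cg u) (hG.fact_eq ht htm huc hxc) (center_le_Cg x) (self_mem_Cg x)
        hx hxc fun z hz => mem_center_iff.1 hz x
      refine hG.fact_one hpm ht htp P hu huc hup hcomm hvu hv hvc ?_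
      rcases hG.cl_nc huc with h | h
      · exact (hA.Cg_eq hG h hvu hvc).ge
      · exact hG.le_of_big h (mem_Cg.1 hvu).symm (PE.coprime hp ht htp.symm (pe_of_mem P.isPGroup' hu) hv)
    refine normalizer_eq_top_iff.1 (top_le_iff.1 (le_normalizer_of_sylows le_top fun k hk hne => ?_))
    haveI : Fact k.Prime := ⟨hk⟩
    have hH := hA.fact_H hG k
    rw [Subgroup.card_top] at hne ⊢
    have hkm : k ∣ m := Nat.dvd_of_factorization_pos (by omega)
    obtain ⟨v, hvH, hv, hvc⟩ := hA.exists_pe hG hkm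
    obtain ⟨U, hvU, hUH, hU, hUc⟩ := exists_sylow_in hv.isPGroup (zpowers_le.2 hvH)
    obtain ⟨P, hUP⟩ := hU.exists_le_sylow
    have hn := le_normalizer_centralizer (le_normalizer_of_prime_index P.isPGroup' hUP (by
      rw [P.card_eq_multiplicity, hUc, ← pow_succ', ← hH, hfact k hk hkm]))
    have e : H = centralizer (U : Set G) := le_antisymm
      (fun x hx => mem_centralizer_iff.2 fun y hy => hA.comm y (hUH hy) x hx) fun x hx => by
      rw [← (hA.cent v hvH hvc).2]
      exact mem_Cg.2 (mem_centralizer_iff.1 hx v (hvU (mem_zpowers v))).symm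
    exact ⟨P, le_top, e ▸ hn, P.card_eq_multiplicity⟩

theorem prime (hG : Hyp G m n) (hA : Abel G m n q H) : m.Prime := by
  haveI hHn := hA.normal hG
  have hq := hA.hq
  obtain ⟨w, hwH, hwp, hwc⟩ := hA.wq
  have hsec : ∀ p, p.Prime → p ∣ m → ∀ P : Sylow p G, ∃ u ∈ (P : Subgroup G), u ∈ H ∧ u ∉ center G ∧
      u ^ p ∈ center G ∧ ∀ g ∈ (P : Subgroup G), g * u * g⁻¹ * u⁻¹ ∈ center G := by
    intro p hp hpm P
    haveI : Fact p.Prime := ⟨hp⟩
    obtain ⟨u, hu, huc, hup, hcomm⟩ := exists_second (P := (P : Subgroup G)) (P₁ := (P : Subgroup G) ⊓ H)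
      (Zs := center G) P.isPGroup' inf_le_left (le_normalizer_inf le_normalizer (by rw [normalizer_eq_top]; exact le_top))
      (fun z hz g _ => mem_center_iff.1 hz g) (fun h => by
        obtain ⟨v, hv, hvp, hvc⟩ := hA.exists_pe hG hpm
        obtain ⟨c, hc⟩ := exists_conj_sylow P hvp.isPGroup
        exact not_mem_center_conj hvc (h ⟨hc v (mem_zpowers v), hHn.conj_mem v hv c⟩))
    exact ⟨u, hu.1, hu.2, huc, hup, hcomm⟩
  have hfact : ∀ p, p.Prime → p ∣ m → m.factorization p = 1 := by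
    intro p hp hpm
    haveI : Fact p.Prime := ⟨hp⟩
    obtain ⟨P⟩ : Nonempty (Sylow p G) := inferInstance
    obtain ⟨u, hu, huH, huc, hup, hcomm⟩ := hsec p hp hpm P
    have he := (hA.cent u huH huc).2
    refine hG.fact_one hpm hq (fun h => hG.not_dvd_m hq hA.dvd (h ▸ hpm)) P hu huc hup hcomm (he.symm ▸ hwH) hwp hwc ?_
    rw [he, (hA.cent w hwH hwc).2]
  obtain ⟨p, hp, hpm⟩ := Nat.exists_prime_and_dvd (ne_of_gt hG.hm)
  haveI : Fact p.Prime := ⟨hp⟩
  have hall : ∀ d, d.Prime → d ∣ m → d = p := by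
    intro d hd hdm
    by_contra hne
    haveI : Fact d.Prime := ⟨hd⟩
    obtain ⟨u, hup, huH⟩ : ∃ u, PE p u ∧ u ∉ H := by
      by_contra! h
      obtain ⟨P⟩ : Nonempty (Sylow p G) := inferInstance
      exact P.not_dvd_index ((hA.index ▸ hpm : p ∣ H.index).trans
        (index_dvd_of_le fun y hy => h y (pe_of_mem P.isPGroup' hy)))
    have huc : u ∉ center G := fun h => huH (hA.cen_le h)
    obtain ⟨x, hx, hxc⟩ := hG.exists_nc_pe (l := d) (dvd_mul_of_dvd_left hdm n)
    obtain ⟨v, hvu, hv, hvc⟩ := nc_mem (C := Cg u) (hG.fact_eq hd hdm huc hxc) (center_le_Cg x) (self_mem_Cg x)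
      hx hxc fun z hz => mem_center_iff.1 hz x
    have hvH : v ∉ H := fun h => huH ((hA.cent v h hvc).2 ▸ mem_Cg.2 (mem_Cg.1 hvu).symm)
    obtain ⟨P, hP⟩ := hv.isPGroup.exists_le_sylow
    obtain ⟨a, haP, haH, hac, -, hcomm⟩ := hsec d hd hdm P
    have hz := hcomm v (hP (mem_zpowers v))
    set z := v * a * v⁻¹ * a⁻¹ with hzdef
    set b := a⁻¹ * (u * a * u⁻¹) with hb
    have hbH : b ∈ H := mul_mem (inv_mem haH) (hHn.conj_mem a haH u)
    have e1 : v * a * v⁻¹ = z * a := by rw [hzdef]; group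
    have e2 : v * u * v⁻¹ = u := by rw [mem_Cg.1 hvu]; group
    have hbv : v * b = b * v := by
      refine mul_inv_eq_iff_eq_mul.1 ?_
      calc v * b * v⁻¹ = (v * a * v⁻¹)⁻¹ * ((v * u * v⁻¹) * (v * a * v⁻¹) * (v * u * v⁻¹)⁻¹) := by
            rw [hb]; group
        _ = a⁻¹ * z⁻¹ * (u * z * a * u⁻¹) := by rw [e1, e2]; group
        _ = a⁻¹ * z⁻¹ * (z * u * a * u⁻¹) := by rw [mem_center_iff.1 hz u]
        _ = b := by rw [hb]; group
    have hbc : b ∈ center G := by
      by_contra h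
      exact hvH ((hA.cent b hbH h).2 ▸ mem_Cg.2 hbv)
    have ec : u * a * u⁻¹ * a⁻¹ = b := by
      calc u * a * u⁻¹ * a⁻¹ = a * b * a⁻¹ := by rw [hb]; group
        _ = b := by rw [mem_center_iff.1 hbc a, mul_inv_cancel_right]
    have hua := comm_of_comm_comm (PE.coprime hp hd (Ne.symm hne) hup (pe_of_mem P.isPGroup' haP))
      (show Commute _ u by rw [ec]; exact (mem_center_iff.1 hbc u).symm)
      (show Commute _ a by rw [ec]; exact (mem_center_iff.1 hbc a).symm)
    exact huH ((hA.cent a haH hac).2 ▸ mem_Cg.2 hua)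
  have hmpow : m = p ^ m.primeFactorsList.length :=
    Nat.eq_prime_pow_of_unique_prime_dvd (by have := hG.hm; omega) fun {d} hd hdm => hall d hd hdm
  have h1 := hfact p hp hpm
  rw [hmpow, hp.factorization_pow, Finsupp.single_eq_same] at h1
  rw [hmpow, h1, pow_one]
  exact hp

theorem set_eq (hG : Hyp G m n) (hA : Abel G m n q H) : (H : Set G) = {x : G | cl x = 1 ∨ cl x = m} := by
  haveI hHn := hA.normal hG
  ext x
  refine ⟨fun hx => ?_, fun hx => ?_⟩
  · by_cases h : x ∈ center G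
    · exact Or.inl (cl_eq_one.2 h)
    · exact Or.inr (hA.cent x hx h).1
  · rcases hx with h | h
    · exact hA.cen_le (cl_eq_one.1 h)
    · obtain ⟨d, hd⟩ := hA.conj x h
      have h1 := hHn.conj_mem _ hd d⁻¹
      simpa [mul_assoc] using h1

theorem inf_Cg (hA : Abel G m n q H) {x : G} (hx : x ∉ H) : H ⊓ Cg x = center G := by
  refine le_antisymm (fun y hy => ?_) (le_inf hA.cen_le (center_le_Cg x))
  by_contra h
  exact hx ((hA.cent y hy.1 h).2 ▸ mem_Cg.2 (mem_Cg.1 hy.2).symm)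

theorem exists_not_mem (hG : Hyp G m n) (hA : Abel G m n q H) (hp : m.Prime) [Fact m.Prime] (P : Sylow m G) :
    ∃ x ∈ (P : Subgroup G), x ∉ H := by
  by_contra! h
  have h1 := index_dvd_of_le (H := (P : Subgroup G)) (K := H) h
  rw [hA.index] at h1
  exact P.not_dvd_index h1

theorem card_H (hG : Hyp G m n) (hA : Abel G m n q H) (hp : m.Prime) :
    Nat.card H = n * (m * Nat.card (center G)) := by
  haveI hHn := hA.normal hG
  haveI : Fact m.Prime := ⟨hp⟩
  obtain ⟨P⟩ : Nonempty (Sylow m G) := inferInstance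
  obtain ⟨x, -, hxH⟩ := hA.exists_not_mem hG hp P
  have hb : cl x = m * n := (hG.cl_nc fun h => hxH (hA.cen_le h)).resolve_left fun h => hxH (by
    have h1 : x ∈ (H : Set G) := by rw [hA.set_eq hG]; exact Or.inr h
    exact h1)
  have hd : H.relIndex (Cg x) ∣ m := hA.index ▸ relIndex_dvd_index_of_normal H (Cg x)
  have hne : H.relIndex (Cg x) ≠ 1 := fun h => hxH (relIndex_eq_one.1 h (self_mem_Cg x))
  have h2 := relIndex_mul_relIndex (⊥ : Subgroup G) (H ⊓ Cg x) (Cg x) bot_le inf_le_right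
  rw [relIndex_bot_left, relIndex_bot_left, inf_relIndex_right, ((Nat.dvd_prime hp).1 hd).resolve_left hne,
    hA.inf_Cg hxH] at h2
  have h3 := card_Cg x
  rw [hb, ← h2, ← H.card_mul_index, hA.index] at h3
  have h4 := Nat.eq_of_mul_eq_mul_right hp.pos (show n * (m * Nat.card (center G)) * m = Nat.card H * m by
    rw [← h3]; ring)
  exact h4.symm

theorem pcomplement (hG : Hyp G m n) (hA : Abel G m n q H) (hp : m.Prime) :
    ∃ N : Subgroup G, N.Normal ∧ N ≤ H ∧ (Nat.card N).Coprime m ∧ ∃ a : ℕ, N.index = m ^ a := by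
  haveI hHn := hA.normal hG
  haveI : Fact m.Prime := ⟨hp⟩
  let N : Subgroup G :=
    { carrier := {g | g ∈ H ∧ (orderOf g).Coprime m}
      one_mem' := ⟨one_mem H, by simp⟩
      mul_mem' := fun {a b} ha hb => ⟨mul_mem ha.1 hb.1, Nat.Coprime.coprime_dvd_left
        (show Commute a b from hA.comm a ha.1 b hb.1).orderOf_mul_dvd_mul_orderOf (ha.2.mul_left hb.2)⟩
      inv_mem' := fun {a} ha => ⟨inv_mem ha.1, by rw [orderOf_inv]; exact ha.2⟩ }
  have hcop : (Nat.card N).Coprime m := (hp.coprime_iff_not_dvd.2 fun h => by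
    obtain ⟨y, hy⟩ := exists_prime_orderOf_dvd_card' m h
    have h1 := y.2.2
    rw [orderOf_coe, hy, Nat.coprime_self] at h1
    exact hp.ne_one h1).symm
  refine ⟨N, ⟨fun a ha g => ⟨hHn.conj_mem a ha.1 g, ?_⟩⟩, fun a ha => ha.1, hcop, N.index.primeFactorsList.length,
    Nat.eq_prime_pow_of_unique_prime_dvd index_ne_zero_of_finite fun {d} hd hdi => ?_⟩
  · rw [show g * a * g⁻¹ = MulAut.conj g a from rfl, (MulAut.conj g).orderOf_eq a]
    exact ha.2
  · by_contra hne
    haveI : Fact d.Prime := ⟨hd⟩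
    obtain ⟨S⟩ : Nonempty (Sylow d G) := inferInstance
    refine S.not_dvd_index (hdi.trans (index_dvd_of_le fun y hy => ?_))
    obtain ⟨k, hk⟩ := pe_of_mem S.isPGroup' hy
    have hcy : (orderOf y).Coprime m := hk ▸ Nat.Coprime.pow_left k ((Nat.coprime_primes hd hp).2 hne)
    obtain ⟨i, hi⟩ := exists_pow_eq_self_of_coprime (x := y) (n := m) hcy.symm
    refine ⟨?_, hcy⟩
    rw [← hi]
    exact pow_mem (hA.index ▸ pow_index_mem H y) i

theorem dvd_sub (hG : Hyp G m n) (hA : Abel G m n q H) (hp : m.Prime) : m ∣ n - 1 := by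
  haveI hHn := hA.normal hG
  haveI : Fact m.Prime := ⟨hp⟩
  obtain ⟨N, hNn, hNH, hNc, a, hNa⟩ := hA.pcomplement hG hp
  obtain ⟨P⟩ : Nonempty (Sylow m G) := inferInstance
  obtain ⟨x, hxP, hxH⟩ := hA.exists_not_mem hG hp P
  set c₀ := Nat.card (N ⊓ center G : Subgroup G) with hc₀
  have hc₀c : c₀.Coprime m := Nat.Coprime.coprime_dvd_left (card_dvd_of_le inf_le_left) hNc
  obtain ⟨j, -, hj⟩ := (Nat.dvd_prime_pow hp).1 (hNa ▸ relIndex_dvd_index_of_normal N (center G))
  have h2 := relIndex_mul_relIndex (⊥ : Subgroup G) (N ⊓ center G) (center G) bot_le inf_le_right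
  rw [relIndex_bot_left, relIndex_bot_left, inf_relIndex_right, hj, ← hc₀] at h2
  have h3 : Nat.card N * m ^ a = (n * c₀) * m ^ (j + 2) := by
    rw [← hNa, N.card_mul_index, ← H.card_mul_index, hA.index, hA.card_H hG hp, ← h2]
    ring
  have hcn : (n * c₀).Coprime m := hG.cop.symm.mul_left hc₀c
  have e : Nat.card N = n * c₀ := Nat.dvd_antisymm
    ((hNc.pow_right _).dvd_of_dvd_mul_right (h3 ▸ dvd_mul_right _ _))
    ((hcn.pow_right _).dvd_of_dvd_mul_right (h3.symm ▸ dvd_mul_right _ _))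
  letI : MulAction (zpowers x) N :=
    { smul := fun g w => ⟨(g : G) * w * (g : G)⁻¹, hNn.conj_mem w w.2 g⟩
      one_smul := fun w => Subtype.ext (show ((1 : zpowers x) : G) * w * ((1 : zpowers x) : G)⁻¹ = w by simp)
      mul_smul := fun g h w => Subtype.ext (show ((g * h : zpowers x) : G) * w * ((g * h : zpowers x) : G)⁻¹ =
        (g : G) * ((h : G) * w * (h : G)⁻¹) * (g : G)⁻¹ by push_cast; group) }
  have hmod := (pe_of_mem P.isPGroup' hxP).isPGroup.card_modEq_card_fixedPoints (α := N)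
  have hfix : Nat.card (MulAction.fixedPoints (zpowers x) N) = c₀ := by
    refine Nat.card_congr
      { toFun := fun w => ⟨(w.1 : G), w.1.2, ?_⟩
        invFun := fun w => ⟨⟨(w : G), w.2.1⟩, fun g => Subtype.ext
          (show (g : G) * w * (g : G)⁻¹ = w by rw [mem_center_iff.1 w.2.2 g, mul_inv_cancel_right])⟩
        left_inv := fun w => rfl
        right_inv := fun w => rfl }
    have h4 : x * (w.1 : G) * x⁻¹ = w.1 := congrArg Subtype.val (w.2 ⟨x, mem_zpowers x⟩)
    rw [← hA.inf_Cg hxH]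
    exact ⟨hNH w.1.2, mem_Cg.2 (mul_inv_eq_iff_eq_mul.1 h4).symm⟩
  rw [hfix, e] at hmod
  have h5 : n ≡ 1 [MOD m] := Nat.ModEq.cancel_right_of_coprime (c := c₀) hc₀c.symm (by rwa [one_mul])
  exact (Nat.modEq_iff_dvd' (le_of_lt hG.hn)).1 h5.symm

theorem commutator_card (hG : Hyp G m n) (hA : Abel G m n q H) (hp : m.Prime) (P : Sylow m G) :
    Nat.card (commutator (P : Subgroup G)) = m := by
  classical
  haveI hHn := hA.normal hG
  haveI : Fact m.Prime := ⟨hp⟩
  obtain ⟨x, hxP, hxH⟩ := hA.exists_not_mem hG hp P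
  set PM := H.subgroupOf (P : Subgroup G) with hPM
  haveI hPMn : PM.Normal := Subgroup.normal_subgroupOf
  let x' : ↥(P : Subgroup G) := ⟨x, hxP⟩
  let f : PM →* ↥(P : Subgroup G) := MonoidHom.mk' (fun w => x' * (w : ↥(P : Subgroup G)) * x'⁻¹ * (w : ↥(P : Subgroup G))⁻¹) fun w w' => by
    refine Subtype.ext ?_
    show x * ((w : G) * (w' : G)) * x⁻¹ * ((w : G) * (w' : G))⁻¹ =
      (x * (w : G) * x⁻¹ * (w : G)⁻¹) * (x * (w' : G) * x⁻¹ * (w' : G)⁻¹)
    have hw : (w : G) ∈ H := w.2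
    have hw' : (w' : G) ∈ H := w'.2
    have h1 : x * (w' : G) * x⁻¹ * (w' : G)⁻¹ * (w : G)⁻¹ = (w : G)⁻¹ * (x * (w' : G) * x⁻¹ * (w' : G)⁻¹) :=
      hA.comm _ (mul_mem (hHn.conj_mem _ hw' x) (inv_mem hw')) _ (inv_mem hw)
    calc x * ((w : G) * (w' : G)) * x⁻¹ * ((w : G) * (w' : G))⁻¹
        = x * (w : G) * x⁻¹ * (x * (w' : G) * x⁻¹ * (w' : G)⁻¹ * (w : G)⁻¹) := by group
      _ = _ := by rw [h1]; group
  have hR : Nat.card f.range = m := by
    have hker : f.ker = ((center G).subgroupOf (P : Subgroup G)).subgroupOf PM := by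
      ext w
      rw [MonoidHom.mem_ker, mem_subgroupOf, mem_subgroupOf]
      constructor
      · intro h
        have h1 : x * (w : G) * x⁻¹ * (w : G)⁻¹ = 1 := congrArg Subtype.val h
        rw [← hA.inf_Cg hxH]
        exact ⟨w.2, mem_Cg.2 (by
          calc (w : G) * x = (x * (w : G) * x⁻¹ * (w : G)⁻¹) * ((w : G) * x) := by rw [h1, one_mul]
            _ = x * (w : G) := by group)⟩
      · intro h
        refine Subtype.ext ?_
        show x * (w : G) * x⁻¹ * (w : G)⁻¹ = 1
        rw [mem_center_iff.1 h x]; group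
    rw [← index_ker, hker]
    show ((center G).subgroupOf (P : Subgroup G)).relIndex (H.subgroupOf (P : Subgroup G)) = m
    rw [← inf_subgroupOf_left (center G), ← inf_subgroupOf_left H, relIndex_subgroupOf inf_le_left]
    have hc1 := sylow_inf P H (by rw [normalizer_eq_top]; exact le_top)
    have hc2 := sylow_inf P (center G) (by rw [normalizer_eq_top]; exact le_top)
    have hle : (P : Subgroup G) ⊓ center G ≤ (P : Subgroup G) ⊓ H := inf_le_inf le_rfl hA.cen_le
    have h6 := relIndex_mul_relIndex (⊥ : Subgroup G) ((P : Subgroup G) ⊓ center G) ((P : Subgroup G) ⊓ H) bot_le hle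
    rw [relIndex_bot_left, relIndex_bot_left, hc1, hc2, hA.card_H hG hp,
      Nat.factorization_mul (by have := hG.hn; omega) (mul_ne_zero hp.ne_zero Nat.card_pos.ne'),
      Nat.factorization_mul hp.ne_zero Nat.card_pos.ne', Finsupp.add_apply, Finsupp.add_apply,
      Nat.factorization_eq_zero_of_not_dvd (hG.not_dvd_n hp dvd_rfl), zero_add, hp.factorization_self, add_comm 1,
      pow_succ] at h6
    exact Nat.eq_of_mul_eq_mul_left (pow_pos hp.pos _) h6
  have htop : ∀ K : Subgroup ↥(P : Subgroup G), x' ∈ K → PM ≤ K → K = ⊤ := by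
    intro K hxK hK
    have h1 : PM.index ∣ m := hA.index ▸ relIndex_dvd_index_of_normal H (P : Subgroup G)
    rcases (Nat.dvd_prime hp).1 ((index_dvd_of_le hK).trans h1) with h | h
    · exact index_eq_one.1 h
    · have h2 := eq_of_le_of_index_le hK (by rw [h]; exact Nat.le_of_dvd hp.pos h1)
      exact absurd (show x' ∈ PM from h2 ▸ hxK) (fun hx => hxH hx)
  haveI hRn : f.range.Normal := normalizer_eq_top_iff.1 (htop _ (mem_normalizer_iff.2 fun r => by
      constructor
      · rintro ⟨w, rfl⟩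
        exact ⟨⟨x' * w * x'⁻¹, hPMn.conj_mem w w.2 x'⟩,
          show x' * (x' * w * x'⁻¹) * x'⁻¹ * (x' * w * x'⁻¹)⁻¹ = x' * (x' * w * x'⁻¹ * (w : ↥(P : Subgroup G))⁻¹) * x'⁻¹ by
            group⟩
      · rintro ⟨w, hw⟩
        refine ⟨⟨x'⁻¹ * w * x'⁻¹⁻¹, hPMn.conj_mem w w.2 x'⁻¹⟩, ?_⟩
        have hw' : x' * w * x'⁻¹ * (w : ↥(P : Subgroup G))⁻¹ = x' * r * x'⁻¹ := hw
        show x' * (x'⁻¹ * w * x'⁻¹⁻¹) * x'⁻¹ * (x'⁻¹ * w * x'⁻¹⁻¹)⁻¹ = r
        calc x' * (x'⁻¹ * w * x'⁻¹⁻¹) * x'⁻¹ * (x'⁻¹ * w * x'⁻¹⁻¹)⁻¹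
            = x'⁻¹ * (x' * w * x'⁻¹ * (w : ↥(P : Subgroup G))⁻¹) * x' := by group
          _ = r := by rw [hw']; group)
      fun g hg => mem_normalizer_iff.2 fun r => by
        have hc : ∀ w ∈ PM, ∀ s ∈ PM, s * w = w * s := fun w hw s hs => Subtype.ext (hA.comm _ hs _ hw)
        have hsub : f.range ≤ PM := by
          rintro _ ⟨w, rfl⟩
          exact mul_mem (hPMn.conj_mem w w.2 x') (inv_mem w.2)
        constructor
        · intro hr
          rwa [hc r (hsub hr) g hg, mul_inv_cancel_right]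
        · intro hr
          have h1 := hc _ (hsub hr) g hg
          have h2 : g * r * g⁻¹ = r := by
            calc g * r * g⁻¹ = g⁻¹ * (g * (g * r * g⁻¹)) := by group
              _ = g⁻¹ * (g * r * g⁻¹ * g) := by rw [h1]
              _ = r := by group
          rwa [h2] at hr)
  have hle : commutator ↥(P : Subgroup G) ≤ f.range := by
    set π := QuotientGroup.mk' f.range with hπ
    have h1 : ∀ w ∈ PM, Commute (π x') (π w) := fun w hw => by
      have h : π (f ⟨w, hw⟩) = 1 := (QuotientGroup.eq_one_iff _).2 ⟨⟨w, hw⟩, rfl⟩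
      have h' : π x' * π w * (π x')⁻¹ * (π w)⁻¹ = 1 := by
        rw [← map_inv, ← map_inv, ← map_mul, ← map_mul, ← map_mul]; exact h
      exact mul_inv_eq_iff_eq_mul.1 (mul_inv_eq_one.1 h')
    have h2 : ∀ g, Commute (π g) (π x') := fun g => by
      have := htop ((centralizer {π x'}).comap π) (mem_centralizer_singleton_iff.2 rfl)
        (fun w hw => mem_centralizer_singleton_iff.2 (h1 w hw).symm.eq)
      exact mem_centralizer_singleton_iff.1 (show π g ∈ _ from (this ▸ mem_top g : g ∈ (centralizer {π x'}).comap π))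
    have h3 : ∀ g, ∀ w ∈ PM, Commute (π g) (π w) := fun g w hw => by
      have := htop ((centralizer {π w}).comap π) (mem_centralizer_singleton_iff.2 (h1 w hw).eq)
        (fun s hs => mem_centralizer_singleton_iff.2 (by
          rw [← map_mul, ← map_mul]; exact congrArg π (Subtype.ext (hA.comm _ hs _ hw))))
      exact mem_centralizer_singleton_iff.1 (show π g ∈ _ from (this ▸ mem_top g : g ∈ (centralizer {π w}).comap π))
    have h4 : ∀ g, π g ∈ center _ := fun g => by
      have := htop ((center _).comap π)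
        (mem_center_iff.2 fun z => by
          induction z using QuotientGroup.induction_on with
          | _ z => exact (h2 z).eq)
        (fun w hw => mem_center_iff.2 fun z => by
          induction z using QuotientGroup.induction_on with
          | _ z => exact (h3 z w hw).eq)
      exact (this ▸ mem_top g : g ∈ (center _).comap π)
    rw [_root_.commutator_def, Subgroup.commutator_le]
    intro g _ h _
    refine (QuotientGroup.eq_one_iff _).1 ?_
    show π ⁅g, h⁆ = 1
    rw [map_commutatorElement, commutatorElement_eq_one_iff_mul_comm]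
    exact mem_center_iff.1 (h4 h) (π g)
  have hge : f.range ≤ commutator ↥(P : Subgroup G) := by
    rintro _ ⟨w, rfl⟩
    exact commutator_mem_commutator (mem_top x') (mem_top (w : ↥(P : Subgroup G)))
  rw [le_antisymm hle hge, hR]

end Abel

end Cfsg.Agent.Lib.PGroups.ClassStep
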