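import Mathlib
import Cfsg.Agent.Lib.PGroups.ClassStepBasic

/-!
A `p`-group shifted by an automorphism with intersection of index `p`: the bound on its order.
-/

set_option autoImplicit false

namespace Cfsg.Agent.Lib.PGroups.ConjWindow

open Subgroup

universe u
variable {G : Type u} [Group G]

/-- The image of a subgroup under a power of an automorphism. -/
abbrev sh (φ : MulAut G) (i : ℕ) (S : Subgroup G) : Subgroup G := S.map (φ ^ i).toMonoidHom

theorem sh_sh (φ : MulAut G) (i j : ℕ) (S : Subgroup G) : sh φ i (sh φ j S) = sh φ (i + j) S := by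
  rw [sh, sh, sh, map_map, pow_add]
  rfl

theorem sh_zero (φ : MulAut G) (S : Subgroup G) : sh φ 0 S = S := by
  ext x; simp [sh]

theorem card_sh (φ : MulAut G) (i : ℕ) (S : Subgroup G) : Nat.card (sh φ i S) = Nat.card S :=
  card_map_of_injective (f := (φ ^ i).toMonoidHom) (φ ^ i).injective

/-- Iterated intersections of shifts. -/
def W (φ : MulAut G) (P : Subgroup G) : ℕ → Subgroup G
  | 0 => P
  | k + 1 => P ⊓ sh φ 1 (W φ P k)

theorem W_le (φ : MulAut G) (P : Subgroup G) : ∀ k, W φ P k ≤ P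
  | 0 => le_rfl
  | _ + 1 => inf_le_left

theorem W_succ_le (φ : MulAut G) (P : Subgroup G) : ∀ k, W φ P (k + 1) ≤ W φ P k
  | 0 => inf_le_left
  | k + 1 => inf_le_inf le_rfl (map_mono (W_succ_le φ P k))

/-- Consecutive orbit elements. -/
abbrev I (φ : MulAut G) (y : G) (a k : ℕ) : Subgroup G := Subgroup.closure ((fun i => (φ ^ i) y) '' Set.Ico a (a + k))

theorem sh_I (φ : MulAut G) (y : G) (i a k : ℕ) : sh φ i (I φ y a k) = I φ y (a + i) k := by
  rw [sh, I, MonoidHom.map_closure, Set.image_image]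
  refine congrArg Subgroup.closure (Set.ext fun x => ⟨?_, ?_⟩)
  · rintro ⟨j, hj, rfl⟩
    refine ⟨j + i, ⟨by have := hj.1; omega, by have := hj.2; omega⟩, ?_⟩
    simp only [add_comm j i, pow_add]
    rfl
  · rintro ⟨j, hj, rfl⟩
    refine ⟨j - i, ⟨by have := hj.1; omega, by have := hj.1; have := hj.2; omega⟩, ?_⟩
    have e : j = i + (j - i) := by have := hj.1; omega
    conv_rhs => rw [e]
    simp only [pow_add]
    rfl

theorem mem_I (φ : MulAut G) (y : G) {a k i : ℕ} (h1 : a ≤ i) (h2 : i < a + k) : (φ ^ i) y ∈ I φ y a k :=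
  subset_closure ⟨i, ⟨h1, h2⟩, rfl⟩

theorem I_le_centralizer (φ : MulAut G) (y : G) {a k : ℕ} {z : G}
    (h : ∀ i, a ≤ i → i < a + k → Commute z ((φ ^ i) y)) : I φ y a k ≤ centralizer ({z} : Set G) := by
  refine (closure_le _).2 ?_
  rintro _ ⟨i, ⟨h1, h2⟩, rfl⟩
  exact mem_centralizer_singleton_iff.2 (h i h1 h2).eq.symm

theorem commute_I (φ : MulAut G) (y : G) {a k b l : ℕ}
    (h : ∀ i j, a ≤ i → i < a + k → b ≤ j → j < b + l → Commute ((φ ^ i) y) ((φ ^ j) y)) {u v : G}
    (hu : u ∈ I φ y a k) (hv : v ∈ I φ y b l) : Commute u v := by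
  have h2 : I φ y a k ≤ centralizer ({v} : Set G) := I_le_centralizer φ y fun i hi hi' =>
    (show Commute v ((φ ^ i) y) from
      (mem_centralizer_singleton_iff.1 (I_le_centralizer φ y (fun j hj hj' => h i j hi hi' hj hj') hv)))
  exact mem_centralizer_singleton_iff.1 (h2 hu)

theorem conj_comm {z y0 w yd c : G} (hw : z * y0 * z⁻¹ = w * y0) (hzd : Commute z yd) (hwd : Commute w yd)
    (hc : c = y0 * yd * y0⁻¹ * yd⁻¹) (hwc : Commute w c) : Commute c z := by
  refine (mul_inv_eq_iff_eq_mul.1 ?_).symm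
  calc z * c * z⁻¹ = (z * y0 * z⁻¹) * (z * yd * z⁻¹) * (z * y0 * z⁻¹)⁻¹ * (z * yd * z⁻¹)⁻¹ := by rw [hc]; group
    _ = w * y0 * yd * y0⁻¹ * (yd * w)⁻¹ := by
        rw [hw, hzd.eq, mul_inv_cancel_right]; group
    _ = w * c * w⁻¹ := by rw [← hwd.eq, hc]; group
    _ = c := by rw [hwc.eq, mul_inv_cancel_right]

theorem comm_conj {z yd w y2 c : G} (hw : z * y2 * z⁻¹ = w * y2) (hzd : Commute z yd) (hwd : Commute yd w)
    (hc : c = yd * y2 * yd⁻¹ * y2⁻¹) (hwc : Commute w c) : Commute c z := by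
  refine (mul_inv_eq_iff_eq_mul.1 ?_).symm
  calc z * c * z⁻¹ = (z * yd * z⁻¹) * (z * y2 * z⁻¹) * (z * yd * z⁻¹)⁻¹ * (z * y2 * z⁻¹)⁻¹ := by rw [hc]; group
    _ = yd * w * y2 * yd⁻¹ * y2⁻¹ * w⁻¹ := by rw [hw, hzd.eq, mul_inv_cancel_right]; group
    _ = w * c * w⁻¹ := by rw [hwd.eq, hc]; group
    _ = c := by rw [hwc.eq, mul_inv_cancel_right]

open Cfsg.Agent.Lib.PGroups.ClassStep in
set_option maxHeartbeats 1000000 in
/-- The bound. -/
theorem bound [Finite G] {p : ℕ} [Fact p.Prime] (φ : MulAut G) (P : Subgroup G)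
    (hn1 : ((P ⊓ sh φ 1 P).subgroupOf (sh φ 1 P)).Normal) (hidx : (P ⊓ sh φ 1 P).relIndex (sh φ 1 P) = p)
    (hQ : ∀ Q : Subgroup G, Q ≤ P → (Q.subgroupOf P).Normal → sh φ 1 Q = Q → Q = ⊥)
    (n : ℕ) (hn : 1 ≤ n) (hZ : ∀ x ∈ P, (∀ i ≤ n, ∀ z ∈ sh φ i P, x * z = z * x) → x = 1) :
    ∃ t : ℕ, Nat.card P = p ^ t ∧ 1 ≤ t ∧ t ≤ 3 * n ∧ t ≠ 3 * n - 1 := by
  classical
  have hp : p.Prime := Fact.out
  have hrel : ∀ V ≤ sh φ 1 P, P.relIndex V ∣ p := by
    intro V hV
    rw [← inf_relIndex_right P V, show P ⊓ V = (P ⊓ sh φ 1 P) ⊓ V by rw [inf_assoc, inf_eq_right.2 hV],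
      inf_relIndex_right, ← relIndex_subgroupOf hV]
    rw [← hidx]
    haveI := hn1
    exact relIndex_dvd_index_of_normal _ _
  -- `P` is a `p`-group
  have hP : IsPGroup p P := by
    set R := Subgroup.closure {x : G | x ∈ P ∧ (orderOf x).Coprime p} with hR
    have hRP : R ≤ P := (closure_le _).2 fun x hx => hx.1
    have hmap : sh φ 1 R ≤ R := by
      rw [sh, hR, MonoidHom.map_closure]
      refine closure_mono ?_
      rintro _ ⟨x, ⟨hxP, hxo⟩, rfl⟩
      have ho : (orderOf ((φ ^ 1).toMonoidHom x)).Coprime p := by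
        rwa [show (φ ^ 1).toMonoidHom x = (φ ^ 1) x from rfl, MulEquiv.orderOf_eq]
      have hmem : (φ ^ 1).toMonoidHom x ∈ sh φ 1 P := mem_map_of_mem _ hxP
      haveI := hn1
      have h1 : (⟨_, hmem⟩ : sh φ 1 P) ^ p ∈ (P ⊓ sh φ 1 P).subgroupOf (sh φ 1 P) := by
        have h := pow_index_mem ((P ⊓ sh φ 1 P).subgroupOf (sh φ 1 P)) ⟨_, hmem⟩
        rwa [show ((P ⊓ sh φ 1 P).subgroupOf (sh φ 1 P)).index = p from hidx] at h
      rw [mem_subgroupOf] at h1
      obtain ⟨i, hi⟩ := exists_pow_eq_self_of_coprime (x := (φ ^ 1).toMonoidHom x) (n := p) ho.symm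
      exact ⟨hi ▸ pow_mem h1.1 i, ho⟩
    have hRn : (R.subgroupOf P).Normal := (normal_subgroupOf_iff_le_normalizer hRP).2 (by
      have key : ∀ g ∈ P, R.map (MulAut.conj g).toMonoidHom ≤ R := by
        intro g hg
        rw [hR, MonoidHom.map_closure]
        refine closure_mono ?_
        rintro _ ⟨x, ⟨hxP, hxo⟩, rfl⟩
        refine ⟨mul_mem (mul_mem hg hxP) (inv_mem hg), ?_⟩
        rw [show (MulAut.conj g).toMonoidHom x = MulAut.conj g x from rfl, MulEquiv.orderOf_eq]
        exact hxo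
      intro g hg
      refine mem_normalizer_iff.2 fun x => ⟨fun hx => key g hg ⟨x, hx, rfl⟩, fun hx => ?_⟩
      have h1 := key g⁻¹ (inv_mem hg) ⟨_, hx, rfl⟩
      simpa [mul_assoc] using h1)
    have hR0 := hQ R hRP hRn (eq_of_le_of_card_ge hmap (card_sh φ 1 R).ge)
    refine IsPGroup.of_card (n := (Nat.card P).primeFactorsList.length)
      (Nat.eq_prime_pow_of_unique_prime_dvd Nat.card_pos.ne' fun {d} hd hdc => ?_)
    by_contra hne
    haveI : Fact d.Prime := ⟨hd⟩
    obtain ⟨x, hx⟩ := exists_prime_orderOf_dvd_card' d hdc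
    have h1 : (x : G) ∈ R := subset_closure ⟨x.2, by
      rw [orderOf_coe, hx]; exact (Nat.coprime_primes hd hp).2 hne⟩
    rw [hR0, mem_bot] at h1
    rw [← orderOf_coe, h1, orderOf_one] at hx
    exact hd.ne_one hx.symm
  have hWp : ∀ k, IsPGroup p (W φ P k) := fun k => hP.to_le (W_le φ P k)
  have hWsh : ∀ k, W φ P (k + 1) ≤ sh φ 1 (W φ P k) := fun k => inf_le_right
  have hcard : ∀ k, Nat.card (W φ P k) = Nat.card (W φ P (k + 1)) ∨
      Nat.card (W φ P k) = p * Nat.card (W φ P (k + 1)) := by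
    intro k
    have h1 := relIndex_mul_relIndex (⊥ : Subgroup G) (W φ P (k + 1)) (sh φ 1 (W φ P k)) bot_le (hWsh k)
    rw [relIndex_bot_left, relIndex_bot_left, card_sh] at h1
    have h2 : (W φ P (k + 1)).relIndex (sh φ 1 (W φ P k)) ∣ p := by
      rw [W, inf_relIndex_right]
      exact hrel _ (map_mono (W_le φ P k))
    rcases (Nat.dvd_prime hp).1 h2 with h | h <;> rw [h] at h1
    · exact Or.inl (by rw [← h1, mul_one])
    · exact Or.inr (by rw [← h1, mul_comm])
  have hex : ∃ k, W φ P (k + 1) = W φ P k := by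
    by_contra! hne
    have : ∀ k, Nat.card (W φ P k) + k ≤ Nat.card P := by
      intro k
      induction k with
      | zero => simp [W]
      | succ k ih =>
        have h1 : Nat.card (W φ P (k + 1)) < Nat.card (W φ P k) :=
          lt_of_le_of_ne (card_le_of_le (W_succ_le φ P k)) fun e =>
            hne k (eq_of_le_of_card_ge (W_succ_le φ P k) e.ge)
        omega
    have := this (Nat.card P + 1)
    omega
  set t := Nat.find hex with ht
  have htD : W φ P (t + 1) = W φ P t := Nat.find_spec hex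
  have hlt : ∀ k, k < t → Nat.card (W φ P k) = p * Nat.card (W φ P (k + 1)) := fun k hk =>
    (hcard k).resolve_left fun e => Nat.find_min hex hk (eq_of_le_of_card_ge (W_succ_le φ P k) e.le)
  have hDsh : sh φ 1 (W φ P t) = W φ P t := by
    have h := hWsh t
    rw [htD] at h
    exact (eq_of_le_of_card_ge h (card_sh φ 1 _).le).symm
  have hstep : ∀ k, k + 1 < t → sh φ 1 (W φ P k) = W φ P (k + 1) ⊔ sh φ 1 (W φ P (k + 1)) := by
    intro k hk
    have hle : W φ P (k + 1) ⊔ sh φ 1 (W φ P (k + 1)) ≤ sh φ 1 (W φ P k) :=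
      sup_le (hWsh k) (map_mono (W_succ_le φ P k))
    have hne : ¬ sh φ 1 (W φ P (k + 1)) ≤ W φ P (k + 1) := fun h => Nat.find_min hex hk (by
      refine eq_of_le_of_card_ge (W_succ_le φ P (k + 1)) ?_
      rw [← card_sh φ 1 (W φ P (k + 1))]
      exact card_le_of_le (le_inf (h.trans (W_le φ P _)) le_rfl))
    refine (eq_of_le_of_card_ge hle ?_).symm
    have h1 : Nat.card (W φ P (k + 1)) < Nat.card (W φ P (k + 1) ⊔ sh φ 1 (W φ P (k + 1)) : Subgroup G) :=
      lt_of_le_of_ne (card_le_of_le le_sup_left) fun e =>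
        hne (le_sup_right.trans (eq_of_le_of_card_ge le_sup_left e.ge).ge)
    obtain ⟨j, hj⟩ := IsPGroup.iff_card.1 (hWp (k + 1))
    obtain ⟨l, hl⟩ := IsPGroup.iff_card.1 ((((hWp k).map (φ ^ 1).toMonoidHom)).to_le hle)
    rw [card_sh, hlt k (by omega), hl, hj, ← pow_succ']
    rw [hl, hj] at h1
    exact Nat.pow_le_pow_right hp.pos ((Nat.pow_lt_pow_iff_right hp.one_lt).1 h1)
  have ht0 : t ≠ 0 := fun h => by
    rw [h, W] at hDsh
    rw [show P ⊓ sh φ 1 P = sh φ 1 P by rw [hDsh, inf_idem], relIndex_self] at hidx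
    exact hp.ne_one hidx.symm
  have hD : W φ P t = ⊥ := by
    refine hQ _ (W_le φ P t) ((normal_subgroupOf_iff_le_normalizer (W_le φ P t)).2 ?_) hDsh
    suffices h : ∀ j, j < t → W φ P (t - 1 - j) ≤ normalizer (W φ P t : Set G) by
      have := h (t - 1) (by omega)
      rwa [Nat.sub_self] at this
    have hinv : ∀ x, (φ ^ 1) x ∈ W φ P t ↔ x ∈ W φ P t := fun x => by
      conv_lhs => rw [← hDsh]
      exact mem_map_iff_mem (f := (φ ^ 1).toMonoidHom) (φ ^ 1).injective
    have hN : ∀ x, (φ ^ 1) x ∈ normalizer (W φ P t : Set G) ↔ x ∈ normalizer (W φ P t : Set G) := fun x => by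
      rw [mem_normalizer_iff, mem_normalizer_iff]
      constructor
      · intro h z
        have h1 := h ((φ ^ 1) z)
        rw [← map_inv, ← map_mul, ← map_mul, hinv, hinv] at h1
        exact h1
      · intro h z
        obtain ⟨z, rfl⟩ := (φ ^ 1).surjective z
        rw [← map_inv, ← map_mul, ← map_mul, hinv, hinv]
        exact h z
    intro j
    induction j with
    | zero =>
      intro _
      refine le_normalizer_of_prime_index (hWp _) ?_ ?_
      · have := W_succ_le φ P (t - 1)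
        rwa [Nat.sub_add_cancel (Nat.pos_of_ne_zero ht0)] at this
      · have := hlt (t - 1) (by omega)
        rwa [Nat.sub_add_cancel (Nat.pos_of_ne_zero ht0)] at this
    | succ j ih =>
      intro hj x hx
      have h1 := ih (by omega)
      rw [show t - 1 - j = t - 1 - (j + 1) + 1 by omega] at h1
      have h2 : (φ ^ 1) x ∈ sh φ 1 (W φ P (t - 1 - (j + 1))) := mem_map_of_mem _ hx
      rw [hstep _ (by omega)] at h2
      refine (hN x).1 ((sup_le h1 ?_) h2)
      rintro _ ⟨z, hz, rfl⟩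
      exact (hN z).2 (h1 hz)
  have hcardW : ∀ j, j ≤ t → Nat.card (W φ P (t - j)) = p ^ j := by
    intro j
    induction j with
    | zero => intro _; rw [Nat.sub_zero, hD, card_bot, pow_zero]
    | succ j ih =>
      intro hj
      rw [hlt (t - (j + 1)) (by omega), show t - (j + 1) + 1 = t - j by omega, ih (by omega), pow_succ']
  refine ⟨t, by have := hcardW t le_rfl; rwa [Nat.sub_self] at this, by omega, ?_⟩
  obtain ⟨y, hy, hy1⟩ : ∃ y ∈ W φ P (t - 1), y ≠ 1 := by
    by_contra! h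
    have h1 := hcardW 1 (by omega)
    rw [show W φ P (t - 1) = ⊥ from (eq_bot_iff_forall _).2 h, card_bot, pow_one] at h1
    exact hp.ne_one h1.symm
  set Y : ℕ → G := fun i => (φ ^ i) y with hY
  have hYadd : ∀ i j, (φ ^ i) (Y j) = Y (j + i) := fun i j => by
    show (φ ^ i) ((φ ^ j) y) = (φ ^ (j + i)) y
    rw [add_comm j i, pow_add]
    rfl
  have hI : ∀ k, 1 ≤ k → k ≤ t → ∀ a, I φ y a k = sh φ (a + k - 1) (W φ P (t - k)) := by
    intro k hk
    induction k, hk using Nat.le_induction with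
    | base =>
      intro _ a
      have h1 : I φ y 0 1 = W φ P (t - 1) := by
        refine eq_of_le_of_card_ge ?_ ?_
        · refine (closure_le _).2 ?_
          rintro _ ⟨i, hi, rfl⟩
          obtain rfl : i = 0 := by have := hi.2; omega
          simpa using hy
        · rw [hcardW 1 (by omega), pow_one]
          have h2 : orderOf y ∣ Nat.card (I φ y 0 1) := by
            have hm : y ∈ I φ y 0 1 := by simpa using mem_I φ y (a := 0) (k := 1) (i := 0) le_rfl (by omega)
            rw [← orderOf_mk y hm]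
            exact orderOf_dvd_natCard _
          refine Nat.le_of_dvd Nat.card_pos (dvd_trans ?_ h2)
          have h3 : orderOf y ∣ p := by
            have h4 := orderOf_dvd_natCard (⟨y, hy⟩ : W φ P (t - 1))
            rwa [orderOf_mk, hcardW 1 (by omega), pow_one] at h4
          rw [((Nat.dvd_prime hp).1 h3).resolve_left fun e => hy1 (orderOf_eq_one_iff.1 e)]
      have h5 := sh_I φ y a 0 1
      rw [h1, zero_add] at h5
      simpa using h5.symm
    | succ k hk ih =>
      intro hkt a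
      have e : I φ y a (k + 1) = I φ y a k ⊔ I φ y (a + 1) k := by
        rw [I, I, I, ← Subgroup.closure_union, ← Set.image_union, Set.Ico_union_Ico' (by omega) (by omega)]
        congr 2
        ext i
        simp only [Set.mem_Ico]
        omega
      have h1 := hstep (t - (k + 1)) (by omega)
      rw [show t - (k + 1) + 1 = t - k by omega] at h1
      rw [e, ih (by omega), ih (by omega), show a + (k + 1) - 1 = (a + k - 1) + 1 by omega, ← sh_sh,
        show a + 1 + k - 1 = (a + k - 1) + 1 by omega, ← sh_sh, h1, ← Subgroup.map_sup]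
  have hIc : ∀ k a, k ≤ t → Nat.card (I φ y a k) = p ^ k := by
    intro k a hk
    rcases Nat.eq_zero_or_pos k with rfl | hk0
    · simp [I]
    · rw [hI k hk0 hk a, card_sh, hcardW k hk]
  have hIp : ∀ k a, k ≤ t → IsPGroup p (I φ y a k) := fun k a hk => IsPGroup.of_card (hIc k a hk)
  have hImono : ∀ a k b l, b ≤ a → a + k ≤ b + l → I φ y a k ≤ I φ y b l := fun a k b l h1 h2 =>
    closure_mono (Set.image_mono (Set.Ico_subset_Ico h1 h2))
  have hnorm : ∀ a k, k + 1 ≤ t → I φ y a (k + 1) ≤ normalizer (I φ y a k : Set G) ∧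
      I φ y a (k + 1) ≤ normalizer (I φ y (a + 1) k : Set G) := fun a k hk =>
    ⟨le_normalizer_of_prime_index (hIp _ a hk) (hImono _ _ _ _ le_rfl (by omega))
      (by rw [hIc _ a hk, hIc _ a (by omega), pow_succ']),
    le_normalizer_of_prime_index (hIp _ a hk) (hImono _ _ _ _ (by omega) (by omega))
      (by rw [hIc _ a hk, hIc _ (a + 1) (by omega), pow_succ'])⟩
  have hinter : ∀ a k, k + 2 ≤ t → I φ y a (k + 1) ⊓ I φ y (a + 1) (k + 1) = I φ y (a + 1) k := by
    intro a k hk
    refine (eq_of_le_of_card_ge (le_inf (hImono _ _ _ _ (by omega) (by omega)) (hImono _ _ _ _ le_rfl (by omega))) ?_).symm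
    rw [hIc k _ (by omega)]
    by_contra hlt'
    push Not at hlt'
    obtain ⟨j, hj⟩ := IsPGroup.iff_card.1
      ((hIp (k + 1) a (by omega)).to_le (inf_le_left (b := I φ y (a + 1) (k + 1))))
    rw [hj] at hlt'
    have hjk : k + 1 ≤ j := (Nat.pow_lt_pow_iff_right hp.one_lt).1 hlt'
    have e1 := eq_of_le_of_card_ge (inf_le_left : I φ y a (k + 1) ⊓ I φ y (a + 1) (k + 1) ≤ _)
      (by rw [hj, hIc _ a (by omega)]; exact Nat.pow_le_pow_right hp.pos hjk)
    have e2 : I φ y a (k + 2) ≤ I φ y (a + 1) (k + 1) := by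
      refine (closure_le _).2 ?_
      rintro _ ⟨i, hi, rfl⟩
      rcases Nat.eq_or_lt_of_le hi.1 with rfl | h
      · exact inf_eq_left.1 e1 (mem_I φ y le_rfl (by omega))
      · exact mem_I φ y h (by have := hi.2; omega)
    have h3 := card_le_of_le e2
    rw [hIc _ a hk, hIc _ (a + 1) (by omega)] at h3
    have := (Nat.pow_le_pow_iff_right hp.one_lt).1 h3
    omega
  have hcom : ∀ i j, i < j → j < i + t → Y i * Y j * (Y i)⁻¹ * (Y j)⁻¹ ∈ I φ y (i + 1) (j - i - 1) := by
    intro i j hij hjt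
    obtain ⟨k, rfl⟩ : ∃ k, j = i + k + 1 := ⟨j - i - 1, by omega⟩
    rw [show i + k + 1 - i - 1 = k by omega, ← hinter i k (by omega)]
    obtain ⟨hn₁, hn₂⟩ := hnorm i (k + 1) (by omega)
    have hi := mem_I φ y (a := i) (k := k + 1) (i := i) le_rfl (by omega)
    have hj := mem_I φ y (a := i + 1) (k := k + 1) (i := i + k + 1) (by omega) (by omega)
    refine ⟨?_, (I φ y (i + 1) (k + 1)).mul_mem ((mem_normalizer_iff.1 (hn₂ (mem_I φ y le_rfl (by omega))) _).1 hj)
      ((I φ y (i + 1) (k + 1)).inv_mem hj)⟩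
    rw [show Y i * Y (i + k + 1) * (Y i)⁻¹ * (Y (i + k + 1))⁻¹ =
      Y i * (Y (i + k + 1) * (Y i)⁻¹ * (Y (i + k + 1))⁻¹) by group]
    exact mul_mem hi ((mem_normalizer_iff.1 (hn₁ (mem_I φ y (by omega) (by omega))) (Y i)⁻¹).1 ((I φ y i (k + 1)).inv_mem hi))
  have hexd : ∃ d, t ≤ d ∨ ¬ Commute (Y 0) (Y d) := ⟨t, Or.inl le_rfl⟩
  set d := Nat.find hexd with hd
  have hshift : ∀ i k, Commute (Y i) (Y (i + k)) ↔ Commute (Y 0) (Y k) := fun i k => by
    rw [← commute_map_iff (f := (φ ^ i)) (φ ^ i).injective (x := Y 0) (y := Y k), hYadd, hYadd, zero_add, add_comm k i]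
  have hclose : ∀ i j, i < j + d → j < i + d → Commute (Y i) (Y j) := by
    have key : ∀ i k, k < d → Commute (Y i) (Y (i + k)) := fun i k hk =>
      (hshift i k).2 (Classical.not_not.1 (not_or.1 (Nat.find_min hexd hk)).2)
    intro i j h1 h2
    rcases le_total i j with h | h
    · obtain ⟨k, rfl⟩ := Nat.le.dest h
      exact key i k (by omega)
    · obtain ⟨k, rfl⟩ := Nat.le.dest h
      exact (key j k (by omega)).symm
  have hd0 : 1 ≤ d := by
    by_contra h
    rcases Nat.find_spec hexd with h' | h'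
    · omega
    · exact h' (by rw [show Nat.find hexd = 0 by omega])
  have hdt : d ≤ t := Nat.find_min' hexd (Or.inl le_rfl)
  -- the centre
  have hcen : 2 * d ≤ t + n := by
    by_contra hlt'
    push Not at hlt'
    have hz : Y (d - 1) ∈ sh φ (t - 1) P := by
      have h := hI t (by omega) le_rfl 0
      rw [Nat.sub_self, W, zero_add] at h
      rw [← h]
      exact mem_I φ y (Nat.zero_le _) (by omega)
    obtain ⟨x, hx, hxz⟩ := hz
    have hx1 := hZ x hx fun i hi w hw => by
      have h1 : (φ ^ (t - 1)) w ∈ I φ y i t := by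
        rw [hI t (by omega) le_rfl i, Nat.sub_self, W, show i + t - 1 = t - 1 + i by omega, ← sh_sh]
        exact mem_map_of_mem _ hw
      have h2 := mem_centralizer_singleton_iff.1
        (I_le_centralizer φ y (z := Y (d - 1)) (fun j hj1 hj2 => hclose (d - 1) j (by omega) (by omega)) h1)
      rw [← hxz, show (φ ^ (t - 1)).toMonoidHom x = (φ ^ (t - 1)) x from rfl, ← map_mul, ← map_mul] at h2
      exact ((φ ^ (t - 1)).injective h2).symm
    rw [hx1, map_one] at hxz
    exact hy1 ((φ ^ (d - 1)).injective (hxz.symm.trans (map_one _).symm))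
  rcases Nat.eq_or_lt_of_le hdt with hdeq | hdlt
  · omega
  have hnc : ¬ Commute (Y 0) (Y d) := (Nat.find_spec hexd).resolve_left (by omega)
  set c := Y 0 * Y d * (Y 0)⁻¹ * (Y d)⁻¹ with hc
  have hc1 : c ≠ 1 := fun h => hnc (by
    show Y 0 * Y d = Y d * Y 0
    calc Y 0 * Y d = c * (Y d * Y 0) := by rw [hc]; group
      _ = _ := by rw [h, one_mul])
  have hcI : c ∈ I φ y 1 (d - 1) := by
    have := hcom 0 d hd0 (by omega)
    rwa [zero_add, Nat.sub_zero] at this
  set a := Nat.findGreatest (fun a => c ∈ I φ y a (d - a)) d with ha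
  have hspec : c ∈ I φ y a (d - a) := Nat.findGreatest_spec (P := fun a => c ∈ I φ y a (d - a)) hd0 hcI
  have ha1 : 1 ≤ a := Nat.le_findGreatest (P := fun a => c ∈ I φ y a (d - a)) hd0 hcI
  have had : a < d := by
    by_contra h
    rw [show d - a = 0 by omega] at hspec
    simp [I] at hspec
    exact hc1 hspec
  have hanot : c ∉ I φ y (a + 1) (d - (a + 1)) := fun h => by
    have := Nat.le_findGreatest (P := fun a => c ∈ I φ y a (d - a)) (show a + 1 ≤ d by omega) h
    omega
  have hexl : ∃ l, c ∈ I φ y a l := ⟨d - a, hspec⟩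
  set l := Nat.find hexl with hl
  have hlspec : c ∈ I φ y a l := Nat.find_spec hexl
  have hl1 : 1 ≤ l := by
    by_contra h
    rw [show l = 0 by omega] at hlspec
    simp [I] at hlspec
    exact hc1 hlspec
  have hld : l ≤ d - a := Nat.find_min' hexl hspec
  have hlnot : c ∉ I φ y a (l - 1) := Nat.find_min hexl (show l - 1 < Nat.find hexl by omega)
  -- an element outside a maximal window does not commute with the far generator
  have hgen : ∀ (u : G) (A : Subgroup G) (B : Subgroup G) (e : G), e ∈ B → A ≤ B → Nat.card B = p * Nat.card A →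
      IsPGroup p B → u ∈ B → u ∉ A → ∀ z, (∀ r ∈ A, Commute r z) → Commute u z → Commute e z := by
    intro u A B e he hAB hcB hB hu huA z hA hu'
    have h1 : A < B ⊓ centralizer ({z} : Set G) := lt_of_le_of_ne
      (le_inf hAB fun r hr => mem_centralizer_singleton_iff.2 (hA r hr).eq) fun h =>
        huA (h ▸ ⟨hu, mem_centralizer_singleton_iff.2 hu'.eq⟩)
    have h2 : B ⊓ centralizer ({z} : Set G) = B := by
      refine eq_of_le_of_card_ge inf_le_left ?_
      obtain ⟨j, hj⟩ := IsPGroup.iff_card.1 (hB.to_le (inf_le_left (b := centralizer ({z} : Set G))))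
      obtain ⟨i, hi⟩ := IsPGroup.iff_card.1 (hB.to_le hAB)
      have h3 : Nat.card A < Nat.card (B ⊓ centralizer ({z} : Set G) : Subgroup G) :=
        lt_of_le_of_ne (card_le_of_le h1.le) fun e' => h1.ne (eq_of_le_of_card_ge h1.le e'.ge)
      rw [hj, hi] at h3
      rw [hcB, hj, hi, ← pow_succ']
      exact Nat.pow_le_pow_right hp.pos ((Nat.pow_lt_pow_iff_right hp.one_lt).1 h3)
    exact mem_centralizer_singleton_iff.1 (inf_eq_left.1 h2 he)
  have hA : t ≤ a + d := by
    by_contra hlt'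
    push Not at hlt'
    have hw : Y (a + d) * Y 0 * (Y (a + d))⁻¹ * (Y 0)⁻¹ ∈ I φ y 1 (a + d - 1) := by
      have h := inv_mem (hcom 0 (a + d) (by omega) (by omega))
      rw [zero_add, Nat.sub_zero] at h
      convert h using 1
      group
    set w := Y (a + d) * Y 0 * (Y (a + d))⁻¹ * (Y 0)⁻¹ with hwdef
    have hcz : Commute c (Y (a + d)) := conj_comm (w := w) (by rw [hwdef]; group) (hclose _ _ (by omega) (by omega))
      (commute_I φ y (b := d) (l := 1) (fun i j _ _ _ _ => hclose i j (by omega) (by omega)) hw (mem_I φ y le_rfl (by omega)))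
      hc (commute_I φ y (fun i j _ _ _ _ => hclose i j (by omega) (by omega)) hw hspec)
    have := hgen c (I φ y (a + 1) (d - (a + 1))) (I φ y a (d - a)) (Y a) (mem_I φ y le_rfl (by omega))
      (hImono _ _ _ _ (by omega) (by omega))
      (by rw [hIc _ _ (by omega), hIc _ _ (by omega), ← pow_succ']; congr 1; omega)
      (hIp _ _ (by omega)) hspec hanot (Y (a + d))
      (fun r hr => commute_I φ y (b := a + d) (l := 1) (fun i j _ _ _ _ => hclose i j (by omega) (by omega)) hr
        (mem_I φ y le_rfl (by omega))) hcz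
    exact hnc ((hshift a d).1 this)
  have hB : t + (a + l - 1) ≤ 2 * d := by
    by_contra hlt'
    push Not at hlt'
    set b := a + l - 1 with hb
    have hw : Y b * Y (2 * d) * (Y b)⁻¹ * (Y (2 * d))⁻¹ ∈ I φ y (b + 1) (2 * d - b - 1) :=
      hcom b (2 * d) (by omega) (by omega)
    set w := Y b * Y (2 * d) * (Y b)⁻¹ * (Y (2 * d))⁻¹ with hwdef
    set c' := (φ ^ d) c with hc'
    have hc'def : c' = Y d * Y (2 * d) * (Y d)⁻¹ * (Y (2 * d))⁻¹ := by
      rw [hc', hc, map_mul, map_mul, map_mul, map_inv, map_inv, hYadd, hYadd, zero_add, two_mul]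
    have hc'I : c' ∈ I φ y (a + d) l := sh_I φ y d a l ▸ mem_map_of_mem _ hlspec
    have hcz : Commute c' (Y b) := comm_conj (w := w) (by rw [hwdef]; group) (hclose _ _ (by omega) (by omega))
      (commute_I φ y (a := d) (k := 1) (fun i j _ _ _ _ => hclose i j (by omega) (by omega)) (mem_I φ y le_rfl (by omega)) hw)
      hc'def (commute_I φ y (fun i j _ _ _ _ => hclose i j (by omega) (by omega)) hw hc'I)
    have := hgen c' (I φ y (a + d) (l - 1)) (I φ y (a + d) l) (Y (b + d)) (mem_I φ y (by omega) (by omega))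
      (hImono _ _ _ _ le_rfl (by omega))
      (by rw [hIc _ _ (by omega), hIc _ _ (by omega), ← pow_succ']; congr 1; omega)
      (hIp _ _ (by omega)) hc'I (fun h => hlnot (by
        rw [← sh_I φ y d a (l - 1)] at h
        exact (mem_map_iff_mem (f := (φ ^ d).toMonoidHom) (φ ^ d).injective).1 h)) (Y b)
      (fun r hr => commute_I φ y (b := b) (l := 1) (fun i j _ _ _ _ => hclose i j (by omega) (by omega)) hr
        (mem_I φ y le_rfl (by omega))) hcz
    exact hnc ((hshift b d).1 this.symm)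
  omega

end Cfsg.Agent.Lib.PGroups.ConjWindow
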