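import Cfsg.Agent.Lib.Metacyclic.Geom
import Mathlib

/-!
Non-abelian p-groups with a cyclic maximal subgroup.
-/

set_option autoImplicit false

namespace Cfsg.Agent.Lib.PGroups

variable {G : Type*} [Group G] [Finite G]

theorem zpow_eq_zpow_iff_dvd {a : G} {N : ℕ} (ha : orderOf a = N) (x y : ℤ) :
    a ^ x = a ^ y ↔ (N : ℤ) ∣ x - y := by
  rw [← ha, orderOf_dvd_iff_zpow_eq_one, zpow_sub, mul_inv_eq_one]

theorem conj_zpow_eq {a b : G} {r : ℕ} (h : b * a * b⁻¹ = a ^ r) (k : ℤ) :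
    b * a ^ k * b⁻¹ = a ^ ((r : ℤ) * k) := by
  rw [← conj_zpow, h, ← zpow_natCast, ← zpow_mul]

theorem conj_iter {a b : G} {r : ℕ} (h : b * a * b⁻¹ = a ^ r) (i : ℕ) :
    b ^ i * a * (b ^ i)⁻¹ = a ^ ((r : ℤ) ^ i) := by
  induction i with
  | zero => simp
  | succ i ih =>
    calc b ^ (i + 1) * a * (b ^ (i + 1))⁻¹ = b * (b ^ i * a * (b ^ i)⁻¹) * b⁻¹ := by
          rw [pow_succ']; group
      _ = a ^ ((r : ℤ) ^ (i + 1)) := by rw [ih, conj_zpow_eq h, pow_succ']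

/-- The basic data of a cyclic maximal subgroup in a non-abelian p-group. -/
theorem cyclic_maximal_data {p : ℕ} [hp : Fact p.Prime] (n : ℕ) (hn : 1 ≤ n) (hG : Nat.card G = p ^ n)
    (C : Subgroup G) (hC : IsCyclic C) (hCi : C.index = p) (hna : ∃ x y : G, x * y ≠ y * x) :
    ∃ (a b : G) (r m : ℕ), orderOf a = p ^ (n - 1) ∧ b ∉ Subgroup.zpowers a ∧
      b * a * b⁻¹ = a ^ r ∧ b ^ p = a ^ m ∧
      ((p ^ (n - 1) : ℕ) : ℤ) ∣ (r : ℤ) ^ p - 1 ∧
      ((p ^ (n - 1) : ℕ) : ℤ) ∣ (m : ℤ) * ((r : ℤ) - 1) ∧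
      ¬ ((p ^ (n - 1) : ℕ) : ℤ) ∣ (r : ℤ) - 1 := by
  obtain ⟨a, ha⟩ := Subgroup.isCyclic_iff_exists_zpowers_eq_top C |>.mp hC
  have hao : orderOf a = p ^ (n - 1) := by
    have h := C.card_mul_index
    rw [← ha, Nat.card_zpowers, ha, hCi, hG, show n = n - 1 + 1 by omega, pow_succ] at h
    exact Nat.eq_of_mul_eq_mul_right hp.out.pos h
  haveI : C.Normal := Subgroup.normal_of_index_eq_minFac_card (by
    rw [hCi, hG, Nat.pow_minFac (by omega), hp.out.minFac_eq])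
  obtain ⟨b, hb⟩ : ∃ b, b ∉ C := by
    by_contra hall
    push Not at hall
    rw [(Subgroup.eq_top_iff' _).mpr hall, Subgroup.index_top] at hCi
    exact hp.out.ne_one hCi.symm
  have hmem : ∀ x, x ∈ C → ∃ r : ℕ, a ^ r = x := fun x hx => by
    obtain ⟨r, hr⟩ := mem_powers_iff_mem_zpowers.mpr (ha.ge hx)
    exact ⟨r, hr⟩
  have haC : a ∈ C := ha.le (Subgroup.mem_zpowers a)
  obtain ⟨r, hr⟩ := hmem _ ((inferInstance : C.Normal).conj_mem a haC b)
  have hbp : b ^ p ∈ C := by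
    have := pow_card_eq_one' (G := G ⧸ C) (x := (b : G ⧸ C))
    rw [← Subgroup.index, hCi, ← QuotientGroup.mk_pow, QuotientGroup.eq_one_iff] at this
    exact this
  obtain ⟨m, hm⟩ := hmem _ hbp
  refine ⟨a, b, r, m, hao, ha.symm ▸ hb, hr.symm, hm.symm, ?_, ?_, ?_⟩
  · rw [← zpow_eq_zpow_iff_dvd hao, ← conj_iter hr.symm, ← hm, zpow_one]
    have hc : Commute (a ^ m) a := (Commute.refl a).pow_left m
    rw [hc.eq, mul_inv_cancel_right]
  · rw [mul_sub, mul_one, ← zpow_eq_zpow_iff_dvd hao, mul_comm, ← conj_zpow_eq hr.symm, zpow_natCast, hm]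
    group
  · intro h
    rw [← zpow_eq_zpow_iff_dvd hao, zpow_natCast, hr, zpow_one, mul_inv_eq_iff_eq_mul] at h
    obtain ⟨x, y, hxy⟩ := hna
    apply hxy
    have hle : C ≤ Subgroup.center G := by
      rw [← ha, Subgroup.zpowers_le, Subgroup.mem_center_iff]
      have htop : Subgroup.centralizer ({a} : Set G) = ⊤ := by
        have hCle : C ≤ Subgroup.centralizer ({a} : Set G) := by
          rw [← ha, Subgroup.zpowers_le, Subgroup.mem_centralizer_singleton_iff]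
        have h2 := Subgroup.index_dvd_of_le hCle
        rw [hCi] at h2
        rcases (Nat.dvd_prime hp.out).mp h2 with h3 | h3
        · exact Subgroup.index_eq_one.mp h3
        · exfalso
          refine hb ?_
          rw [← hCi] at h3
          have he : C = Subgroup.centralizer ({a} : Set G) := by
            refine le_antisymm hCle (Subgroup.relIndex_eq_one.mp ?_)
            have h4 := Subgroup.relIndex_mul_index hCle
            rw [h3] at h4
            exact Nat.eq_of_mul_eq_mul_right (Nat.pos_of_ne_zero Subgroup.index_ne_zero_of_finite)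
              (h4.trans (one_mul _).symm)
          rw [he, Subgroup.mem_centralizer_singleton_iff]
          exact h
      exact fun g => Subgroup.mem_centralizer_singleton_iff.mp (htop.ge (Subgroup.mem_top g))
    haveI hcyc : IsCyclic (G ⧸ Subgroup.center G) := by
      refine isCyclic_of_card_dvd_prime (p := p) ?_
      rw [← Subgroup.index, ← hCi]
      exact Subgroup.index_dvd_of_le hle
    exact commutative_of_cyclic_center_quotient (QuotientGroup.mk' (Subgroup.center G))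
      (by rw [QuotientGroup.ker_mk']) x y

theorem classify_cyclic_maximal_odd {p : ℕ} [hp : Fact p.Prime] (hp2 : p ≠ 2) (n : ℕ) (hn : 3 ≤ n)
    (hG : Nat.card G = p ^ n) (C : Subgroup G) (hC : IsCyclic C) (hCi : C.index = p)
    (hna : ∃ x y : G, x * y ≠ y * x) :
    ∃ a b : G, orderOf a = p ^ (n - 1) ∧ orderOf b = p ∧ b ∉ Subgroup.zpowers a ∧
      b * a * b⁻¹ = a ^ (1 + p ^ (n - 2)) := by
  obtain ⟨a, b, r, m, hao, hb, hr, hm, hrp, hmr, hne⟩ :=
    cyclic_maximal_data n (by omega) hG C hC hCi hna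
  set q := n - 2 with hq
  have hN : n - 1 = q + 1 := by omega
  rw [hN] at hao hrp hmr hne
  push_cast at hrp hmr hne
  rw [pow_succ] at hrp hmr hne
  have hP : (0 : ℤ) < (p : ℤ) := by exact_mod_cast hp.out.pos
  have hPq : (0 : ℤ) < (p : ℤ) ^ q := by positivity
  have hpd : (p : ℤ) ∣ (r : ℤ) - 1 := by
    have h1 : (p : ℤ) ∣ (r : ℤ) ^ p - 1 := dvd_trans (dvd_mul_left _ _) hrp
    have h2 : ((r : ZMod p)) ^ p = 1 := by
      have := (ZMod.intCast_eq_intCast_iff_dvd_sub 1 ((r : ℤ) ^ p) p).mpr h1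
      push_cast at this
      exact this.symm
    rw [ZMod.pow_card] at h2
    exact (ZMod.intCast_eq_intCast_iff_dvd_sub 1 (r : ℤ) p).mp (by push_cast; exact h2.symm)
  have hx : (r : ZMod p) = 1 := by
    have := (ZMod.intCast_eq_intCast_iff_dvd_sub 1 (r : ℤ) p).mpr hpd
    push_cast at this
    exact this.symm
  obtain ⟨v, hv⟩ := Metacyclic.gsum_prime hp2 hx
  have hr1 : 1 ≤ r := by
    rcases Nat.eq_zero_or_pos r with h0 | h0
    · exfalso; rw [h0, Nat.cast_zero] at hx; exact zero_ne_one hx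
    · exact h0
  obtain ⟨d, rfl⟩ : ∃ d, r = 1 + d := ⟨r - 1, by omega⟩
  have hd : (p : ℤ) ^ q ∣ (d : ℤ) := by
    have h1 : ((1 + d : ℕ) : ℤ) ^ p - 1 = (d : ℤ) * ((p : ℤ) * (1 + (p : ℤ) * v)) := by
      have := congrArg (fun k : ℕ => (k : ℤ)) (Metacyclic.pow_eq_one_add d p)
      simp only [hv] at this
      push_cast at this ⊢
      rw [this]; ring
    rw [h1] at hrp
    have h2 : (p : ℤ) ^ q ∣ (d : ℤ) * (1 + (p : ℤ) * v) := by
      obtain ⟨e, he⟩ := hrp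
      exact ⟨e, mul_right_cancel₀ hP.ne' (by linear_combination he)⟩
    refine IsCoprime.dvd_of_dvd_mul_right ?_ h2
    exact (IsCoprime.pow_left ⟨-(v : ℤ), 1, by ring⟩)
  obtain ⟨k, hk⟩ := hd
  have hk' : ¬ (p : ℤ) ∣ k := by
    rintro ⟨e, rfl⟩
    exact hne ⟨e, by push_cast; rw [hk]; ring⟩
  obtain ⟨i, t, hit⟩ : IsCoprime k (p : ℤ) :=
    ((Int.prime_iff_natAbs_prime.mpr (by simpa using hp.out)).coprime_iff_not_dvd.mpr hk').symm
  -- conjugation by any power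
  set c := a ^ (p : ℤ) ^ q with hc
  have hcb : b * c * b⁻¹ = c := by
    rw [hc, conj_zpow_eq hr, zpow_eq_zpow_iff_dvd hao]
    push_cast
    rw [pow_succ, show (1 + (d : ℤ)) * (p : ℤ) ^ q - (p : ℤ) ^ q = (p : ℤ) ^ q * d by ring, hk]
    exact ⟨k * ((p : ℤ) ^ (q - 1)), by
      rw [show (p : ℤ) ^ q = (p : ℤ) * (p : ℤ) ^ (q - 1) by rw [← pow_succ']; congr 1; omega]; ring⟩
  have hba : b * a * b⁻¹ = c ^ k * a := by
    rw [hr, hc, ← zpow_mul, ← hk, ← zpow_natCast, ← zpow_add_one]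
    congr 1; push_cast; ring
  have hcc : Commute b c := by
    have := hcb; rw [mul_inv_eq_iff_eq_mul] at this; exact this
  have hca : Commute a c := (Commute.refl a).zpow_right _
  have hstep : ∀ j : ℕ, b ^ j * a * (b ^ j)⁻¹ = c ^ (k * j) * a := by
    intro j
    induction j with
    | zero => simp
    | succ j ih =>
      calc b ^ (j + 1) * a * (b ^ (j + 1))⁻¹ = b * (b ^ j * a * (b ^ j)⁻¹) * b⁻¹ := by
            rw [pow_succ']; group
        _ = (b * c ^ (k * j) * b⁻¹) * (b * a * b⁻¹) := by rw [ih]; group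
        _ = c ^ (k * j) * (c ^ k * a) := by rw [(hcc.zpow_right _).eq, mul_inv_cancel_right, hba]
        _ = c ^ (k * ((j + 1 : ℕ) : ℤ)) * a := by
            rw [← mul_assoc, ← zpow_add]; push_cast; ring_nf
  set j := (i % (p : ℤ)).toNat with hj
  have hjz : (j : ℤ) = i % (p : ℤ) := Int.toNat_of_nonneg (Int.emod_nonneg _ hP.ne')
  have hjd : (p : ℤ) ∣ k * j - 1 := by
    rw [hjz, Int.emod_def]
    exact ⟨-t - k * (i / (p : ℤ)), by linear_combination hit⟩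
  set b1 := b ^ j with hb1
  have hcp : c ^ (p : ℤ) = 1 := by
    rw [hc, ← zpow_mul, ← pow_succ, show ((p : ℤ) ^ (q + 1)) = ((orderOf a : ℕ) : ℤ) by rw [hao]; push_cast; ring,
      zpow_natCast, pow_orderOf_eq_one]
  have hb1a : b1 * a * b1⁻¹ = c * a := by
    obtain ⟨e, he⟩ := hjd
    rw [hb1, hstep, show k * (j : ℤ) = 1 + (p : ℤ) * e by linear_combination he, zpow_add, zpow_one,
      zpow_mul, hcp, one_zpow, mul_one]
  have hnj : ¬ p ∣ j := by
    intro h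
    obtain ⟨e, he⟩ := hjd
    obtain ⟨f, hf⟩ := h
    have : (p : ℤ) ∣ 1 := ⟨k * f - e, by rw [hf] at he; push_cast at he; linear_combination -he⟩
    exact hp.out.not_dvd_one (by exact_mod_cast this)
  have hb1n : b1 ∉ Subgroup.zpowers a := by
    intro h
    have hcop : Nat.Coprime j p := ((hp.out.coprime_iff_not_dvd).mpr hnj).symm
    apply hb
    have h1 : b ^ p ∈ Subgroup.zpowers a := hm ▸ pow_mem (Subgroup.mem_zpowers a) m
    have h2 : b ^ ((j : ℤ) * Nat.gcdA j p + (p : ℤ) * Nat.gcdB j p) ∈ Subgroup.zpowers a := by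
      rw [zpow_add, zpow_mul, zpow_mul, zpow_natCast, zpow_natCast]
      exact mul_mem (zpow_mem h _) (zpow_mem h1 _)
    rwa [← Nat.gcd_eq_gcd_ab, hcop.gcd_eq_one, Nat.cast_one, zpow_one] at h2
  -- correct the order
  have hm2 : (p : ℤ) ∣ (m : ℤ) := by
    push_cast at hmr
    rw [show (1 + (d : ℤ)) - 1 = (p : ℤ) ^ q * k by rw [hk]; ring] at hmr
    obtain ⟨e, he⟩ := hmr
    have h2 : (p : ℤ) ∣ k * m := ⟨e, mul_left_cancel₀ hPq.ne' (by linear_combination he)⟩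
    rcases (Int.prime_iff_natAbs_prime.mpr (by simpa using hp.out)).dvd_or_dvd h2 with h | h
    · exact absurd h hk'
    · exact h
  obtain ⟨m', hm'⟩ := hm2
  set s := -(m' * (j : ℤ)) with hs
  set b2 := a ^ s * b1 with hb2
  have hb1s : ∀ e : ℕ, b1 ^ e * a ^ s * (b1 ^ e)⁻¹ = c ^ ((e : ℤ) * s) * a ^ s := by
    intro e
    rw [← conj_zpow, hb1, ← pow_mul, hstep, (hca.symm.zpow_left _).mul_zpow, ← zpow_mul]
    congr 1
    obtain ⟨w, hw⟩ := hjd
    rw [show k * ((j * e : ℕ) : ℤ) * s = (e : ℤ) * s + (p : ℤ) * (w * e * s) by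
      push_cast; linear_combination (e : ℤ) * s * hw, zpow_add, zpow_mul c (p : ℤ), hcp, one_zpow,
      mul_one]
  have hpow : ∀ e : ℕ, b2 ^ e = a ^ ((e : ℤ) * s) * c ^ (((e.choose 2 : ℕ) : ℤ) * s) * b1 ^ e := by
    intro e
    induction e with
    | zero => simp
    | succ e ih =>
      rw [pow_succ, ih, hb2, Nat.choose_succ_succ' e 1, Nat.choose_one_right]
      calc a ^ ((e : ℤ) * s) * c ^ (((e.choose 2 : ℕ) : ℤ) * s) * b1 ^ e * (a ^ s * b1)
          = a ^ ((e : ℤ) * s) * c ^ (((e.choose 2 : ℕ) : ℤ) * s) * (b1 ^ e * a ^ s * (b1 ^ e)⁻¹) * (b1 ^ e * b1) := by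
            group
        _ = a ^ ((e : ℤ) * s) * (c ^ (((e.choose 2 : ℕ) : ℤ) * s) * c ^ ((e : ℤ) * s) * a ^ s) * b1 ^ (e + 1) := by
            rw [hb1s, pow_succ]; group
        _ = a ^ ((e : ℤ) * s) * (a ^ s * c ^ ((((e.choose 2 : ℕ) : ℤ) + e) * s)) * b1 ^ (e + 1) := by
            rw [← zpow_add, add_mul, ((hca.zpow_left s).zpow_right _).eq]
        _ = a ^ (((e + 1 : ℕ) : ℤ) * s) * c ^ (((e + e.choose 2 : ℕ) : ℤ) * s) * b1 ^ (e + 1) := by
            rw [← mul_assoc, ← zpow_add]; push_cast; ring_nf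
  have hb2p : b2 ^ p = 1 := by
    obtain ⟨w, hw⟩ : p ∣ p.choose 2 := hp.out.dvd_choose_self two_ne_zero
      (lt_of_le_of_ne hp.out.two_le (Ne.symm hp2))
    rw [hpow, hw, show (((p * w : ℕ)) : ℤ) * s = (p : ℤ) * (w * s) by push_cast; ring,
      zpow_mul c, hcp, one_zpow, mul_one, hb1, ← pow_mul, mul_comm j p, pow_mul, hm, ← pow_mul,
      ← zpow_natCast a (m * j), ← zpow_add,
      show (p : ℤ) * s + ((m * j : ℕ) : ℤ) = 0 by rw [hs]; push_cast; rw [hm']; ring, zpow_zero]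
  have hb2n : b2 ∉ Subgroup.zpowers a := fun h => hb1n (by
    have := mul_mem (Subgroup.zpow_mem _ (Subgroup.mem_zpowers a) (-s)) h
    rwa [hb2, ← mul_assoc, ← zpow_add, neg_add_cancel, zpow_zero, one_mul] at this)
  refine ⟨a, b2, by rw [hN]; exact hao, orderOf_eq_prime hb2p (fun h => hb2n (h ▸ one_mem _)), hb2n, ?_⟩
  calc b2 * a * b2⁻¹ = a ^ s * (b1 * a * b1⁻¹) * (a ^ s)⁻¹ := by rw [hb2]; group
    _ = c * a := by
        rw [hb1a, ← mul_assoc, (hca.zpow_left s).eq, mul_assoc c, ((Commute.refl a).zpow_left s).eq,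
          ← mul_assoc, mul_inv_cancel_right]
    _ = _ := by
        rw [add_comm, pow_succ, hc, show ((p : ℤ) ^ q) = ((p ^ q : ℕ) : ℤ) by push_cast; ring, zpow_natCast]

theorem classify_cyclic_maximal_two (n : ℕ) (hn : 3 ≤ n) (hG : Nat.card G = 2 ^ n) (C : Subgroup G)
    (hC : IsCyclic C) (hCi : C.index = 2) (hna : ∃ x y : G, x * y ≠ y * x) :
    ∃ a b : G, orderOf a = 2 ^ (n - 1) ∧ b ∉ Subgroup.zpowers a ∧
      ((b ^ 2 = 1 ∧ b * a * b⁻¹ = a⁻¹) ∨ (b ^ 2 = a ^ (2 ^ (n - 2)) ∧ b * a * b⁻¹ = a⁻¹) ∨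
       (4 ≤ n ∧ b ^ 2 = 1 ∧ b * a * b⁻¹ = a ^ (1 + 2 ^ (n - 2))) ∨
       (4 ≤ n ∧ b ^ 2 = 1 ∧ b * a * b⁻¹ = a ^ (2 ^ (n - 2) - 1))) := by
  haveI : Fact (Nat.Prime 2) := ⟨Nat.prime_two⟩
  obtain ⟨a, b, r, m, hao, hb, hr, hm, hrp, hmr, hne⟩ :=
    cyclic_maximal_data n (by omega) hG C hC hCi hna
  obtain ⟨q, hq⟩ : ∃ q, n = q + 3 := ⟨n - 3, by omega⟩
  subst hq
  simp only [show q + 3 - 1 = q + 2 by omega, show q + 3 - 2 = q + 1 by omega] at hao hrp hmr hne ⊢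
  push_cast at hrp hmr hne
  have hzn : ∀ (x : ℤ) (k : ℕ), (2 : ℤ) ^ (q + 2) ∣ x - k → a ^ x = a ^ k := fun x k h => by
    rw [← zpow_natCast a k, zpow_eq_zpow_iff_dvd hao]
    push_cast; exact h
  have hr' : b * a * b⁻¹ = a ^ (r : ℤ) := by rw [hr, zpow_natCast]
  have hsq : ∀ s : ℤ, (a ^ s * b) ^ 2 = a ^ (s + (r : ℤ) * s + m) := fun s => by
    rw [zpow_add, zpow_add, zpow_natCast, ← hm, ← conj_zpow_eq hr, pow_two, pow_two]
    group
  have hns : ∀ s : ℤ, a ^ s * b ∉ Subgroup.zpowers a := fun s h => hb (by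
    have := mul_mem (Subgroup.zpow_mem _ (Subgroup.mem_zpowers a) (-s)) h
    rwa [← mul_assoc, ← zpow_add, neg_add_cancel, zpow_zero, one_mul] at this)
  have hcj : ∀ s : ℤ, a ^ s * b * a * (a ^ s * b)⁻¹ = b * a * b⁻¹ := fun s => by
    calc a ^ s * b * a * (a ^ s * b)⁻¹ = a ^ s * (b * a * b⁻¹) * (a ^ s)⁻¹ := by group
      _ = b * a * b⁻¹ := by rw [hr', ← zpow_add, ← zpow_neg, ← zpow_add]; congr 1; ring
  obtain ⟨u, hu⟩ : ∃ u : ℤ, (r : ℤ) = 2 * u + 1 := by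
    rcases Int.emod_two_eq_zero_or_one (r : ℤ) with h | h
    · exfalso
      have h2 : (2 : ℤ) ∣ (r : ℤ) ^ 2 - 1 := dvd_trans (dvd_pow_self 2 (by omega)) hrp
      have h3 : (2 : ℤ) ∣ (r : ℤ) ^ 2 := (Int.dvd_of_emod_eq_zero h).trans (dvd_pow_self _ two_ne_zero)
      have h4 := dvd_sub h3 h2
      norm_num at h4
    · exact ⟨(r : ℤ) / 2, by omega⟩
  have huu : (2 : ℤ) ^ q ∣ u * (u + 1) := by
    obtain ⟨e, he⟩ := hrp
    exact ⟨e, mul_left_cancel₀ (by norm_num : (4 : ℤ) ≠ 0) (by rw [hu] at he; linear_combination he)⟩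
  have hcop : ∀ e : ℤ, IsCoprime ((2 : ℤ) ^ q) (2 * e + 1) := fun e =>
    IsCoprime.pow_left ⟨-e, 1, by ring⟩
  -- the two families
  rcases Int.emod_two_eq_zero_or_one u with h | h
  · -- r = 1 + 2^(n-2)
    obtain ⟨w, hw⟩ := Int.dvd_of_emod_eq_zero h
    have hd : (2 : ℤ) ^ q ∣ u := by
      refine IsCoprime.dvd_of_dvd_mul_right ?_ huu
      rw [show u + 1 = 2 * w + 1 by rw [hw]]; exact hcop w
    obtain ⟨e, he⟩ := hd
    have hodd : ¬ (2 : ℤ) ∣ e := by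
      rintro ⟨f, rfl⟩
      exact hne ⟨f, by rw [hu, he]; ring⟩
    obtain ⟨f, hf⟩ : ∃ f, e = 2 * f + 1 := ⟨e / 2, by omega⟩
    have hq1 : 1 ≤ q := by
      by_contra h0
      obtain rfl : q = 0 := by omega
      rw [pow_zero, one_mul] at he
      omega
    obtain ⟨q', rfl⟩ : ∃ q', q = q' + 1 := ⟨q - 1, by omega⟩
    have hconj : b * a * b⁻¹ = a ^ (1 + 2 ^ (q' + 1 + 1)) := by
      rw [hr']
      refine hzn _ _ ⟨f, ?_⟩
      rw [hu, he, hf]; push_cast; ring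
    obtain ⟨m', hm'⟩ : (2 : ℤ) ∣ (m : ℤ) := by
      obtain ⟨g, hg⟩ := hmr
      have h1 : (m : ℤ) * e = 2 * g := mul_left_cancel₀ (pow_ne_zero (q' + 1 + 1) (by norm_num : (2 : ℤ) ≠ 0))
        (by rw [hu, he] at hg; linear_combination hg)
      rcases Int.prime_two.dvd_or_dvd ⟨g, h1⟩ with h2 | h2
      · exact h2
      · exact absurd h2 hodd
    obtain ⟨x, y, hxy⟩ : IsCoprime (2 * (2 ^ q' * e) + 1) ((2 : ℤ) ^ (q' + 1 + 1)) :=
      (IsCoprime.pow_left (R := ℤ) (m := q' + 1 + 1) ⟨-(2 ^ q' * e), 1, by ring⟩).symm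
    refine ⟨a, a ^ (-m' * x) * b, hao, hns _, Or.inr (Or.inr (Or.inl ⟨by omega, ?_, ?_⟩))⟩
    · rw [hsq, show (1 : G) = a ^ (0 : ℕ) by rw [pow_zero]]
      refine hzn _ _ ⟨m' * y, ?_⟩
      rw [hu, he, hm']; push_cast; linear_combination (-2 * m') * hxy
    · rw [hcj, hconj]
  · -- r = -1 or -1 + 2^(n-2)
    obtain ⟨w, hw⟩ : ∃ w, u = 2 * w + 1 := ⟨u / 2, by omega⟩
    have hd : (2 : ℤ) ^ q ∣ u + 1 := by
      refine IsCoprime.dvd_of_dvd_mul_left ?_ huu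
      rw [hw]; exact hcop w
    obtain ⟨e, he⟩ := hd
    have hm2 : (2 : ℤ) ^ (q + 1) ∣ (m : ℤ) := by
      refine IsCoprime.dvd_of_dvd_mul_right (IsCoprime.pow_left ⟨-w, 1, by ring⟩ : IsCoprime _ (2 * w + 1)) ?_
      obtain ⟨g, hg⟩ := hmr
      exact ⟨g, mul_left_cancel₀ (by norm_num : (2 : ℤ) ≠ 0) (by rw [hu, hw] at hg; linear_combination hg)⟩
    obtain ⟨m', hm'⟩ := hm2
    rcases Int.emod_two_eq_zero_or_one e with he2 | he2
    · obtain ⟨f, hf⟩ := Int.dvd_of_emod_eq_zero he2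
      have hconj : b * a * b⁻¹ = a⁻¹ := by
        rw [hr', ← zpow_neg_one, zpow_eq_zpow_iff_dvd hao]
        push_cast
        exact ⟨f, by rw [hu]; linear_combination 2 * he + 2 * (2 : ℤ) ^ q * hf⟩
      refine ⟨a, b, hao, hb, ?_⟩
      rcases Int.emod_two_eq_zero_or_one m' with h2 | h2
      · refine Or.inl ⟨?_, hconj⟩
        obtain ⟨g, hg⟩ := Int.dvd_of_emod_eq_zero h2
        rw [hm, show (1 : G) = a ^ (0 : ℕ) by rw [pow_zero], ← zpow_natCast]
        exact hzn _ _ ⟨g, by rw [hm', hg]; push_cast; ring⟩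
      · refine Or.inr (Or.inl ⟨?_, hconj⟩)
        rw [hm, ← zpow_natCast]
        obtain ⟨g, hg⟩ : ∃ g, m' = 2 * g + 1 := ⟨m' / 2, by omega⟩
        exact hzn _ _ ⟨g, by rw [hm', hg]; push_cast; ring⟩
    · obtain ⟨f, hf⟩ : ∃ f, e = 2 * f + 1 := ⟨e / 2, by omega⟩
      have hq1 : 1 ≤ q := by
        by_contra h0
        obtain rfl : q = 0 := by omega
        rw [pow_zero, one_mul] at he
        exact hne ⟨f, by rw [hu]; norm_num; omega⟩
      have hconj : b * a * b⁻¹ = a ^ (2 ^ (q + 1) - 1) := by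
        rw [hr']
        refine hzn _ _ ⟨f, ?_⟩
        rw [hu, Nat.cast_sub (Nat.one_le_two_pow)]; push_cast
        linear_combination 2 * he + 2 * (2 : ℤ) ^ q * hf
      rcases Int.emod_two_eq_zero_or_one m' with h2 | h2
      · refine ⟨a, b, hao, hb, Or.inr (Or.inr (Or.inr ⟨by omega, ?_, hconj⟩))⟩
        obtain ⟨g, hg⟩ := Int.dvd_of_emod_eq_zero h2
        rw [hm, show (1 : G) = a ^ (0 : ℕ) by rw [pow_zero], ← zpow_natCast]
        exact hzn _ _ ⟨g, by rw [hm', hg]; push_cast; ring⟩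
      · obtain ⟨g, hg⟩ : ∃ g, m' = 2 * g + 1 := ⟨m' / 2, by omega⟩
        refine ⟨a, a ^ (1 : ℤ) * b, hao, hns _, Or.inr (Or.inr (Or.inr ⟨by omega, ?_, ?_⟩))⟩
        · rw [hsq, show (1 : G) = a ^ (0 : ℕ) by rw [pow_zero]]
          refine hzn _ _ ⟨f + g + 1, ?_⟩
          rw [hu, hm', hg]; push_cast
          linear_combination 2 * he + 2 * (2 : ℤ) ^ q * hf
        · rw [hcj, hconj]

end Cfsg.Agent.Lib.PGroups
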