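import Cfsg.Agent.Lib.PGroups.CyclicMaximal
import Cfsg.Agent.Lib.Involutions.TwoGroupRec
import Cfsg.Prelude.Def_PLocal
import Cfsg.Prelude.Def_Transfer
import Cfsg.Prelude.Def_CaseTheorems

/-!
`p`-groups with a self-centralizing cyclic normal subgroup.
-/

set_option autoImplicit false
set_option linter.unusedSectionVars false

namespace Cfsg.Agent.Lib.PGroups.CyclicNormal

open Subgroup

universe u

variable {G : Type u} [Group G] [Finite G] {p : ℕ} [hp : Fact p.Prime] {q : ℕ} {u : G}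

theorem conj_zpow_int {g : G} {k : ℤ} (h : g * u * g⁻¹ = u ^ k) (i : ℤ) :
    g * u ^ i * g⁻¹ = u ^ (k * i) := by
  rw [← conj_zpow, h, ← zpow_mul]

theorem conj_iter_int {g : G} {k : ℤ} (h : g * u * g⁻¹ = u ^ k) (i : ℕ) :
    g ^ i * u * (g ^ i)⁻¹ = u ^ (k ^ i) := by
  induction i with
  | zero => simp
  | succ i ih =>
    calc g ^ (i + 1) * u * (g ^ (i + 1))⁻¹ = g * (g ^ i * u * (g ^ i)⁻¹) * g⁻¹ := by
          rw [pow_succ']; group
      _ = u ^ (k ^ (i + 1)) := by rw [ih, conj_zpow_int h, pow_succ']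

theorem closure_normal {S : Set G} (h : ∀ x ∈ S, ∀ g : G, g * x * g⁻¹ ∈ S) :
    (closure S).Normal :=
  ⟨fun v hv g => ((closure_le ((closure S).comap (MulAut.conj g).toMonoidHom)).mpr
    fun x hx => subset_closure (h x hx g)) hv⟩

/-- Powers of `u ^ i * y` when `y` moves `u` by a power of order `p`. -/
theorem mul_pow_formula (hu : orderOf u = p ^ (q + 2)) {y : G} {t : ℤ}
    (hy : y * u * y⁻¹ = u ^ (1 + (p : ℤ) ^ (q + 1) * t)) (i : ℤ) (e : ℕ) :
    (u ^ i * y) ^ e =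
      u ^ ((e : ℤ) * i + (p : ℤ) ^ (q + 1) * t * i * (e.choose 2 : ℕ)) * y ^ e := by
  induction e with
  | zero => simp
  | succ e ih =>
    rw [pow_succ, ih]
    have key : ∀ e : ℕ, ∃ c : ℤ, (1 + (p : ℤ) ^ (q + 1) * t) ^ e =
        1 + (p : ℤ) ^ (q + 1) * t * e + (p : ℤ) ^ (q + 2) * c := by
      intro e
      induction e with
      | zero => exact ⟨0, by simp⟩
      | succ e ihe =>
        obtain ⟨c, hc⟩ := ihe
        refine ⟨c + (p : ℤ) ^ q * t ^ 2 * e + (p : ℤ) ^ (q + 1) * t * c, ?_⟩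
        rw [pow_succ, hc]; push_cast; ring
    obtain ⟨c, hc⟩ := key e
    have h1 : y ^ e * u ^ i * (y ^ e)⁻¹ = u ^ ((1 + (p : ℤ) ^ (q + 1) * t * e) * i) := by
      rw [← conj_zpow, conj_iter_int hy, ← zpow_mul, zpow_eq_zpow_iff_dvd hu]
      exact ⟨c * i, by rw [hc]; push_cast; ring⟩
    calc u ^ ((e : ℤ) * i + (p : ℤ) ^ (q + 1) * t * i * (e.choose 2 : ℕ)) * y ^ e * (u ^ i * y)
        = u ^ ((e : ℤ) * i + (p : ℤ) ^ (q + 1) * t * i * (e.choose 2 : ℕ)) *
            (y ^ e * u ^ i * (y ^ e)⁻¹) * (y ^ e * y) := by group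
      _ = _ := by
        rw [h1, ← zpow_add, ← pow_succ, Nat.choose_succ_succ' e 1, Nat.choose_one_right]
        congr 2
        push_cast; ring

/-- Dihedral, generalized quaternion or semidihedral. -/
theorem two_group_of_index_two (hu : orderOf u = 2 ^ (q + 2)) (hidx : (zpowers u).index = 2)
    {g : G} (hg : g ∉ zpowers u) {k : ℤ} (hk : g * u * g⁻¹ = u ^ k)
    (hk1 : (2 : ℤ) ^ (q + 1) ∣ k + 1) (hk2 : ¬ (2 : ℤ) ^ (q + 2) ∣ k - 1) :
    Nat.card G = 2 ^ (q + 2 + 1) ∧ ((∃ m : ℕ, Nonempty (G ≃* DihedralGroup m)) ∨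
      (∃ m : ℕ, Nonempty (G ≃* QuaternionGroup m)) ∨ Cfsg.IsQuasiDihedral G) := by
  haveI : Fact (Nat.Prime 2) := ⟨Nat.prime_two⟩
  have hcard : Nat.card G = 2 ^ (q + 2 + 1) := by
    rw [← (zpowers u).card_mul_index, hidx, Nat.card_zpowers, hu, pow_succ 2 (q + 2)]
  refine ⟨hcard, ?_⟩
  have : (zpowers u).Normal := Subgroup.normal_of_index_eq_two hidx
  have hg2 : g * g ∈ zpowers u := mul_self_mem_of_index_two hidx g
  obtain ⟨m, hm⟩ := mem_zpowers_iff.mp hg2
  have hmk : u ^ (k * m) = u ^ m := by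
    rw [← conj_zpow_int hk, hm]; group
  rw [zpow_eq_zpow_iff_dvd hu] at hmk
  push_cast at hmk
  obtain ⟨c, hc⟩ := hk1
  have hz : (u ^ ((2 : ℤ) ^ (q + 1))) = u ^ (2 ^ (q + 1) : ℕ) := by
    rw [← zpow_natCast]; push_cast; rfl
  have hH : ∀ {A : Type} [Group A] [Finite A], Nonempty (↥(⊤ : Subgroup G) ≃* A) → Nonempty (G ≃* A) :=
    fun ⟨e⟩ => ⟨Subgroup.topEquiv.symm.trans e⟩
  rcases Int.even_or_odd' c with ⟨d, rfl | rfl⟩
  · -- inversion
    have hinv : g * u * g⁻¹ = u⁻¹ := by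
      rw [hk, ← zpow_neg_one, zpow_eq_zpow_iff_dvd hu]
      push_cast
      exact ⟨d, by linear_combination hc⟩
    obtain ⟨e, he⟩ := hmk
    have h2m : (2 : ℤ) ^ (q + 1) ∣ m := by
      have e1 : (k - 1) * m = 2 ^ (q + 2) * e := by linear_combination he
      refine ⟨d * m - e, ?_⟩
      have : (2 : ℤ) * m = 2 * (2 ^ (q + 1) * (d * m - e)) := by linear_combination hc * m - e1
      linarith
    obtain ⟨w, rfl⟩ := h2m
    rcases Int.even_or_odd' w with ⟨v, rfl | rfl⟩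
    · have hg1 : g * g = 1 := by
        rw [← hm, ← zpow_zero u, zpow_eq_zpow_iff_dvd hu]
        push_cast; exact ⟨v, by ring⟩
      refine Or.inl ⟨2 ^ (q + 2), hH ?_⟩
      haveI : NeZero (2 ^ (q + 2)) := ⟨by positivity⟩
      exact Involutions.nonempty_mulEquiv_dihedral (by rw [Subgroup.card_top, hcard, pow_succ']) (mem_top u)
        (mem_top g) hu hg1 hg hinv
    · refine Or.inr (Or.inl ⟨2 ^ (q + 1), hH ?_⟩)
      haveI : NeZero (2 ^ (q + 1)) := ⟨by positivity⟩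
      refine Involutions.nonempty_mulEquiv_quaternion
        (by rw [Subgroup.card_top, hcard, pow_succ', pow_succ']; ring) (mem_top u)
        (mem_top g) (by rw [hu, pow_succ']) ?_ hg hinv
      rw [← hm, zpow_eq_zpow_iff_dvd hu]
      push_cast; exact ⟨v, by ring⟩
  · -- semidihedral
    rcases q with _ | q
    · exact absurd (show (2 : ℤ) ^ (0 + 2) ∣ k - 1 from ⟨d, by norm_num at hc ⊢; linear_combination hc⟩) hk2
    obtain ⟨e, he⟩ := hmk
    have h2m : (2 : ℤ) ^ (q + 2) ∣ m := by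
      have e1 : (k - 1) * m = 2 ^ (q + 1 + 2) * e := by linear_combination he
      have e2 : m * (2 ^ (q + 1) * (2 * d + 1) - 1) = 2 ^ (q + 2) * e := by
        have : (2 : ℤ) * (m * (2 ^ (q + 1) * (2 * d + 1) - 1)) = 2 * (2 ^ (q + 2) * e) := by
          linear_combination e1 - hc * m
        linarith
      refine IsCoprime.dvd_of_dvd_mul_right (IsCoprime.pow_left ?_) ⟨e, e2⟩
      exact ⟨2 ^ q * (2 * d + 1), -1, by ring⟩
    obtain ⟨w, rfl⟩ := h2m
    refine Or.inr (Or.inr ⟨q + 3, by omega, by rw [hcard], ?_⟩)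
    have hk' : ∀ s : ℤ, u ^ s * g * u * (u ^ s * g)⁻¹ = u ^ (2 ^ (q + 3 - 1) - 1 : ℕ) := fun s => by
      rw [show u ^ s * g * u * (u ^ s * g)⁻¹ = u ^ s * (g * u * g⁻¹) * (u ^ s)⁻¹ by group, hk,
        ← zpow_add, ← zpow_neg, ← zpow_add, ← zpow_natCast, zpow_eq_zpow_iff_dvd hu,
        Nat.cast_sub Nat.one_le_two_pow]
      push_cast
      exact ⟨d, by linear_combination hc⟩
    have hsq : ∀ s : ℤ, (u ^ s * g) ^ 2 = u ^ (s + k * s + 2 ^ (q + 2) * w) := fun s => by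
      rw [zpow_add, zpow_add, hm, ← conj_zpow_int hk, pow_two]; group
    have hns : ∀ s : ℤ, u ^ s * g ≠ 1 := fun s h => hg (by
      rw [eq_inv_of_mul_eq_one_right h]; exact inv_mem (zpow_mem (mem_zpowers u) s))
    refine ⟨u, u ^ w * g, by rw [hu], orderOf_eq_prime ?_ (hns w), hk' w⟩
    rw [hsq, ← zpow_zero u, zpow_eq_zpow_iff_dvd hu]
    push_cast
    exact ⟨w * (d + 1), by linear_combination hc * w⟩

/-- The subgroup generated by the elements of order `p`. -/
theorem omega_part (hG : IsPGroup p G) (hu : orderOf u = p ^ (q + 2)) (k : G → ℤ)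
    (hk : ∀ g, g * u * g⁻¹ = u ^ k g) (hexc : ¬ (p = 2 ∧ q = 0)) (M : Subgroup G)
    (hM : ∀ g : G, g ∈ M ↔ (p : ℤ) ^ (q + 1) ∣ k g - 1) (hMn : M.Normal) (hUM : zpowers u ≤ M)
    (hrel : (zpowers u).relIndex M = p) [(zpowers u).Normal] {y0 : G}
    (hdec : ∀ m ∈ M, ∃ j : ℕ, m * (y0 ^ j)⁻¹ ∈ zpowers u) (hy0M : y0 ∈ M) (hy0U : y0 ∉ zpowers u)
    {t : ℤ} (ht : k y0 - 1 = (p : ℤ) ^ (q + 1) * t) (htp : ¬ (p : ℤ) ∣ t)
    (hy0 : y0 * u * y0⁻¹ = u ^ (1 + (p : ℤ) ^ (q + 1) * t)) :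
    Cfsg.IsElementaryAbelian p (Cfsg.omegaOne p M) ∧ Nat.card ↥(Cfsg.omegaOne p M) = p ^ 2 ∧
      (Cfsg.omegaOne p M).Characteristic := by
  have hpz : (p : ℤ) ≠ 0 := by exact_mod_cast hp.out.ne_zero
  -- an element of order `p`
  have hy0p : y0 ^ p ∈ zpowers u := by
    have := ((zpowers u).subgroupOf M).pow_index_mem ⟨y0, hy0M⟩
    rw [show ((zpowers u).subgroupOf M).index = p from hrel] at this
    exact this
  obtain ⟨m, hm⟩ := mem_zpowers_iff.mp hy0p
  obtain ⟨m', hm'⟩ : (p : ℤ) ∣ m := by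
    have h1 : u ^ (k y0 * m) = u ^ m := by
      rw [← conj_zpow_int (hk y0), hm]; group
    obtain ⟨e, he⟩ := (zpow_eq_zpow_iff_dvd hu _ _).mp h1
    push_cast at he
    have h2 : (p : ℤ) ∣ t * m := ⟨e, mul_left_cancel₀ (pow_ne_zero (q + 1) hpz) (by
      linear_combination he - m * ht)⟩
    exact ((Int.prime_iff_natAbs_prime.mpr (by simpa using hp.out)).dvd_or_dvd h2).resolve_left htp
  obtain ⟨C2, hC2⟩ : ∃ C2 : ℤ, (p : ℤ) ^ (q + 1) * ((p.choose 2 : ℕ) : ℤ) = (p : ℤ) * C2 :=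
    ⟨(p : ℤ) ^ q * (p.choose 2 : ℕ), by ring⟩
  have hcop : ∀ t' : ℤ, IsCoprime (1 + t' * C2) ((p : ℤ) ^ (q + 1)) := fun t' => by
    have hC2p : (p : ℤ) ∣ C2 := by
      have e : C2 = (p : ℤ) ^ q * (p.choose 2 : ℕ) := mul_left_cancel₀ hpz (by linear_combination -hC2)
      rw [e]
      rcases Nat.eq_zero_or_pos q with h0 | h0
      · refine dvd_mul_of_dvd_right (Int.natCast_dvd_natCast.mpr (hp.out.dvd_choose_self two_ne_zero ?_)) _
        exact lt_of_le_of_ne hp.out.two_le fun h => hexc ⟨h.symm, h0⟩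
      · exact dvd_mul_of_dvd_left (dvd_pow_self _ (by omega)) _
    obtain ⟨w, hw⟩ := hC2p
    exact IsCoprime.pow_right ⟨1, -(t' * w), by rw [hw]; ring⟩
  obtain ⟨a, b, hab⟩ := hcop t
  set y := u ^ (-m' * a) * y0 with hydef
  have hyp : y ^ p = 1 := by
    rw [hydef, mul_pow_formula hu hy0, ← hm, ← zpow_add, ← zpow_zero u, zpow_eq_zpow_iff_dvd hu]
    push_cast
    exact ⟨m' * b, by linear_combination hm' - t * m' * a * hC2 - (p : ℤ) * m' * hab⟩
  have hyconj : y * u * y⁻¹ = u ^ (1 + (p : ℤ) ^ (q + 1) * t) := by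
    rw [← hy0, hydef, show u ^ (-m' * a) * y0 * u * (u ^ (-m' * a) * y0)⁻¹ =
      u ^ (-m' * a) * (y0 * u * y0⁻¹) * (u ^ (-m' * a))⁻¹ by group, hy0, ← zpow_add, ← zpow_neg, ← zpow_add]
    congr 1; ring
  have hyM : y ∈ M := mul_mem (hUM (zpow_mem (mem_zpowers u) _)) hy0M
  have hyU : y ∉ zpowers u := fun h => hy0U (by
    have := mul_mem (inv_mem (zpow_mem (mem_zpowers u) (-m' * a))) h
    rwa [hydef, inv_mul_cancel_left] at this)
  set z := u ^ ((p : ℤ) ^ (q + 1)) with hzdef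
  have hzp : z ^ p = 1 := by
    rw [hzdef, ← zpow_natCast, ← zpow_mul, ← zpow_zero u, zpow_eq_zpow_iff_dvd hu]
    push_cast; exact ⟨1, by ring⟩
  have hz1 : z ≠ 1 := fun h => by
    rw [hzdef, ← zpow_zero u, zpow_eq_zpow_iff_dvd hu, sub_zero] at h
    push_cast at h
    obtain ⟨e, he⟩ := h
    have : (p : ℤ) ∣ 1 := ⟨e, mul_left_cancel₀ (pow_ne_zero (q + 1) hpz) (by linear_combination he)⟩
    exact hp.out.not_dvd_one (by exact_mod_cast this)
  have hzM : z ∈ M := hUM (zpow_mem (mem_zpowers u) _)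
  have hzy : Commute y z := by
    show y * z = z * y
    rw [← mul_inv_eq_iff_eq_mul, hzdef, conj_zpow_int hyconj, zpow_eq_zpow_iff_dvd hu]
    push_cast
    exact ⟨(p : ℤ) ^ q * t, by ring⟩
  set V := closure ({z, y} : Set G) with hVdef
  have hzV : z ∈ V := subset_closure (Set.mem_insert z {y})
  have hyV : y ∈ V := subset_closure (Set.mem_insert_of_mem z (Set.mem_singleton y))
  have hVc : IsMulCommutative V := by
    refine Subgroup.isMulCommutative_closure ?_
    rintro _ (rfl | rfl) _ (rfl | rfl)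
    exacts [rfl, hzy.eq.symm, hzy.eq, rfl]
  have hVexp : ∀ v ∈ V, v ^ p = 1 := by
    intro v hv
    refine closure_induction (p := fun v _ => v ^ p = 1) ?_ (one_pow p) ?_ ?_ hv
    · rintro _ (rfl | rfl) <;> assumption
    · intro a b ha hb ha' hb'
      have : Commute a b := congrArg Subtype.val (hVc.is_comm.comm ⟨a, ha⟩ ⟨b, hb⟩)
      rw [this.mul_pow, ha', hb', one_mul]
    · intro a _ ha'; rw [inv_pow, ha', inv_one]
  -- decomposition along `y`
  have hdec' : ∀ x ∈ M, ∃ (i : ℤ) (j : ℕ), x = u ^ i * y ^ j := by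
    intro x hx
    obtain ⟨j, hj⟩ := hdec x hx
    have hyj : ∀ e : ℕ, y0 ^ e * (y ^ e)⁻¹ ∈ zpowers u := by
      intro e
      rw [hydef, mul_pow_formula hu hy0, mul_inv_rev, ← mul_assoc, mul_inv_cancel, one_mul]
      exact inv_mem (zpow_mem (mem_zpowers u) _)
    have := mul_mem hj (hyj j)
    rw [mul_assoc, inv_mul_cancel_left] at this
    obtain ⟨i, hi⟩ := mem_zpowers_iff.mp this
    exact ⟨i, j, by rw [hi, inv_mul_cancel_right]⟩
  have hmem : ∀ x : G, x ∈ M → x ^ p = 1 → x ∈ V := by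
    intro x hx hxp
    obtain ⟨i, j, rfl⟩ := hdec' x hx
    have hyj : y ^ j * u * (y ^ j)⁻¹ = u ^ (1 + (p : ℤ) ^ (q + 1) * (t * j)) := by
      have := mul_pow_formula hu hyconj (0 : ℤ) j
      rw [conj_iter_int hyconj, zpow_eq_zpow_iff_dvd hu]
      have key : ∀ e : ℕ, (p : ℤ) ^ (q + 2) ∣ (1 + (p : ℤ) ^ (q + 1) * t) ^ e - (1 + (p : ℤ) ^ (q + 1) * (t * e)) := by
        intro e
        induction e with
        | zero => simp
        | succ e ihe =>
          obtain ⟨c, hc⟩ := ihe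
          exact ⟨c + (p : ℤ) ^ q * t ^ 2 * e + (p : ℤ) ^ (q + 1) * t * c, by
            push_cast; linear_combination (1 + (p : ℤ) ^ (q + 1) * t) * hc⟩
      push_cast
      exact key j
    rw [mul_pow_formula hu hyj, ← pow_mul, mul_comm j p, pow_mul, hyp, one_pow, mul_one,
      ← zpow_zero u, zpow_eq_zpow_iff_dvd hu, sub_zero] at hxp
    push_cast at hxp
    have hi : (p : ℤ) ^ (q + 1) ∣ i := by
      refine IsCoprime.dvd_of_dvd_mul_right (hcop (t * j)).symm ?_
      obtain ⟨e, he⟩ := hxp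
      exact ⟨e, mul_left_cancel₀ hpz (by linear_combination he - t * j * i * hC2)⟩
    obtain ⟨e, rfl⟩ := hi
    rw [zpow_mul]
    show z ^ e * y ^ j ∈ V
    exact V.mul_mem (V.zpow_mem hzV e) (V.pow_mem hyV j)
  have hVM : V ≤ M := (closure_le _).mpr (Set.insert_subset hzM (Set.singleton_subset_iff.mpr hyM))
  have hom : Cfsg.omegaOne p M = V :=
    le_antisymm ((closure_le _).mpr fun x hx => hmem x hx.1 hx.2)
      (fun v hv => subset_closure ⟨hVM hv, hVexp v hv⟩)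
  rw [hom]
  have hVcard : Nat.card V = p ^ 2 := by
    have hZV : zpowers z ≤ V := zpowers_le.mpr hzV
    have hzn : (zpowers z).subgroupOf V ≠ ⊤ := fun h => hyU <| by
      have hy : y ∈ zpowers z := Subgroup.subgroupOf_eq_top.mp h hyV
      exact zpowers_le.mpr (zpow_mem (mem_zpowers u) _) hy
    have hle : Nat.card V ≤ p ^ 2 := by
      let f : Fin p × Fin p → V := fun x => ⟨z ^ (x.1 : ℕ) * y ^ (x.2 : ℕ),
        V.mul_mem (V.pow_mem hzV _) (V.pow_mem hyV _)⟩
      have hf : Function.Surjective f := by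
        rintro ⟨v, hv⟩
        have hv' : v ∈ zpowers z ⊔ zpowers y := by
          rw [zpowers_eq_closure, zpowers_eq_closure, ← Subgroup.closure_union, ← Set.insert_eq]; exact hv
        haveI : (zpowers y).Normal ∨ True := Or.inr trivial
        have hmemW : ∀ v ∈ closure ({z, y} : Set G), ∃ a b : ℕ, v = z ^ a * y ^ b := by
          intro v hv
          refine closure_induction (p := fun v _ => ∃ a b : ℕ, v = z ^ a * y ^ b) ?_ ⟨0, 0, by simp⟩ ?_ ?_ hv
          · rintro _ (rfl | rfl)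
            · exact ⟨1, 0, by simp⟩
            · exact ⟨0, 1, by simp⟩
          · rintro _ _ _ _ ⟨a, b, rfl⟩ ⟨a', b', rfl⟩
            refine ⟨a + a', b + b', ?_⟩
            rw [pow_add, pow_add]
            simp only [mul_assoc]
            rw [← mul_assoc (y ^ b), (hzy.pow_pow b a').eq, mul_assoc]
          · rintro _ _ ⟨a, b, rfl⟩
            refine ⟨a * (p - 1), b * (p - 1), ?_⟩
            apply inv_eq_of_mul_eq_one_right
            have e : ∀ x : G, x ^ p = 1 → ∀ a : ℕ, x ^ a * x ^ (a * (p - 1)) = 1 := fun x hx a => by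
              rw [← pow_add, show a + a * (p - 1) = p * a by
                obtain ⟨r, hr⟩ := Nat.exists_eq_add_of_le' hp.out.pos
                rw [hr, Nat.add_sub_cancel]; ring, pow_mul, hx, one_pow]
            rw [mul_assoc, ← mul_assoc (y ^ b), (hzy.pow_pow b _).eq, mul_assoc, e y hyp b, mul_one, e z hzp a]
        obtain ⟨a, b, rfl⟩ := hmemW v hv
        refine ⟨(⟨a % p, Nat.mod_lt _ hp.out.pos⟩, ⟨b % p, Nat.mod_lt _ hp.out.pos⟩), Subtype.ext ?_⟩
        show z ^ (a % p) * y ^ (b % p) = _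
        rw [← pow_eq_pow_mod a hzp, ← pow_eq_pow_mod b hyp]
      calc Nat.card V ≤ Nat.card (Fin p × Fin p) := Nat.card_le_card_of_surjective f hf
        _ = p ^ 2 := by rw [Nat.card_prod, Nat.card_fin, pow_two]
    refine le_antisymm hle ?_
    rw [← ((zpowers z).subgroupOf V).index_mul_card, Nat.card_congr (subgroupOfEquivOfLe hZV).toEquiv,
      Nat.card_zpowers, orderOf_eq_prime hzp hz1, pow_two]
    refine Nat.mul_le_mul_right _ ?_
    obtain ⟨j, hj⟩ := (hG.to_subgroup V).index ((zpowers z).subgroupOf V)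
    rw [hj]
    rcases j with _ | j
    · exact absurd (index_eq_one.mp hj) hzn
    · exact Nat.le_self_pow (Nat.succ_ne_zero _) p
  refine ⟨⟨hVc, hVexp⟩, hVcard, characteristic_iff_map_le.mpr fun φ => ?_⟩
  have hVn : V.Normal := by
    rw [← hom]
    exact closure_normal fun x hx g => ⟨hMn.conj_mem _ hx.1 g, by rw [conj_pow, hx.2]; simp⟩
  have hWn : (V.map φ.toMonoidHom).Normal := hVn.map _ φ.surjective
  rintro _ ⟨v, hv, rfl⟩
  have hwp : φ.toMonoidHom v ^ p = 1 := by rw [← map_pow, hVexp v hv, map_one]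
  refine hmem _ ?_ hwp
  set w := φ.toMonoidHom v
  obtain ⟨v', hv', hv'e⟩ : w * u * w⁻¹ * u⁻¹ ∈ V.map φ.toMonoidHom := by
    have h1 : w ∈ V.map φ.toMonoidHom := mem_map_of_mem _ hv
    have := mul_mem h1 (hWn.conj_mem _ (inv_mem h1) u)
    rwa [show w * (u * w⁻¹ * u⁻¹) = w * u * w⁻¹ * u⁻¹ by group] at this
  have h2 : (w * u * w⁻¹ * u⁻¹) ^ p = 1 := by
    rw [← hv'e, ← map_pow, hVexp v' hv', map_one]
  rw [hk, ← zpow_neg_one, ← zpow_add, ← zpow_natCast, ← zpow_mul, ← zpow_zero u,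
    zpow_eq_zpow_iff_dvd hu, sub_zero] at h2
  push_cast at h2
  rw [hM]
  rw [pow_succ, ← sub_eq_add_neg] at h2
  exact (Int.mul_dvd_mul_iff_right hpz).mp h2

/-- The general statement. -/
theorem main (hG : IsPGroup p G) (hna : ¬ IsMulCommutative G) (U : Subgroup G) [U.Normal]
    (hU : IsCyclic U) (n : ℕ) (hUn : Nat.card U = p ^ n) (hC : centralizer (U : Set G) = U) :
    (p = 2 ∧ Nat.card G = 2 ^ (n + 1) ∧ ((∃ m : ℕ, Nonempty (G ≃* DihedralGroup m)) ∨
      (∃ m : ℕ, Nonempty (G ≃* QuaternionGroup m)) ∨ Cfsg.IsQuasiDihedral G)) ∨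
    (U.relIndex (centralizer (Cfsg.powerClosure p 1 U : Set G)) = p ∧
      Cfsg.IsElementaryAbelian p (Cfsg.omegaOne p (centralizer (Cfsg.powerClosure p 1 U : Set G))) ∧
      Nat.card ↥(Cfsg.omegaOne p (centralizer (Cfsg.powerClosure p 1 U : Set G))) = p ^ 2 ∧
      (Cfsg.omegaOne p (centralizer (Cfsg.powerClosure p 1 U : Set G))).Characteristic) := by
  obtain ⟨u, hu'⟩ := (Subgroup.isCyclic_iff_exists_zpowers_eq_top U).mp hU
  subst hu'
  have hu : orderOf u = p ^ n := by rw [← Nat.card_zpowers, hUn]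
  have hconj : ∀ g : G, ∃ k : ℤ, g * u * g⁻¹ = u ^ k := fun g => by
    obtain ⟨k, hk⟩ := mem_zpowers_iff.mp ((inferInstance : (zpowers u).Normal).conj_mem _ (mem_zpowers u) g)
    exact ⟨k, hk.symm⟩
  choose k hk using hconj
  have hmemU : ∀ g : G, ((p ^ n : ℕ) : ℤ) ∣ k g - 1 → g ∈ zpowers u := fun g hg => by
    rw [← zpow_eq_zpow_iff_dvd hu, zpow_one, ← hk, mul_inv_eq_iff_eq_mul] at hg
    rw [← hC]
    exact mem_centralizer_iff.mpr fun x hx => by
      obtain ⟨z, rfl⟩ := mem_zpowers_iff.mp hx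
      exact ((Commute.zpow_right (hg : Commute g u) z).eq).symm
  -- the exponents are congruent to one modulo `p`
  have hkp : 1 ≤ n → ∀ g : G, (p : ℤ) ∣ k g - 1 := fun hn g => by
    obtain ⟨e, he⟩ := hG g
    have h1 := conj_iter_int (hk g) (p ^ e)
    rw [he, one_mul, inv_one, mul_one] at h1
    have h2 := (zpow_eq_zpow_iff_dvd hu _ _).mp (h1.symm.trans (zpow_one u).symm)
    have h3 : (p : ℤ) ∣ k g ^ (p ^ e) - 1 :=
      dvd_trans (by exact_mod_cast dvd_pow_self p (by omega : n ≠ 0)) h2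
    have h4 := (ZMod.intCast_eq_intCast_iff_dvd_sub 1 (k g ^ (p ^ e)) p).mpr h3
    push_cast at h4
    rw [ZMod.pow_card_pow] at h4
    exact (ZMod.intCast_eq_intCast_iff_dvd_sub 1 (k g) p).mp (by push_cast; exact h4)
  have habel : ¬ ∀ g : G, g ∈ zpowers u := fun hall => hna ⟨⟨fun a b => by
    obtain ⟨i, rfl⟩ := mem_zpowers_iff.mp (hall a)
    obtain ⟨j, rfl⟩ := mem_zpowers_iff.mp (hall b)
    exact ((Commute.refl u).zpow_zpow i j).eq⟩⟩
  have hn2 : 2 ≤ n := by
    by_contra h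
    refine habel fun g => hmemU g ?_
    rcases (show n = 0 ∨ n = 1 by omega) with rfl | rfl
    · simp
    · simpa using hkp le_rfl g
  obtain ⟨q, rfl⟩ : ∃ q, n = q + 2 := ⟨n - 2, by omega⟩
  have hkp' := hkp (by omega)
  set M := centralizer (Cfsg.powerClosure p 1 (zpowers u) : Set G) with hMdef
  have hM : ∀ g : G, g ∈ M ↔ (p : ℤ) ^ (q + 1) ∣ k g - 1 := by
    intro g
    have h1 : Cfsg.powerClosure p 1 (zpowers u) = zpowers (u ^ (p : ℤ)) := by
      refine le_antisymm ((closure_le _).mpr ?_) (zpowers_le.mpr (subset_closure ⟨u, mem_zpowers u, ?_⟩))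
      · rintro _ ⟨x, hx, rfl⟩
        obtain ⟨z, rfl⟩ := mem_zpowers_iff.mp hx
        refine mem_zpowers_iff.mpr ⟨z, ?_⟩
        rw [pow_one, ← zpow_natCast (u ^ z) p, ← zpow_mul, ← zpow_mul, mul_comm]
      · rw [pow_one, zpow_natCast]
    rw [hMdef, h1, zpowers_eq_closure, centralizer_closure, mem_centralizer_singleton_iff]
    rw [← mul_inv_eq_iff_eq_mul, conj_zpow_int (hk g), zpow_eq_zpow_iff_dvd hu]
    push_cast
    rw [pow_succ _ (q + 1), show k g * (p : ℤ) - (p : ℤ) = (k g - 1) * p by ring]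
    exact Int.mul_dvd_mul_iff_right (by exact_mod_cast hp.out.ne_zero)
  have hUM : zpowers u ≤ M := fun g hg => by
    rw [hM]
    have h1 : u ^ k g = u ^ (1 : ℤ) := by
      rw [← hk, zpow_one]
      obtain ⟨z, rfl⟩ := mem_zpowers_iff.mp hg
      rw [((Commute.refl u).zpow_left z).eq, mul_inv_cancel_right]
    have h2 := (zpow_eq_zpow_iff_dvd hu _ _).mp h1
    push_cast at h2
    exact dvd_trans (pow_dvd_pow _ (by omega)) h2
  have hkU : ∀ g, g ∈ zpowers u → ((p ^ (q + 2) : ℕ) : ℤ) ∣ k g - 1 := fun g hg => by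
    rw [← zpow_eq_zpow_iff_dvd hu, zpow_one, ← hk]
    obtain ⟨z, rfl⟩ := mem_zpowers_iff.mp hg
    rw [((Commute.refl u).zpow_left z).eq, mul_inv_cancel_right]
  have kmul : ∀ g h : G, ((p ^ (q + 2) : ℕ) : ℤ) ∣ k (g * h) - k g * k h := fun g h => by
    rw [← zpow_eq_zpow_iff_dvd hu, ← hk, ← conj_zpow_int (hk g), ← hk]
    group
  by_cases hexc : p = 2 ∧ q = 0
  · obtain ⟨rfl, rfl⟩ := hexc
    refine Or.inl ⟨rfl, ?_⟩
    obtain ⟨g, hg⟩ := not_forall.mp habel
    have hall : ∀ h, h ∉ zpowers u → (4 : ℤ) ∣ k h + 1 := fun h hh => by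
      obtain ⟨a, ha⟩ := hkp' h
      rcases Int.even_or_odd' a with ⟨b, rfl | rfl⟩
      · exact absurd (hmemU h ⟨b, by push_cast at ha ⊢; linear_combination ha⟩) hh
      · exact ⟨b + 1, by push_cast at ha; linear_combination ha⟩
    have hidx : (zpowers u).index = 2 := by
      refine index_eq_two_iff'.mpr ⟨g, fun h => ?_⟩
      by_cases hh : h ∈ zpowers u
      · exact Or.inr ⟨hh, fun h' => hg ((mul_mem_cancel_right hh).mp h')⟩
      · refine Or.inl ⟨hmemU _ ?_, hh⟩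
        obtain ⟨a, ha⟩ := hall g hg
        obtain ⟨b, hb⟩ := hall h hh
        obtain ⟨c, hc⟩ := kmul g h
        exact ⟨c + a * (k h) - b, by push_cast at hc ⊢; linear_combination hc + k h * ha - hb⟩
    exact two_group_of_index_two hu hidx hg (hk g)
      (by exact dvd_trans (by norm_num) (hall g hg)) (fun h => hg (hmemU g (by push_cast; exact h)))
  by_cases hMU : M ≤ zpowers u
  · -- only minus one remains
    obtain ⟨g0, hg0⟩ := not_forall.mp habel
    obtain ⟨g, hg, hgp⟩ : ∃ g : G, g ∉ zpowers u ∧ g ^ p ∈ zpowers u := by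
      obtain ⟨e, he⟩ := hG g0
      induction e generalizing g0 with
      | zero => rw [pow_zero, pow_one] at he; exact absurd (he ▸ one_mem _) hg0
      | succ e ihe =>
        by_cases h : g0 ^ p ∈ zpowers u
        · exact ⟨g0, hg0, h⟩
        · exact ihe _ h (by rw [← pow_mul, ← pow_succ']; exact he)
    have hpk : ∀ h, h ^ p ∈ zpowers u → (p : ℤ) ^ (q + 2) ∣ k h ^ p - 1 := fun h hh => by
      have h1 : u ^ (k h ^ p) = u ^ (1 : ℤ) := by
        rw [← conj_iter_int (hk h), zpow_one]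
        obtain ⟨z, hz⟩ := mem_zpowers_iff.mp hh
        rw [← hz, ((Commute.refl u).zpow_left z).eq, mul_inv_cancel_right]
      have h2 := (zpow_eq_zpow_iff_dvd hu _ _).mp h1
      push_cast at h2
      exact h2
    by_cases hp2 : p = 2
    swap
    · exfalso
      refine hg (hMU ((hM g).mpr ?_))
      have h2 := hpk g hgp
      obtain ⟨r, hr⟩ : ∃ r : ℕ, ((p ^ (q + 2) : ℕ) : ℤ) ∣ k g - (1 + r : ℕ) := by
        refine ⟨((k g - 1) % ((p ^ (q + 2) : ℕ) : ℤ)).toNat, (k g - 1) / ((p ^ (q + 2) : ℕ) : ℤ), ?_⟩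
        have hpos : ((p ^ (q + 2) : ℕ) : ℤ) ≠ 0 := by exact_mod_cast (pow_pos hp.out.pos _).ne'
        rw [Nat.cast_add, Nat.cast_one, Int.toNat_of_nonneg (Int.emod_nonneg _ hpos), Int.emod_def]
        ring
      push_cast at hr
      have hr1 : (p : ℤ) ∣ (r : ℤ) := by
        have := dvd_sub (hkp' g) (dvd_trans (dvd_pow_self (p : ℤ) (by omega)) hr)
        simpa using this
      have hx : ((1 + r : ℕ) : ZMod p) = 1 := by
        rw [Nat.cast_add, Nat.cast_one, (ZMod.natCast_eq_zero_iff r p).mpr (by exact_mod_cast hr1), add_zero]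
      obtain ⟨v, hv⟩ := Metacyclic.gsum_prime hp2 hx
      have h3 : (p : ℤ) ^ (q + 2) ∣ (1 + r : ℤ) ^ p - 1 := by
        have h4 := (dvd_trans hr (sub_dvd_pow_sub_pow (k g) (1 + r : ℤ) p))
        have := dvd_sub h2 h4
        rwa [sub_sub_sub_cancel_left] at this
      have h4 : (1 + r : ℤ) ^ p - 1 = (p : ℤ) * ((r : ℤ) * (1 + (p : ℤ) * v)) := by
        have := congrArg (fun k : ℕ => (k : ℤ)) (Metacyclic.pow_eq_one_add r p)
        simp only [hv] at this
        push_cast at this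
        rw [this]; ring
      rw [h4, pow_succ'] at h3
      have h5 := (Int.mul_dvd_mul_iff_left (by exact_mod_cast hp.out.ne_zero)).mp h3
      have h6 : (p : ℤ) ^ (q + 1) ∣ (r : ℤ) :=
        IsCoprime.dvd_of_dvd_mul_right (IsCoprime.pow_left ⟨-(v : ℤ), 1, by ring⟩) h5
      have := dvd_add (dvd_trans (pow_dvd_pow _ (by omega : q + 1 ≤ q + 2)) hr) h6
      rwa [show k g - (1 + (r : ℤ)) + r = k g - 1 by ring] at this
    subst hp2
    obtain ⟨q, rfl⟩ : ∃ q', q = q' + 1 := ⟨q - 1, by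
      have : q ≠ 0 := fun h => hexc ⟨rfl, h⟩
      omega⟩
    push_cast at hM hkp' kmul
    have hinv : ∀ h, h ∉ zpowers u → h ^ 2 ∈ zpowers u → (2 : ℤ) ^ (q + 2) ∣ k h + 1 := fun h hh hh2 => by
      have h2 := hpk h hh2
      push_cast at h2
      obtain ⟨a, ha⟩ := hkp' h
      have h3 : (2 : ℤ) ^ (q + 1) ∣ a * (a + 1) := by
        obtain ⟨e, he⟩ := h2
        exact ⟨e, mul_left_cancel₀ (by norm_num : (4 : ℤ) ≠ 0)
          (by linear_combination he - (k h + 2 * a + 1) * ha)⟩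
      rcases Int.even_or_odd' a with ⟨b, rfl | rfl⟩
      · exfalso
        have h4 : (2 : ℤ) ^ (q + 1) ∣ 2 * b :=
          IsCoprime.dvd_of_dvd_mul_right (IsCoprime.pow_left ⟨-b, 1, by ring⟩) h3
        obtain ⟨e, he⟩ := h4
        exact hh (hMU ((hM h).mpr ⟨e, by linear_combination ha + 2 * he⟩))
      · have h4 : (2 : ℤ) ^ (q + 1) ∣ 2 * b + 1 + 1 :=
          IsCoprime.dvd_of_dvd_mul_left (IsCoprime.pow_left ⟨-b, 1, by ring⟩) h3
        obtain ⟨e, he⟩ := h4
        exact ⟨e, by linear_combination ha + 2 * he⟩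
    have hkg := hinv g hg hgp
    have hsame : ∀ h, h ∉ zpowers u → h ^ 2 ∈ zpowers u → g * h ∈ zpowers u := fun h hh hh2 => by
      refine hMU ((hM _).mpr ?_)
      obtain ⟨a, ha⟩ := hkg
      obtain ⟨b, hb⟩ := hinv h hh hh2
      obtain ⟨c, hc⟩ := kmul g h
      exact ⟨2 * c + a * k h - b, by linear_combination hc + k h * ha - hb⟩
    have hsq : ∀ h : G, h ^ 2 ∈ zpowers u := by
      by_contra! hcon
      obtain ⟨h, hh⟩ := hcon
      obtain ⟨e, he⟩ := hG h
      induction e generalizing h with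
      | zero => rw [pow_zero, pow_one] at he; exact hh (he ▸ by simp [one_mem])
      | succ e ihe =>
        by_cases h4 : (h ^ 2) ^ 2 ∈ zpowers u
        · have h5 := hsame _ hh h4
          obtain ⟨c, hc⟩ := kmul g (h ^ 2)
          obtain ⟨c', hc'⟩ := kmul h h
          obtain ⟨a, ha⟩ := hkg
          have h6 := hkU _ h5
          push_cast at h6
          obtain ⟨d, hd⟩ := h6
          rw [← pow_two] at hc'
          obtain ⟨b, hb⟩ := hkp' h
          -- a square cannot be minus one modulo four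
          have : (4 : ℤ) ∣ 2 := ⟨2 ^ q * (a * k (h ^ 2) + 2 * c - 2 * c' - 2 * d) - b * b - b, by
            linear_combination k (h ^ 2) * ha + hc - hc' - hd - (k h + 1 + 2 * b) * hb⟩
          norm_num at this
        · exact ihe (h ^ 2) h4 (by rw [← pow_mul, ← pow_succ']; exact he)
    have hidx : (zpowers u).index = 2 := by
      refine index_eq_two_iff'.mpr ⟨g, fun h => ?_⟩
      by_cases hh : h ∈ zpowers u
      · exact Or.inr ⟨hh, fun h' => hg ((mul_mem_cancel_right hh).mp h')⟩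
      · exact Or.inl ⟨hsame h hh (hsq h), hh⟩
    exact Or.inl ⟨rfl, two_group_of_index_two hu hidx hg (hk g) hkg
      (fun h => hg (hmemU g (by push_cast; exact h)))⟩
  -- the case of index `p`
  refine Or.inr ?_
  obtain ⟨y0, hy0M, hy0U⟩ := SetLike.not_le_iff_exists.mp hMU
  obtain ⟨t, ht⟩ := (hM y0).mp hy0M
  have hy0 : y0 * u * y0⁻¹ = u ^ (1 + (p : ℤ) ^ (q + 1) * t) := by
    rw [hk, show k y0 = 1 + (p : ℤ) ^ (q + 1) * t by linarith]
  have htp : ¬ (p : ℤ) ∣ t := fun ⟨w, hw⟩ => hy0U (hmemU y0 ⟨w, by push_cast; rw [ht, hw]; ring⟩)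
  have hpz : (p : ℤ) ≠ 0 := by exact_mod_cast hp.out.ne_zero
  have hdec : ∀ m ∈ M, ∃ j : ℕ, m * (y0 ^ j)⁻¹ ∈ zpowers u := by
    intro m hm
    obtain ⟨a, ha⟩ := (hM m).mp hm
    obtain ⟨i, s, his⟩ := ((Int.prime_iff_natAbs_prime.mpr (by simpa using hp.out)).coprime_iff_not_dvd.mpr htp).symm
    set j := ((a * i) % (p : ℤ)).toNat with hj
    refine ⟨j, hmemU _ ?_⟩
    rw [← zpow_eq_zpow_iff_dvd hu, zpow_one, ← hk]
    have hinv : (y0 ^ j)⁻¹ * u * y0 ^ j = u ^ (1 - (p : ℤ) ^ (q + 1) * t * j) := by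
      have h1 := conj_iter_int hy0 j
      have key : ∀ e : ℕ, (p : ℤ) ^ (q + 2) ∣ (1 + (p : ℤ) ^ (q + 1) * t) ^ e - (1 + (p : ℤ) ^ (q + 1) * t * e) := by
        intro e
        induction e with
        | zero => simp
        | succ e ihe =>
          obtain ⟨c, hc⟩ := ihe
          exact ⟨c + (p : ℤ) ^ q * t ^ 2 * e + (p : ℤ) ^ (q + 1) * t * c, by
            push_cast; linear_combination (1 + (p : ℤ) ^ (q + 1) * t) * hc⟩
      have h2 : y0 ^ j * u ^ (1 - (p : ℤ) ^ (q + 1) * t * j) * (y0 ^ j)⁻¹ = u := by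
        rw [← conj_zpow, h1, ← zpow_mul]
        conv_rhs => rw [← zpow_one u]
        rw [zpow_eq_zpow_iff_dvd hu]
        obtain ⟨c, hc⟩ := key j
        exact ⟨c * (1 - (p : ℤ) ^ (q + 1) * t * j) - (p : ℤ) ^ q * t ^ 2 * j ^ 2, by
          push_cast; linear_combination (1 - (p : ℤ) ^ (q + 1) * t * j) * hc⟩
      conv_lhs => rw [← h2]
      group
    rw [show m * (y0 ^ j)⁻¹ * u * (m * (y0 ^ j)⁻¹)⁻¹ = m * ((y0 ^ j)⁻¹ * u * y0 ^ j) * m⁻¹ by group,
      hinv, conj_zpow_int (hk m)]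
    conv_rhs => rw [← zpow_one u]
    rw [zpow_eq_zpow_iff_dvd hu]
    have hjz : (j : ℤ) = (a * i) % (p : ℤ) := Int.toNat_of_nonneg (Int.emod_nonneg _ hpz)
    refine ⟨a * s + t * (a * i / (p : ℤ)) - (p : ℤ) ^ q * a * t * j, ?_⟩
    rw [Int.emod_def] at hjz
    push_cast
    rw [show k m = 1 + (p : ℤ) ^ (q + 1) * a by linarith]
    linear_combination -((p : ℤ) ^ (q + 1) * t) * hjz - (p : ℤ) ^ (q + 1) * a * his
  have hMn : M.Normal := by
    rw [hMdef]
    haveI : (Cfsg.powerClosure p 1 (zpowers u)).Normal := closure_normal fun x hx g => by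
      obtain ⟨w, hw, rfl⟩ := hx
      exact ⟨g * w * g⁻¹, (inferInstance : (zpowers u).Normal).conj_mem _ hw g, (conj_pow).symm⟩
    infer_instance
  have hrel : (zpowers u).relIndex M = p := by
    have hle : zpowers u ⊔ zpowers y0 = M := le_antisymm (sup_le hUM (zpowers_le.mpr hy0M)) fun m hm => by
      obtain ⟨j, hj⟩ := hdec m hm
      have := mul_mem_sup hj (pow_mem (mem_zpowers y0) j)
      rwa [inv_mul_cancel_right] at this
    have hy0p : y0 ^ p ∈ zpowers u := by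
      refine hmemU _ ?_
      rw [← zpow_eq_zpow_iff_dvd hu, zpow_one, ← hk]
      have h1 := conj_iter_int hy0 p
      rw [h1]
      conv_rhs => rw [← zpow_one u]
      rw [zpow_eq_zpow_iff_dvd hu]
      have hd : (p : ℤ) ^ (q + 2) ∣ (1 + (p : ℤ) ^ (q + 1) * t) ^ p - 1 := by
        have key : ∀ e : ℕ, (p : ℤ) ^ (q + 2) ∣ (1 + (p : ℤ) ^ (q + 1) * t) ^ e - (1 + (p : ℤ) ^ (q + 1) * t * e) := by
          intro e
          induction e with
          | zero => simp
          | succ e ihe =>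
            obtain ⟨c, hc⟩ := ihe
            exact ⟨c + (p : ℤ) ^ q * t ^ 2 * e + (p : ℤ) ^ (q + 1) * t * c, by
              push_cast; linear_combination (1 + (p : ℤ) ^ (q + 1) * t) * hc⟩
        obtain ⟨c, hc⟩ := key p
        exact ⟨c + t, by linear_combination hc⟩
      push_cast
      exact hd
    have hy0q : orderOf (QuotientGroup.mk y0 : G ⧸ zpowers u) = p := orderOf_eq_prime
      ((QuotientGroup.eq_one_iff _).mpr hy0p) fun h => hy0U ((QuotientGroup.eq_one_iff _).mp h)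
    have hker : (zpowers u).subgroupOf M = ((QuotientGroup.mk' (zpowers u)).comp M.subtype).ker := by
      ext x
      rw [mem_subgroupOf, MonoidHom.mem_ker]
      exact (QuotientGroup.eq_one_iff (x : G)).symm
    rw [Subgroup.relIndex, hker, Subgroup.index_ker, MonoidHom.range_comp, Subgroup.range_subtype, ← hle,
      Subgroup.map_sup, QuotientGroup.map_mk'_self, bot_sup_eq, MonoidHom.map_zpowers, Nat.card_zpowers]
    exact hy0q
  refine ⟨hrel, omega_part hG hu k hk hexc M hM hMn hUM hrel hdec hy0M hy0U ht htp hy0⟩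

end Cfsg.Agent.Lib.PGroups.CyclicNormal
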