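import Cfsg.Agent.Lib.PGroups.CyclicSylowKlein
import Cfsg.Agent.Lib.Characters.SmallDegreePrime
import Cfsg.Agent.Lib.Characters.Kernel
import Cfsg.Agent.Lib.Blocks.Exists
import Cfsg.Agent.S0182
import Cfsg.Agent.S0948
import Cfsg.Agent.S4479

/-!
Counting products of two involutions: no simple group is left in the configuration.
-/

set_option autoImplicit false

namespace Cfsg.Agent.Lib.PGroups.CyclicDichotomy

universe u

open scoped Pointwise

variable {G : Type u} [Group G] [Finite G] {p : ℕ} [Fact p.Prime]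

/-- `t` normalises `P` without centralising it. -/
def Rel (t : G) (P : Sylow p G) : Prop :=
  (∀ x ∈ (P : Subgroup G), t * x * t⁻¹ ∈ (P : Subgroup G)) ∧ ∃ x ∈ (P : Subgroup G), t * x ≠ x * t

/-- The elements centralising `P` of order divisible by `p`. -/
def wset (P : Sylow p G) : Set G := {g | (∀ x ∈ (P : Subgroup G), g * x = x * g) ∧ p ∣ orderOf g}

omit [Fact p.Prime] in
theorem mem_smul (g x : G) (P : Sylow p G) : x ∈ ((g • P : Sylow p G) : Subgroup G) ↔ g⁻¹ * x * g ∈ (P : Subgroup G) := by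
  rw [Sylow.coe_subgroup_smul, Subgroup.mem_pointwise_smul_iff_inv_smul_mem]
  simp [MulAut.conj_inv_apply]

omit [Fact p.Prime] in
theorem rel_conj {t : G} {P : Sylow p G} (g : G) (h : Rel t P) : Rel (g * t * g⁻¹) (g • P) := by
  obtain ⟨h1, x, hx, h2⟩ := h
  refine ⟨fun y hy => ?_, g * x * g⁻¹, ?_, fun h3 => h2 ?_⟩
  · rw [mem_smul] at hy ⊢
    have := h1 _ hy
    rwa [show g⁻¹ * (g * t * g⁻¹ * y * (g * t * g⁻¹)⁻¹) * g = t * (g⁻¹ * y * g) * t⁻¹ by group]
  · rw [mem_smul, show g⁻¹ * (g * x * g⁻¹) * g = x by group]; exact hx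
  · rw [show g * t * g⁻¹ * (g * x * g⁻¹) = g * (t * x) * g⁻¹ by group,
      show g * x * g⁻¹ * (g * t * g⁻¹) = g * (x * t) * g⁻¹ by group] at h3
    exact mul_left_cancel (mul_right_cancel h3)

omit [Fact p.Prime] in
theorem rel_conj_iff {t : G} {P : Sylow p G} (g : G) : Rel (g * t * g⁻¹) (g • P) ↔ Rel t P := by
  refine ⟨fun h => ?_, rel_conj g⟩
  have h1 := rel_conj g⁻¹ h
  rwa [inv_smul_smul, show g⁻¹ * (g * t * g⁻¹) * g⁻¹⁻¹ = t by group] at h1

omit [Finite G] in
theorem sq_one {t : G} (ht : orderOf t = 2) : t * t = 1 := by rw [← sq, ← ht, pow_orderOf_eq_one]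

omit [Finite G] in
theorem orderOf_conj (g x : G) : orderOf (g * x * g⁻¹) = orderOf x := by
  rw [show g * x * g⁻¹ = MulAut.conj g x from rfl, MulEquiv.orderOf_eq]

namespace Setup

variable (S : Setup G p)
include S

omit [Finite G] in
theorem not_dvd_two : ¬ p ∣ 2 := fun h => S.hp2 ((Nat.prime_dvd_prime_iff_eq Fact.out Nat.prime_two).mp h)

theorem comm_cent {P : Sylow p G} {g y : G} (hg : ∀ x ∈ (P : Subgroup G), g * x = x * g)
    (hy : ∀ x ∈ (P : Subgroup G), y * x = x * y) : g * y = y * g := by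
  obtain ⟨z, hzo⟩ := exists_prime_orderOf_dvd_card' p S.hdvd
  obtain ⟨P₁, hzP₁⟩ := exists_sylow_mem (p := p) (k := 1) (by rw [hzo, pow_one])
  obtain ⟨h, rfl⟩ := MulAction.exists_smul_eq G P₁ P
  set z' := h * z * h⁻¹
  have hz' : z' ∈ ((h • P₁ : Sylow p G) : Subgroup G) := by
    rw [mem_smul, show h⁻¹ * (h * z * h⁻¹) * h = z by group]; exact hzP₁
  have hz'o : orderOf z' = p := (orderOf_conj h z).trans hzo
  have hP : ∀ (u : G) (n : ℕ), (∀ x ∈ ((h • P₁ : Sylow p G) : Subgroup G), u * x = x * u) →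
      ∀ (q k : ℕ), q.Prime → orderOf (u ^ n) = q ^ k → p ∣ orderOf (u ^ n) →
        u ^ n ∈ ((h • P₁ : Sylow p G) : Subgroup G) := by
    intro u n hu q k hq hqk hd
    rw [hqk] at hd
    obtain rfl : p = q := (Nat.prime_dvd_prime_iff_eq Fact.out hq).mp ((Fact.out : p.Prime).dvd_of_dvd_pow hd)
    exact mem_of_normalizer_pgroup _ (pow_mem (S.mem_normalizer hz' hz'o (hu z' hz')) n) hqk
  refine Subgroup.mem_centralizer_singleton_iff.mp (ClassGraph.mem_of_parts _ g fun n q k hq hqk =>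
    Subgroup.mem_centralizer_singleton_iff.mpr ?_)
  by_cases hd : p ∣ orderOf (g ^ n)
  · exact (hy _ (hP g n hg q k hq hqk hd)).symm
  · refine (Subgroup.mem_centralizer_singleton_iff.mp (ClassGraph.mem_of_parts _ y fun n' q' k' hq' hqk' =>
      Subgroup.mem_centralizer_singleton_iff.mpr ?_)).symm
    by_cases hd' : p ∣ orderOf (y ^ n')
    · exact (((show Commute g (y ^ n') from hg _ (hP y n' hy q' k' hq' hqk' hd'))).pow_left n).eq.symm
    · exact (S.pprime_comm hz' hz'o hd ((show Commute g z' from hg z' hz').pow_left n).eq hd'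
        ((show Commute y z' from hy z' hz').pow_left n').eq).symm

/-- An involution acting nontrivially on `P` inverts it. -/
theorem invert_sylow {t : G} (ht : orderOf t = 2) {P : Sylow p G} (h : Rel t P) :
    ∀ x ∈ (P : Subgroup G), t * x * t⁻¹ = x⁻¹ := by
  intro x hx
  obtain ⟨hn, x₀, hx₀, hne⟩ := h
  set y := x * (t * x * t⁻¹) with hy
  have hyP : y ∈ (P : Subgroup G) := mul_mem hx (hn x hx)
  have hty : t * y * t⁻¹ = y := by
    have ht' : t⁻¹ = t := inv_eq_of_mul_eq_one_right (sq_one ht)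
    have e : t * (t * x * t⁻¹) * t⁻¹ = x := by
      rw [← mul_assoc, ← mul_assoc, sq_one ht, one_mul, mul_assoc, ← mul_inv_rev, sq_one ht, inv_one, mul_one]
    rw [hy, show t * (x * (t * x * t⁻¹)) * t⁻¹ = (t * x * t⁻¹) * (t * (t * x * t⁻¹) * t⁻¹) by group, e]
    exact sylow_comm P (S.hcyc P) _ (hn x hx) _ hx
  by_contra hne'
  have hy1 : y ≠ 1 := fun h1 => hne' (eq_inv_of_mul_eq_one_right h1)
  obtain ⟨k, hk⟩ := IsPGroup.iff_orderOf.mp P.2 ⟨y, hyP⟩
  rw [Subgroup.orderOf_mk] at hk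
  obtain ⟨k, rfl⟩ : ∃ j, k = j + 1 := by
    rcases k with _ | j
    · exact absurd (orderOf_eq_one_iff.mp (hk.trans (pow_zero p))) hy1
    · exact ⟨j, rfl⟩
  have hzo : orderOf (y ^ p ^ k) = p := by
    rw [orderOf_pow_of_dvd (pow_ne_zero _ (Fact.out : p.Prime).ne_zero) (hk ▸ pow_dvd_pow p (Nat.le_succ k)), hk,
      Nat.pow_div (Nat.le_succ k) (Fact.out : p.Prime).pos, Nat.succ_sub (le_refl k), Nat.sub_self, pow_one]
  exact hne (S.cent (pow_mem hyP _) hzo ((show Commute t y from mul_inv_eq_iff_eq_mul.mp hty).pow_right _).eq x₀ hx₀)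

/-- An involution acting nontrivially on `P` inverts its centraliser. -/
theorem invert_cent {t : G} (ht : orderOf t = 2) {P : Sylow p G} (h : Rel t P) {g : G}
    (hg : ∀ x ∈ (P : Subgroup G), g * x = x * g) : t * g * t⁻¹ = g⁻¹ := by
  obtain ⟨z, hzo⟩ := exists_prime_orderOf_dvd_card' p S.hdvd
  obtain ⟨P₁, hzP₁⟩ := exists_sylow_mem (p := p) (k := 1) (by rw [hzo, pow_one])
  obtain ⟨c, rfl⟩ := MulAction.exists_smul_eq G P₁ P
  set z' := c * z * c⁻¹
  have hz' : z' ∈ ((c • P₁ : Sylow p G) : Subgroup G) := by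
    rw [mem_smul, show c⁻¹ * (c * z * c⁻¹) * c = z by group]; exact hzP₁
  have hz'o : orderOf z' = p := (orderOf_conj c z).trans hzo
  let H : Subgroup G :=
    { carrier := {u | (∀ x ∈ ((c • P₁ : Sylow p G) : Subgroup G), u * x = x * u) ∧ t * u * t⁻¹ = u⁻¹}
      one_mem' := ⟨fun x _ => by rw [one_mul, mul_one], by simp⟩
      mul_mem' := fun {u v} hu hv => ⟨fun x hx =>
          ((show Commute u x from hu.1 x hx).mul_left (show Commute v x from hv.1 x hx)).eq, by
        rw [← conj_mul, hu.2, hv.2, ← mul_inv_rev, S.comm_cent hv.1 hu.1]⟩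
      inv_mem' := fun {u} hu => ⟨fun x hx => (show Commute u x from hu.1 x hx).inv_left.eq, by
        rw [← conj_inv, hu.2]⟩ }
  refine (ClassGraph.mem_of_parts H g fun n q k hq hqk => ⟨fun x hx =>
    ((show Commute g x from hg x hx).pow_left n).eq, ?_⟩).2
  by_cases hd : p ∣ orderOf (g ^ n)
  · rw [hqk] at hd
    obtain rfl : p = q := (Nat.prime_dvd_prime_iff_eq Fact.out hq).mp ((Fact.out : p.Prime).dvd_of_dvd_pow hd)
    exact S.invert_sylow ht h _
      (mem_of_normalizer_pgroup _ (pow_mem (S.mem_normalizer hz' hz'o (hg z' hz')) n) hqk)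
  · by_cases h1 : g ^ n = 1
    · rw [h1, mul_one, mul_inv_cancel, inv_one]
    have hcz : g ^ n * z' = z' * g ^ n := ((show Commute g z' from hg z' hz').pow_left n).eq
    have htz : t * (g ^ n) * t⁻¹ * z' = z' * (t * (g ^ n) * t⁻¹) := by
      have hz2 := h.1 z' hz'
      have h3 : g ^ n * (t⁻¹ * z' * t) = (t⁻¹ * z' * t) * g ^ n := by
        have : t⁻¹ = t := inv_eq_of_mul_eq_one_right (sq_one ht)
        have e : t⁻¹ * z' * t = t * z' * t⁻¹ := by rw [this]
        rw [e]
        exact ((show Commute g _ from hg _ hz2).pow_left n).eq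
      calc t * (g ^ n) * t⁻¹ * z' = t * (g ^ n * (t⁻¹ * z' * t)) * t⁻¹ := by group
        _ = t * ((t⁻¹ * z' * t) * g ^ n) * t⁻¹ := by rw [h3]
        _ = z' * (t * (g ^ n) * t⁻¹) := by group
    have h2 := S.pprime_eq hz' hz'o hd hcz h1 (by rwa [orderOf_conj]) htz
      (fun h4 => h1 (conj_eq_one_iff.mp h4))
    rw [← h2.1, inv_eq_of_mul_eq_one_right (sq_one h2.2.1)]

theorem wset_card (P P' : Sylow p G) : Nat.card (wset P) = Nat.card (wset P') := by
  obtain ⟨c, rfl⟩ := MulAction.exists_smul_eq G P P'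
  refine Nat.card_congr ((MulAut.conj c).toEquiv.subtypeEquiv fun g => ?_)
  show (_ ∧ _) ↔ ((∀ x ∈ ((c • P : Sylow p G) : Subgroup G), c * g * c⁻¹ * x = x * (c * g * c⁻¹)) ∧
    p ∣ orderOf (c * g * c⁻¹))
  rw [orderOf_conj]
  refine and_congr_left fun _ => ⟨fun h x hx => ?_, fun h x hx => ?_⟩
  · rw [mem_smul] at hx
    calc c * g * c⁻¹ * x = c * (g * (c⁻¹ * x * c)) * c⁻¹ := by group
      _ = c * ((c⁻¹ * x * c) * g) * c⁻¹ := by rw [h _ hx]
      _ = x * (c * g * c⁻¹) := by group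
  · have h1 := h (c * x * c⁻¹) (by rw [mem_smul, show c⁻¹ * (c * x * c⁻¹) * c = x by group]; exact hx)
    rw [show c * g * c⁻¹ * (c * x * c⁻¹) = c * (g * x) * c⁻¹ by group,
      show c * x * c⁻¹ * (c * g * c⁻¹) = c * (x * g) * c⁻¹ by group] at h1
    exact mul_left_cancel (mul_right_cancel h1)

/-- The involutions, counted from one of them. -/
theorem count {t : G} (ht : orderOf t = 2) (P₀ : Sylow p G) :
    Nat.card {u : G // orderOf u = 2} = Nat.card {u : G // orderOf u = 2 ∧ u * t = t * u} +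
      Nat.card {P : Sylow p G // Rel t P} * Nat.card (wset P₀) := by
  classical
  haveI := Fintype.ofFinite G
  haveI := Fintype.ofFinite {P : Sylow p G // Rel t P}
  have htt := sq_one ht
  have hti : t⁻¹ = t := inv_eq_of_mul_eq_one_right htt
  have e1 : Nat.card {u : G // orderOf u = 2} = Nat.card {u : G // orderOf u = 2 ∧ u * t = t * u} +
      Nat.card {u : G // orderOf u = 2 ∧ ¬ u * t = t * u} := by
    simp only [Nat.card_eq_fintype_card, Fintype.card_subtype]
    rw [← Finset.filter_filter, ← Finset.filter_filter, Finset.card_filter_add_card_filter_not]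
  have e2 : Nat.card {u : G // orderOf u = 2 ∧ ¬ u * t = t * u} =
      Nat.card {g : G // p ∣ orderOf g ∧ t * g * t⁻¹ = g⁻¹} := by
    refine Nat.card_congr
      { toFun := fun u => ⟨t * u.1, ?_⟩
        invFun := fun g => ⟨t * g.1, ?_⟩
        left_inv := fun u => Subtype.ext (by simp only [← mul_assoc, htt, one_mul])
        right_inv := fun g => Subtype.ext (by simp only [← mul_assoc, htt, one_mul]) }
    · obtain ⟨u, hu, hnc⟩ := u
      have hui : u⁻¹ = u := inv_eq_of_mul_eq_one_right (sq_one hu)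
      have hinv : t * (t * u) * t⁻¹ = (t * u)⁻¹ := by
        rw [mul_inv_rev, hui, ← mul_assoc, htt, one_mul]
      refine ⟨?_, hinv⟩
      by_contra hnd
      refine hnc ?_
      have h2 := sq_eq_one_of_inverted S.hp2 S.hab ht hnd hinv
      rw [sq] at h2
      have h3 := inv_eq_of_mul_eq_one_right h2
      rw [mul_inv_rev, hui, hti] at h3
      exact h3
    · obtain ⟨g, hg, hinv⟩ := g
      rw [hti] at hinv
      have hne : t * g ≠ 1 := fun h => by
        rw [eq_inv_of_mul_eq_one_right h, hti, ht] at hg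
        exact S.not_dvd_two hg
      have h2 : (t * g) ^ 2 = 1 := by rw [sq, ← mul_assoc, hinv, inv_mul_cancel]
      refine ⟨orderOf_eq_prime h2 hne, fun h => ?_⟩
      have h' : t * g * t = g := by rw [h, ← mul_assoc, htt, one_mul]
      rw [hinv] at h'
      have hg2 : g ^ 2 = 1 := by rw [sq]; nth_rewrite 1 [← h']; exact inv_mul_cancel g
      exact S.not_dvd_two (hg.trans (orderOf_dvd_of_pow_eq_one hg2))
  have e3 : Nat.card {g : G // p ∣ orderOf g ∧ t * g * t⁻¹ = g⁻¹} =
      Nat.card (Σ P : {P : Sylow p G // Rel t P}, wset P.1) := by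
    refine (Nat.card_eq_of_bijective (fun x => ⟨x.2.1, x.2.2.2, S.invert_cent ht x.1.2 x.2.2.1⟩) ⟨?_, ?_⟩).symm
    · rintro ⟨⟨P, hP⟩, ⟨g, hg⟩⟩ ⟨⟨P', hP'⟩, ⟨g', hg'⟩⟩ h
      obtain rfl : g = g' := congrArg Subtype.val h
      have hw : orderOf (g ^ (orderOf g / p)) = p := orderOf_pow_orderOf_div (orderOf_pos g).ne' hg.2
      have hin : ∀ P'' : Sylow p G, (∀ x ∈ (P'' : Subgroup G), g * x = x * g) →
          g ^ (orderOf g / p) ∈ (P'' : Subgroup G) := fun P'' h'' =>
        mem_of_normalizer_pgroup P'' (Subgroup.centralizer_le_normalizer _ (Subgroup.mem_centralizer_iff.mpr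
          fun x hx => ((show Commute g x from h'' x hx).pow_left _).eq.symm)) (k := 1) (by rw [hw, pow_one])
      obtain rfl : P' = P := S.sylow_eq (hin P hg.1) (hin P' hg'.1) hw
      rfl
    · rintro ⟨g, hg, hinv⟩
      set w := g ^ (orderOf g / p) with hwdef
      have hw : orderOf w = p := orderOf_pow_orderOf_div (orderOf_pos g).ne' hg
      obtain ⟨P, hP⟩ := exists_sylow_mem (p := p) (k := 1) (hw.trans (pow_one p).symm)
      have hgw : g * w = w * g := ((Commute.refl g).pow_right _).eq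
      have htw : t * w * t⁻¹ = w⁻¹ := by rw [hwdef, ← conj_pow, hinv, inv_pow]
      have hrel : Rel t P := by
        have hn := S.hN P w hP hw t (by rw [htw]; exact inv_mem (Subgroup.mem_zpowers w))
        refine ⟨fun x hx => (Subgroup.mem_normalizer_iff.mp hn x).mp hx, w, hP, fun h => ?_⟩
        rw [h, mul_inv_cancel_right] at htw
        have hw2 : w ^ 2 = 1 := by rw [sq]; nth_rewrite 1 [htw]; exact inv_mul_cancel w
        exact S.not_dvd_two (hw ▸ orderOf_dvd_of_pow_eq_one hw2)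
      exact ⟨⟨⟨P, hrel⟩, ⟨g, S.cent hP hw hgw, hg⟩⟩, rfl⟩
  rw [e1, e2, e3, Nat.card_sigma, Finset.sum_congr rfl (fun P _ => S.wset_card P.1 P₀), Finset.sum_const,
    Finset.card_univ, smul_eq_mul, ← Nat.card_eq_fintype_card]

/-- Every involution acts nontrivially on some Sylow subgroup. -/
theorem exists_rel {t : G} (ht : orderOf t = 2) : ∃ P : Sylow p G, Rel t P := by
  by_contra hcon
  push Not at hcon
  haveI := S.simple
  obtain ⟨z, hzo⟩ := exists_prime_orderOf_dvd_card' p S.hdvd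
  obtain ⟨P₀, -⟩ := exists_sylow_mem (p := p) (k := 1) (hzo.trans (pow_one p).symm)
  have h := S.count ht P₀
  haveI : IsEmpty {P : Sylow p G // Rel t P} := ⟨fun P => hcon P.1 P.2⟩
  rw [Nat.card_of_isEmpty (α := {P : Sylow p G // Rel t P}), zero_mul, add_zero] at h
  have hall : ∀ u : G, orderOf u = 2 → u * t = t * u := by
    intro u hu
    by_contra hne
    classical
    haveI := Fintype.ofFinite G
    have hlt : Fintype.card {u : G // orderOf u = 2 ∧ u * t = t * u} < Fintype.card {u : G // orderOf u = 2} :=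
      Fintype.card_lt_of_injective_of_notMem (fun v => ⟨v.1, v.2.1⟩) (fun v v' h => Subtype.ext (congrArg
        (fun w : {u : G // orderOf u = 2} => w.1) h)) (b := ⟨u, hu⟩)
        (fun ⟨v, hv⟩ => hne (by have hvu : v.1 = u := congrArg Subtype.val hv; exact hvu ▸ v.2.2))
    rw [Nat.card_eq_fintype_card, Nat.card_eq_fintype_card] at h
    omega
  have htop : Subgroup.normalClosure ({t} : Set G) = ⊤ :=
    ((inferInstance : (Subgroup.normalClosure ({t} : Set G)).Normal).eq_bot_or_eq_top).resolve_left fun hb => by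
      have := hb ▸ Subgroup.subset_normalClosure (Set.mem_singleton t)
      rw [SetLike.mem_coe, Subgroup.mem_bot] at this
      rw [this, orderOf_one] at ht
      omega
  have hle : (⊤ : Subgroup G) ≤ Subgroup.centralizer ({t} : Set G) := by
    rw [← htop, Subgroup.normalClosure, Subgroup.closure_le]
    intro v hv
    obtain ⟨_, rfl, hvc⟩ := Group.mem_conjugatesOfSet_iff.mp hv
    obtain ⟨c, rfl⟩ := isConj_iff.mp hvc
    exact Subgroup.mem_centralizer_singleton_iff.mpr (hall _ ((orderOf_conj c _).trans ht))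
  exact S.centralizer_ne_top (fun h1 => by rw [h1, orderOf_one] at ht; omega) (top_le_iff.mp hle)

/-- Counting the pairs of an involution and a Sylow subgroup normalised but not centralised by it. -/
theorem double_count {t : G} (ht : orderOf t = 2) (hone : ∀ u : G, orderOf u = 2 → IsConj t u) {P₀ : Sylow p G}
    {t₀ : G} (ht₀ : orderOf t₀ = 2) (hrel : Rel t₀ P₀) :
    Nat.card {P : Sylow p G // Rel t P} * Nat.card ↥(Subgroup.normalizer ((P₀ : Subgroup G) : Set G)) =
      Nat.card ↥(Subgroup.centralizer ((P₀ : Subgroup G) : Set G)) *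
        Nat.card ↥(Subgroup.centralizer ({t} : Set G)) ∧
      Nat.card {u : G // orderOf u = 2} * Nat.card ↥(Subgroup.centralizer ({t} : Set G)) = Nat.card G := by
  classical
  haveI := Fintype.ofFinite G
  haveI := Fintype.ofFinite (Sylow p G)
  haveI := Fintype.ofFinite {u : G // orderOf u = 2}
  set k := Nat.card {P : Sylow p G // Rel t P} with hk
  set f := Nat.card {u : G // orderOf u = 2} with hf
  set C := Subgroup.centralizer ((P₀ : Subgroup G) : Set G) with hC
  have hmemC : ∀ g, g ∈ C ↔ ∀ x ∈ (P₀ : Subgroup G), g * x = x * g := fun g => by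
    rw [hC, Subgroup.mem_centralizer_iff]
    exact ⟨fun h x hx => (h x hx).symm, fun h x hx => (h x hx).symm⟩
  have h1 : ∀ u : {u : G // orderOf u = 2}, Nat.card {P : Sylow p G // Rel u.1 P} = k := by
    rintro ⟨u, hu⟩
    obtain ⟨c, rfl⟩ := isConj_iff.mp (hone u hu)
    exact (Nat.card_congr ((MulAction.toPerm c).subtypeEquiv fun P => (rel_conj_iff c).symm)).symm
  have h2 : ∀ P : Sylow p G, Nat.card {u : {u : G // orderOf u = 2} // Rel u.1 P} = Nat.card C := by
    intro P
    obtain ⟨c, rfl⟩ := MulAction.exists_smul_eq G P₀ P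
    have hconj : Nat.card {u : {u : G // orderOf u = 2} // Rel u.1 P₀} =
        Nat.card {u : {u : G // orderOf u = 2} // Rel u.1 (c • P₀)} :=
      Nat.card_congr ((((MulAut.conj c).toEquiv).subtypeEquiv fun u => by
        show orderOf u = 2 ↔ orderOf (c * u * c⁻¹) = 2
        rw [orderOf_conj]).subtypeEquiv fun u => (rel_conj_iff c).symm)
    rw [← hconj]
    have ht₀i : t₀⁻¹ = t₀ := inv_eq_of_mul_eq_one_right (sq_one ht₀)
    have hmap : ∀ x : C, orderOf (t₀ * x.1) = 2 ∧ Rel (t₀ * x.1) P₀ := by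
      intro x
      have hx := (hmemC _).mp x.2
      obtain ⟨y, hy, hne⟩ := hrel.2
      have hinv := S.invert_cent ht₀ hrel hx
      rw [ht₀i] at hinv
      refine ⟨orderOf_eq_prime (by rw [sq, ← mul_assoc, hinv, inv_mul_cancel]) fun h => ?_, fun z hz => ?_,
        y, hy, fun h => hne ?_⟩
      · rw [eq_inv_of_mul_eq_one_right h, ht₀i] at hx
        exact hne (hx y hy)
      · rw [mul_assoc t₀ x.1, hx z hz, show t₀ * (z * x.1) * (t₀ * x.1)⁻¹ = t₀ * z * t₀⁻¹ by group]
        exact hrel.1 z hz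
      · rw [mul_assoc, hx y hy, ← mul_assoc, ← mul_assoc] at h
        exact mul_right_cancel h
    refine (Nat.card_eq_of_bijective (fun x : C => (⟨⟨t₀ * x.1, (hmap x).1⟩, (hmap x).2⟩ :
      {u : {u : G // orderOf u = 2} // Rel u.1 P₀})) ⟨?_, ?_⟩).symm
    · intro x x' h
      exact Subtype.ext (mul_left_cancel (congrArg (fun u : {u : {u : G // orderOf u = 2} // Rel u.1 P₀} => u.1.1) h))
    · rintro ⟨⟨u, hu⟩, hur⟩
      refine ⟨⟨t₀ * u, (hmemC _).mpr fun y hy => ?_⟩,
        Subtype.ext (Subtype.ext (by simp only [← mul_assoc, sq_one ht₀, one_mul]))⟩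
      have e1 := S.invert_sylow hu hur y hy
      have e2 := S.invert_sylow ht₀ hrel _ (inv_mem hy)
      rw [inv_inv] at e2
      calc t₀ * u * y = t₀ * (u * y * u⁻¹) * u := by group
        _ = t₀ * y⁻¹ * u := by rw [e1]
        _ = t₀ * y⁻¹ * t₀⁻¹ * (t₀ * u) := by group
        _ = y * (t₀ * u) := by rw [e2]
  have hdc : f * k = Nat.card (Sylow p G) * Nat.card C := by
    have e1 : Nat.card (Σ u : {u : G // orderOf u = 2}, {P : Sylow p G // Rel u.1 P}) = f * k := by
      rw [Nat.card_sigma, Finset.sum_congr rfl (fun u _ => h1 u), Finset.sum_const, Finset.card_univ, smul_eq_mul,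
        hf, Nat.card_eq_fintype_card]
    have e2 : Nat.card (Σ P : Sylow p G, {u : {u : G // orderOf u = 2} // Rel u.1 P}) =
        Nat.card (Sylow p G) * Nat.card C := by
      rw [Nat.card_sigma, Finset.sum_congr rfl (fun P _ => h2 P), Finset.sum_const, Finset.card_univ, smul_eq_mul,
        ← Nat.card_eq_fintype_card]
    rw [← e1, ← e2]
    exact Nat.card_congr
      { toFun := fun x => ⟨x.2.1, ⟨x.1, x.2.2⟩⟩
        invFun := fun x => ⟨x.2.1, ⟨x.1, x.2.2⟩⟩
        left_inv := fun _ => rfl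
        right_inv := fun _ => rfl }
  have hfm : f * Nat.card ↥(Subgroup.centralizer ({t} : Set G)) = Nat.card G := by
    have hcls : f = ClassGraph.cl t := by
      rw [hf, ← ClassGraph.ncard_cls, ← Nat.card_coe_set_eq]
      refine Nat.card_congr (Equiv.subtypeEquivRight fun u => ?_)
      constructor
      · intro hu
        exact isConj_iff.mp (hone u hu)
      · rintro ⟨c, rfl⟩
        rw [orderOf_conj, ht]
    rw [hcls, ClassGraph.cl, Subgroup.index_mul_card]
  refine ⟨?_, hfm⟩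
  have hsyl : Nat.card (Sylow p G) * Nat.card ↥(Subgroup.normalizer ((P₀ : Subgroup G) : Set G)) = Nat.card G := by
    rw [Sylow.card_eq_index_normalizer P₀]
    exact Subgroup.index_mul_card _
  refine Nat.eq_of_mul_eq_mul_left (show 0 < f from ?_) ?_
  · rw [hf]
    haveI : Nonempty {u : G // orderOf u = 2} := ⟨⟨t, ht⟩⟩
    exact Nat.card_pos
  · calc f * (k * Nat.card ↥(Subgroup.normalizer ((P₀ : Subgroup G) : Set G)))
        = Nat.card C * (Nat.card (Sylow p G) * Nat.card ↥(Subgroup.normalizer ((P₀ : Subgroup G) : Set G))) := by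
          rw [← mul_assoc f k, hdc]; ring
      _ = f * (Nat.card C * Nat.card ↥(Subgroup.centralizer ({t} : Set G))) := by rw [hsyl, ← hfm]; ring

/-- No element of order prime to `p` centralises one of order `p`: impossible. -/
theorem false_of_free
    (hfree : ∀ w b : G, orderOf w = p → ¬ p ∣ orderOf b → b * w = w * b → b = 1) : False := by
  haveI := S.simple
  have hpP : p.Prime := Fact.out
  haveI : Fact (Nat.Prime 2) := ⟨Nat.prime_two⟩
  have hCP : ∀ (w : G), orderOf w = p → ∀ P : Sylow p G, w ∈ (P : Subgroup G) → ∀ g : G, g * w = w * g →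
      g ∈ (P : Subgroup G) := by
    intro w hw P hwP g hgw
    refine ClassGraph.mem_of_parts _ g fun n q k hq hqk => ?_
    have hcomm : g ^ n * w = w * g ^ n := ((show Commute g w from hgw).pow_left n).eq
    by_cases hd : p ∣ orderOf (g ^ n)
    · rw [hqk] at hd
      obtain rfl : p = q := (Nat.prime_dvd_prime_iff_eq Fact.out hq).mp (hpP.dvd_of_dvd_pow hd)
      exact mem_of_normalizer_pgroup P (S.mem_normalizer hwP hw hcomm) hqk
    · rw [hfree w _ hw hd hcomm]; exact one_mem _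
  have hCA : ∀ x : G, x ≠ 1 → ∀ a ∈ Subgroup.centralizer ({x} : Set G), ∀ b ∈ Subgroup.centralizer ({x} : Set G),
      a * b = b * a := by
    intro x hx a ha b hb
    rw [Subgroup.mem_centralizer_singleton_iff] at ha hb
    by_cases hd : p ∣ orderOf x
    · have hw : orderOf (x ^ (orderOf x / p)) = p := orderOf_pow_orderOf_div (orderOf_pos x).ne' hd
      obtain ⟨P, hP⟩ := exists_sylow_mem (p := p) (k := 1) (hw.trans (pow_one p).symm)
      exact sylow_comm P (S.hcyc P) a (hCP _ hw P hP a ((show Commute a x from ha).pow_right _).eq) b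
        (hCP _ hw P hP b ((show Commute b x from hb).pow_right _).eq)
    · have hnd : ¬ p ∣ Nat.card (Subgroup.centralizer ({x} : Set G)) := fun h => by
        obtain ⟨⟨w, hw⟩, hwo⟩ := exists_prime_orderOf_dvd_card' p h
        rw [Subgroup.orderOf_mk] at hwo
        exact hx (hfree w x hwo hd (Subgroup.mem_centralizer_singleton_iff.mp hw).symm)
      haveI := S.hab _ hnd
      exact congrArg Subtype.val (mul_comm'
        (⟨a, Subgroup.mem_centralizer_singleton_iff.mpr ha⟩ : Subgroup.centralizer ({x} : Set G))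
        ⟨b, Subgroup.mem_centralizer_singleton_iff.mpr hb⟩)
  by_cases hev : 2 ∣ Nat.card G
  swap
  · haveI := Cfsg.Agent.S0182.result (Nat.not_even_iff_odd.mp fun h => hev (even_iff_two_dvd.mp h)) hCA
    obtain ⟨z, hzo⟩ := exists_prime_orderOf_dvd_card' p S.hdvd
    refine S.centralizer_ne_top (ne_one_of_orderOf hzo) (eq_top_iff.mpr fun g _ =>
      Subgroup.mem_centralizer_singleton_iff.mpr ?_)
    exact IsSimpleGroup.comm_iff_isSolvable.mpr inferInstance g z
  obtain ⟨t, ht⟩ := exists_prime_orderOf_dvd_card' 2 hev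
  obtain ⟨P₀, hrel⟩ := S.exists_rel ht
  obtain ⟨x₀, hx₀, hne⟩ := hrel.2
  have hdvdP : p ∣ Nat.card (P₀ : Subgroup G) := by
    obtain ⟨k, hk⟩ := IsPGroup.iff_card.mp P₀.2
    rcases k with _ | k
    · rw [pow_zero, Subgroup.card_eq_one] at hk
      rw [hk, Subgroup.mem_bot] at hx₀
      exact absurd (by rw [hx₀, one_mul, mul_one]) hne
    · rw [hk]; exact dvd_pow_self p (Nat.succ_ne_zero k)
  obtain ⟨⟨z, hz⟩, hzo⟩ := exists_prime_orderOf_dvd_card' p hdvdP
  rw [Subgroup.orderOf_mk] at hzo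
  have hfreeInv : ∀ u w : G, orderOf u = 2 → orderOf w = p → u * w ≠ w * u := fun u w hu hw h => by
    have := hfree w u hw (by rw [hu]; exact S.not_dvd_two) h
    rw [this, orderOf_one] at hu
    omega
  have hone : ∀ u : G, orderOf u = 2 → IsConj t u := by
    intro u hu
    obtain ⟨P, hP⟩ := S.exists_rel hu
    obtain ⟨c, hc⟩ := MulAction.exists_smul_eq G P₀ P
    have hrel' := rel_conj c hrel
    rw [hc] at hrel'
    have ht' : orderOf (c * t * c⁻¹) = 2 := (orderOf_conj c t).trans ht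
    set t' := c * t * c⁻¹ with ht'def
    have hz' : c * z * c⁻¹ ∈ (P : Subgroup G) := by
      rw [← hc, mem_smul, show c⁻¹ * (c * z * c⁻¹) * c = z by group]; exact hz
    have hxP : t' * u ∈ (P : Subgroup G) := by
      refine hCP _ ((orderOf_conj c z).trans hzo) P hz' _ ?_
      have e1 := S.invert_sylow hu hP _ hz'
      have e2 := S.invert_sylow ht' hrel' _ (inv_mem hz')
      rw [inv_inv] at e2
      calc t' * u * (c * z * c⁻¹) = t' * (u * (c * z * c⁻¹) * u⁻¹) * u := by group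
        _ = t' * (c * z * c⁻¹)⁻¹ * u := by rw [e1]
        _ = t' * (c * z * c⁻¹)⁻¹ * t'⁻¹ * (t' * u) := by group
        _ = c * z * c⁻¹ * (t' * u) := by rw [e2]
    obtain ⟨j, hj⟩ := IsPGroup.iff_orderOf.mp P.2 ⟨_, hxP⟩
    rw [Subgroup.orderOf_mk] at hj
    have hodd : Odd (orderOf (t' * u)) := hj ▸ (hpP.odd_of_ne_two S.hp2).pow
    obtain ⟨r, hr⟩ := hodd
    set y := (t' * u) ^ (r + 1) with hy
    have hyy : y * y = t' * u := by
      rw [hy, ← pow_add, show r + 1 + (r + 1) = orderOf (t' * u) + 1 by omega, pow_succ, pow_orderOf_eq_one, one_mul]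
    have hty : t' * y * t'⁻¹ = y⁻¹ := S.invert_sylow ht' hrel' y (pow_mem hxP _)
    refine isConj_iff.mpr ⟨y⁻¹ * c, ?_⟩
    have h1 : y⁻¹ * t' * y = u := by
      rw [← hty, show t' * y * t'⁻¹ * t' * y = t' * (y * y) by group, hyy, ← mul_assoc, sq_one ht', one_mul]
    rw [← h1, ht'def]; group
  obtain ⟨hkN, hfm⟩ := S.double_count ht hone ht hrel
  have hpf : p ∣ Nat.card {u : G // orderOf u = 2} := dvd_card_of_conj_free hzo {u : G | orderOf u = 2}
    (fun u hu => (orderOf_conj z u).trans hu) (fun u hu h => hfreeInv u z hu hzo h.symm)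
  obtain ⟨Q, hQ⟩ := exists_sylow_mem (p := 2) (k := 1) (ht.trans (pow_one 2).symm)
  have ht1 : t ≠ 1 := fun h => by rw [h, orderOf_one] at ht; omega
  have h2p : (2 : ℕ) ≠ p := fun h => S.hp2 h.symm
  obtain ⟨w, hwN, hwo⟩ := S.exists_normalizing h2p Q hQ ht1
  have hwt : w * t * w⁻¹ ∈ (Q : Subgroup G) := (Subgroup.mem_normalizer_iff.mp hwN t).mp hQ
  have hwt1 : w * t * w⁻¹ ≠ 1 := fun h => ht1 (conj_eq_one_iff.mp h)
  have hps : p ∣ Nat.card {u : G // orderOf u = 2 ∧ u * t = t * u} := by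
    refine dvd_card_of_conj_free hwo {u : G | orderOf u = 2 ∧ u * t = t * u} (fun u hu => ⟨(orderOf_conj w u).trans hu.1, ?_⟩)
      (fun u hu h => hfreeInv u w hu.1 hwo h.symm)
    refine hCA _ hwt1 _ (Subgroup.mem_centralizer_singleton_iff.mpr ?_) t (Subgroup.mem_centralizer_singleton_iff.mpr
      (sylow_comm_of_ab S.hab h2p Q hQ hwt))
    rw [show w * u * w⁻¹ * (w * t * w⁻¹) = w * (u * t) * w⁻¹ by group, hu.2]
    group
  -- the centraliser of `P₀` is `P₀`
  have hC : Subgroup.centralizer ((P₀ : Subgroup G) : Set G) = (P₀ : Subgroup G) := le_antisymm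
    (fun g hg => hCP z hzo P₀ hz g (Subgroup.mem_centralizer_iff.mp hg z hz).symm)
    (fun g hg => Subgroup.mem_centralizer_iff.mpr fun x hx => sylow_comm P₀ (S.hcyc P₀) x hx g hg)
  have hW : Nat.card (wset P₀) = Nat.card (P₀ : Subgroup G) - 1 := by
    have e : wset P₀ = ((P₀ : Subgroup G) : Set G) \ {1} := by
      ext g
      constructor
      · rintro ⟨hg, hd⟩
        exact ⟨hCP z hzo P₀ hz g (hg z hz), fun h => hpP.ne_one (Nat.dvd_one.mp (by
          rwa [Set.mem_singleton_iff.mp h, orderOf_one] at hd))⟩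
      · rintro ⟨hg, h1⟩
        refine ⟨fun x hx => sylow_comm P₀ (S.hcyc P₀) g hg x hx, ?_⟩
        obtain ⟨k, hk⟩ := IsPGroup.iff_orderOf.mp P₀.2 ⟨g, hg⟩
        rw [Subgroup.orderOf_mk] at hk
        rcases k with _ | k
        · exact absurd (orderOf_eq_one_iff.mp (hk.trans (pow_zero p))) h1
        · rw [hk]; exact dvd_pow_self p (Nat.succ_ne_zero k)
    rw [e, Nat.card_coe_set_eq, Set.ncard_sdiff_singleton_of_mem (one_mem _), ← Nat.card_coe_set_eq]
    rfl
  have hcount := S.count ht P₀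
  rw [hW] at hcount
  have hkp : p ∣ Nat.card {P : Sylow p G // Rel t P} := by
    have h : p ∣ Nat.card {P : Sylow p G // Rel t P} * (Nat.card (P₀ : Subgroup G) - 1) :=
      (Nat.dvd_add_right hps).mp (hcount ▸ hpf)
    refine (hpP.dvd_mul.mp h).resolve_right fun h1 => ?_
    have h2 := Nat.dvd_sub hdvdP h1
    rw [Nat.sub_sub_self (Nat.one_le_iff_ne_zero.mpr Nat.card_pos.ne')] at h2
    exact hpP.ne_one (Nat.dvd_one.mp h2)
  obtain ⟨e, he⟩ := Subgroup.card_dvd_of_le (Subgroup.le_normalizer (H := (P₀ : Subgroup G)))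
  rw [hC, he, mul_left_comm] at hkN
  have hm : p ∣ Nat.card ↥(Subgroup.centralizer ({t} : Set G)) :=
    (Nat.eq_of_mul_eq_mul_left Nat.card_pos hkN) ▸ hkp.mul_right e
  obtain ⟨⟨v, hv⟩, hvo⟩ := exists_prime_orderOf_dvd_card' p hm
  rw [Subgroup.orderOf_mk] at hvo
  exact hfreeInv t v ht hvo (Subgroup.mem_centralizer_singleton_iff.mp hv).symm

set_option maxHeartbeats 1600000 in
/-- The four group case is impossible by the order formula of the principal `2`-block. -/
theorem false_of_fixed {w₀ b : G} (hw₀ : orderOf w₀ = p) (hb : ¬ p ∣ orderOf b) (hbw : b * w₀ = w₀ * b)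
    (hb1 : b ≠ 1) : False := by
  haveI := S.simple
  haveI : Fact (Nat.Prime 2) := ⟨Nat.prime_two⟩
  have h2p : (2 : ℕ) ≠ p := fun h => S.hp2 h.symm
  obtain ⟨P, hzP⟩ := exists_sylow_mem (p := p) (k := 1) (hw₀.trans (pow_one p).symm)
  obtain ⟨-, hb2, hp3⟩ := S.pprime_eq hzP hw₀ hb hbw hb1 hb hbw hb1
  obtain ⟨Q, hbQ⟩ := exists_sylow_mem (p := 2) (k := 1) (hb2.trans (pow_one 2).symm)
  obtain ⟨-, -, hQ4, hQexp, hQz, hQN⟩ := S.klein hzP hw₀ h2p Q hbQ hb1 hbw
  set a := b with ha
  -- an involution of `Q` acting nontrivially on `P`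
  obtain ⟨t, htQ, ht1, hta⟩ : ∃ t ∈ (Q : Subgroup G), t ≠ 1 ∧ t ≠ a := by
    by_contra hcon
    push Not at hcon
    have h : ((Q : Subgroup G) : Set G).ncard ≤ ({1, a} : Set G).ncard :=
      Set.ncard_le_ncard (fun x hx => by
        by_cases hx1 : x = 1
        · exact Or.inl hx1
        · exact Or.inr (hcon x hx hx1)) (Set.toFinite _)
    rw [← Nat.card_coe_set_eq, Set.ncard_pair (Ne.symm hb1)] at h
    change Nat.card ↥(Q : Subgroup G) ≤ 2 at h
    omega
  have ht : orderOf t = 2 := orderOf_eq_prime (hQexp t htQ) ht1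
  have htz : ¬ t * w₀ = w₀ * t := fun h => (hQz t htQ h).elim ht1 hta
  have hrel : Rel t P := ⟨fun x hx => (Subgroup.mem_normalizer_iff.mp (hQN t htQ) x).mp hx, w₀, hzP, htz⟩
  set C := Subgroup.centralizer ((P : Subgroup G) : Set G) with hC
  set N := Subgroup.normalizer ((P : Subgroup G) : Set G) with hN
  have hmemC : ∀ g, g ∈ C ↔ ∀ x ∈ (P : Subgroup G), g * x = x * g := fun g => by
    rw [hC, Subgroup.mem_centralizer_iff]
    exact ⟨fun h x hx => (h x hx).symm, fun h x hx => (h x hx).symm⟩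
  have haC : a ∈ C := (hmemC a).mpr (S.cent hzP hw₀ hbw)
  have haP : a ∉ (P : Subgroup G) := fun h => by
    obtain ⟨k, hk⟩ := IsPGroup.iff_orderOf.mp P.2 ⟨a, h⟩
    rw [Subgroup.orderOf_mk, hb2] at hk
    rcases k with _ | k
    · rw [pow_zero] at hk; omega
    · exact S.not_dvd_two (hk ▸ dvd_pow_self p (Nat.succ_ne_zero k))
  set n := Nat.card (P : Subgroup G) with hn
  have hn3 : p ∣ n := by
    rw [← hw₀, hn]
    exact Subgroup.orderOf_dvd_natCard _ hzP
  -- `C = P ∪ a P`
  have hCdec : ∀ g ∈ C, g ∈ (P : Subgroup G) ∨ a * g ∈ (P : Subgroup G) := by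
    intro g hg
    have hle : g ∈ Subgroup.zpowers a ⊔ (P : Subgroup G) := by
      refine ClassGraph.mem_of_parts _ g fun m q k hq hqk => ?_
      have hcm : g ^ m * w₀ = w₀ * g ^ m := ((show Commute g w₀ from (hmemC g).mp hg w₀ hzP).pow_left m).eq
      by_cases hd : p ∣ orderOf (g ^ m)
      · rw [hqk] at hd
        obtain rfl : p = q := (Nat.prime_dvd_prime_iff_eq Fact.out hq).mp ((Fact.out : p.Prime).dvd_of_dvd_pow hd)
        exact Subgroup.mem_sup_right (mem_of_normalizer_pgroup P (S.mem_normalizer hzP hw₀ hcm) hqk)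
      · by_cases h1 : g ^ m = 1
        · rw [h1]; exact one_mem _
        · rw [← (S.pprime_eq hzP hw₀ hb hbw hb1 hd hcm h1).1]
          exact Subgroup.mem_sup_left (Subgroup.mem_zpowers a)
    rw [← SetLike.mem_coe, Subgroup.coe_mul_of_left_le_normalizer_right _ _
      (Subgroup.zpowers_le.mpr (Subgroup.centralizer_le_normalizer _ haC))] at hle
    obtain ⟨u, hu, x, hx, rfl⟩ := Set.mem_mul.mp hle
    obtain ⟨i, rfl⟩ := (Submonoid.mem_powers_iff _ _).mp (mem_powers_iff_mem_zpowers.mpr hu)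
    rcases Nat.even_or_odd' i with ⟨j, rfl | rfl⟩
    · left; rw [pow_mul, sq, sq_one hb2, one_pow, one_mul]; exact hx
    · right; rw [pow_succ, pow_mul, sq, sq_one hb2, one_pow, one_mul, ← mul_assoc, sq_one hb2, one_mul]; exact hx
  have hPC : (P : Subgroup G) ≤ C := fun x hx => (hmemC x).mpr fun y hy => sylow_comm P (S.hcyc P) x hx y hy
  have hCcard : Nat.card C = 2 * n := by
    rw [show 2 * n = Nat.card (Bool × (P : Subgroup G)) by
      rw [Nat.card_prod, Nat.card_eq_fintype_card (α := Bool), Fintype.card_bool]]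
    refine (Nat.card_eq_of_bijective (fun q : Bool × (P : Subgroup G) =>
      (if q.1 then ⟨a * q.2.1, mul_mem haC (hPC q.2.2)⟩ else ⟨q.2.1, hPC q.2.2⟩ : C)) ⟨?_, ?_⟩).symm
    · rintro ⟨i, x⟩ ⟨i', x'⟩ h
      cases i <;> cases i' <;> simp at h
      · rw [h]
      · exact absurd ((mul_inv_eq_iff_eq_mul.mpr h) ▸ mul_mem x.2 (inv_mem x'.2)) haP
      · exact absurd ((mul_inv_eq_iff_eq_mul.mpr h.symm) ▸ mul_mem x'.2 (inv_mem x.2)) haP
      · rw [h]
    · intro g
      rcases hCdec g g.2 with h | h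
      · exact ⟨⟨false, ⟨g, h⟩⟩, by simp⟩
      · exact ⟨⟨true, ⟨a * g, h⟩⟩, Subtype.ext (by simp [← mul_assoc, sq_one hb2])⟩
  -- `N = C ∪ t C`
  have hCN : C ≤ N := Subgroup.centralizer_le_normalizer _
  have htN : t ∈ N := hQN t htQ
  have htC : t ∉ C := fun h => htz ((hmemC t).mp h w₀ hzP)
  have hNdec : ∀ g ∈ N, g ∈ C ∨ t * g ∈ C := by
    intro g hg
    have h1 : g * w₀ * g⁻¹ ∈ Subgroup.zpowers w₀ := mem_zpowers_of_order (S.hcyc P)
      ((Subgroup.mem_normalizer_iff.mp hg w₀).mp hzP)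
      (by rw [conj_pow, ← hw₀, pow_orderOf_eq_one, mul_one, mul_inv_cancel]) hzP hw₀
    obtain ⟨i, hi⟩ := (Submonoid.mem_powers_iff _ _).mp (mem_powers_iff_mem_zpowers.mpr h1)
    rw [← pow_mod_orderOf, hw₀, hp3] at hi
    have hi3 : i % 3 < 3 := Nat.mod_lt _ (by norm_num)
    interval_cases (i % 3)
    · rw [pow_zero] at hi
      exact absurd (conj_eq_one_iff.mp hi.symm) (ne_one_of_orderOf hw₀)
    · rw [pow_one] at hi
      exact Or.inl ((hmemC g).mpr (S.cent hzP hw₀ (mul_inv_eq_iff_eq_mul.mp hi.symm)))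
    · refine Or.inr ((hmemC _).mpr (S.cent hzP hw₀ ?_))
      have e : w₀ ^ 2 = w₀⁻¹ := eq_inv_of_mul_eq_one_left (by
        rw [← pow_succ, show (2 : ℕ) + 1 = orderOf w₀ by omega, pow_orderOf_eq_one])
      have e2 := S.invert_sylow ht hrel _ (inv_mem hzP)
      rw [inv_inv] at e2
      refine mul_inv_eq_iff_eq_mul.mp ?_
      rw [show t * g * w₀ * (t * g)⁻¹ = t * (g * w₀ * g⁻¹) * t⁻¹ by group, ← hi, e, e2]
  have hNcard : Nat.card N = 2 * Nat.card C := by
    rw [show 2 * Nat.card C = Nat.card (Bool × C) by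
      rw [Nat.card_prod, Nat.card_eq_fintype_card (α := Bool), Fintype.card_bool]]
    refine (Nat.card_eq_of_bijective (fun q : Bool × C =>
      (if q.1 then ⟨t * q.2.1, mul_mem htN (hCN q.2.2)⟩ else ⟨q.2.1, hCN q.2.2⟩ : N)) ⟨?_, ?_⟩).symm
    · rintro ⟨i, x⟩ ⟨i', x'⟩ h
      cases i <;> cases i' <;> simp at h
      · rw [h]
      · exact absurd ((mul_inv_eq_iff_eq_mul.mpr h) ▸ mul_mem x.2 (inv_mem x'.2)) htC
      · exact absurd ((mul_inv_eq_iff_eq_mul.mpr h.symm) ▸ mul_mem x'.2 (inv_mem x.2)) htC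
      · rw [h]
    · intro g
      rcases hNdec g g.2 with h | h
      · exact ⟨⟨false, ⟨g, h⟩⟩, by simp⟩
      · exact ⟨⟨true, ⟨t * g, h⟩⟩, Subtype.ext (by simp [← mul_assoc, sq_one ht])⟩
  -- `C(a) = N`
  have hCa : Subgroup.centralizer ({a} : Set G) = N := by
    refine le_antisymm (fun g hg => S.centralizer_le hzP hw₀ h2p Q hbQ hb1 hbw
      (Subgroup.mem_centralizer_singleton_iff.mp hg)) fun g hg => Subgroup.mem_centralizer_singleton_iff.mpr ?_
    have h1 : g * a * g⁻¹ * w₀ = w₀ * (g * a * g⁻¹) := by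
      have h2 := S.cent hzP hw₀ hbw (g⁻¹ * w₀ * g) ((Subgroup.mem_normalizer_iff''.mp hg w₀).mp hzP)
      calc g * a * g⁻¹ * w₀ = g * (a * (g⁻¹ * w₀ * g)) * g⁻¹ := by group
        _ = g * ((g⁻¹ * w₀ * g) * a) * g⁻¹ := by rw [h2]
        _ = w₀ * (g * a * g⁻¹) := by group
    have h3 := (S.pprime_eq hzP hw₀ hb hbw hb1 (by rwa [orderOf_conj]) h1 fun h => hb1 (conj_eq_one_iff.mp h)).1
    exact mul_inv_eq_iff_eq_mul.mp h3.symm
  -- one class of involutions
  have hconjQ : ∀ u : G, orderOf u = 2 → IsConj a u := by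
    intro u hu
    obtain ⟨Q', hQ'⟩ := exists_sylow_mem (p := 2) (k := 1) (hu.trans (pow_one 2).symm)
    obtain ⟨c, hc⟩ := MulAction.exists_smul_eq G Q Q'
    rw [← hc, mem_smul] at hQ'
    obtain ⟨w, hwN, hwo⟩ := S.exists_normalizing h2p Q hbQ hb1
    have hwQ := Subgroup.mem_normalizer_iff.mp hwN
    set b1 := w * a * w⁻¹ with hb1def
    set b2 := w * b1 * w⁻¹ with hb2def
    have hb1Q : b1 ∈ (Q : Subgroup G) := (hwQ a).mp hbQ
    have hb2Q : b2 ∈ (Q : Subgroup G) := (hwQ b1).mp hb1Q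
    have hne1 : b1 ≠ a := fun h => hb1 (S.fix h2p Q hwN hwo hbQ (mul_inv_eq_iff_eq_mul.mp h).symm)
    have hne2 : b2 ≠ b1 := fun h => hne1 (mul_left_cancel (mul_right_cancel h))
    have hne3 : b2 ≠ a := fun h => by
      refine hne1 ?_
      have hw3 : w ^ 3 = 1 := by rw [← hp3, ← hwo, pow_orderOf_eq_one]
      have e : w * b2 * w⁻¹ = a := by
        rw [hb2def, hb1def, show w * (w * (w * a * w⁻¹) * w⁻¹) * w⁻¹ = w ^ 3 * a * (w ^ 3)⁻¹ by
          rw [show (3 : ℕ) = 1 + 1 + 1 from rfl, pow_add, pow_add, pow_one]; group, hw3]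
        simp
      rw [h] at e
      exact e
    have hu' : c⁻¹ * u * c ≠ 1 := fun h => by
      rw [show u = c * (c⁻¹ * u * c) * c⁻¹ by group, h] at hu
      simp at hu
    have hset : ({1, a, b1, b2} : Set G) = ((Q : Subgroup G) : Set G) := by
      refine Set.eq_of_subset_of_ncard_le ?_ ?_ (Set.toFinite _)
      · rintro y (rfl | rfl | rfl | rfl)
        exacts [one_mem _, hbQ, hb1Q, hb2Q]
      · rw [← Nat.card_coe_set_eq]
        change Nat.card ↥(Q : Subgroup G) ≤ _
        rw [hQ4, Set.ncard_insert_of_notMem, Set.ncard_eq_three.mpr ⟨a, b1, b2, hne1.symm, hne3.symm, hne2.symm, rfl⟩]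
        · simp only [Set.mem_insert_iff, Set.mem_singleton_iff, not_or]
          exact ⟨Ne.symm hb1, fun h => hb1 (conj_eq_one_iff.mp h.symm),
            fun h => hb1 (conj_eq_one_iff.mp (conj_eq_one_iff.mp h.symm))⟩
    rw [← SetLike.mem_coe, ← hset] at hQ'
    have hfin : IsConj a (c⁻¹ * u * c) := by
      rcases hQ' with h | h | h | h
      · exact absurd h hu'
      · rw [h]
      · rw [h]; exact isConj_iff.mpr ⟨w, rfl⟩
      · rw [h]; exact (isConj_iff.mpr ⟨w, rfl⟩ : IsConj a b1).trans (isConj_iff.mpr ⟨w, rfl⟩)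
    exact hfin.trans (isConj_iff.mpr ⟨c, by group⟩)
  obtain ⟨hkN, hfm⟩ := S.double_count hb2 hconjQ ht hrel
  rw [hCa] at hkN hfm
  have hk : Nat.card {P' : Sylow p G // Rel a P'} = 2 * n := by
    rw [← hCcard]
    exact Nat.eq_of_mul_eq_mul_right Nat.card_pos hkN
  have hW : Nat.card (wset P) = 2 * n - 2 := by
    have e : wset P = (C : Set G) \ {1, a} := by
      ext g
      constructor
      · rintro ⟨hg, hd⟩
        refine ⟨(hmemC g).mpr hg, ?_⟩
        rintro (rfl | rfl)
        · rw [orderOf_one] at hd; exact (Fact.out : p.Prime).not_dvd_one hd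
        · exact hb hd
      · rintro ⟨hg, hne⟩
        refine ⟨(hmemC g).mp hg, ?_⟩
        by_contra hd
        by_cases h1 : g = 1
        · exact hne (Or.inl h1)
        · exact hne (Or.inr (S.pprime_eq hzP hw₀ hb hbw hb1 hd ((hmemC g).mp hg w₀ hzP) h1).1.symm)
    rw [e, Nat.card_coe_set_eq, Set.ncard_sdiff (by rintro y (rfl | rfl); exacts [one_mem _, haC]) (Set.toFinite _),
      Set.ncard_pair (Ne.symm hb1), ← Nat.card_coe_set_eq]
    show Nat.card C - 2 = _
    rw [hCcard]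
  have hs : Nat.card {u : G // orderOf u = 2 ∧ u * a = a * u} = 2 * n + 1 := by
    have e : {u : G | orderOf u = 2 ∧ u * a = a * u} = insert a ((fun x => t * x) '' (C : Set G)) := by
      ext u
      constructor
      · rintro ⟨hu, hua⟩
        have huN : u ∈ N := hCa ▸ Subgroup.mem_centralizer_singleton_iff.mpr hua
        rcases hNdec u huN with h | h
        · left
          refine (S.pprime_eq hzP hw₀ hb hbw hb1 (by rw [hu]; exact S.not_dvd_two) ((hmemC u).mp h w₀ hzP)
            fun h1 => ?_).1.symm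
          rw [h1, orderOf_one] at hu; omega
        · exact Or.inr ⟨t * u, h, by simp [← mul_assoc, sq_one ht]⟩
      · rintro (rfl | ⟨x, hx, rfl⟩)
        · exact ⟨hb2, rfl⟩
        · have hxC := (hmemC x).mp hx
          have hinv := S.invert_cent ht hrel hxC
          rw [inv_eq_of_mul_eq_one_right (sq_one ht)] at hinv
          refine ⟨orderOf_eq_prime (by rw [sq, ← mul_assoc, hinv, inv_mul_cancel]) fun h => htC ?_,
            Subgroup.mem_centralizer_singleton_iff.mp (hCa ▸ mul_mem htN (hCN hx))⟩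
          rw [eq_inv_of_mul_eq_one_left h]
          exact inv_mem hx
    show Nat.card ({u : G | orderOf u = 2 ∧ u * a = a * u} : Set G) = _
    rw [Nat.card_coe_set_eq, e, Set.ncard_insert_of_notMem, Set.ncard_image_of_injective _ (mul_right_injective t),
      ← Nat.card_coe_set_eq]
    · show Nat.card C + 1 = _
      rw [hCcard]
    · rintro ⟨x, hx, hxa⟩
      refine htC ?_
      rw [eq_mul_inv_of_mul_eq hxa]
      exact mul_mem haC (inv_mem hx)
  have hcount := S.count hb2 P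
  rw [hs, hk, hW] at hcount
  set f := Nat.card {u : G // orderOf u = 2} with hf
  obtain ⟨n', hn'⟩ : ∃ j, n = 2 * j + 1 := by
    obtain ⟨k, hk'⟩ := IsPGroup.iff_card.mp P.2
    rw [hn, hk']
    exact ((Fact.out : p.Prime).odd_of_ne_two S.hp2).pow
  have hNc : Nat.card N = 4 * n := by rw [hNcard, hCcard]; ring
  have hGc : Nat.card G = 4 * (n * f) := by rw [← hfm, hNc]; ring
  have hfodd : Odd (n * f) := by
    rw [Nat.odd_mul]
    refine ⟨⟨n', hn'⟩, ?_⟩
    rw [hcount, hn']
    exact ⟨2 * n' + 1 + (2 * n' + 1) * (2 * (2 * n' + 1) - 2), by ring⟩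
  haveI : IsKleinFour ↥(Q : Subgroup G) := by
    refine ⟨hQ4, ?_⟩
    refine (Nat.prime_two.eq_one_or_self_of_dvd _ (Monoid.exponent_dvd_of_forall_pow_eq_one
      fun x => Subtype.ext (hQexp x x.2))).resolve_left fun h => ?_
    have := Monoid.exp_eq_one_iff.mp h
    have h1 : Nat.card ↥(Q : Subgroup G) = 1 := Nat.card_of_subsingleton 1
    omega
  obtain ⟨M, hM⟩ := Lib.Blocks.exists_isPModular Nat.prime_two
  obtain ⟨ζ₂, ζ₃, ζ₄, ε, hε, hn2, hn3', h23, h24, h34, hB, hval, hd2, hd3, hd4, -⟩ :=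
    Cfsg.Agent.S0948.result M hM Q inferInstance (fun s s' hs hs' => (hconjQ s hs).symm.trans (hconjQ s' hs'))
  obtain ⟨hv2, hv3, hv4⟩ := hval a hb2
  have hn4 : (ζ₄ : G → ℂ) ≠ fun _ => 1 := fun h => by
    rw [h] at hv4; norm_num at hv4
  have hdeg : ∀ ζ : Cfsg.IrrCharacter G, (ζ : G → ℂ) ≠ (fun _ => 1) → Cfsg.charDegree (ζ : G → ℂ) ≠ 1 := by
    intro ζ hne h1
    refine hne (funext fun g => ?_)
    exact Characters.IsCharacter.apply_of_mem_commutator (Characters.irr_isCharacter ζ)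
      (by rw [Characters.SmallDegreePrime.charDegree_natCast, h1, Nat.cast_one]) (S.hperf ▸ Subgroup.mem_top g)
  have h2' := hdeg ζ₂ hn2
  have h3' := hdeg ζ₃ hn3'
  have h4' := hdeg ζ₄ hn4
  have hnc : ¬ ∃ K : Subgroup G, K.Normal ∧ Nat.card K = n * f := by
    rintro ⟨K, hK, hKc⟩
    rcases hK.eq_bot_or_eq_top with rfl | rfl
    · rw [Subgroup.card_bot] at hKc
      have h3 := Nat.le_of_dvd (by omega : 0 < n) hn3
      rw [hp3] at h3
      have := Nat.eq_one_of_mul_eq_one_right hKc.symm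
      omega
    · rw [Subgroup.card_top, hGc] at hKc
      have := hfodd.pos
      omega
  have hform := Cfsg.Agent.S4479.result M hM (n * f) hfodd hGc hnc Q a hbQ hb2 ζ₂ ζ₃ ζ₄ 1 ε (-1) hB
    ⟨hn2, hn3', hn4, h23, h24, h34⟩ ⟨Or.inl rfl, hε, Or.inr rfl⟩
    ⟨by rw [hv2, Int.cast_one], hv3, by rw [hv4]; push_cast; rfl⟩
  have hQcard : Nat.card ↥(Subgroup.centralizer ((Q : Subgroup G) : Set G)) = 4 := by
    have heq : Subgroup.centralizer ((Q : Subgroup G) : Set G) = (Q : Subgroup G) := by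
      refine le_antisymm (fun u hu => ?_) fun u hu => Subgroup.mem_centralizer_iff.mpr fun x hx =>
        sylow_comm_of_ab S.hab h2p Q hx hu
      have hua : u ∈ N := hCa ▸ Subgroup.mem_centralizer_singleton_iff.mpr
        ((Subgroup.mem_centralizer_iff.mp hu a hbQ).symm)
      have hut : u * t = t * u := (Subgroup.mem_centralizer_iff.mp hu t htQ).symm
      have key : ∀ x ∈ C, x * t = t * x → x ∈ (Q : Subgroup G) := by
        intro x hx hxt
        have hinv := S.invert_cent ht hrel ((hmemC x).mp hx)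
        rw [← hxt, mul_inv_cancel_right] at hinv
        by_cases hx1 : x = 1
        · rw [hx1]; exact one_mem _
        have hx2 : orderOf x = 2 := orderOf_eq_prime (by rw [sq]; nth_rewrite 1 [hinv]; exact inv_mul_cancel x) hx1
        rw [← (S.pprime_eq hzP hw₀ hb hbw hb1 (by rw [hx2]; exact S.not_dvd_two) ((hmemC x).mp hx w₀ hzP) hx1).1]
        exact hbQ
      rcases hNdec u hua with h | h
      · exact key u h hut
      · have h1 := key _ h (by rw [mul_assoc, hut])
        have h2 := mul_mem htQ h1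
        rwa [← mul_assoc, sq_one ht, one_mul] at h2
    rw [heq, hQ4]
  rw [hCa, hNc, hQcard] at hform
  set x := Cfsg.charDegree (ζ₂ : G → ℂ) with hx
  set y := Cfsg.charDegree (ζ₃ : G → ℂ) with hy
  set v := Cfsg.charDegree (ζ₄ : G → ℂ) with hv
  have hx3 : 3 ≤ x := by omega
  have hy3 : 3 ≤ y := by rcases hε with rfl | rfl <;> omega
  have hv3' : 3 ≤ v := by omega
  rw [hGc] at hform
  push_cast at hform
  set α : ℚ := (x : ℚ) * y * v / ((x + 1) * (y + ε) * (v + -1)) with hα
  have hx' : (3 : ℚ) ≤ x := by exact_mod_cast hx3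
  have hy' : (3 : ℚ) ≤ y := by exact_mod_cast hy3
  have hv' : (3 : ℚ) ≤ v := by exact_mod_cast hv3'
  have hεq : (ε : ℚ) ≤ 1 ∧ -1 ≤ (ε : ℚ) := by rcases hε with rfl | rfl <;> norm_num
  have hαlow : (9 : ℚ) / 16 ≤ α := by
    have h0 : (0 : ℚ) < y + ε := by linarith
    have h1 : (0 : ℚ) < v + -1 := by linarith
    rw [hα, le_div_iff₀ (mul_pos (mul_pos (by linarith) h0) h1)]
    calc (9 : ℚ) / 16 * ((x + 1) * (y + ε) * (v + -1))
        = (3 / 4 * (x + 1)) * (3 / 4 * (y + ε)) * (v + -1) := by ring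
      _ ≤ (x : ℚ) * y * v :=
        mul_le_mul (mul_le_mul (by linarith) (by linarith) (by linarith) (by linarith)) (by linarith)
          h1.le (mul_nonneg (by linarith) (by linarith))
  have hn1 : 1 ≤ n := by omega
  have hfle : f + 2 * n ≤ 4 * n * n + 1 := by
    rw [hcount]
    rw [hn', show 2 * (2 * n' + 1) - 2 = 4 * n' by omega]
    nlinarith
  have hnq : (1 : ℚ) ≤ n := by exact_mod_cast hn1
  have hfq : (f : ℚ) + 2 * n ≤ 4 * n * n + 1 := by exact_mod_cast hfle
  have hfα : (f : ℚ) = 8 * α * n ^ 2 := by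
    have h4 : (4 : ℚ) * (n * f) = 4 * n * (8 * α * n ^ 2) := by rw [hform]; ring
    have : (4 * (n : ℚ)) * f = (4 * n) * (8 * α * n ^ 2) := by linarith
    exact mul_left_cancel₀ (by positivity) this
  have hge : (9 : ℚ) / 16 * (8 * n ^ 2) ≤ α * (8 * n ^ 2) := mul_le_mul_of_nonneg_right hαlow (by positivity)
  have hsq : (1 : ℚ) ≤ n ^ 2 := one_le_pow₀ hnq
  rw [show (4 : ℚ) * n * n = 4 * n ^ 2 by ring] at hfq
  rw [show 8 * α * (n : ℚ) ^ 2 = α * (8 * n ^ 2) by ring] at hfα
  linarith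

theorem contradiction : False := by
  by_cases h : ∀ w b : G, orderOf w = p → ¬ p ∣ orderOf b → b * w = w * b → b = 1
  · exact S.false_of_free h
  · push Not at h
    obtain ⟨w, b, hw, hb, hbw, hb1⟩ := h
    exact S.false_of_fixed hw hb hbw hb1

end Setup

end Cfsg.Agent.Lib.PGroups.CyclicDichotomy
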