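import Cfsg.Agent.Lib.PGroups.CyclicSylowBasic

/-!
Simple groups with a cyclic Sylow `p`-subgroup all whose subgroups of order prime to `p` are commutative:
centralisers of elements of order `p`.
-/

set_option autoImplicit false

namespace Cfsg.Agent.Lib.PGroups.CyclicDichotomy

universe u

variable {G : Type u} [Group G] [Finite G] {p : ℕ} [Fact p.Prime]

/-- The configuration left by the induction. -/
structure Setup (G : Type u) [Group G] (p : ℕ) : Prop where
  hp2 : p ≠ 2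
  hab : ∀ H : Subgroup G, ¬ p ∣ Nat.card H → IsMulCommutative H
  hcyc : ∀ P : Sylow p G, IsCyclic (P : Subgroup G)
  simple : IsSimpleGroup G
  hperf : commutator G = ⊤
  hdvd : p ∣ Nat.card G
  hN : ∀ (P : Sylow p G) (z : G), z ∈ (P : Subgroup G) → orderOf z = p → ∀ g : G,
    g * z * g⁻¹ ∈ Subgroup.zpowers z → g ∈ Subgroup.normalizer ((P : Subgroup G) : Set G)
  split : ∀ H : Subgroup G, H ≠ ⊤ → ∀ R : Sylow p H,
    Cfsg.HasNormalPComplement p H ∨ (R : Subgroup H).Normal

omit [Finite G] in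
theorem pow_mem_zero {x : G} {k : ℕ} (hx : orderOf x = p ^ k) : IsPGroup p (Subgroup.zpowers x) :=
  IsPGroup.of_card (n := k) (by rw [Nat.card_zpowers, hx])

theorem exists_sylow_mem {x : G} {k : ℕ} (hx : orderOf x = p ^ k) : ∃ P : Sylow p G, x ∈ (P : Subgroup G) := by
  obtain ⟨P, hP⟩ := (pow_mem_zero hx).exists_le_sylow
  exact ⟨P, hP (Subgroup.mem_zpowers x)⟩

theorem ne_one_of_orderOf {x : G} (hx : orderOf x = p) : x ≠ 1 := fun h => by
  rw [h, orderOf_one] at hx
  exact (Fact.out : p.Prime).ne_one hx.symm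

/-- Two elements of order `p` of a cyclic `p`-group generate the same subgroup. -/
theorem mem_zpowers_of_order {P : Sylow p G} (hc : IsCyclic (P : Subgroup G)) {x z : G}
    (hx : x ∈ (P : Subgroup G)) (hxo : x ^ p = 1) (hz : z ∈ (P : Subgroup G)) (hzo : orderOf z = p) :
    x ∈ Subgroup.zpowers z := by
  classical
  haveI := Fintype.ofFinite (P : Subgroup G)
  have hle : (Subgroup.zpowers (⟨z, hz⟩ : (P : Subgroup G)) : Set (P : Subgroup G)).toFinset ⊆
      Finset.univ.filter fun y : (P : Subgroup G) => y ^ p = 1 := by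
    intro y hy
    rw [Set.mem_toFinset] at hy
    obtain ⟨k, rfl⟩ := Subgroup.mem_zpowers_iff.mp hy
    refine Finset.mem_filter.mpr ⟨Finset.mem_univ _, Subtype.ext ?_⟩
    simp only [SubgroupClass.coe_pow, SubgroupClass.coe_zpow, OneMemClass.coe_one]
    rw [← zpow_natCast, ← zpow_mul, mul_comm, zpow_mul, zpow_natCast, ← hzo, pow_orderOf_eq_one, one_zpow]
  have heq := Finset.eq_of_subset_of_card_le hle (by
    refine (IsCyclic.card_pow_eq_one_le (α := (P : Subgroup G)) (Fact.out : p.Prime).pos).trans (le_of_eq ?_)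
    rw [Set.toFinset_card, ← Nat.card_eq_fintype_card]
    show p = Nat.card (Subgroup.zpowers (⟨z, hz⟩ : (P : Subgroup G)))
    rw [Nat.card_zpowers, Subgroup.orderOf_mk, hzo])
  have hmem : (⟨x, hx⟩ : (P : Subgroup G)) ∈ Finset.univ.filter fun y : (P : Subgroup G) => y ^ p = 1 :=
    Finset.mem_filter.mpr ⟨Finset.mem_univ _, Subtype.ext hxo⟩
  rw [← heq, Set.mem_toFinset] at hmem
  obtain ⟨k, hk⟩ := Subgroup.mem_zpowers_iff.mp hmem
  exact Subgroup.mem_zpowers_iff.mpr ⟨k, by simpa using congrArg Subtype.val hk⟩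

namespace Setup

variable (S : Setup G p)
include S

theorem mem_normalizer {P : Sylow p G} {z g : G} (hz : z ∈ (P : Subgroup G)) (hzo : orderOf z = p)
    (h : g * z = z * g) : g ∈ Subgroup.normalizer ((P : Subgroup G) : Set G) :=
  S.hN P z hz hzo g (by rw [h, mul_inv_cancel_right]; exact Subgroup.mem_zpowers z)

/-- Elements commuting with an element of order `p` of a Sylow subgroup centralise it. -/
theorem cent {P : Sylow p G} {z g : G} (hz : z ∈ (P : Subgroup G)) (hzo : orderOf z = p)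
    (h : g * z = z * g) : ∀ x ∈ (P : Subgroup G), g * x = x * g := by
  have hg := mem_centralizer_of_parts P (S.hcyc P) (S.mem_normalizer hz hzo h) fun i hi =>
    rigid_fix P.2 (S.hcyc P)
      (fun x hx => (Subgroup.mem_normalizer_iff.mp (pow_mem (S.mem_normalizer hz hzo h) i) x).mp hx)
      hi hz hzo ((show Commute g z from h).pow_left i).eq
  exact fun x hx => ((Subgroup.mem_centralizer_iff.mp hg) x hx).symm

/-- A Sylow subgroup is determined by any of its elements of order `p`. -/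
theorem sylow_eq {P P' : Sylow p G} {z : G} (hz : z ∈ (P : Subgroup G)) (hz' : z ∈ (P' : Subgroup G))
    (hzo : orderOf z = p) : P' = P := by
  refine Sylow.ext (P'.3 P.2 fun x hx => ?_).symm
  obtain ⟨k, hk⟩ := IsPGroup.iff_orderOf.mp P'.2 ⟨x, hx⟩
  rw [Subgroup.orderOf_mk] at hk
  exact mem_of_normalizer_pgroup P (S.mem_normalizer hz hzo (sylow_comm P' (S.hcyc P') x hx z hz')) hk

theorem centralizer_ne_top {x : G} (hx : x ≠ 1) : Subgroup.centralizer ({x} : Set G) ≠ ⊤ := by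
  intro h
  haveI := S.simple
  have hc : x ∈ Subgroup.center G := Subgroup.mem_center_iff.mpr fun g =>
    Subgroup.mem_centralizer_singleton_iff.mp (h ▸ Subgroup.mem_top g)
  rcases (inferInstance : (Subgroup.center G).Normal).eq_bot_or_eq_top with h1 | h1
  · exact hx (Subgroup.mem_bot.mp (h1 ▸ hc))
  · refine hx ?_
    have hcomm : commutator G = ⊥ := by
      rw [eq_bot_iff, commutator_def, Subgroup.commutator_le]
      intro a _ b _
      rw [Subgroup.mem_bot, commutatorElement_eq_one_iff_mul_comm]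
      exact (Subgroup.mem_center_iff.mp (h1 ▸ Subgroup.mem_top b) a)
    have hbt : (⊤ : Subgroup G) = ⊥ := S.hperf.symm.trans hcomm
    exact Subgroup.mem_bot.mp (hbt ▸ Subgroup.mem_top x)

/-- A proper subgroup containing `w` of order `p` is a product `D R`. -/
theorem exists_product {H : Subgroup G} (hH : H ≠ ⊤) {w : G} (hw : w ∈ H) (hwo : orderOf w = p) :
    ∃ D R : Subgroup G, D ≤ H ∧ R ≤ H ∧ ¬ p ∣ Nat.card D ∧ IsPGroup p R ∧ w ∈ R ∧
      (∀ n ∈ H, ∃ d ∈ D, ∃ r ∈ R, n = d * r) ∧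
      ((∀ x ∈ H, ∀ d ∈ D, x * d * x⁻¹ ∈ D) ∨ (∀ x ∈ H, ∀ r ∈ R, x * r * x⁻¹ ∈ R)) := by
  obtain ⟨R, hR⟩ := (pow_mem_zero (x := (⟨w, hw⟩ : H)) (k := 1) (p := p)
    (by rw [Subgroup.orderOf_mk, hwo, pow_one])).exists_le_sylow
  have hwR : w ∈ (R : Subgroup H).map H.subtype := ⟨⟨w, hw⟩, hR (Subgroup.mem_zpowers _), rfl⟩
  have hmain : ∀ D : Subgroup H, Subgroup.IsComplement' D (R : Subgroup H) →
      ((D.Normal) ∨ (R : Subgroup H).Normal) → ∃ D R : Subgroup G, D ≤ H ∧ R ≤ H ∧ ¬ p ∣ Nat.card D ∧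
        IsPGroup p R ∧ w ∈ R ∧ (∀ n ∈ H, ∃ d ∈ D, ∃ r ∈ R, n = d * r) ∧
        ((∀ x ∈ H, ∀ d ∈ D, x * d * x⁻¹ ∈ D) ∨ (∀ x ∈ H, ∀ r ∈ R, x * r * x⁻¹ ∈ R)) := by
    intro D hD hn
    refine ⟨D.map H.subtype, (R : Subgroup H).map H.subtype, Subgroup.map_subtype_le _,
      Subgroup.map_subtype_le _, ?_, R.2.map _, hwR, fun n hn => ?_, ?_⟩
    · rw [Subgroup.card_map_of_injective H.subtype_injective]
      intro hdvd
      refine R.not_dvd_index ?_
      rw [hD.index_eq_card]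
      exact hdvd
    · obtain ⟨⟨d, r⟩, hdr⟩ := hD.2 ⟨n, hn⟩
      exact ⟨_, ⟨d.1, d.2, rfl⟩, _, ⟨r.1, r.2, rfl⟩, (congrArg Subtype.val hdr).symm⟩
    · rcases hn with h | h
      · left
        rintro x hx _ ⟨d, hd, rfl⟩
        exact ⟨_, h.conj_mem d hd ⟨x, hx⟩, rfl⟩
      · right
        rintro x hx _ ⟨r, hr, rfl⟩
        exact ⟨_, h.conj_mem r hr ⟨x, hx⟩, rfl⟩
  rcases S.split H hH R with ⟨P1, N, hNn, hN⟩ | hRn
  · refine hmain N ?_ (Or.inl hNn)
    have hcop : (Nat.card (P1 : Subgroup H)).Coprime (Nat.card N) := by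
      have h := P1.card_coprime_index
      rwa [hN.index_eq_card] at h
    have hcard : Nat.card (R : Subgroup H) = Nat.card (P1 : Subgroup H) := by
      rw [Sylow.card_eq_multiplicity, Sylow.card_eq_multiplicity]
    exact Subgroup.isComplement'_of_coprime (by rw [hcard, hN.card_mul_card]) (by rw [hcard]; exact hcop.symm)
  · haveI := hRn
    obtain ⟨D, hD⟩ := Subgroup.exists_left_complement'_of_coprime (N := (R : Subgroup H)) R.card_coprime_index
    exact hmain D hD (Or.inr hRn)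

omit S in
/-- In a product `d r` of commuting factors the element lies in `D` when its order is prime to `p`. -/
theorem pprime_mem {D R : Subgroup G} (hR : IsPGroup p R) {b d r : G} (hd : d ∈ D) (hr : r ∈ R)
    (hDp : ¬ p ∣ Nat.card D) (hbdr : b = d * r) (hb : ¬ p ∣ orderOf b) (hcomm : b * r = r * b) : b ∈ D := by
  set k := Nat.card D * orderOf b with hk
  have hdr : Commute d r := by
    rw [hbdr, ← mul_assoc] at hcomm
    exact mul_right_cancel hcomm
  have h2 : r ^ k = 1 := by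
    have h1 : b ^ k = d ^ k * r ^ k := by rw [hbdr, hdr.mul_pow]
    rw [hk, mul_comm (Nat.card D), pow_mul, pow_orderOf_eq_one, one_pow] at h1
    have h3 : d ^ k = 1 := orderOf_dvd_iff_pow_eq_one.mp
      ((Subgroup.orderOf_dvd_natCard D hd).trans (dvd_mul_right _ _))
    rw [show orderOf b * Nat.card D = k from mul_comm _ _, h3, one_mul] at h1
    exact h1.symm
  obtain ⟨j, hj⟩ := IsPGroup.iff_orderOf.mp hR ⟨r, hr⟩
  rw [Subgroup.orderOf_mk] at hj
  have hr1 : r = 1 := by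
    rw [← orderOf_eq_one_iff, hj]
    refine Nat.eq_one_of_dvd_coprimes ?_ dvd_rfl (hj ▸ orderOf_dvd_of_pow_eq_one h2)
    exact Nat.Coprime.pow_left j ((Fact.out : p.Prime).coprime_iff_not_dvd.mpr fun h =>
      ((Fact.out : p.Prime).dvd_mul.mp h).elim hDp hb)
  rw [hbdr, hr1, mul_one]
  exact hd

/-- An element of order a prime `q ≠ p` power, of a Sylow subgroup `Q`, central in `N(Q)` is trivial. -/
theorem central_trivial {q : ℕ} [Fact q.Prime] (hqp : q ≠ p) (Q : Sylow q G) {c : G}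
    (hc : c ∈ (Q : Subgroup G)) (hcent : ∀ n ∈ Subgroup.normalizer ((Q : Subgroup G) : Set G), n * c = c * n) :
    c = 1 := by
  haveI : IsMulCommutative ↥(Q : Subgroup G) := S.hab _ (fun h => by
    obtain ⟨k, hk⟩ := IsPGroup.iff_card.mp Q.2
    rw [hk] at h
    exact hqp ((Nat.prime_dvd_prime_iff_eq Fact.out Fact.out).mp ((Fact.out : p.Prime).dvd_of_dvd_pow h)).symm)
  exact central_eq_one S.hperf Q hc hcent

omit S in
theorem not_dvd_of_sylow {q : ℕ} [Fact q.Prime] (hqp : q ≠ p) (Q : Sylow q G) {c : G}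
    (hc : c ∈ (Q : Subgroup G)) : ¬ p ∣ orderOf c := by
  intro h
  obtain ⟨k, hk⟩ := IsPGroup.iff_orderOf.mp Q.2 ⟨c, hc⟩
  rw [Subgroup.orderOf_mk] at hk
  rw [hk] at h
  exact hqp ((Nat.prime_dvd_prime_iff_eq Fact.out Fact.out).mp ((Fact.out : p.Prime).dvd_of_dvd_pow h)).symm

omit S in
theorem sylow_comm_of_ab (hab : ∀ H : Subgroup G, ¬ p ∣ Nat.card H → IsMulCommutative H) {q : ℕ} [Fact q.Prime]
    (hqp : q ≠ p) (Q : Sylow q G) {u v : G} (hu : u ∈ (Q : Subgroup G)) (hv : v ∈ (Q : Subgroup G)) :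
    u * v = v * u := by
  haveI := hab (Q : Subgroup G) (fun h => by
    obtain ⟨k, hk⟩ := IsPGroup.iff_card.mp Q.2
    rw [hk] at h
    exact hqp ((Nat.prime_dvd_prime_iff_eq Fact.out Fact.out).mp ((Fact.out : p.Prime).dvd_of_dvd_pow h)).symm)
  exact congrArg Subtype.val (mul_comm' (⟨u, hu⟩ : (Q : Subgroup G)) ⟨v, hv⟩)

theorem normalizer_ne_top {q : ℕ} [Fact q.Prime] (hqp : q ≠ p) (Q : Sylow q G) {c : G}
    (hc : c ∈ (Q : Subgroup G)) (hc1 : c ≠ 1) : Subgroup.normalizer ((Q : Subgroup G) : Set G) ≠ ⊤ := by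
  intro h
  haveI := S.simple
  rcases (Subgroup.normalizer_eq_top_iff.mp h).eq_bot_or_eq_top with h1 | h1
  · exact hc1 (Subgroup.mem_bot.mp (h1 ▸ hc))
  · obtain ⟨k, hk⟩ := IsPGroup.iff_card.mp Q.2
    have hd := S.hdvd
    rw [← Subgroup.card_top, ← h1, hk] at hd
    exact hqp ((Nat.prime_dvd_prime_iff_eq Fact.out Fact.out).mp ((Fact.out : p.Prime).dvd_of_dvd_pow hd)).symm

/-- An element of order `p` normalising a Sylow `q`-subgroup acts on it without fixed points. -/
theorem fix {q : ℕ} [Fact q.Prime] (hqp : q ≠ p) (Q : Sylow q G) {w c : G}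
    (hw : w ∈ Subgroup.normalizer ((Q : Subgroup G) : Set G)) (hwo : orderOf w = p)
    (hc : c ∈ (Q : Subgroup G)) (hcw : c * w = w * c) : c = 1 := by
  by_contra hc1
  obtain ⟨D, R, hDH, hRH, hDp, hR, hwR, hprod, -⟩ :=
    S.exists_product (S.normalizer_ne_top hqp Q hc hc1) hw hwo
  obtain ⟨P, hP⟩ := hR.exists_le_sylow
  have hcP := S.cent (hP hwR) hwo hcw
  have hcord := not_dvd_of_sylow hqp Q hc
  obtain ⟨d, hd, r, hr, hdr⟩ := hprod c (Subgroup.le_normalizer hc)
  have hcD : c ∈ D := pprime_mem hR hd hr hDp hdr hcord (hcP r (hP hr))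
  haveI := S.hab D hDp
  refine hc1 (S.central_trivial hqp Q hc fun n hn => ?_)
  obtain ⟨d, hd, r, hr, rfl⟩ := hprod n hn
  exact (Commute.mul_left (show Commute d c from congrArg Subtype.val (mul_comm' (⟨d, hd⟩ : D) ⟨c, hcD⟩))
    (show Commute r c from (hcP r (hP hr)).symm)).eq

/-- Some element of order `p` normalises a nontrivial Sylow `q`-subgroup. -/
theorem exists_normalizing {q : ℕ} [Fact q.Prime] (hqp : q ≠ p) (Q : Sylow q G) {c : G}
    (hc : c ∈ (Q : Subgroup G)) (hc1 : c ≠ 1) :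
    ∃ w ∈ Subgroup.normalizer ((Q : Subgroup G) : Set G), orderOf w = p := by
  by_contra hcon
  push Not at hcon
  have hnd : ¬ p ∣ Nat.card ↥(Subgroup.normalizer ((Q : Subgroup G) : Set G)) := fun h => by
    obtain ⟨⟨w, hw⟩, hwo⟩ := exists_prime_orderOf_dvd_card' p h
    exact hcon w hw (by rwa [Subgroup.orderOf_mk] at hwo)
  haveI := S.hab _ hnd
  exact hc1 (S.central_trivial hqp Q hc fun n hn =>
    congrArg Subtype.val (mul_comm' (⟨n, hn⟩ : Subgroup.normalizer ((Q : Subgroup G) : Set G))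
      ⟨c, Subgroup.le_normalizer hc⟩))

/-- The centraliser of a nontrivial `q`-element commuting with an element of order `p` normalises that
element's Sylow subgroup. -/
theorem centralizer_le {P : Sylow p G} {z b : G} (hz : z ∈ (P : Subgroup G)) (hzo : orderOf z = p)
    {q : ℕ} [Fact q.Prime] (hqp : q ≠ p) (Q : Sylow q G) (hb : b ∈ (Q : Subgroup G)) (hb1 : b ≠ 1)
    (hbz : b * z = z * b) {g : G} (hg : g * b = b * g) :
    g ∈ Subgroup.normalizer ((P : Subgroup G) : Set G) := by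
  set H := Subgroup.centralizer ({b} : Set G) with hH
  have hmemH : ∀ x, x ∈ H ↔ x * b = b * x := fun x => Subgroup.mem_centralizer_singleton_iff
  have hQH : (Q : Subgroup G) ≤ H := fun u hu => (hmemH u).mpr (sylow_comm_of_ab S.hab hqp Q hu hb)
  have hzH : z ∈ H := (hmemH z).mpr hbz.symm
  obtain ⟨D, R, hDH, hRH, hDp, hR, hzR, hprod, hnorm⟩ :=
    S.exists_product (S.centralizer_ne_top hb1) hzH hzo
  obtain ⟨P', hP'⟩ := hR.exists_le_sylow
  have hPP := S.sylow_eq hz (hP' hzR) hzo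
  rw [hPP] at hP'
  rcases hnorm with hDn | hRn
  · exfalso
    -- every element of order prime to `p` of `H` lies in `D`
    have hD : ∀ u ∈ H, ¬ p ∣ orderOf u → u ∈ D := by
      intro u hu huo
      obtain ⟨d, hd, r, hr, hdr⟩ := hprod u hu
      have hit : ∀ j : ℕ, ∃ d' ∈ D, u ^ j = d' * r ^ j := by
        intro j
        induction j with
        | zero => exact ⟨1, D.one_mem, by simp⟩
        | succ j ih =>
          obtain ⟨d', hd', he⟩ := ih
          refine ⟨d' * (r ^ j * d * (r ^ j)⁻¹),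
            D.mul_mem hd' (hDn _ (H.pow_mem (hRH hr) j) d hd), ?_⟩
          rw [pow_succ, he, hdr, pow_succ]; group
      obtain ⟨d', hd', he⟩ := hit (orderOf u)
      rw [pow_orderOf_eq_one] at he
      have hrk : r ^ orderOf u ∈ D := by
        rw [eq_inv_of_mul_eq_one_right he.symm]; exact D.inv_mem hd'
      obtain ⟨j, hj⟩ := IsPGroup.iff_orderOf.mp hR ⟨r, hr⟩
      rw [Subgroup.orderOf_mk] at hj
      have hr1 : r = 1 := by
        have h1 : r ^ (orderOf u * Nat.card D) = 1 := by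
          rw [pow_mul]
          exact orderOf_dvd_iff_pow_eq_one.mp (Subgroup.orderOf_dvd_natCard D hrk)
        rw [← orderOf_eq_one_iff, hj]
        refine Nat.eq_one_of_dvd_coprimes ?_ dvd_rfl (hj ▸ orderOf_dvd_of_pow_eq_one h1)
        exact Nat.Coprime.pow_left j ((Fact.out : p.Prime).coprime_iff_not_dvd.mpr fun h =>
          ((Fact.out : p.Prime).dvd_mul.mp h).elim huo hDp)
      rw [hdr, hr1, mul_one]; exact hd
    haveI := S.hab D hDp
    have hzQ : z ∈ Subgroup.normalizer ((Q : Subgroup G) : Set G) := by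
      have hmem : ∀ u ∈ (Q : Subgroup G), z * u * z⁻¹ ∈ (Q : Subgroup G) := by
        intro u hu
        have huD := hD u (hQH hu) (not_dvd_of_sylow hqp Q hu)
        obtain ⟨k, hk⟩ := IsPGroup.iff_orderOf.mp Q.2 ⟨u, hu⟩
        rw [Subgroup.orderOf_mk] at hk
        refine mem_of_normalizer_pgroup Q ?_ (k := k) (by
          rw [show z * u * z⁻¹ = MulAut.conj z u from rfl, MulEquiv.orderOf_eq, hk])
        refine Subgroup.centralizer_le_normalizer _ (Subgroup.mem_centralizer_iff.mpr fun v hv => ?_)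
        exact congrArg Subtype.val (mul_comm' (⟨v, hD v (hQH hv) (not_dvd_of_sylow hqp Q hv)⟩ : D)
          ⟨_, hDn z hzH u huD⟩)
      exact Subgroup.mem_normalizer_fintype hmem
    exact hb1 (S.fix hqp Q hzQ hzo hb hbz)
  · have hgH : g ∈ H := (hmemH g).mpr hg
    have h1 : g * z * g⁻¹ ∈ (P : Subgroup G) := hP' (hRn g hgH z hzR)
    exact S.hN P z hz hzo g (mem_zpowers_of_order (S.hcyc P) h1
      (by rw [conj_pow, ← hzo, pow_orderOf_eq_one, mul_one, mul_inv_cancel]) hz hzo)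

/-- Elements of order prime to `p` commuting with an element of order `p` commute with each other. -/
theorem pprime_comm {P : Sylow p G} {z b₁ b₂ : G} (hz : z ∈ (P : Subgroup G)) (hzo : orderOf z = p)
    (hb₁ : ¬ p ∣ orderOf b₁) (h₁ : b₁ * z = z * b₁) (hb₂ : ¬ p ∣ orderOf b₂) (h₂ : b₂ * z = z * b₂) :
    b₁ * b₂ = b₂ * b₁ := by
  obtain ⟨D, R, hDH, hRH, hDp, hR, hzR, hprod, -⟩ := S.exists_product (S.centralizer_ne_top (ne_one_of_orderOf hzo))
    (Subgroup.mem_centralizer_singleton_iff.mpr rfl : z ∈ Subgroup.centralizer ({z} : Set G)) hzo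
  obtain ⟨P', hP'⟩ := hR.exists_le_sylow
  have hm : ∀ b : G, ¬ p ∣ orderOf b → b * z = z * b → b ∈ D := by
    intro b hb hbz
    obtain ⟨d, hd, r, hr, hdr⟩ := hprod b (Subgroup.mem_centralizer_singleton_iff.mpr hbz)
    exact pprime_mem hR hd hr hDp hdr hb (S.cent (hP' hzR) hzo hbz r (hP' hr))
  haveI := S.hab D hDp
  exact congrArg Subtype.val (mul_comm' (⟨b₁, hm b₁ hb₁ h₁⟩ : D) ⟨b₂, hm b₂ hb₂ h₂⟩)

end Setup

end Cfsg.Agent.Lib.PGroups.CyclicDichotomy
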