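import Cfsg.Agent.Lib.PGroups.CyclicSylowFix

/-!
An element of order prime to `p` centralising an element of order `p`: then `p = 3` and the Sylow
`2`-subgroups are four groups.
-/

set_option autoImplicit false

namespace Cfsg.Agent.Lib.PGroups.CyclicDichotomy

universe u

variable {G : Type u} [Group G] [Finite G] {p : ℕ} [Fact p.Prime]

/-- A conjugation of order `p` without fixed points on a finite set. -/
theorem dvd_card_of_conj_free {w : G} (hw : orderOf w = p) (T : Set G) (hT : ∀ x ∈ T, w * x * w⁻¹ ∈ T)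
    (hfree : ∀ x ∈ T, w * x ≠ x * w) : p ∣ Nat.card T := by
  classical
  haveI := Fintype.ofFinite T
  by_contra h
  rw [Nat.card_eq_fintype_card] at h
  set σ : Equiv.Perm T := Equiv.ofBijective (fun x : T => (⟨w * x * w⁻¹, hT x x.2⟩ : T))
    (Finite.injective_iff_bijective.mp fun x y hxy => Subtype.ext
      (mul_left_cancel (mul_right_cancel (congrArg Subtype.val hxy)))) with hσ
  have hpow : ∀ (k : ℕ) (x : T), (((σ ^ k) x : T) : G) = w ^ k * x * (w ^ k)⁻¹ := by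
    intro k
    induction k with
    | zero => intro x; simp
    | succ k ih =>
      intro x
      have h1 : ((σ ((σ ^ k) x) : T) : G) = w * (((σ ^ k) x : T) : G) * w⁻¹ := rfl
      rw [pow_succ', Equiv.Perm.mul_apply, h1, ih, pow_succ']
      group
  have hσp : σ ^ p ^ 1 = 1 := Equiv.ext fun x => Subtype.ext (by
    rw [pow_one, hpow, ← hw, pow_orderOf_eq_one]; simp)
  obtain ⟨x, hx⟩ := Equiv.Perm.exists_fixed_point_of_prime h hσp
  exact hfree x x.2 (mul_inv_eq_iff_eq_mul.mp (congrArg Subtype.val hx))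

/-- A subgroup normalising a group of prime order is cyclic modulo its centraliser. -/
theorem card_dvd_of_normalizes (V : Subgroup G) {z : G} (hz : orderOf z = p)
    (hV : ∀ v ∈ V, v * z * v⁻¹ ∈ Subgroup.zpowers z) :
    Nat.card V ∣ Nat.card ↥(V ⊓ Subgroup.centralizer ({z} : Set G)) * (p - 1) ∧
      ∀ q : ℕ, (∀ v ∈ V, v ^ q = 1) → Nat.card V ∣ Nat.card ↥(V ⊓ Subgroup.centralizer ({z} : Set G)) * q := by
  set Z := Subgroup.zpowers z with hZ
  have hle : V ≤ Subgroup.normalizer (Z : Set G) := fun v hv => by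
    refine Subgroup.mem_normalizer_fintype fun n hn => ?_
    obtain ⟨k, rfl⟩ := Subgroup.mem_zpowers_iff.mp hn
    show v * z ^ k * v⁻¹ ∈ Z
    rw [← conj_zpow]
    exact zpow_mem (hV v hv) k
  set f : V →* MulAut Z := Z.normalizerMonoidHom.comp (Subgroup.inclusion hle) with hf
  have hker : f.ker = (V ⊓ Subgroup.centralizer ({z} : Set G)).subgroupOf V := by
    rw [hf, ← MonoidHom.comap_ker, Subgroup.normalizerMonoidHom_ker]
    ext v
    simp only [Subgroup.mem_comap, Subgroup.mem_subgroupOf, Subgroup.coe_inclusion, Subgroup.mem_inf,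
      SetLike.coe_mem, true_and]
    rw [hZ, Subgroup.mem_centralizer_iff, Subgroup.mem_centralizer_singleton_iff]
    constructor
    · intro h
      exact (h z (Subgroup.mem_zpowers z)).symm
    · intro h x hx
      obtain ⟨k, rfl⟩ := Subgroup.mem_zpowers_iff.mp hx
      exact ((show Commute (v : G) z from h).zpow_right k).eq.symm
  have hcard : Nat.card ↥(V ⊓ Subgroup.centralizer ({z} : Set G)) * Nat.card f.range = Nat.card V := by
    have h := f.ker.card_mul_index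
    rwa [Subgroup.index_ker, hker, Nat.card_congr (Subgroup.subgroupOfEquivOfLe inf_le_left).toEquiv] at h
  have hAut : Nat.card (MulAut Z) = p - 1 := by
    rw [IsCyclic.card_mulAut, hZ, Nat.card_zpowers, hz, Nat.totient_prime Fact.out]
  constructor
  · rw [← hcard]
    exact mul_dvd_mul_left _ (hAut ▸ Subgroup.card_subgroup_dvd_card _)
  · intro q hq
    rw [← hcard]
    refine mul_dvd_mul_left _ ?_
    haveI : Fact (Nat.card Z).Prime := ⟨by rw [hZ, Nat.card_zpowers, hz]; exact Fact.out⟩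
    haveI : IsCyclic (MulAut Z) :=
      isCyclic_of_surjective (IsCyclic.mulAutMulEquiv Z).symm.toMonoidHom (IsCyclic.mulAutMulEquiv Z).symm.surjective
    obtain ⟨g, hg⟩ := IsCyclic.exists_generator (α := f.range)
    rw [← orderOf_eq_card_of_forall_mem_zpowers hg]
    refine orderOf_dvd_of_pow_eq_one (Subtype.ext ?_)
    obtain ⟨v, hv⟩ := g.2
    rw [SubgroupClass.coe_pow, ← hv, ← map_pow, show v ^ q = 1 from Subtype.ext (hq v v.2), map_one]
    rfl

namespace Setup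

variable (S : Setup G p)
include S

/-- A prime divisor of the order of an element centralising an element of order `p` is `2`, with `p = 3`, and
the involution lies in a Sylow four group meeting the centraliser in it. -/
theorem klein {P : Sylow p G} {z b : G} (hz : z ∈ (P : Subgroup G)) (hzo : orderOf z = p) {q : ℕ} [Fact q.Prime]
    (hqp : q ≠ p) (Q : Sylow q G) (hb : b ∈ (Q : Subgroup G)) (hb1 : b ≠ 1) (hbz : b * z = z * b) :
    q = 2 ∧ p = 3 ∧ Nat.card (Q : Subgroup G) = 4 ∧ (∀ x ∈ (Q : Subgroup G), x ^ 2 = 1) ∧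
      (∀ x ∈ (Q : Subgroup G), x * z = z * x → x = 1 ∨ x = b) ∧
      (∀ x ∈ (Q : Subgroup G), x ∈ Subgroup.normalizer ((P : Subgroup G) : Set G)) := by
  have hqP : q.Prime := Fact.out
  have hpP : p.Prime := Fact.out
  have hQc : ∀ u ∈ (Q : Subgroup G), ∀ v ∈ (Q : Subgroup G), u * v = v * u :=
    fun u hu v hv => sylow_comm_of_ab S.hab hqp Q hu hv
  have hQP : ∀ x ∈ (Q : Subgroup G), x ∈ Subgroup.normalizer ((P : Subgroup G) : Set G) := fun x hx =>
    S.centralizer_le hz hzo hqp Q hb hb1 hbz (hQc x hx b hb)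
  have hQz : ∀ v ∈ (Q : Subgroup G), v * z * v⁻¹ ∈ Subgroup.zpowers z := fun v hv =>
    mem_zpowers_of_order (S.hcyc P) ((Subgroup.mem_normalizer_iff.mp (hQP v hv) z).mp hz)
      (by rw [conj_pow, ← hzo, pow_orderOf_eq_one, mul_one, mul_inv_cancel]) hz hzo
  obtain ⟨w, hwN, hwo⟩ := S.exists_normalizing hqp Q hb hb1
  have hwQ : ∀ v, v ∈ (Q : Subgroup G) ↔ w * v * w⁻¹ ∈ (Q : Subgroup G) :=
    Subgroup.mem_normalizer_iff.mp hwN
  set z' := w * z * w⁻¹ with hz'
  have hz'o : orderOf z' = p := by rw [hz', show w * z * w⁻¹ = MulAut.conj w z from rfl, MulEquiv.orderOf_eq, hzo]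
  -- an element of `Q` centralising `z` and `z'` is trivial
  have hinter : ∀ v ∈ (Q : Subgroup G), v * z = z * v → v * z' = z' * v → v = 1 := by
    intro v hv h1 h2
    by_contra hv1
    have h3 := S.centralizer_le hz hzo hqp Q hv hv1 h1 h2.symm
    have hz'P := mem_of_normalizer_pgroup P h3 (k := 1) (by rw [pow_one, hz'o])
    have hwP : w ∈ Subgroup.normalizer ((P : Subgroup G) : Set G) := S.hN P z hz hzo w
      (mem_zpowers_of_order (S.hcyc P) hz'P (by rw [← hz'o, pow_orderOf_eq_one]) hz hzo)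
    have hwP' := mem_of_normalizer_pgroup P hwP (k := 1) (by rw [pow_one, hwo])
    exact hb1 (S.fix hqp Q hwN hwo hb (S.cent hz hzo hbz w hwP'))
  have hQz' : ∀ v ∈ (Q : Subgroup G), v * z' * v⁻¹ ∈ Subgroup.zpowers z' := by
    intro v hv
    have hu : w⁻¹ * v * w ∈ (Q : Subgroup G) := (hwQ _).mpr (by
      rwa [show w * (w⁻¹ * v * w) * w⁻¹ = v by group])
    obtain ⟨k, hk⟩ := Subgroup.mem_zpowers_iff.mp (hQz _ hu)
    refine Subgroup.mem_zpowers_iff.mpr ⟨k, ?_⟩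
    rw [hz', conj_zpow, hk]
    group
  have hfree : ∀ x ∈ ((Q : Subgroup G) : Set G) \ {1}, w * x ≠ x * w := fun x hx h =>
    hx.2 (S.fix hqp Q hwN hwo hx.1 h.symm)
  haveI : IsMulCommutative ↥(Q : Subgroup G) := ⟨⟨fun u v => Subtype.ext (hQc u u.2 v v.2)⟩⟩
  let V : Subgroup G :=
    { carrier := {v | v ∈ (Q : Subgroup G) ∧ v ^ q = 1}
      one_mem' := ⟨one_mem _, one_pow q⟩
      mul_mem' := fun {u v} hu hv => ⟨mul_mem hu.1 hv.1, by
        rw [(show Commute u v from hQc u hu.1 v hv.1).mul_pow, hu.2, hv.2, one_mul]⟩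
      inv_mem' := fun {u} hu => ⟨inv_mem hu.1, by rw [inv_pow, hu.2, inv_one]⟩ }
  have hVQ : V ≤ (Q : Subgroup G) := fun v hv => hv.1
  have hwV : ∀ v ∈ V, w * v * w⁻¹ ∈ V := fun v hv =>
    ⟨(hwQ v).mp hv.1, by rw [conj_pow, hv.2, mul_one, mul_inv_cancel]⟩
  -- `V` is nontrivial
  obtain ⟨v₀, hv₀, hv₀1⟩ : ∃ v ∈ V, v ≠ 1 := by
    obtain ⟨k, hk⟩ := IsPGroup.iff_orderOf.mp Q.2 ⟨b, hb⟩
    rw [Subgroup.orderOf_mk] at hk
    obtain ⟨k, rfl⟩ : ∃ j, k = j + 1 := by
      rcases k with _ | j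
      · exact absurd (orderOf_eq_one_iff.mp (hk.trans (pow_zero q))) hb1
      · exact ⟨j, rfl⟩
    refine ⟨b ^ q ^ k, ⟨pow_mem hb _, by rw [← pow_mul, ← pow_succ, ← hk, pow_orderOf_eq_one]⟩, fun h => ?_⟩
    have := Nat.le_of_dvd (pow_pos hqP.pos k) (hk ▸ orderOf_dvd_of_pow_eq_one h)
    exact absurd this (not_le.mpr (Nat.pow_lt_pow_right hqP.one_lt (Nat.lt_succ_self k)))
  have hV1 : ∀ A : Subgroup G, A ≤ (Q : Subgroup G) → (∀ v ∈ A, v * z = z * v) →
      Nat.card ↥(A ⊓ Subgroup.centralizer ({z'} : Set G)) = 1 := by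
    intro A hA hAz
    rw [Subgroup.card_eq_one, Subgroup.eq_bot_iff_forall]
    intro v hv
    obtain ⟨hvA, hvz⟩ := Subgroup.mem_inf.mp hv
    exact hinter v (hA hvA) (hAz v hvA) (Subgroup.mem_centralizer_singleton_iff.mp hvz)
  set C := Subgroup.centralizer ({z} : Set G) with hC
  have hmemC : ∀ v, v ∈ C → v * z = z * v := fun v hv => Subgroup.mem_centralizer_singleton_iff.mp hv
  have hVC : Nat.card ↥(V ⊓ C) ∣ q := by
    have h := (card_dvd_of_normalizes (V ⊓ C) hz'o (fun v hv => hQz' v (hVQ hv.1))).2 q (fun v hv => hv.1.2)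
    rwa [hV1 (V ⊓ C) (fun v hv => hVQ hv.1) (fun v hv => hmemC v hv.2), one_mul] at h
  have hV2 : Nat.card V ∣ q ^ 2 :=
    ((card_dvd_of_normalizes V hzo (fun v hv => hQz v (hVQ hv))).2 q (fun v hv => hv.2)).trans
      (by rw [sq]; exact mul_dvd_mul_right hVC q)
  -- `q` divides `p - 1`
  have hnVC : ¬ V ≤ C := fun hle => hv₀1 (by
    have h1 : w⁻¹ * v₀ * w ∈ V := by
      refine ⟨(hwQ _).mpr (by rw [show w * (w⁻¹ * v₀ * w) * w⁻¹ = v₀ by group]; exact hVQ hv₀), ?_⟩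
      have h := conj_pow (a := w⁻¹) (b := v₀) (i := q)
      rw [inv_inv] at h
      rw [h, hv₀.2]; group
    refine hinter v₀ (hVQ hv₀) (hmemC _ (hle hv₀)) ?_
    have h2 := hmemC _ (hle h1)
    rw [hz']
    calc v₀ * (w * z * w⁻¹) = w * ((w⁻¹ * v₀ * w) * z) * w⁻¹ := by group
      _ = w * (z * (w⁻¹ * v₀ * w)) * w⁻¹ := by rw [h2]
      _ = w * z * w⁻¹ * v₀ := by group)
  have hqdvd : q ∣ p - 1 := by
    by_contra hnd
    refine hnVC ?_
    have h1 := (card_dvd_of_normalizes V hzo (fun v hv => hQz v (hVQ hv))).1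
    obtain ⟨k, hk⟩ := IsPGroup.iff_card.mp (Q.2.to_le hVQ)
    rw [hk] at h1
    have h2 : q ^ k ∣ Nat.card ↥(V ⊓ C) :=
      (Nat.Coprime.pow_left k (hqP.coprime_iff_not_dvd.mpr hnd)).dvd_of_dvd_mul_right h1
    exact inf_eq_left.mp (Subgroup.eq_of_le_of_card_ge inf_le_left (hk ▸ Nat.le_of_dvd Nat.card_pos h2))
  have hpdV : p ∣ Nat.card V - 1 := by
    have h := dvd_card_of_conj_free hwo ((V : Set G) \ {1})
      (fun x hx => ⟨hwV x hx.1, fun h1 => hx.2 (conj_eq_one_iff.mp h1)⟩)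
      (fun x hx => hfree x ⟨hVQ hx.1, hx.2⟩)
    rwa [Nat.card_coe_set_eq, Set.ncard_sdiff_singleton_of_mem V.one_mem, ← Nat.card_coe_set_eq] at h
  have hVgt : 1 < Nat.card V := (Subgroup.one_lt_card_iff_ne_bot V).mpr fun h =>
    hv₀1 (Subgroup.mem_bot.mp (h ▸ hv₀))
  have hqle : q ≤ p - 1 := Nat.le_of_dvd (by have := hpP.two_le; omega) hqdvd
  have hnq : ¬ p ∣ q - 1 := fun h => by
    have := Nat.le_of_dvd (by have := hqP.two_le; omega) h
    omega
  have hV4 : Nat.card V = q ^ 2 ∧ p = q + 1 := by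
    obtain ⟨k, hk, hk'⟩ := (Nat.dvd_prime_pow hqP).mp hV2
    interval_cases k
    · rw [hk', pow_zero] at hVgt; omega
    · rw [hk', pow_one] at hpdV; exact absurd hpdV hnq
    · refine ⟨hk', ?_⟩
      rw [hk'] at hpdV
      have hfac : q ^ 2 - 1 = (q + 1) * (q - 1) := by rw [← Nat.sq_sub_sq, one_pow]
      rw [hfac] at hpdV
      have := Nat.le_of_dvd (by omega) ((hpP.dvd_mul.mp hpdV).resolve_right hnq)
      omega
  obtain ⟨hVc, hpq⟩ := hV4
  have hq2 : q = 2 := by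
    rcases hqP.eq_two_or_odd' with h | h
    · exact h
    · exfalso
      exact S.hp2 ((Nat.prime_dvd_prime_iff_eq Nat.prime_two hpP).mp (hpq ▸ (h.add_odd odd_one).two_dvd)).symm
  subst hq2
  subst hpq
  have hQC : Nat.card ↥((Q : Subgroup G) ⊓ C) ∣ 2 := by
    have h := (card_dvd_of_normalizes ((Q : Subgroup G) ⊓ C) hz'o (fun v hv => hQz' v hv.1)).1
    rwa [hV1 _ inf_le_left (fun v hv => hmemC v hv.2), one_mul] at h
  have hQ4 : Nat.card (Q : Subgroup G) ∣ 4 :=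
    ((card_dvd_of_normalizes (Q : Subgroup G) hzo hQz).1).trans (mul_dvd_mul_right hQC 2)
  have hQV : (Q : Subgroup G) = V :=
    (Subgroup.eq_of_le_of_card_ge hVQ (by rw [hVc]; exact Nat.le_of_dvd (by norm_num) hQ4)).symm
  refine ⟨rfl, rfl, by rw [hQV, hVc]; norm_num, fun x hx => (hQV ▸ hx : x ∈ V).2, fun x hx hxz => ?_, hQP⟩
  by_cases hx1 : x = 1
  · exact Or.inl hx1
  refine Or.inr ?_
  have hbC : b ∈ (Q : Subgroup G) ⊓ C := ⟨hb, Subgroup.mem_centralizer_singleton_iff.mpr hbz⟩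
  have hxC : x ∈ (Q : Subgroup G) ⊓ C := ⟨hx, Subgroup.mem_centralizer_singleton_iff.mpr hxz⟩
  have hcard2 : Nat.card ↥((Q : Subgroup G) ⊓ C) = 2 := ((Nat.dvd_prime Nat.prime_two).mp hQC).resolve_left
    (fun h => hb1 (Subgroup.mem_bot.mp (Subgroup.card_eq_one.mp h ▸ hbC)))
  by_contra hne
  have h3 := Set.ncard_le_ncard (s := ({1, b, x} : Set G)) (t := ((Q : Subgroup G) ⊓ C : Subgroup G))
    (by rintro y (rfl | rfl | rfl) <;> [exact one_mem _; exact hbC; exact hxC]) (Set.toFinite _)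
  rw [← Nat.card_coe_set_eq] at h3
  change ({1, b, x} : Set G).ncard ≤ Nat.card ↥((Q : Subgroup G) ⊓ C) at h3
  rw [hcard2, Set.ncard_eq_three.mpr ⟨1, b, x, Ne.symm hb1, Ne.symm hx1, Ne.symm hne, rfl⟩] at h3
  omega

/-- The centraliser of an element of order `p` contains at most one element of order prime to `p` besides `1`. -/
theorem pprime_eq {P : Sylow p G} {z b₁ b₂ : G} (hz : z ∈ (P : Subgroup G)) (hzo : orderOf z = p)
    (hb₁ : ¬ p ∣ orderOf b₁) (h₁ : b₁ * z = z * b₁) (h₁1 : b₁ ≠ 1) (hb₂ : ¬ p ∣ orderOf b₂)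
    (h₂ : b₂ * z = z * b₂) (h₂1 : b₂ ≠ 1) : b₁ = b₂ ∧ orderOf b₁ = 2 ∧ p = 3 := by
  haveI : Fact (Nat.Prime 2) := ⟨Nat.prime_two⟩
  have key : ∀ b : G, ¬ p ∣ orderOf b → b * z = z * b → b ≠ 1 →
      p = 3 ∧ ∃ k, orderOf b = 2 ^ k := by
    intro b hb hbz hb1
    have hpart : ∀ d, d.Prime → d ∣ orderOf b → d = 2 ∧ p = 3 := by
      intro d hd hdvd
      haveI : Fact d.Prime := ⟨hd⟩
      have ho : orderOf (b ^ (orderOf b / d)) = d := by
        rw [orderOf_pow_orderOf_div (orderOf_pos b).ne' hdvd]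
      have hdp : d ≠ p := fun h => hb (h ▸ hdvd)
      obtain ⟨Q, hQ⟩ := exists_sylow_mem (p := d) (k := 1) (ho.trans (pow_one d).symm)
      have h := S.klein hz hzo hdp Q hQ (ne_one_of_orderOf ho) ((show Commute b z from hbz).pow_left _).eq
      exact ⟨h.1, h.2.1⟩
    obtain ⟨d, hd, hdvd⟩ := Nat.exists_prime_and_dvd (fun h => hb1 (orderOf_eq_one_iff.mp h))
    exact ⟨(hpart d hd hdvd).2, _, Nat.eq_prime_pow_of_unique_prime_dvd (orderOf_pos b).ne'
      (fun hd h => (hpart _ hd h).1)⟩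
  obtain ⟨hp3, k₁, hk₁⟩ := key b₁ hb₁ h₁ h₁1
  obtain ⟨-, k₂, hk₂⟩ := key b₂ hb₂ h₂ h₂1
  have hcomm := S.pprime_comm hz hzo hb₁ h₁ hb₂ h₂
  have hA : IsPGroup 2 ↥(Subgroup.zpowers b₁ ⊔ Subgroup.zpowers b₂) :=
    (IsPGroup.of_card (n := k₁) (by rw [Nat.card_zpowers, hk₁])).to_sup_of_normal_right'
      (IsPGroup.of_card (n := k₂) (by rw [Nat.card_zpowers, hk₂])) (Subgroup.zpowers_le.mpr
        (Subgroup.centralizer_le_normalizer _ (Subgroup.mem_centralizer_iff.mpr (by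
          rintro _ ⟨j, rfl⟩
          exact ((show Commute b₁ b₂ from hcomm).zpow_right j).eq.symm))))
  obtain ⟨Q, hQ⟩ := hA.exists_le_sylow
  have h2p : (2 : ℕ) ≠ p := fun h => S.hp2 h.symm
  have hb1Q : b₁ ∈ (Q : Subgroup G) := hQ (Subgroup.mem_sup_left (Subgroup.mem_zpowers b₁))
  have hb2Q : b₂ ∈ (Q : Subgroup G) := hQ (Subgroup.mem_sup_right (Subgroup.mem_zpowers b₂))
  have h := S.klein hz hzo h2p Q hb1Q h₁1 h₁
  refine ⟨((h.2.2.2.2.1 b₂ hb2Q h₂).resolve_left h₂1).symm, ?_, hp3⟩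
  exact orderOf_eq_prime (h.2.2.2.1 b₁ hb1Q) h₁1

end Setup

end Cfsg.Agent.Lib.PGroups.CyclicDichotomy
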