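import Cfsg.Agent.Lib.PGroups.CyclicSylowCount

/-!
A cyclic Sylow `p`-subgroup and commutative subgroups of order prime to `p`: normal `p`-complement or normal
Sylow subgroup.
-/

set_option autoImplicit false

open scoped commutatorElement

namespace Cfsg.Agent.Lib.PGroups.CyclicDichotomy

universe u

variable {p : ℕ} [Fact p.Prime]

/-- The elements of order prime to `p` lie in a normal `p`-complement. -/
theorem mem_complement {H : Type u} [Group H] [Finite H] {P : Sylow p H} {N : Subgroup H} (hN : N.Normal)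
    (hc : N.IsComplement' (P : Subgroup H)) {x : H} (hx : ¬ p ∣ orderOf x) : x ∈ N := by
  haveI := hN
  rw [← QuotientGroup.eq_one_iff, ← orderOf_eq_one_iff]
  have h1 : orderOf (x : H ⧸ N) ∣ Nat.card (P : Subgroup H) := by
    have hcard : Nat.card (H ⧸ N) = Nat.card (P : Subgroup H) := by
      rw [← Subgroup.index_eq_card, hc.symm.index_eq_card]
    exact hcard ▸ orderOf_dvd_natCard _
  obtain ⟨k, hk⟩ := IsPGroup.iff_card.mp P.2
  rw [hk] at h1
  exact Nat.eq_one_of_dvd_coprimes (Nat.Coprime.pow_left k ((Fact.out : p.Prime).coprime_iff_not_dvd.mpr hx)) h1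
    (orderOf_map_dvd (QuotientGroup.mk' N) x)

theorem complement_not_dvd {H : Type u} [Group H] [Finite H] {P : Sylow p H} {N : Subgroup H}
    (hc : N.IsComplement' (P : Subgroup H)) : ¬ p ∣ Nat.card N := hc.index_eq_card ▸ P.not_dvd_index

/-- A normal subgroup has a characteristic part: a normal subgroup of order prime to `p`, or a normal
`p`-subgroup. -/
theorem exists_normal_part {G : Type u} [Group G] [Finite G] (M : Subgroup G) [M.Normal] (hM : M ≠ ⊥)
    (R : Sylow p M) (h : Cfsg.HasNormalPComplement p M ∨ (R : Subgroup M).Normal)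
    (hK : ∀ K : Subgroup G, K.Normal → ¬ p ∣ Nat.card K → K = ⊥) :
    ∃ W : Subgroup G, W.Normal ∧ W ≠ ⊥ ∧ W ≤ M ∧ IsPGroup p W ∧
      (M ≤ W ∨ ∀ x ∈ M, ∀ k, orderOf x = p ^ k → x ∈ W) := by
  rcases h with ⟨P1, N, hN, hc⟩ | hRn
  · have hL : (N.map M.subtype).Normal := ⟨fun x hx g => by
      obtain ⟨y, hy, rfl⟩ := hx
      have hmem : g * (y : G) * g⁻¹ ∈ M := (inferInstance : M.Normal).conj_mem y y.2 g
      refine ⟨⟨_, hmem⟩, mem_complement hN hc ?_, rfl⟩
      intro hd
      rw [Subgroup.orderOf_mk, orderOf_conj, Subgroup.orderOf_coe] at hd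
      exact complement_not_dvd hc (hd.trans (Subgroup.orderOf_dvd_natCard N hy))⟩
    have hb : N = ⊥ := by
      have h1 := hK _ hL (by rw [Subgroup.card_map_of_injective M.subtype_injective]; exact complement_not_dvd hc)
      rwa [Subgroup.map_eq_bot_iff_of_injective _ M.subtype_injective] at h1
    have hMp : IsPGroup p M := by
      obtain ⟨k, hk⟩ := IsPGroup.iff_card.mp P1.2
      refine IsPGroup.of_card (n := k) ?_
      rw [← hk, ← hc.card_mul_card, hb, Subgroup.card_bot, one_mul]
    exact ⟨M, inferInstance, hM, le_rfl, hMp, Or.inl le_rfl⟩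
  · have hall : ∀ x : M, ∀ k, orderOf x = p ^ k → x ∈ (R : Subgroup M) := fun x k hk =>
      mem_of_normalizer_pgroup R (by rw [Subgroup.normalizer_eq_top_iff.mpr hRn]; exact Subgroup.mem_top x) hk
    have hWn : ((R : Subgroup M).map M.subtype).Normal := ⟨fun x hx g => by
      obtain ⟨y, hy, rfl⟩ := hx
      obtain ⟨k, hk⟩ := IsPGroup.iff_orderOf.mp R.2 ⟨y, hy⟩
      rw [Subgroup.orderOf_mk] at hk
      have hmem : g * (y : G) * g⁻¹ ∈ M := (inferInstance : M.Normal).conj_mem y y.2 g
      exact ⟨⟨_, hmem⟩, hall _ k (by rw [Subgroup.orderOf_mk, orderOf_conj, Subgroup.orderOf_coe, hk]), rfl⟩⟩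
    refine ⟨_, hWn, fun hb => ?_, Subgroup.map_subtype_le _, R.2.map _, Or.inr fun x hx k hk =>
      ⟨⟨x, hx⟩, hall _ k (by rw [Subgroup.orderOf_mk, hk]), rfl⟩⟩
    rw [Subgroup.map_eq_bot_iff_of_injective _ M.subtype_injective] at hb
    refine hM (hK M inferInstance fun hd => ?_)
    obtain ⟨x, hx⟩ := exists_prime_orderOf_dvd_card' p hd
    have h1 := hb ▸ hall x 1 (by rw [hx, pow_one])
    rw [Subgroup.mem_bot] at h1
    rw [h1, orderOf_one] at hx
    exact (Fact.out : p.Prime).ne_one hx.symm

theorem dichotomy : ∀ (m : ℕ) {G : Type u} [Group G] [Finite G], Nat.card G ≤ m →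
    (∀ H : Subgroup G, ¬ p ∣ Nat.card H → IsMulCommutative H) →
    ∀ P : Sylow p G, IsCyclic (P : Subgroup G) →
      Cfsg.HasNormalPComplement p G ∨ (P : Subgroup G).Normal := by
  intro m
  induction m with
  | zero => intro G _ _ h; exact absurd h (not_le.mpr Nat.card_pos)
  | succ m ih =>
  intro G _ _ hcard hab P hcyc
  have hpP : p.Prime := Fact.out
  have hcycAll : ∀ P' : Sylow p G, IsCyclic (P' : Subgroup G) := fun P' =>
    isCyclic_of_surjective (Sylow.equiv P P').toMonoidHom (Sylow.equiv P P').surjective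
  by_cases hcomp : Cfsg.HasNormalPComplement p G
  · exact Or.inl hcomp
  by_cases hPn : (P : Subgroup G).Normal
  · exact Or.inr hPn
  exfalso
  have hburn : ∀ P' : Sylow p G, (∀ d ∈ Subgroup.normalizer ((P' : Subgroup G) : Set G), ¬ p ∣ orderOf d →
      ∀ x ∈ (P' : Subgroup G), d * x = x * d) → False := fun P' h =>
    hcomp (complement_of_central P' (hcycAll P') h)
  have hPne : (P : Subgroup G) ≠ ⊥ := fun h => hPn (h ▸ inferInstance)
  have hdvdG : p ∣ Nat.card G := by
    by_contra hd
    refine hPne (Subgroup.card_eq_one.mp ?_)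
    obtain ⟨k, hk⟩ := IsPGroup.iff_card.mp P.2
    rcases k with _ | k
    · rw [hk, pow_zero]
    · exact absurd ((dvd_pow_self p (Nat.succ_ne_zero k)).trans (hk ▸ Subgroup.card_subgroup_dvd_card _)) hd
  -- `p` is odd
  have hp2 : p ≠ 2 := by
    rintro rfl
    have hmin : (Nat.card G).minFac = 2 := (Nat.minFac_eq_two_iff _).mpr hdvdG
    exact hcomp ⟨P, _, inferInstance, IsCyclic.isComplement' hmin hcyc⟩
  have habsub : ∀ H : Subgroup G, ∀ K : Subgroup H, ¬ p ∣ Nat.card K → IsMulCommutative K := by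
    intro H K hK
    haveI := hab (K.map H.subtype) (by rwa [Subgroup.card_map_of_injective H.subtype_injective])
    exact ⟨⟨fun a b => Subtype.ext (Subtype.ext (congrArg Subtype.val (mul_comm'
      (⟨_, a.1, a.2, rfl⟩ : K.map H.subtype) ⟨_, b.1, b.2, rfl⟩) :))⟩⟩
  have hsplit : ∀ H : Subgroup G, H ≠ ⊤ → ∀ R : Sylow p H,
      Cfsg.HasNormalPComplement p H ∨ (R : Subgroup H).Normal := by
    intro H hH R
    refine ih ?_ (habsub H) R ?_
    · by_contra hlt
      refine hH (Subgroup.eq_top_of_card_eq H ?_)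
      have := Subgroup.card_le_card_group H
      omega
    · obtain ⟨P', hP'⟩ := (R.2.map H.subtype).exists_le_sylow
      haveI := hcycAll P'
      haveI : IsCyclic ↥((R : Subgroup H).map H.subtype) :=
        isCyclic_of_injective (Subgroup.inclusion hP') (Subgroup.inclusion_injective _)
      exact isCyclic_of_surjective ((R : Subgroup H).equivMapOfInjective _ H.subtype_injective).symm.toMonoidHom
        ((R : Subgroup H).equivMapOfInjective _ H.subtype_injective).symm.surjective
  -- no normal subgroup of order prime to `p`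
  have hK : ∀ K : Subgroup G, K.Normal → ¬ p ∣ Nat.card K → K = ⊥ := by
    intro K hKn hKp
    by_contra hK1
    haveI := hKn
    set π := QuotientGroup.mk' K with hπ
    have hπs : Function.Surjective π := QuotientGroup.mk'_surjective K
    have habq : ∀ H : Subgroup (G ⧸ K), ¬ p ∣ Nat.card H → IsMulCommutative H := by
      intro H hH
      have hc : Nat.card (H.comap π) = Nat.card H * Nat.card K := by
        have h := Cores.card_map_mul_card_inf_ker π (H.comap π)
        rw [Subgroup.map_comap_eq_self_of_surjective hπs, hπ, QuotientGroup.ker_mk',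
          inf_eq_right.mpr (fun x hx => by
            rw [Subgroup.mem_comap, QuotientGroup.mk'_apply, (QuotientGroup.eq_one_iff x).mpr hx]
            exact one_mem H)] at h
        exact h.symm
      haveI := hab (H.comap π) (fun hd => by
        rw [hc] at hd
        exact (hpP.dvd_mul.mp hd).elim hH hKp)
      refine ⟨⟨fun a b => ?_⟩⟩
      obtain ⟨x, hx⟩ := hπs a.1
      obtain ⟨y, hy⟩ := hπs b.1
      have hxy : x * y = y * x := congrArg Subtype.val (mul_comm'
        (⟨x, show π x ∈ H from hx ▸ a.2⟩ : H.comap π) ⟨y, show π y ∈ H from hy ▸ b.2⟩)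
      exact Subtype.ext (by
        show a.1 * b.1 = b.1 * a.1
        rw [← hx, ← hy, ← map_mul, hxy, map_mul])
    have hlt : Nat.card (G ⧸ K) ≤ m := by
      have h := Subgroup.card_eq_card_quotient_mul_card_subgroup K
      have h2 : 2 ≤ Nat.card K := (Subgroup.one_lt_card_iff_ne_bot K).mpr hK1
      have h3 : 0 < Nat.card (G ⧸ K) := Nat.card_pos
      nlinarith
    haveI := hcyc
    have hcycq : IsCyclic ((P.mapSurjective hπs : Sylow p (G ⧸ K)) : Subgroup (G ⧸ K)) :=
      isCyclic_of_surjective (π.subgroupMap (P : Subgroup G)) (MonoidHom.subgroupMap_surjective π _)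
    rcases ih hlt habq (P.mapSurjective hπs) hcycq with ⟨P1, N, hN, hc⟩ | hn
    · refine hcomp ⟨P, N.comap π, hN.comap π, ?_⟩
      have hL : Nat.card (N.comap π) = Nat.card N * Nat.card K := by
        have h := Cores.card_map_mul_card_inf_ker π (N.comap π)
        rw [Subgroup.map_comap_eq_self_of_surjective hπs, hπ, QuotientGroup.ker_mk',
          inf_eq_right.mpr (fun x hx => by
            rw [Subgroup.mem_comap, QuotientGroup.mk'_apply, (QuotientGroup.eq_one_iff x).mpr hx]
            exact one_mem N)] at h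
        exact h.symm
      have hLp : ¬ p ∣ Nat.card (N.comap π) := fun hd => by
        rw [hL] at hd
        exact (hpP.dvd_mul.mp hd).elim (complement_not_dvd hc) hKp
      obtain ⟨k, hk⟩ := IsPGroup.iff_card.mp P.2
      have hcop : (Nat.card (N.comap π)).Coprime (Nat.card (P : Subgroup G)) := by
        rw [hk]; exact (Nat.Coprime.pow_left k (hpP.coprime_iff_not_dvd.mpr hLp)).symm
      refine Subgroup.isComplement'_of_coprime ?_ hcop
      have hLi : (N.comap π).index = Nat.card (P1 : Subgroup (G ⧸ K)) := by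
        rw [Subgroup.index_comap_of_surjective _ hπs, hc.symm.index_eq_card]
      obtain ⟨j, hj⟩ := IsPGroup.iff_card.mp P1.2
      have e := (N.comap π).card_mul_index
      have e2 := (P : Subgroup G).card_mul_index
      have d1 : Nat.card (P : Subgroup G) ∣ (N.comap π).index :=
        hcop.symm.dvd_of_dvd_mul_left (e ▸ Subgroup.card_subgroup_dvd_card _)
      have d2 : (N.comap π).index ∣ Nat.card (P : Subgroup G) := by
        rw [hLi, hj]
        refine (Nat.Coprime.pow_left j (hpP.coprime_iff_not_dvd.mpr P.not_dvd_index)).dvd_of_dvd_mul_right ?_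
        rw [e2, ← e, hLi, hj]
        exact dvd_mul_left _ _
      rw [← Nat.dvd_antisymm d2 d1]
      exact e
    · by_cases hcentK : ∀ x ∈ (P : Subgroup G), ∀ k ∈ K, x * k = k * x
      · refine hPn ⟨fun x hx g => ?_⟩
        have h1 : g * x * g⁻¹ ∈ ((P : Subgroup G).map π).comap π := by
          rw [Subgroup.mem_comap, map_mul, map_mul, map_inv]
          exact hn.conj_mem _ ⟨x, hx, rfl⟩ _
        rw [Subgroup.comap_map_eq, hπ, QuotientGroup.ker_mk', sup_comm, ← SetLike.mem_coe, Subgroup.normal_mul,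
          Set.mem_mul] at h1
        obtain ⟨k, hk, y, hy, hky⟩ := h1
        obtain ⟨j, hj⟩ := IsPGroup.iff_card.mp P.2
        have hxN : x ^ p ^ j = 1 := orderOf_dvd_iff_pow_eq_one.mp (hj ▸ Subgroup.orderOf_dvd_natCard _ hx)
        have hyN : y ^ p ^ j = 1 := orderOf_dvd_iff_pow_eq_one.mp (hj ▸ Subgroup.orderOf_dvd_natCard _ hy)
        have hk1 : k ^ p ^ j = 1 := by
          have h := conj_pow (a := g) (b := x) (i := p ^ j)
          rw [hxN, mul_one, mul_inv_cancel, ← hky, (show Commute k y from (hcentK y hy k hk).symm).mul_pow, hyN,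
            mul_one] at h
          exact h
        have hk0 : k = 1 := by
          rw [← orderOf_eq_one_iff]
          exact Nat.eq_one_of_dvd_coprimes (Nat.Coprime.pow_left j (hpP.coprime_iff_not_dvd.mpr hKp))
            (orderOf_dvd_of_pow_eq_one hk1) (Subgroup.orderOf_dvd_natCard K hk)
        rw [← hky, hk0, one_mul]; exact hy
      · refine hburn P fun d hd hdo => ?_
        have hdK : ∀ k ∈ K, d * k = k * d := by
          have hn' : Subgroup.zpowers d ≤ Subgroup.normalizer (K : Set G) := by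
            rw [Subgroup.normalizer_eq_top_iff.mpr hKn]; exact le_top
          have hnd : ¬ p ∣ Nat.card ↥(Subgroup.zpowers d ⊔ K) := fun h => by
            have h1 := h.trans (Cores.card_sup_dvd (Subgroup.zpowers d) K)
            rw [Nat.card_zpowers] at h1
            exact (hpP.dvd_mul.mp h1).elim hdo hKp
          haveI := hab _ hnd
          exact fun k hk => congrArg Subtype.val (mul_comm'
            (⟨d, Subgroup.mem_sup_left (Subgroup.mem_zpowers d)⟩ : ↥(Subgroup.zpowers d ⊔ K))
            ⟨k, Subgroup.mem_sup_right hk⟩)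
        refine rigid_quot P.2 hcyc (fun x hx => (Subgroup.mem_normalizer_iff.mp hd x).mp hx) hdo
          (R₀ := Subgroup.centralizer (K : Set G)) (fun hle => hcentK fun x hx k hk =>
            ((Subgroup.mem_centralizer_iff.mp (hle hx)) k hk).symm) fun x _ => ?_
        rw [Subgroup.mem_centralizer_iff]
        intro k hk
        have hxk : x⁻¹ * k * x ∈ K := by simpa using hKn.conj_mem k hk x⁻¹
        have h1 := hdK _ hxk
        have h2 := hdK k hk
        calc k * (d * x * d⁻¹ * x⁻¹) = d * (d⁻¹ * (k * d)) * (x * d⁻¹ * x⁻¹) := by group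
          _ = d * k * x * d⁻¹ * x⁻¹ := by rw [← h2]; group
          _ = d * x * d⁻¹ * (d * (x⁻¹ * k * x)) * d⁻¹ * x⁻¹ := by group
          _ = d * x * d⁻¹ * ((x⁻¹ * k * x) * d) * d⁻¹ * x⁻¹ := by rw [h1]
          _ = d * x * d⁻¹ * x⁻¹ * k := by group
  -- normalisers of subgroups of order `p` normalise the Sylow subgroup
  have hN : ∀ (P' : Sylow p G) (z : G), z ∈ (P' : Subgroup G) → orderOf z = p → ∀ g : G,
      g * z * g⁻¹ ∈ Subgroup.zpowers z → g ∈ Subgroup.normalizer ((P' : Subgroup G) : Set G) := by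
    intro P' z hz hzo
    have hz1 : z ≠ 1 := ne_one_of_orderOf hzo
    have hPz : ∀ d ∈ Subgroup.normalizer ((P' : Subgroup G) : Set G), d * z * d⁻¹ ∈ Subgroup.zpowers z :=
      fun d hd => mem_zpowers_of_order (hcycAll P') ((Subgroup.mem_normalizer_iff.mp hd z).mp hz)
        (by rw [conj_pow, ← hzo, pow_orderOf_eq_one, mul_one, mul_inv_cancel]) hz hzo
    have hrig : ∀ d ∈ Subgroup.normalizer ((P' : Subgroup G) : Set G), ¬ p ∣ orderOf d → d * z = z * d →
        ∀ x ∈ (P' : Subgroup G), d * x = x * d := fun d hd hdo h =>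
      rigid_fix P'.2 (hcycAll P') (fun x hx => (Subgroup.mem_normalizer_iff.mp hd x).mp hx) hdo hz hzo h
    set N1 := Subgroup.normalizer ((Subgroup.zpowers z : Subgroup G) : Set G) with hN1
    have hmem1 : ∀ g, g * z * g⁻¹ ∈ Subgroup.zpowers z → g ∈ N1 := fun g hg =>
      Subgroup.mem_normalizer_fintype fun n hn => by
        obtain ⟨k, rfl⟩ := Subgroup.mem_zpowers_iff.mp hn
        show g * z ^ k * g⁻¹ ∈ Subgroup.zpowers z
        rw [← conj_zpow]
        exact zpow_mem hg k
    have hPle : (P' : Subgroup G) ≤ N1 := fun x hx => hmem1 x (by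
      rw [sylow_comm P' (hcycAll P') x hx z hz, mul_inv_cancel_right]; exact Subgroup.mem_zpowers z)
    by_cases htop : N1 = ⊤
    · exfalso
      set C := Subgroup.centralizer ({z} : Set G) with hC
      haveI hCn : C.Normal := ⟨fun c hc g => by
        rw [hC, Subgroup.mem_centralizer_singleton_iff] at hc ⊢
        have h1 : g⁻¹ * z * g ∈ Subgroup.zpowers z :=
          (Subgroup.mem_normalizer_iff''.mp (htop ▸ Subgroup.mem_top g : g ∈ N1) z).mp (Subgroup.mem_zpowers z)
        obtain ⟨k, hk⟩ := Subgroup.mem_zpowers_iff.mp h1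
        have h2 := ((show Commute c z from hc).zpow_right k).eq
        rw [hk] at h2
        calc g * c * g⁻¹ * z = g * (c * (g⁻¹ * z * g)) * g⁻¹ := by group
          _ = g * ((g⁻¹ * z * g) * c) * g⁻¹ := by rw [h2]
          _ = z * (g * c * g⁻¹) := by group⟩
      by_cases hCtop : C = ⊤
      · exact hburn P' fun d hd hdo => hrig d hd hdo
          (Subgroup.mem_centralizer_singleton_iff.mp (hCtop ▸ Subgroup.mem_top d : d ∈ C))
      have hPC : (P' : Subgroup G) ≤ C := fun x hx =>
        Subgroup.mem_centralizer_singleton_iff.mpr (sylow_comm P' (hcycAll P') x hx z hz)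
      have hC1 : C ≠ ⊥ := fun h => hz1 (Subgroup.mem_bot.mp (h ▸ hPC hz))
      obtain ⟨W, hWn, -, hWC, hWp, hW⟩ := exists_normal_part C hC1 (P'.subtype hPC) (hsplit C hCtop _) hK
      have hPW : (P' : Subgroup G) ≤ W := by
        rcases hW with h | h
        · exact hPC.trans h
        · intro x hx
          obtain ⟨k, hk⟩ := IsPGroup.iff_orderOf.mp P'.2 ⟨x, hx⟩
          exact h x (hPC hx) k (by rwa [Subgroup.orderOf_mk] at hk)
      have hPW' : W = (P' : Subgroup G) := P'.3 hWp hPW
      obtain ⟨c, hc⟩ := MulAction.exists_smul_eq G P P'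
      refine hPn ?_
      have hPeq : (P : Subgroup G) = W := by
        ext x
        constructor
        · intro hx
          have h1 : c * x * c⁻¹ ∈ W := by
            rw [hPW', ← hc, mem_smul, show c⁻¹ * (c * x * c⁻¹) * c = x by group]
            exact hx
          have h2 := hWn.conj_mem _ h1 c⁻¹
          rwa [show c⁻¹ * (c * x * c⁻¹) * c⁻¹⁻¹ = x by group] at h2
        · intro hx
          have h1 : c * x * c⁻¹ ∈ ((c • P : Sylow p G) : Subgroup G) := by
            rw [hc, ← hPW']; exact hWn.conj_mem x hx c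
          rwa [mem_smul, show c⁻¹ * (c * x * c⁻¹) * c = x by group] at h1
      rw [hPeq]; exact hWn
    intro g hg
    rcases hsplit N1 htop (P'.subtype hPle) with ⟨P1, L, hL, hc⟩ | hn
    · exfalso
      refine hburn P' fun d hd hdo => hrig d hd hdo ?_
      have hd1 : d ∈ N1 := hmem1 d (hPz d hd)
      have hdL : (⟨d, hd1⟩ : N1) ∈ L := mem_complement hL hc (by rwa [Subgroup.orderOf_mk])
      have hz1' : z ∈ N1 := hPle hz
      set u : N1 := ⟨d, hd1⟩ * ⟨z, hz1'⟩ * ⟨d, hd1⟩⁻¹ * (⟨z, hz1'⟩ : N1)⁻¹ with hu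
      have huL : u ∈ L := by
        rw [hu, mul_assoc, mul_assoc, ← mul_assoc (⟨z, hz1'⟩ : N1)]
        exact L.mul_mem hdL (hL.conj_mem _ (L.inv_mem hdL) _)
      have huz : (u : G) ∈ Subgroup.zpowers z := by
        show d * z * d⁻¹ * z⁻¹ ∈ _
        exact mul_mem (hPz d hd) (inv_mem (Subgroup.mem_zpowers z))
      have hu1 : (u : G) = 1 := by
        rw [← orderOf_eq_one_iff]
        refine Nat.eq_one_of_dvd_coprimes ((hpP.coprime_iff_not_dvd.mpr (complement_not_dvd hc)))
          ?_ (by rw [Subgroup.orderOf_coe]; exact Subgroup.orderOf_dvd_natCard L huL)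
        have := Subgroup.orderOf_dvd_natCard _ huz
        rwa [Nat.card_zpowers, hzo] at this
      have hu2 : d * z * d⁻¹ * z⁻¹ = 1 := hu1
      exact mul_inv_eq_iff_eq_mul.mp (mul_inv_eq_one.mp hu2)
    · refine Subgroup.mem_normalizer_fintype fun x hx => ?_
      exact hn.conj_mem ⟨x, hPle hx⟩ hx ⟨g, hmem1 g hg⟩
  -- simplicity
  haveI : Nontrivial G := Finite.one_lt_card_iff_nontrivial.mp
    (lt_of_lt_of_le hpP.one_lt (Nat.le_of_dvd Nat.card_pos hdvdG))
  have hsimple : IsSimpleGroup G := by
    refine ⟨fun M hMn => ?_⟩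
    by_contra hcon
    push Not at hcon
    haveI := hMn
    obtain ⟨R⟩ : Nonempty (Sylow p M) := inferInstance
    obtain ⟨W, hWn, hW1, -, hWp, -⟩ := exists_normal_part M hcon.1 R (hsplit M hcon.2 R) hK
    obtain ⟨P', hP'⟩ := hWp.exists_le_sylow
    have hdW : p ∣ Nat.card W := by
      obtain ⟨k, hk⟩ := IsPGroup.iff_card.mp hWp
      rcases k with _ | k
      · exact absurd (Subgroup.card_eq_one.mp (hk.trans (pow_zero p))) hW1
      · rw [hk]; exact dvd_pow_self p (Nat.succ_ne_zero k)
    obtain ⟨⟨z, hzW⟩, hzo⟩ := exists_prime_orderOf_dvd_card' p hdW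
    rw [Subgroup.orderOf_mk] at hzo
    have hall : ∀ g, g ∈ Subgroup.normalizer ((P' : Subgroup G) : Set G) := fun g =>
      hN P' z (hP' hzW) hzo g (mem_zpowers_of_order (hcycAll P') (hP' (hWn.conj_mem z hzW g))
        (by rw [conj_pow, ← hzo, pow_orderOf_eq_one, mul_one, mul_inv_cancel]) (hP' hzW) hzo)
    obtain ⟨c, hc⟩ := MulAction.exists_smul_eq G P' P
    refine hPn ?_
    rw [← hc, Sylow.smul_eq_iff_mem_normalizer.mpr (hall c)]
    exact Subgroup.normalizer_eq_top_iff.mp (eq_top_iff.mpr fun g _ => hall g)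
  have hperf : commutator G = ⊤ := by
    haveI := hsimple
    refine (inferInstance : (commutator G).Normal).eq_bot_or_eq_top.resolve_left fun h => hPn ⟨fun x hx g => ?_⟩
    have h1 : ⁅g, x⁆ ∈ commutator G := Subgroup.commutator_mem_commutator (Subgroup.mem_top g) (Subgroup.mem_top x)
    rw [h, Subgroup.mem_bot, commutatorElement_eq_one_iff_mul_comm] at h1
    rw [h1, mul_inv_cancel_right]; exact hx
  exact Setup.contradiction (G := G) (p := p) ⟨hp2, hab, hcycAll, hsimple, hperf, hdvdG, hN, hsplit⟩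

end Cfsg.Agent.Lib.PGroups.CyclicDichotomy
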