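import Mathlib

/-!
The derived length of a `p`-group of matrices in characteristic different from `p`.
-/

set_option autoImplicit false
set_option linter.style.haveILetI false
set_option linter.unusedSectionVars false

namespace Cfsg.Agent.Lib.PGroups.DerivedLength

universe u v w

variable {F : Type v} [Field F]

theorem derivedSeries_succ_le {P : Type u} [Group P] (M : Subgroup P)
    (hM : ⁅(⊤ : Subgroup P), ⊤⁆ ≤ M) :
    ∀ k : ℕ, derivedSeries P (k + 1) ≤ (derivedSeries M k).map M.subtype := by
  intro k
  induction k with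
  | zero =>
    rw [derivedSeries_succ, derivedSeries_zero, derivedSeries_zero, ← MonoidHom.range_eq_map,
      Subgroup.range_subtype]
    exact hM
  | succ k ih =>
    rw [derivedSeries_succ, derivedSeries_succ M k, Subgroup.map_commutator]
    exact Subgroup.commutator_mono ih ih

/-- An element acting trivially on an invariant subspace and on the quotient is trivial. -/
theorem eq_id_of_trivial {V : Type w} [AddCommGroup V] [Module F V] {x : Module.End F V} {N : ℕ}
    (hx : x ^ N = 1) (hN : (N : F) ≠ 0) (U : Submodule F V) (hU : ∀ u ∈ U, x u = u)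
    (hQ : ∀ v, x v - v ∈ U) : x = 1 := by
  refine LinearMap.ext fun v => ?_
  have key : ∀ j : ℕ, (x ^ j) v = v + j • (x v - v) := by
    intro j
    induction j with
    | zero => simp
    | succ j ih =>
      rw [pow_succ', Module.End.mul_apply, ih, map_add, map_nsmul, hU _ (hQ v), succ_nsmul]
      abel
  have h := key N
  rw [hx, Module.End.one_apply, left_eq_add, ← Nat.cast_smul_eq_nsmul F, smul_eq_zero] at h
  rw [Module.End.one_apply, ← sub_eq_zero]
  exact h.resolve_left hN

/-- The reduction to irreducible actions. -/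
theorem step {P : Type u} [Group P] [Finite P] {p : ℕ} [Fact p.Prime] (hP : IsPGroup p P)
    (hp : (p : F) ≠ 0) {V : Type w} [AddCommGroup V] [Module F V] [FiniteDimensional F V]
    (θ : P →* Module.End F V) (U : Submodule F V) (hU : ∀ g, ∀ v ∈ U, θ g v ∈ U) (D : Subgroup P)
    (h₁ : ∀ x ∈ D, ∀ u ∈ U, θ x u = u)
    (h₂ : ∀ x ∈ D, ∀ v, θ x v - v ∈ U) : D ≤ θ.ker := by
  intro x hx
  obtain ⟨k, hk⟩ := hP x
  exact eq_id_of_trivial (N := p ^ k) (by rw [← map_pow, hk, map_one])
    (by rw [Nat.cast_pow]; exact pow_ne_zero _ hp) U (h₁ x hx) (h₂ x hx)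

theorem exists_pow {P : Type u} [Group P] {p : ℕ} (hP : IsPGroup p P) {V : Type w} [AddCommGroup V]
    [Module F V] (θ : P →* Module.End F V) :
    IsPGroup p θ.toHomUnits.range :=
  hP.of_surjective _ θ.toHomUnits.rangeRestrict_surjective

/-- Over an algebraically closed field. -/
theorem bound_closed [IsAlgClosed F] {p : ℕ} [Fact p.Prime] (hp : (p : F) ≠ 0) (m : ℕ) :
    ∀ (P : Type u) [Group P] [Finite P], IsPGroup p P →
    ∀ (V : Type w) [AddCommGroup V] [Module F V] [FiniteDimensional F V] (θ : P →* Module.End F V),
      Module.finrank F V = m → derivedSeries P (Nat.log 2 m + 1) ≤ θ.ker := by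
  induction m using Nat.strong_induction_on with
  | _ m ih =>
    intro P _ _ hP V _ _ _ θ hm
    by_cases hirr : ∃ U : Submodule F V, (∀ g, ∀ v ∈ U, θ g v ∈ U) ∧ U ≠ ⊥ ∧ U ≠ ⊤
    · obtain ⟨U, hU, hU0, hU1⟩ := hirr
      have hUlt : Module.finrank F U < m := hm ▸ Submodule.finrank_lt hU1
      have hQlt : Module.finrank F (V ⧸ U) < m := by
        have := U.finrank_quotient_add_finrank
        have h0 : 0 < Module.finrank F U := Nat.pos_of_ne_zero fun h => hU0 (Submodule.finrank_eq_zero.mp h)
        omega
      refine step hP hp θ U hU _ (fun x hx u hu => ?_) (fun x hx v => ?_)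
      · let θU : P →* Module.End F U :=
          { toFun := fun g => (θ g).restrict (hU g)
            map_one' := LinearMap.ext fun y => Subtype.ext (by show θ 1 (y : V) = y; rw [map_one]; rfl)
            map_mul' := fun a b => LinearMap.ext fun y => Subtype.ext (by
              show θ (a * b) (y : V) = θ a (θ b y); rw [map_mul]; rfl) }
        have := ih _ hUlt P hP U θU rfl
          (derivedSeries_antitone P (Nat.succ_le_succ (Nat.log_mono_right hUlt.le)) hx)
        exact congrArg Subtype.val (LinearMap.congr_fun (MonoidHom.mem_ker.mp this) ⟨u, hu⟩)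
      · let θQ : P →* Module.End F (V ⧸ U) :=
          { toFun := fun g => U.mapQ U (θ g) (hU g)
            map_one' := Submodule.linearMap_qext _ (LinearMap.ext fun y => by
              show Submodule.Quotient.mk (θ 1 y) = Submodule.Quotient.mk y; rw [map_one]; rfl)
            map_mul' := fun a b => Submodule.linearMap_qext _ (LinearMap.ext fun y => by
              show Submodule.Quotient.mk (θ (a * b) y) = Submodule.Quotient.mk (θ a (θ b y))
              rw [map_mul]; rfl) }
        have := ih _ hQlt P hP (V ⧸ U) θQ rfl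
          (derivedSeries_antitone P (Nat.succ_le_succ (Nat.log_mono_right hQlt.le)) hx)
        exact (Submodule.Quotient.eq U).mp (LinearMap.congr_fun (MonoidHom.mem_ker.mp this) (Submodule.Quotient.mk v))
    push Not at hirr
    by_cases hcomm : ∀ g h, θ g * θ h = θ h * θ g
    · refine le_trans (derivedSeries_antitone P (Nat.le_add_left 1 _)) ?_
      rw [derivedSeries_one]
      refine Subgroup.commutator_le.mpr fun g _ h _ => MonoidHom.mem_ker.mpr ?_
      rw [commutatorElement_def, map_mul, map_mul, map_mul, hcomm g h, mul_assoc (θ h),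
        ← map_mul θ g g⁻¹, mul_inv_cancel, map_one, mul_one, ← map_mul, mul_inv_cancel, map_one]
    -- a noncentral element with scalar commutators
    have hV : ∃ v : V, v ≠ 0 := by
      by_contra h
      push Not at h
      exact hcomm fun g h' => LinearMap.ext fun v => by rw [h v, map_zero, map_zero]
    let π := θ.toHomUnits.rangeRestrict
    let Q := θ.toHomUnits.range
    have hQp : IsPGroup p Q := exists_pow hP θ
    haveI : Finite Q := Finite.of_surjective π θ.toHomUnits.rangeRestrict_surjective
    haveI : Group.IsNilpotent Q := hQp.isNilpotent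
    have hsc : ∀ c : Q, c ∈ Subgroup.center Q → ∃ r : F, ((c : (Module.End F V)ˣ) : Module.End F V) = r • 1 := by
      intro c hc
      obtain ⟨v, hv⟩ := hV
      haveI : Nontrivial V := ⟨⟨v, 0, hv⟩⟩
      obtain ⟨r, hr⟩ := Module.End.exists_eigenvalue ((c : (Module.End F V)ˣ) : Module.End F V)
      refine ⟨r, ?_⟩
      have hinv : ∀ g, ∀ v ∈ Module.End.eigenspace ((c : (Module.End F V)ˣ) : Module.End F V) r,
          θ g v ∈ Module.End.eigenspace ((c : (Module.End F V)ˣ) : Module.End F V) r := by
        intro g v hv
        rw [Module.End.mem_eigenspace_iff] at hv ⊢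
        have h := congrArg (fun q : Q => ((q : (Module.End F V)ˣ) : Module.End F V) v)
          ((Subgroup.mem_center_iff.mp hc) (π g))
        simp only [Subgroup.coe_mul, Units.val_mul, Module.End.mul_apply, hv, map_smul] at h
        exact h.symm
      by_cases htop : Module.End.eigenspace ((c : (Module.End F V)ˣ) : Module.End F V) r = ⊤
      · refine LinearMap.ext fun w => ?_
        exact Module.End.mem_eigenspace_iff.mp (htop ▸ Submodule.mem_top : w ∈ _)
      · exact absurd (hirr _ hinv hr) htop
    obtain ⟨a, haZ, hac⟩ : ∃ a : Q, a ∉ Subgroup.center Q ∧ ∀ b, b * a * b⁻¹ * a⁻¹ ∈ Subgroup.center Q := by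
      have hne : Subgroup.center Q ≠ ⊤ := fun h => hcomm fun g h' => congrArg
        (fun q : Q => ((q : (Module.End F V)ˣ) : Module.End F V))
        ((Subgroup.mem_center_iff.mp (show π h' ∈ Subgroup.center Q by rw [h]; trivial)) (π g))
      haveI : Nontrivial (Q ⧸ Subgroup.center Q) := QuotientGroup.nontrivial_iff.mpr hne
      obtain ⟨⟨c, hc⟩, hc1⟩ := Subgroup.ne_bot_iff_exists_ne_one.mp
        ((Subgroup.nontrivial_iff_ne_bot (Subgroup.center (Q ⧸ Subgroup.center Q))).mp
          ((hQp.to_quotient _).center_nontrivial))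
      obtain ⟨a, rfl⟩ := QuotientGroup.mk'_surjective _ c
      refine ⟨a, fun ha => hc1 (Subtype.ext ((QuotientGroup.eq_one_iff a).mpr ha)), fun b => ?_⟩
      rw [← QuotientGroup.eq_one_iff, QuotientGroup.mk_mul, QuotientGroup.mk_mul, QuotientGroup.mk_mul,
        QuotientGroup.mk_inv, QuotientGroup.mk_inv]
      have := Subgroup.mem_center_iff.mp hc (b : Q ⧸ Subgroup.center Q)
      rw [QuotientGroup.mk'_apply] at this
      rw [this, mul_inv_cancel_right, mul_inv_cancel]
    let A : Module.End F V := ((a : (Module.End F V)ˣ) : Module.End F V)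
    have hθπ : ∀ g, ((π g : (Module.End F V)ˣ) : Module.End F V) = θ g := fun g => rfl
    have hχ : ∀ g, ∃ r : F, θ g * A = (r • A) * θ g := by
      intro g
      obtain ⟨r, hr⟩ := hsc _ (hac (π g))
      refine ⟨r, ?_⟩
      have e : π g * a = (π g * a * (π g)⁻¹ * a⁻¹) * a * π g := by group
      have := congrArg (fun q : Q => ((q : (Module.End F V)ˣ) : Module.End F V)) e
      simp only [Subgroup.coe_mul, Units.val_mul, hθπ] at this hr
      rw [this, hr, smul_mul_assoc r (1 : Module.End F V) A, one_mul]
    choose χ hχ using hχ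
    obtain ⟨v₀, hv₀⟩ := hV
    haveI : Nontrivial V := ⟨⟨v₀, 0, hv₀⟩⟩
    obtain ⟨l, hl⟩ := Module.End.exists_eigenvalue A
    have hl0 : l ≠ 0 := by
      rintro rfl
      obtain ⟨v, hv⟩ := hl.exists_hasEigenvector
      have h1 := hv.apply_eq_smul
      rw [zero_smul] at h1
      apply hv.2
      calc v = ((((a : (Module.End F V)ˣ))⁻¹ : (Module.End F V)ˣ) : Module.End F V) (A v) := by
            rw [← Module.End.mul_apply, Units.inv_mul]; rfl
        _ = 0 := by rw [h1, map_zero]
    let W := Module.End.eigenspace A l
    have happ : ∀ g v, θ g (A v) = χ g • A (θ g v) := fun g v => by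
      simpa using LinearMap.congr_fun (hχ g) v
    have htr : ∀ g, ∀ v ∈ W, χ g • A (θ g v) = l • θ g v := by
      intro g v hv
      rw [← happ, Module.End.mem_eigenspace_iff.mp hv, map_smul]
    have hone : ∀ g, (θ g) * (θ g⁻¹) = 1 := fun g => by rw [← map_mul, mul_inv_cancel, map_one]
    have hinjg : ∀ g v, θ g v = 0 → v = 0 := fun g v h => by
      have := LinearMap.congr_fun (hone g⁻¹) v
      rw [Module.End.mul_apply, inv_inv, h, map_zero] at this
      exact this.symm
    have hsurjg : Function.Surjective A := fun v => ⟨((((a : (Module.End F V)ˣ))⁻¹ : (Module.End F V)ˣ) : Module.End F V) v, by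
      rw [← Module.End.mul_apply, Units.mul_inv]; rfl⟩
    have hA : ∀ r r' : F, r • A = r' • A → r = r' := by
      intro r r' h
      by_contra hne
      have h2 : (r - r') • A = 0 := by rw [sub_smul, h, sub_self]
      rw [smul_eq_zero, sub_eq_zero] at h2
      obtain ⟨x, hx⟩ := hsurjg v₀
      rw [h2.resolve_left hne] at hx
      exact hv₀ hx.symm
    have hχmul : ∀ g h, χ (g * h) = χ g * χ h := by
      intro g h
      apply hA
      refine LinearMap.ext fun v => ?_
      obtain ⟨w, rfl⟩ : ∃ w, θ (g * h) w = v := ⟨θ (g * h)⁻¹ v, by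
        rw [← Module.End.mul_apply, hone]; rfl⟩
      rw [LinearMap.smul_apply, ← happ, LinearMap.smul_apply, map_mul, Module.End.mul_apply, happ,
        map_smul, Module.End.mul_apply, happ, smul_smul, mul_comm]
    have hχ1 : χ 1 = 1 := hA _ _ (by
      have := hχ 1
      rw [map_one, one_mul, mul_one] at this
      rw [one_smul]; exact this.symm)
    let X : P →* F := { toFun := χ, map_one' := hχ1, map_mul' := hχmul }
    let M : Subgroup P := X.toHomUnits.ker
    have hXM : ∀ g, g ∈ M ↔ χ g = 1 := fun g => by
      show X.toHomUnits g = 1 ↔ _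
      rw [Units.ext_iff]; rfl
    have hP' : ⁅(⊤ : Subgroup P), ⊤⁆ ≤ M := by
      refine Subgroup.commutator_le.mpr fun g _ h _ => MonoidHom.mem_ker.mpr ?_
      rw [map_commutatorElement, commutatorElement_eq_one_iff_mul_comm, mul_comm]
    obtain ⟨g₀, hg₀⟩ : ∃ g₀, χ g₀ ≠ 1 := by
      by_contra hcon
      push Not at hcon
      refine haZ (Subgroup.mem_center_iff.mpr fun b => ?_)
      obtain ⟨g, rfl⟩ := θ.toHomUnits.rangeRestrict_surjective b
      apply Subtype.ext
      apply Units.ext
      show θ g * A = A * θ g
      rw [hχ g, hcon g, one_smul]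
    -- two independent eigenspaces
    have hW2 : 2 * Module.finrank F W ≤ m := by
      let W' := W.map (θ g₀)
      have hd : Disjoint W W' := by
        rw [Submodule.disjoint_def]
        rintro _ hv ⟨w, hw, rfl⟩
        have h1 := htr g₀ w hw
        rw [Module.End.mem_eigenspace_iff.mp hv, smul_smul, ← sub_eq_zero, ← sub_smul, smul_eq_zero,
          sub_eq_zero] at h1
        refine h1.resolve_left fun h => hg₀ ?_
        exact mul_right_cancel₀ hl0 (by rw [h, one_mul])
      have h1 : Module.finrank F W' = Module.finrank F W :=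
        (Submodule.equivMapOfInjective (θ g₀) (fun x y h => sub_eq_zero.mp (hinjg g₀ _ (by rw [map_sub, h, sub_self]))) W).finrank_eq.symm
      have h2 := Submodule.finrank_add_finrank_le_of_disjoint hd
      rw [hm] at h2
      omega
    have hWM : ∀ g : M, ∀ v ∈ W, θ (g : P) v ∈ W := by
      intro g v hv
      have := htr (g : P) v hv
      rw [(hXM _).mp g.2, one_smul] at this
      exact Module.End.mem_eigenspace_iff.mpr this
    let θM : M →* Module.End F W :=
      { toFun := fun g => (θ (g : P)).restrict (hWM g)
        map_one' := LinearMap.ext fun y => Subtype.ext (by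
          show θ ((1 : M) : P) (y : V) = y; rw [Subgroup.coe_one, map_one]; rfl)
        map_mul' := fun a b => LinearMap.ext fun y => Subtype.ext (by
          show θ ((a * b : M) : P) (y : V) = θ (a : P) (θ (b : P) y); rw [Subgroup.coe_mul, map_mul]; rfl) }
    have hW0 : 0 < Module.finrank F W :=
      Nat.pos_of_ne_zero fun h => hl (Submodule.finrank_eq_zero.mp h)
    have hih := ih (Module.finrank F W) (by omega) M (hP.to_subgroup M) W θM rfl
    have hlog : Nat.log 2 (Module.finrank F W) + 1 ≤ Nat.log 2 m := by
      rw [← Nat.log_mul_base one_lt_two (by omega)]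
      exact Nat.log_mono_right (by omega)
    intro x hx
    have hfix : ∀ y ∈ derivedSeries P (Nat.log 2 m + 1), ∀ w ∈ W, θ y w = w := by
      intro y hy w hw
      obtain ⟨z, hz, rfl⟩ := derivedSeries_succ_le M hP' _ hy
      have := hih (derivedSeries_antitone M hlog hz)
      exact congrArg Subtype.val (LinearMap.congr_fun (MonoidHom.mem_ker.mp this) ⟨w, hw⟩)
    have hspan : (⨆ g : P, W.map (θ g)) = ⊤ := by
      refine hirr _ (fun h v hv => ?_) (fun h => hl (eq_bot_iff.mpr ?_))
      · have : (⨆ g : P, W.map (θ g)) ≤ (⨆ g : P, W.map (θ g)).comap (θ h) := iSup_le fun g => by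
          rintro _ ⟨w, hw, rfl⟩
          refine Submodule.mem_comap.mpr (Submodule.mem_iSup_of_mem (h * g) ⟨w, hw, ?_⟩)
          rw [map_mul]; rfl
        exact this hv
      · rw [← h]
        exact le_iSup_of_le 1 (fun w hw => ⟨w, hw, by rw [map_one]; rfl⟩)
    refine MonoidHom.mem_ker.mpr (LinearMap.ext fun v => ?_)
    have hv : v ∈ ⨆ g : P, W.map (θ g) := hspan ▸ Submodule.mem_top
    induction hv using Submodule.iSup_induction' with
    | mem g v hv =>
      obtain ⟨w, hw, rfl⟩ := hv
      have hn := hfix _ ((derivedSeries_normal P _).conj_mem x hx g⁻¹) w hw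
      rw [inv_inv, map_mul, map_mul, Module.End.mul_apply, Module.End.mul_apply] at hn
      have h3 := congrArg (θ g) hn
      rw [← Module.End.mul_apply, hone] at h3
      exact h3
    | zero => simp
    | add v w _ _ hv hw => rw [map_add, hv, hw]; rfl

/-- Over a finite field with `q` elements, the bound is in `n / e`, `e` the order of `q` mod `p`. -/
theorem bound_finite [Finite F] {p : ℕ} [Fact p.Prime] (hp : (p : F) ≠ 0) (e : ℕ)
    (he : e = orderOf (Nat.card F : ZMod p)) (n : ℕ) :
    ∀ (P : Type u) [Group P] [Finite P], IsPGroup p P →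
    ∀ (V : Type w) [AddCommGroup V] [Module F V] [FiniteDimensional F V] (θ : P →* Module.End F V),
      Module.finrank F V = n → derivedSeries P (Nat.log 2 (n / e) + 1) ≤ θ.ker := by
  induction n using Nat.strong_induction_on with
  | _ n ih =>
    intro P _ _ hP V _ _ _ θ hn
    by_cases hirr : ∃ U : Submodule F V, (∀ g, ∀ v ∈ U, θ g v ∈ U) ∧ U ≠ ⊥ ∧ U ≠ ⊤
    · obtain ⟨U, hU, hU0, hU1⟩ := hirr
      have hUlt : Module.finrank F U < n := hn ▸ Submodule.finrank_lt hU1
      have hQlt : Module.finrank F (V ⧸ U) < n := by
        have := U.finrank_quotient_add_finrank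
        have h0 : 0 < Module.finrank F U := Nat.pos_of_ne_zero fun h => hU0 (Submodule.finrank_eq_zero.mp h)
        omega
      refine step hP hp θ U hU _ (fun x hx u hu => ?_) (fun x hx v => ?_)
      · let θU : P →* Module.End F U :=
          { toFun := fun g => (θ g).restrict (hU g)
            map_one' := LinearMap.ext fun y => Subtype.ext (by show θ 1 (y : V) = y; rw [map_one]; rfl)
            map_mul' := fun a b => LinearMap.ext fun y => Subtype.ext (by
              show θ (a * b) (y : V) = θ a (θ b y); rw [map_mul]; rfl) }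
        have := ih _ hUlt P hP U θU rfl (derivedSeries_antitone P (Nat.succ_le_succ
          (Nat.log_mono_right (Nat.div_le_div_right hUlt.le))) hx)
        exact congrArg Subtype.val (LinearMap.congr_fun (MonoidHom.mem_ker.mp this) ⟨u, hu⟩)
      · let θQ : P →* Module.End F (V ⧸ U) :=
          { toFun := fun g => U.mapQ U (θ g) (hU g)
            map_one' := Submodule.linearMap_qext _ (LinearMap.ext fun y => by
              show Submodule.Quotient.mk (θ 1 y) = Submodule.Quotient.mk y; rw [map_one]; rfl)
            map_mul' := fun a b => Submodule.linearMap_qext _ (LinearMap.ext fun y => by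
              show Submodule.Quotient.mk (θ (a * b) y) = Submodule.Quotient.mk (θ a (θ b y))
              rw [map_mul]; rfl) }
        have := ih _ hQlt P hP (V ⧸ U) θQ rfl (derivedSeries_antitone P (Nat.succ_le_succ
          (Nat.log_mono_right (Nat.div_le_div_right hQlt.le))) hx)
        exact (Submodule.Quotient.eq U).mp (LinearMap.congr_fun (MonoidHom.mem_ker.mp this) (Submodule.Quotient.mk v))
    push Not at hirr
    by_cases htriv : ∀ g, θ g = 1
    · exact fun x _ => MonoidHom.mem_ker.mpr (htriv x)
    push Not at htriv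
    obtain ⟨g₁, hg₁⟩ := htriv
    let π := θ.toHomUnits.rangeRestrict
    let Q := θ.toHomUnits.range
    have hQp : IsPGroup p Q := exists_pow hP θ
    haveI : Finite Q := Finite.of_surjective π θ.toHomUnits.rangeRestrict_surjective
    haveI : Nontrivial Q := ⟨⟨π g₁, 1, fun h => hg₁ (congrArg (fun q : Q => ((q : (Module.End F V)ˣ) : Module.End F V)) h)⟩⟩
    haveI := hQp.center_nontrivial
    obtain ⟨i, hi, hcard⟩ := (hQp.to_subgroup (Subgroup.center Q)).nontrivial_iff_card.mp inferInstance
    obtain ⟨c, hc⟩ := exists_prime_orderOf_dvd_card' p (hcard ▸ dvd_pow_self p hi.ne' : p ∣ Nat.card (Subgroup.center Q))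
    let z : Module.End F V := (((c : Q) : (Module.End F V)ˣ) : Module.End F V)
    have hzp : z ^ p = 1 := by
      have h1 : c ^ p = 1 := hc ▸ pow_orderOf_eq_one c
      have := congrArg (fun q : Subgroup.center Q => (((q : Q) : (Module.End F V)ˣ) : Module.End F V)) h1
      simpa [z] using this
    have hz1 : z ≠ 1 := fun h => by
      have : c = 1 := Subtype.ext (Subtype.ext (Units.ext h))
      rw [this, orderOf_one] at hc
      exact (Fact.out : p.Prime).one_lt.ne hc
    have hzc : ∀ g, Commute (θ g) z := fun g => congrArg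
      (fun q : Q => ((q : (Module.End F V)ˣ) : Module.End F V)) (Subgroup.mem_center_iff.mp c.2 (π g))
    haveI : Nontrivial V := by
      by_contra h
      haveI := not_nontrivial_iff_subsingleton.mp h
      exact hg₁ (LinearMap.ext fun v => Subsingleton.elim _ _)
    have hint : IsIntegral F z := Algebra.IsIntegral.isIntegral z
    have hdom : ∀ r s : Module.End F V, (∀ g, Commute (θ g) r) → r * s = 0 → r = 0 ∨ s = 0 := by
      intro r s hr hrs
      by_cases hk : LinearMap.ker r = ⊥
      · exact Or.inr (LinearMap.ext fun v => LinearMap.ker_eq_bot.mp hk (by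
          simpa using LinearMap.congr_fun hrs v))
      · left
        have : LinearMap.ker r = ⊤ := hirr _ (fun g v hv => by
          show r (θ g v) = 0
          rw [← Module.End.mul_apply, ← (hr g).eq, Module.End.mul_apply, LinearMap.mem_ker.mp hv, map_zero]) hk
        exact LinearMap.ker_eq_top.mp this
    have hcomm : ∀ f : Polynomial F, ∀ g, Commute (θ g) (Polynomial.aeval z f) := fun f g => by
      induction f using Polynomial.induction_on' with
      | add f₁ f₂ h₁ h₂ => rw [map_add]; exact h₁.add_right h₂
      | monomial k r =>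
        rw [Polynomial.aeval_monomial]
        exact Commute.mul_right (Algebra.commutes r (θ g)).symm ((hzc g).pow_right k)
    haveI : Fact (Irreducible (minpoly F z)) := ⟨⟨minpoly.not_isUnit F z, fun f₁ f₂ hf => by
      have h0 : Polynomial.aeval z f₁ * Polynomial.aeval z f₂ = 0 := by
        rw [← map_mul, ← hf, minpoly.aeval]
      have hne : f₁ ≠ 0 ∧ f₂ ≠ 0 := mul_ne_zero_iff.mp (hf ▸ minpoly.ne_zero hint)
      have hdeg : f₁.natDegree + f₂.natDegree = (minpoly F z).natDegree := by
        rw [hf, Polynomial.natDegree_mul hne.1 hne.2]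
      rcases hdom _ _ (hcomm f₁) h0 with h | h
      · right
        rw [Polynomial.isUnit_iff_degree_eq_zero, Polynomial.degree_eq_natDegree hne.2]
        have := Polynomial.natDegree_le_of_dvd (minpoly.dvd F z h) hne.1
        norm_cast; omega
      · left
        rw [Polynomial.isUnit_iff_degree_eq_zero, Polynomial.degree_eq_natDegree hne.1]
        have := Polynomial.natDegree_le_of_dvd (minpoly.dvd F z h) hne.2
        norm_cast; omega⟩⟩
    let K := AdjoinRoot (minpoly F z)
    let φ : K →ₐ[F] Module.End F V := Ideal.Quotient.liftₐ _ (Polynomial.aeval z) fun f hf => by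
      obtain ⟨f', rfl⟩ := Ideal.mem_span_singleton.mp hf
      rw [map_mul, minpoly.aeval, zero_mul]
    have hφc : ∀ (g : P) (r : K), Commute (θ g) (φ r) := by
      intro g r
      obtain ⟨f, rfl⟩ := AdjoinRoot.mk_surjective r
      exact hcomm f g
    let R : K := AdjoinRoot.root (minpoly F z)
    have hφR : φ R = z := Polynomial.aeval_X z
    haveI : FiniteDimensional F K := (AdjoinRoot.powerBasis (minpoly.ne_zero hint)).finite
    haveI : Finite K := Module.finite_of_finite F
    have hφinj : Function.Injective φ := φ.toRingHom.injective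
    have hR1 : R ≠ 1 := fun h => hz1 (by rw [← hφR, h, map_one])
    have hRp : R ^ p = 1 := hφinj (by rw [map_pow, hφR, hzp, map_one])
    have hR0 : R ≠ 0 := fun h => by
      rw [h, zero_pow (Fact.out : p.Prime).pos.ne'] at hRp
      exact zero_ne_one hRp
    have hdvd : p ∣ Nat.card F ^ Module.finrank F K - 1 := by
      rw [← Module.natCard_eq_pow_finrank, ← Nat.card_units]
      have : orderOf (Units.mk0 R hR0) = p :=
        orderOf_eq_prime (Units.ext (by simpa using hRp)) (fun h => hR1 (by simpa using congrArg Units.val h))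
      exact this ▸ orderOf_dvd_natCard _
    have hed : e ∣ Module.finrank F K := by
      rw [he, orderOf_dvd_iff_pow_eq_one, ← Nat.cast_pow, ← sub_eq_zero, ← Nat.cast_one,
        ← Nat.cast_sub (Nat.one_le_pow _ _ Nat.card_pos), ZMod.natCast_eq_zero_iff]
      exact hdvd
    letI : Module K V := Module.compHom V φ.toRingHom
    haveI : IsScalarTower F K V := ⟨fun r s v => by
      show φ (r • s) v = r • φ s v
      rw [map_smul]; rfl⟩
    haveI : FiniteDimensional K V := Module.Finite.of_restrictScalars_finite F K V
    have hmul := Module.finrank_mul_finrank F K V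
    let m := Module.finrank K V
    have hm : m ≤ n / e := by
      have hd : 0 < Module.finrank F K := Module.finrank_pos
      rcases Nat.eq_zero_or_pos e with h0 | h0
      · subst h0; rw [zero_dvd_iff] at hed; omega
      rw [Nat.le_div_iff_mul_le h0, ← hn, ← hmul, mul_comm]
      exact Nat.mul_le_mul_right _ (Nat.le_of_dvd hd hed)
    let θK : P →* Module.End K V :=
      { toFun := fun g =>
          { toFun := θ g
            map_add' := map_add (θ g)
            map_smul' := fun r v => LinearMap.congr_fun (hφc g r).eq v }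
        map_one' := LinearMap.ext fun v => by show θ 1 v = v; rw [map_one]; rfl
        map_mul' := fun a b => LinearMap.ext fun v => by show θ (a * b) v = θ a (θ b v); rw [map_mul]; rfl }
    let b := Module.finBasis K V
    let ι := (algebraMap K (AlgebraicClosure K)).mapMatrix (m := Fin m)
    let θbar : P →* Module.End (AlgebraicClosure K) (Fin m → AlgebraicClosure K) :=
      (Matrix.toLinAlgEquiv' : Matrix (Fin m) (Fin m) (AlgebraicClosure K) ≃ₐ[AlgebraicClosure K] _).toMonoidHom.comp
        (ι.toMonoidHom.comp ((LinearMap.toMatrixAlgEquiv b).toMonoidHom.comp θK))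
    have hpK : (p : AlgebraicClosure K) ≠ 0 := by
      rw [← map_natCast (algebraMap F (AlgebraicClosure K)) p]
      exact (map_ne_zero _).mpr hp
    intro x hx
    have := bound_closed hpK m P hP (Fin m → AlgebraicClosure K) θbar (Module.finrank_fin_fun _)
      (derivedSeries_antitone P (Nat.succ_le_succ (Nat.log_mono_right hm)) hx)
    have h1 : θK x = 1 := by
      have h2 : Matrix.toLinAlgEquiv' (ι (LinearMap.toMatrixAlgEquiv b (θK x))) =
          Matrix.toLinAlgEquiv' (ι (LinearMap.toMatrixAlgEquiv b 1)) := by
        rw [map_one (LinearMap.toMatrixAlgEquiv b), map_one ι, map_one]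
        exact MonoidHom.mem_ker.mp this
      refine (LinearMap.toMatrixAlgEquiv b).injective ?_
      exact Matrix.map_injective (algebraMap K (AlgebraicClosure K)).injective (Matrix.toLinAlgEquiv'.injective h2)
    exact MonoidHom.mem_ker.mpr (LinearMap.ext fun v => LinearMap.congr_fun h1 v)

end Cfsg.Agent.Lib.PGroups.DerivedLength
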