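import Cfsg.Agent.Lib.Cores.AssocLieRing
import Cfsg.Agent.Lib.Coprime.Generation
import Cfsg.Agent.Lib.Coprime.PxQ
import Cfsg.Agent.Lib.PGroups.MaxClassGen
import Mathlib

/-!
A lower bound for the order of a `p`-group of given derived length.
-/

set_option autoImplicit false
set_option linter.unusedSectionVars false

namespace Cfsg.Agent.Lib.PGroups.DerivedBound

open scoped commutatorElement
open Subgroup

variable {P : Type*} [Group P] [Finite P] {p : ℕ} [hp : Fact p.Prime]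

/-- `γ 0 = γ 1 = P`, `γ (j + 1) = [γ j, P]` for `1 ≤ j`. -/
abbrev γ (P : Type*) [Group P] (j : ℕ) : Subgroup P := (⊤ : Subgroup P).lowerCentralSeries (j - 1)

theorem γ_anti {i j : ℕ} (h : i ≤ j) : γ P j ≤ γ P i :=
  Subgroup.lowerCentralSeries_antitone _ (by omega)

theorem γ_succ {b : ℕ} (hb : 1 ≤ b) : γ P (b + 1) = ⁅γ P b, ⊤⁆ := by
  obtain ⟨c, rfl⟩ : ∃ c, b = c + 1 := ⟨b - 1, by omega⟩
  show (⊤ : Subgroup P).lowerCentralSeries (c + 1) = _
  rw [Subgroup.lowerCentralSeries_succ]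
  rfl

theorem γ_comm {a b : ℕ} (ha : 1 ≤ a) (hb : 1 ≤ b) : ⁅γ P a, γ P b⁆ ≤ γ P (a + b) := by
  rw [Subgroup.commutator_le]
  intro x hx y hy
  exact γ_anti (P := P) (show a + b ≤ (a - 1 + (b - 1) + 1) + 1 by omega)
    (Cores.AssocLie.mem_comm hx hy)

/-- The iterated commutator `[G, P, …, P]`. -/
def K (G : Subgroup P) : ℕ → Subgroup P
  | 0 => G
  | m + 1 => ⁅K G m, ⊤⁆

theorem K_normal (G : Subgroup P) [G.Normal] : ∀ m, (K G m).Normal
  | 0 => inferInstanceAs G.Normal
  | m + 1 => by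
    have := K_normal G m
    exact Subgroup.commutator_normal _ _

theorem three_subgroup {H₁ H₂ H₃ N : Subgroup P} [N.Normal] (h1 : ⁅⁅H₂, H₃⁆, H₁⁆ ≤ N)
    (h2 : ⁅⁅H₃, H₁⁆, H₂⁆ ≤ N) : ⁅⁅H₁, H₂⁆, H₃⁆ ≤ N := by
  have key : ∀ A B C : Subgroup P, ⁅⁅A, B⁆, C⁆ ≤ N →
      ⁅⁅A.map (QuotientGroup.mk' N), B.map (QuotientGroup.mk' N)⁆, C.map (QuotientGroup.mk' N)⁆ = ⊥ := by
    intro A B C h
    rwa [← Subgroup.map_commutator, ← Subgroup.map_commutator, Subgroup.map_eq_bot_iff,
      QuotientGroup.ker_mk']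
  have h := Subgroup.commutator_commutator_eq_bot_of_rotate (key _ _ _ h1) (key _ _ _ h2)
  rwa [← Subgroup.map_commutator, ← Subgroup.map_commutator, Subgroup.map_eq_bot_iff,
    QuotientGroup.ker_mk'] at h

theorem K_comm (G : Subgroup P) [G.Normal] : ∀ {b : ℕ}, 1 ≤ b → ∀ a, ⁅K G a, γ P b⁆ ≤ K G (a + b) := by
  intro b hb
  induction b, hb using Nat.le_induction with
  | base =>
    intro a
    exact Subgroup.commutator_mono le_rfl le_top
  | succ b hb ih =>
    intro a
    haveI := K_normal G (a + (b + 1))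
    rw [γ_succ hb, Subgroup.commutator_comm]
    refine three_subgroup ?_ ?_
    · rw [show ⁅(⊤ : Subgroup P), K G a⁆ = K G (a + 1) from Subgroup.commutator_comm _ _]
      rw [show a + (b + 1) = a + 1 + b by omega]
      exact ih (a + 1)
    · rw [show a + (b + 1) = (a + b) + 1 by omega]
      exact Subgroup.commutator_mono (ih a) le_rfl

theorem eq_bot_of_le_comm (hP : IsPGroup p P) {N : Subgroup P} [N.Normal] (h : N ≤ ⁅N, ⊤⁆) :
    N = ⊥ := by
  by_contra hne
  exact (Coprime.commutator_lt_of_isPGroup (hP.to_subgroup _) (hP.to_subgroup ⊤)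
    (le_of_le_of_eq le_top (Subgroup.normalizer_eq_top_iff.mpr inferInstance).symm) hne).not_ge h

/-- Steps of the chain `K m ⊔ G'`. -/
theorem step_lt (hP : IsPGroup p P) (G : Subgroup P) [G.Normal] {m : ℕ}
    (hm : ¬ K G m ≤ ⁅G, G⁆) : K G (m + 1) ⊔ ⁅G, G⁆ < K G m ⊔ ⁅G, G⁆ := by
  haveI := K_normal G m
  haveI : (⁅G, G⁆).Normal := Subgroup.commutator_normal _ _
  have hle : K G (m + 1) ≤ K G m := Subgroup.commutator_le_left _ _
  refine lt_of_le_of_ne (sup_le_sup hle le_rfl) fun e => hm ?_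
  set q := QuotientGroup.mk' ⁅G, G⁆
  have hsup : ∀ X : Subgroup P, (X ⊔ ⁅G, G⁆).map q = X.map q := fun X => by
    rw [Subgroup.map_sup, show (⁅G, G⁆).map q = ⊥ by
      rw [Subgroup.map_eq_bot_iff, QuotientGroup.ker_mk'], sup_bot_eq]
  have h1 : (K G m).map q = ⁅(K G m).map q, ⊤⁆ := by
    conv_lhs => rw [← hsup, ← e, hsup]
    rw [show K G (m + 1) = ⁅K G m, ⊤⁆ from rfl, Subgroup.map_commutator,
      Subgroup.map_top_of_surjective q (QuotientGroup.mk'_surjective _)]
  haveI := Subgroup.Normal.map (K_normal G m) q (QuotientGroup.mk'_surjective _)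
  have h2 := eq_bot_of_le_comm (p := p) (hP.to_quotient _) h1.le
  rwa [Subgroup.map_eq_bot_iff, QuotientGroup.ker_mk'] at h2

theorem chain_card (hP : IsPGroup p P) (G : Subgroup P) [G.Normal] :
    ∀ {n m : ℕ}, (∀ j, m ≤ j → j < m + n → ¬ K G j ≤ ⁅G, G⁆) →
      p ^ n * Nat.card (⁅G, G⁆ : Subgroup P) ≤ Nat.card (K G m ⊔ ⁅G, G⁆ : Subgroup P)
  | 0, m, _ => by
    rw [pow_zero, one_mul]
    exact Subgroup.card_le_of_le le_sup_right
  | n + 1, m, h => by
    have h1 := chain_card hP G (n := n) (m := m + 1) fun j h1 h2 => h j (by omega) (by omega)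
    have h2 := card_mul_le_of_lt (hP.to_subgroup _) (step_lt hP G (h m le_rfl (by omega)))
    calc p ^ (n + 1) * Nat.card (⁅G, G⁆ : Subgroup P)
        = p ^ n * Nat.card (⁅G, G⁆ : Subgroup P) * p := by ring
      _ ≤ Nat.card (K G (m + 1) ⊔ ⁅G, G⁆ : Subgroup P) * p := Nat.mul_le_mul_right _ h1
      _ ≤ _ := h2

theorem commutator_le_of_cyclic {G M : Subgroup P} [G.Normal] [M.Normal] (hMG : M ≤ G) (x : P)
    (hx : G ≤ zpowers x ⊔ M) (hxG : x ∈ G) : ⁅G, G⁆ ≤ ⁅M, G⁆ := by
  haveI : (⁅M, G⁆).Normal := Subgroup.commutator_normal _ _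
  set q := QuotientGroup.mk' ⁅M, G⁆
  have hM : ∀ a ∈ M, ∀ b ∈ G, Commute (q a) (q b) := fun a ha b hb => by
    show q a * q b = q b * q a
    rw [← commutatorElement_eq_one_iff_mul_comm, ← map_commutatorElement]
    exact (QuotientGroup.eq_one_iff _).mpr (Subgroup.commutator_mem_commutator ha hb)
  have hxc : ∀ b ∈ G, Commute (q x) (q b) := by
    intro b hb
    obtain ⟨u, hu, v, hv, rfl⟩ := Subgroup.mem_sup_of_normal_right.mp (hx hb)
    obtain ⟨i, rfl⟩ := Subgroup.mem_zpowers_iff.mp hu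
    rw [map_mul, map_zpow]
    exact ((Commute.refl _).zpow_right i).mul_right (hM v hv x hxG).symm
  rw [Subgroup.commutator_le]
  intro a ha b hb
  rw [← QuotientGroup.eq_one_iff]
  show q ⁅a, b⁆ = 1
  rw [map_commutatorElement, commutatorElement_eq_one_iff_mul_comm]
  obtain ⟨u, hu, v, hv, rfl⟩ := Subgroup.mem_sup_of_normal_right.mp (hx ha)
  obtain ⟨i, rfl⟩ := Subgroup.mem_zpowers_iff.mp hu
  rw [map_mul, map_zpow]
  exact ((hxc b hb).zpow_left i).mul_left (hM v hv b hb)

theorem exists_top_gen (hP : IsPGroup p P) {G M : Subgroup P} (hMG : M ≤ G)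
    (hc : Nat.card G ≤ p * Nat.card M) : ∃ x ∈ G, G ≤ zpowers x ⊔ M := by
  rcases hMG.eq_or_lt with rfl | hlt
  · exact ⟨1, one_mem _, le_sup_right⟩
  obtain ⟨x, hx, hxM⟩ := SetLike.exists_of_lt hlt
  refine ⟨x, hx, (Subgroup.eq_of_le_of_card_ge (sup_le (zpowers_le.mpr hx) hMG) ?_).ge⟩
  have h := card_mul_le_of_lt (hP.to_subgroup (zpowers x ⊔ M))
    (lt_of_le_of_ne le_sup_right fun e => hxM (e.ge (Subgroup.mem_sup_left (mem_zpowers x))))
  exact hc.trans (by rw [mul_comm]; exact h)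

theorem comm_le_two (G : Subgroup P) {s : ℕ} (hs : 1 ≤ s) (hG : G ≤ γ P s) :
    ⁅G, G⁆ ≤ γ P (2 * s) :=
  (Subgroup.commutator_mono hG hG).trans (two_mul s ▸ γ_comm hs hs)

/-- The basic count. -/
theorem count (hP : IsPGroup p P) (G : Subgroup P) [G.Normal] {s : ℕ} (hs : 1 ≤ s) (hG : G ≤ γ P s)
    (hne : ⁅G, G⁆ ≠ ⊥) :
    p ^ (s + 1) * Nat.card (⁅G, G⁆ : Subgroup P) ≤ Nat.card G ∧
      (p ^ 3 * Nat.card (G ⊓ γ P (s + 1) : Subgroup P) ≤ Nat.card G →
        p ^ (s + 2) * Nat.card (⁅G, G⁆ : Subgroup P) ≤ Nat.card G) := by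
  haveI : (⁅G, G⁆).Normal := Subgroup.commutator_normal _ _
  have hKs : ⁅G, G⁆ ≤ K G s := by
    refine (Subgroup.commutator_mono le_rfl hG).trans ?_
    have := K_comm G hs 0
    rwa [Nat.zero_add] at this
  have hlow : ∀ j, j < s → ¬ K G j ≤ ⁅G, G⁆ := by
    intro j hj h
    have hmono : ∀ i, K G (j + i) ≤ ⁅G, G⁆ := by
      intro i
      induction i with
      | zero => exact h
      | succ i ih =>
        haveI := K_normal G (j + i)
        exact (Subgroup.commutator_le_left _ _).trans ih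
    refine hne (eq_bot_of_le_comm (p := p) hP ?_)
    refine hKs.trans ?_
    obtain ⟨i, rfl⟩ : ∃ i, s = j + i + 1 := ⟨s - j - 1, by omega⟩
    exact Subgroup.commutator_mono (hmono i) le_rfl
  have hchain := chain_card hP G (n := s - 1) (m := 1) fun j h1 h2 => hlow j (by omega)
  haveI := K_normal G 0
  have hM1G : K G 1 ⊔ ⁅G, G⁆ ≤ G :=
    sup_le (Subgroup.commutator_le_left _ _) (Subgroup.commutator_le_left _ _)
  have hM1 : K G 1 ⊔ ⁅G, G⁆ ≤ G ⊓ γ P (s + 1) := by
    refine le_inf hM1G (sup_le ?_ ?_)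
    · rw [γ_succ hs]; exact Subgroup.commutator_mono hG le_rfl
    · exact (comm_le_two G hs hG).trans (γ_anti (by omega))
  refine ⟨?_, fun h3 => ?_⟩
  · by_cases hsm : Nat.card G ≤ p * Nat.card (K G 1 ⊔ ⁅G, G⁆ : Subgroup P)
    · haveI := K_normal G 1
      obtain ⟨x, hx, hxG⟩ := exists_top_gen hP hM1G hsm
      have hGM : ⁅G, G⁆ ≤ K G (s + 1) ⊔ ⁅⁅G, G⁆, ⊤⁆ := by
        haveI := K_normal G (s + 1)
        refine (commutator_le_of_cyclic hM1G x hxG hx).trans ?_
        rw [Subgroup.commutator_le]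
        intro a ha b hb
        obtain ⟨u, hu, v, hv, rfl⟩ := Subgroup.mem_sup_of_normal_right.mp ha
        rw [show ⁅u * v, b⁆ = u * ⁅v, b⁆ * u⁻¹ * ⁅u, b⁆ by
          simp only [commutatorElement_def]; group]
        refine mul_mem (Subgroup.mem_sup_right ?_) (Subgroup.mem_sup_left ?_)
        · haveI : (⁅⁅G, G⁆, (⊤ : Subgroup P)⁆).Normal := Subgroup.commutator_normal _ _
          exact this.conj_mem _ (Subgroup.commutator_mem_commutator hv (mem_top b)) u
        · rw [show s + 1 = 1 + s by omega]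
          exact K_comm G hs 1 (Subgroup.commutator_mem_commutator hu (hG hb))
      have hlast : ¬ K G s ≤ ⁅G, G⁆ := fun h => hne (eq_bot_of_le_comm (p := p) hP
        (hGM.trans (sup_le (Subgroup.commutator_mono h le_rfl) le_rfl)))
      have h0 := chain_card hP G (n := s + 1) (m := 0) fun j h1 h2 => by
        rcases Nat.lt_or_ge j s with h | h
        · exact hlow j h
        · rw [show j = s by omega]; exact hlast
      rwa [show K G 0 ⊔ ⁅G, G⁆ = G from sup_eq_left.mpr (Subgroup.commutator_le_left G G)] at h0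
    · push Not at hsm
      obtain ⟨a, ha⟩ := IsPGroup.iff_card.mp (hP.to_subgroup G)
      obtain ⟨b, hb⟩ := IsPGroup.iff_card.mp (hP.to_subgroup (K G 1 ⊔ ⁅G, G⁆ : Subgroup P))
      rw [ha, hb, ← pow_succ'] at hsm
      have hab : b + 2 ≤ a := (Nat.pow_lt_pow_iff_right hp.out.one_lt).mp hsm
      calc p ^ (s + 1) * Nat.card (⁅G, G⁆ : Subgroup P)
          = p ^ 2 * (p ^ (s - 1) * Nat.card (⁅G, G⁆ : Subgroup P)) := by
            rw [← mul_assoc, ← pow_add]; congr 2; omega
        _ ≤ p ^ 2 * p ^ b := Nat.mul_le_mul_left _ (hb ▸ hchain)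
        _ ≤ Nat.card G := by
            rw [ha, ← pow_add]; exact Nat.pow_le_pow_right hp.out.pos (by omega)
  · calc p ^ (s + 2) * Nat.card (⁅G, G⁆ : Subgroup P)
        = p ^ 3 * (p ^ (s - 1) * Nat.card (⁅G, G⁆ : Subgroup P)) := by
          rw [← mul_assoc, ← pow_add]; congr 2; omega
      _ ≤ p ^ 3 * Nat.card (G ⊓ γ P (s + 1) : Subgroup P) :=
          Nat.mul_le_mul_left _ (hchain.trans (Subgroup.card_le_of_le hM1))
      _ ≤ Nat.card G := h3

theorem comm_small (hP : IsPGroup p P) (G : Subgroup P) [G.Normal] {s : ℕ} (hs : 1 ≤ s)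
    (hG : G ≤ γ P s) (hc : Nat.card G ≤ p * Nat.card (G ⊓ γ P (s + 1) : Subgroup P)) :
    ⁅G, G⁆ ≤ γ P (2 * s + 1) := by
  obtain ⟨x, hx, hxG⟩ := exists_top_gen hP (inf_le_left : G ⊓ γ P (s + 1) ≤ G) hc
  refine (commutator_le_of_cyclic inf_le_left x hxG hx).trans ?_
  refine (Subgroup.commutator_mono inf_le_right hG).trans ?_
  rw [show 2 * s + 1 = s + 1 + s by omega]
  exact γ_comm (by omega) hs

theorem comm_top (hP : IsPGroup p P) (G : Subgroup P) [G.Normal] {s : ℕ} (hs : 1 ≤ s)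
    (hG : G ≤ γ P s) (hc : Nat.card G ≤ p ^ 2 * Nat.card (G ⊓ γ P (s + 1) : Subgroup P)) :
    Nat.card (⁅G, G⁆ : Subgroup P) ≤ p * Nat.card (⁅G, G⁆ ⊓ γ P (2 * s + 1) : Subgroup P) := by
  by_cases hc1 : Nat.card G ≤ p * Nat.card (G ⊓ γ P (s + 1) : Subgroup P)
  · rw [inf_eq_left.mpr (comm_small hP G hs hG hc1)]
    exact Nat.le_mul_of_pos_left _ hp.out.pos
  set D := G ⊓ γ P (s + 1) with hD
  haveI : D.Normal := Subgroup.normal_inf_normal _ _
  have hDG : D < G := lt_of_le_of_ne inf_le_left fun e =>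
    hc1 (by rw [e]; exact Nat.le_mul_of_pos_left _ hp.out.pos)
  -- an element of order `p` modulo `D`
  obtain ⟨y0, hy0, hy0D⟩ := SetLike.exists_of_lt hDG
  obtain ⟨x, hxG, hxD, hxp⟩ : ∃ x ∈ G, x ∉ D ∧ x ^ p ∈ D := by
    obtain ⟨k, hk⟩ := (hP.to_quotient D) (y0 : P ⧸ D)
    rw [← QuotientGroup.mk_pow, QuotientGroup.eq_one_iff] at hk
    induction k generalizing y0 with
    | zero => exact absurd (by simpa using hk) hy0D
    | succ k ih =>
      by_cases h : y0 ^ p ∈ D
      · exact ⟨y0, hy0, hy0D, h⟩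
      · exact ih (y0 ^ p) (pow_mem hy0 p) h (by rwa [← pow_mul, ← pow_succ'])
  set G1 := zpowers x ⊔ D with hG1
  have hG1G : G1 ≤ G := sup_le (zpowers_le.mpr hxG) inf_le_left
  have hG1c : Nat.card G ≤ p * Nat.card G1 := by
    have h := card_mul_le_of_lt (hP.to_subgroup G1)
      (lt_of_le_of_ne le_sup_right fun e => hxD (e.ge (Subgroup.mem_sup_left (mem_zpowers x))))
    calc Nat.card G ≤ p ^ 2 * Nat.card D := hc
      _ = p * (Nat.card D * p) := by ring
      _ ≤ p * Nat.card G1 := Nat.mul_le_mul_left _ h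
  obtain ⟨y, hyG, hy⟩ := exists_top_gen hP hG1G hG1c
  set N := γ P (2 * s + 1) with hN
  set q := QuotientGroup.mk' N with hq
  have h2 : ∀ a ∈ G, ∀ b ∈ G, q ⁅a, b⁆ ∈ center (P ⧸ N) := by
    intro a ha b hb
    rw [Subgroup.mem_center_iff]
    intro w
    obtain ⟨w, rfl⟩ := QuotientGroup.mk'_surjective N w
    rw [← commutatorElement_eq_one_iff_mul_comm, ← map_commutatorElement]
    refine (QuotientGroup.eq_one_iff _).mpr ?_
    rw [hN, show 2 * s + 1 = 2 * s + 1 from rfl, γ_succ (P := P) (show 1 ≤ 2 * s by omega),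
      Subgroup.commutator_comm]
    exact Subgroup.commutator_mem_commutator (mem_top w)
      (comm_le_two G hs hG (Subgroup.commutator_mem_commutator ha hb))
  have hDc : ∀ a ∈ D, ∀ b ∈ G, Commute (q a) (q b) := by
    intro a ha b hb
    show q a * q b = q b * q a
    rw [← commutatorElement_eq_one_iff_mul_comm, ← map_commutatorElement]
    refine (QuotientGroup.eq_one_iff _).mpr ?_
    rw [hN, show 2 * s + 1 = s + 1 + s by omega]
    exact γ_comm (by omega) hs (Subgroup.commutator_mem_commutator ha.2 (hG hb))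
  set c := q ⁅x, y⁆ with hc'
  haveI hCn : (zpowers c).Normal := ⟨fun e he g => by
    have : e ∈ center (P ⧸ N) := zpowers_le.mpr (h2 x hxG y hyG) he
    rw [Subgroup.mem_center_iff.mp this g, mul_inv_cancel_right]; exact he⟩
  let φ : P →* (P ⧸ N) ⧸ zpowers c := (QuotientGroup.mk' (zpowers c)).comp q
  have hgen : G ≤ closure ({x, y} ∪ (D : Set P)) :=
    hy.trans (sup_le (zpowers_le.mpr (subset_closure (Or.inl (Or.inr rfl))))
      (sup_le (zpowers_le.mpr (subset_closure (Or.inl (Or.inl rfl))))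
        (fun a ha => subset_closure (Or.inr ha))))
  have hxy : Commute (φ x) (φ y) := by
    show φ x * φ y = φ y * φ x
    rw [← commutatorElement_eq_one_iff_mul_comm, ← map_commutatorElement]
    exact (QuotientGroup.eq_one_iff _).mpr (mem_zpowers _)
  have hsub : ∀ u ∈ ({x, y} ∪ (D : Set P)), u ∈ G := by
    rintro u ((rfl | rfl) | hu)
    · exact hxG
    · exact hyG
    · exact hu.1
  have hpair : ∀ u ∈ ({x, y} ∪ (D : Set P)), ∀ v ∈ ({x, y} ∪ (D : Set P)),
      Commute (φ u) (φ v) := by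
    intro u hu v hv
    have hD1 : ∀ a ∈ D, ∀ b ∈ G, Commute (φ a) (φ b) := fun a ha b hb =>
      (hDc a ha b hb).map (QuotientGroup.mk' (zpowers c))
    rcases hu with (rfl | rfl) | hu
    · rcases hv with (rfl | rfl) | hv
      · exact Commute.refl _
      · exact hxy
      · exact (hD1 v hv _ hxG).symm
    · rcases hv with (rfl | rfl) | hv
      · exact hxy.symm
      · exact Commute.refl _
      · exact (hD1 v hv _ hyG).symm
    · exact hD1 u hu v (hsub v hv)
  have hGq : ∀ a ∈ ⁅G, G⁆, q a ∈ zpowers c := by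
    intro a ha
    have hle : ⁅G, G⁆ ≤ (zpowers c).comap q := by
      refine Subgroup.commutator_le.mpr fun a ha b hb => ?_
      refine (QuotientGroup.eq_one_iff (q ⁅a, b⁆)).mp (show φ ⁅a, b⁆ = 1 from ?_)
      rw [map_commutatorElement, commutatorElement_eq_one_iff_mul_comm]
      have h1 : ∀ u ∈ ({x, y} ∪ (D : Set P)), ∀ b ∈ closure ({x, y} ∪ (D : Set P)),
          Commute (φ u) (φ b) := by
        intro u hu b hb
        induction hb using Subgroup.closure_induction with
        | mem v hv => exact hpair u hu v hv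
        | one => rw [map_one]; exact Commute.one_right _
        | mul v w _ _ h1 h2 => rw [map_mul]; exact h1.mul_right h2
        | inv v _ h1 => rw [map_inv]; exact h1.inv_right
      have ha' := hgen ha
      induction ha' using Subgroup.closure_induction with
      | mem u hu => exact h1 u hu b (hgen hb)
      | one => rw [map_one, one_mul, mul_one]
      | mul u w hu hw h3 h4 =>
        rw [map_mul]
        exact (Commute.mul_left (h3 ((closure_le G).mpr hsub hu)) (h4 ((closure_le G).mpr hsub hw))).eq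
      | inv u hu h3 =>
        rw [map_inv]
        exact (Commute.inv_left (h3 ((closure_le G).mpr hsub hu))).eq
    exact hle ha
  have hcp : c ^ p = 1 := by
    have hcc : ∀ w, Commute c w := fun w => (Subgroup.mem_center_iff.mp (h2 x hxG y hyG) w).symm
    have e : q x * q y * (q x)⁻¹ = c * q y := by
      rw [hc', map_commutatorElement, commutatorElement_def]; group
    have hn : ∀ n : ℕ, q x ^ n * q y * (q x ^ n)⁻¹ = c ^ n * q y := by
      intro n
      induction n with
      | zero => simp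
      | succ n ih =>
        calc q x ^ (n + 1) * q y * (q x ^ (n + 1))⁻¹
            = q x * (q x ^ n * q y * (q x ^ n)⁻¹) * (q x)⁻¹ := by rw [pow_succ']; group
          _ = (q x * c ^ n * (q x)⁻¹) * (q x * q y * (q x)⁻¹) := by rw [ih]; group
          _ = _ := by
            rw [← ((hcc (q x)).pow_left n).eq, mul_inv_cancel_right, e, ← mul_assoc, ← pow_succ]
    have h := hn p
    have hD1 : Commute (q x ^ p) (q y) := by
      rw [← map_pow]; exact hDc _ hxp y hyG
    rw [hD1.eq, mul_inv_cancel_right] at h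
    exact right_eq_mul.mp h
  let f : (⁅G, G⁆ : Subgroup P) →* zpowers c :=
    MonoidHom.mk' (fun a => ⟨q a, hGq a a.2⟩) fun a b => Subtype.ext (map_mul q _ _)
  have hker : f.ker.map (⁅G, G⁆ : Subgroup P).subtype ≤ ⁅G, G⁆ ⊓ N := by
    rintro _ ⟨a, ha, rfl⟩
    exact ⟨a.2, (QuotientGroup.eq_one_iff (a : P)).mp (congrArg Subtype.val ha)⟩
  calc Nat.card (⁅G, G⁆ : Subgroup P) = f.ker.index * Nat.card f.ker := (f.ker.index_mul_card).symm
    _ ≤ p * Nat.card (⁅G, G⁆ ⊓ N : Subgroup P) := by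
      refine Nat.mul_le_mul ?_ ?_
      · rw [Subgroup.index_ker]
        refine (Subgroup.card_le_card_group _).trans ?_
        rw [Nat.card_zpowers]
        exact orderOf_le_of_pow_eq_one hp.out.pos hcp
      · rw [← Subgroup.card_map_of_injective (f := (⁅G, G⁆ : Subgroup P).subtype) Subtype.val_injective]
        exact Subgroup.card_le_of_le hker

/-- Iterated derived subgroups. -/
def D (G : Subgroup P) : ℕ → Subgroup P
  | 0 => G
  | m + 1 => D ⁅G, G⁆ m

theorem D_eq_derived : ∀ (m i : ℕ), D (derivedSeries P i) m = derivedSeries P (i + m)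
  | 0, i => rfl
  | m + 1, i => by
    show D ⁅derivedSeries P i, derivedSeries P i⁆ m = _
    rw [← derivedSeries_succ, D_eq_derived m (i + 1), show i + 1 + m = i + (m + 1) by omega]

theorem D_le : ∀ (m : ℕ) (G : Subgroup P), D G m ≤ G
  | 0, _ => le_rfl
  | m + 1, G => (D_le m _).trans (Subgroup.commutator_le.mpr fun a ha b hb => by
      rw [commutatorElement_def]
      exact mul_mem (mul_mem (mul_mem ha hb) (inv_mem ha)) (inv_mem hb))

/-- The exponent in the bound. -/
def bnd (m s : ℕ) : ℕ := s * (2 ^ m - 1) + m + 1 + (m - 2)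

/-- The exponent in the bound, with cyclic top. -/
def bnd' (m s : ℕ) : ℕ := s * (2 ^ m - 1) + m + 1 + (2 ^ (m - 1) - 1) + (m - 3)

theorem bound (hP : IsPGroup p P) : ∀ (m : ℕ) (G : Subgroup P), G.Normal → ∀ s, 1 ≤ s → G ≤ γ P s →
    D G m ≠ ⊥ → p ^ bnd m s ≤ Nat.card G ∧
      (Nat.card G ≤ p * Nat.card (G ⊓ γ P (s + 1) : Subgroup P) → p ^ bnd' m s ≤ Nat.card G) := by
  intro m
  induction m with
  | zero =>
    intro G _ s _ _ hne
    have h1 : p ≤ Nat.card G := by
      have := card_mul_le_of_lt (hP.to_subgroup G) (bot_lt_iff_ne_bot.mpr (show G ≠ ⊥ from hne))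
      rwa [Subgroup.card_bot, one_mul] at this
    exact ⟨by simpa [bnd] using h1, fun _ => by simpa [bnd'] using h1⟩
  | succ j ih =>
    intro G hGn s hs hG hne
    haveI := hGn
    set H := ⁅G, G⁆ with hH
    haveI hHn : H.Normal := Subgroup.commutator_normal _ _
    have hne' : D H j ≠ ⊥ := hne
    have hHne : H ≠ ⊥ := fun h => hne' (le_bot_iff.mp (h ▸ D_le j H))
    obtain ⟨hc1, hc2⟩ := count hP G hs hG hHne
    obtain ⟨w, hw⟩ : ∃ w, 2 ^ j = w + 1 := ⟨2 ^ j - 1, by have := Nat.one_le_two_pow (n := j); omega⟩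
    have key : ∀ e c d, e ≤ c + d → p ^ c * Nat.card H ≤ Nat.card G → p ^ d ≤ Nat.card H →
        p ^ e ≤ Nat.card G := fun e c d he h1 h2 =>
      ((Nat.pow_le_pow_right hp.out.pos he).trans
        (by rw [pow_add]; exact Nat.mul_le_mul_left _ h2)).trans h1
    have e1 : s * (2 ^ (j + 1) - 1) = 2 * (s * w) + s := by
      rw [pow_succ, hw, show (w + 1) * 2 - 1 = 2 * w + 1 by omega]; ring
    have e2 : 2 * s * (2 ^ j - 1) = 2 * (s * w) := by rw [hw, Nat.add_sub_cancel]; ring
    have e3 : (2 * s + 1) * (2 ^ j - 1) = 2 * (s * w) + w := by rw [hw, Nat.add_sub_cancel]; ring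
    have e4 : 2 ^ (j + 1 - 1) - 1 = w := by rw [Nat.add_sub_cancel, hw, Nat.add_sub_cancel]
    have hwj : j ≤ w := by have := Nat.lt_two_pow_self (n := j); omega
    have small : Nat.card G ≤ p * Nat.card (G ⊓ γ P (s + 1) : Subgroup P) →
        p ^ bnd' (j + 1) s ≤ Nat.card G := fun hc => by
      refine key _ (s + 1) (bnd j (2 * s + 1)) ?_ hc1
        ((ih H hHn (2 * s + 1) (by omega) (comm_small hP G hs hG hc) hne').1)
      simp only [bnd, bnd', e1, e3, e4]
      omega
    refine ⟨?_, small⟩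
    by_cases hc : Nat.card G ≤ p * Nat.card (G ⊓ γ P (s + 1) : Subgroup P)
    · refine le_trans (Nat.pow_le_pow_right hp.out.pos ?_) (small hc)
      simp only [bnd, bnd', e4]
      rcases Nat.lt_or_ge j 1 with h | h <;> omega
    by_cases hc' : Nat.card G ≤ p ^ 2 * Nat.card (G ⊓ γ P (s + 1) : Subgroup P)
    · refine key _ (s + 1) (bnd' j (2 * s)) ?_ hc1
        ((ih H hHn (2 * s) (by omega) (comm_le_two G hs hG) hne').2 (comm_top hP G hs hG hc'))
      simp only [bnd, bnd', e1, e2]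
      rcases Nat.lt_or_ge j 2 with h | h
      · omega
      have h4 : 2 ≤ 2 ^ (j - 1) := le_self_pow (by norm_num) (by omega)
      rcases Nat.lt_or_ge j 3 with h' | h'
      · omega
      have h5 : 4 ≤ 2 ^ (j - 1) :=
        le_trans (by norm_num) (Nat.pow_le_pow_right two_pos (show 2 ≤ j - 1 by omega))
      omega
    · push Not at hc hc'
      obtain ⟨a, ha⟩ := IsPGroup.iff_card.mp (hP.to_subgroup G)
      obtain ⟨b, hb⟩ := IsPGroup.iff_card.mp (hP.to_subgroup (G ⊓ γ P (s + 1) : Subgroup P))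
      have h3 : p ^ 3 * Nat.card (G ⊓ γ P (s + 1) : Subgroup P) ≤ Nat.card G := by
        rw [ha, hb, ← pow_add] at hc' ⊢
        have := (Nat.pow_lt_pow_iff_right hp.out.one_lt).mp hc'
        exact Nat.pow_le_pow_right hp.out.pos (by omega)
      refine key _ (s + 2) (bnd j (2 * s)) ?_ (hc2 h3)
        ((ih H hHn (2 * s) (by omega) (comm_le_two G hs hG) hne').1)
      simp only [bnd, e1, e2]
      omega

theorem main (n k : ℕ) (hcard : Nat.card P = p ^ n) (hk : derivedSeries P k ≠ ⊥) :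
    2 ^ k + 2 * k ≤ n + 2 := by
  have hP : IsPGroup p P := IsPGroup.of_card hcard
  have h := (bound hP k ⊤ inferInstance 1 le_rfl le_top (by
    have e := D_eq_derived (P := P) k 0
    rw [derivedSeries_zero, Nat.zero_add] at e
    rwa [e])).1
  rw [Subgroup.card_top, hcard] at h
  have := (Nat.pow_le_pow_iff_right hp.out.one_lt).mp h
  simp only [bnd] at this
  have := Nat.one_le_two_pow (n := k)
  omega

end Cfsg.Agent.Lib.PGroups.DerivedBound
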