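import Cfsg.Agent.Lib.Classification.CyclicNormalAbelian
import Cfsg.Agent.Lib.Involutions.Dihedral
import Mathlib

/-!
Subgroups of dihedral 2-groups.
-/

set_option autoImplicit false

namespace Cfsg.Agent.Lib.PGroups.DihedralSubgroups

open DihedralGroup

theorem cyclic_or_dihedral {n : ℕ} (S : Subgroup (DihedralGroup (2 ^ n))) :
    IsCyclic S ∨ ∃ j, 1 ≤ j ∧ Nonempty (S ≃* DihedralGroup (2 ^ j)) := by
  haveI : Fact (Nat.Prime 2) := ⟨Nat.prime_two⟩
  haveI : NeZero (2 ^ n) := ⟨pow_ne_zero _ two_ne_zero⟩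
  set R := Subgroup.zpowers (r 1 : DihedralGroup (2 ^ n)) with hR
  by_cases hall : S ≤ R
  · left
    exact isCyclic_of_injective (Subgroup.inclusion hall) (Subgroup.inclusion_injective hall)
  obtain ⟨g, hgS, hgR⟩ := Set.not_subset.mp hall
  have hrmem : ∀ i : ZMod (2 ^ n), (r i : DihedralGroup (2 ^ n)) ∈ R := fun i =>
    Subgroup.mem_zpowers_iff.mpr ⟨(i.val : ℤ), by rw [zpow_natCast, r_one_pow, ZMod.natCast_zmod_val]⟩
  obtain ⟨i₀, rfl⟩ : ∃ i, g = sr i := by
    cases g with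
    | r i => exact absurd (hrmem i) hgR
    | sr i => exact ⟨i, rfl⟩
  have hinv : ∀ x ∈ R, sr i₀ * x * (sr i₀)⁻¹ = x⁻¹ := by
    intro x hx
    obtain ⟨k, rfl⟩ := Subgroup.mem_zpowers_iff.mp hx
    rw [r_one_zpow, inv_sr, inv_r, sr_mul_r, sr_mul_sr]
    congr 1; ring
  obtain ⟨c, hc⟩ := Subgroup.isCyclic_iff_exists_zpowers_eq_top (S ⊓ R) |>.mp
    (isCyclic_of_injective (Subgroup.inclusion (inf_le_right : S ⊓ R ≤ R)) (Subgroup.inclusion_injective _))
  have hcS : c ∈ S := (hc.le (Subgroup.mem_zpowers c)).1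
  obtain ⟨j, hj⟩ := IsPGroup.iff_orderOf.mp (IsPGroup.of_card (p := 2) (n := n + 1) (by
    rw [DihedralGroup.nat_card, pow_succ, mul_comm] : Nat.card (DihedralGroup (2 ^ n)) = 2 ^ (n + 1))) c
  have hidx : ((S ⊓ R).subgroupOf S).index = 2 := by
    refine Subgroup.index_eq_two_iff.mpr ⟨⟨sr i₀, hgS⟩, fun b => ?_⟩
    simp only [Subgroup.mem_subgroupOf, Subgroup.mem_inf, Subgroup.coe_mul, b.2, mul_mem b.2 hgS, true_and]
    cases hb : (b : DihedralGroup (2 ^ n)) with
    | r i =>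
      exact Or.inr ⟨hrmem i, fun h => hgR (by
        have := mul_mem (inv_mem (hrmem i)) h
        rwa [inv_mul_cancel_left] at this)⟩
    | sr i =>
      refine Or.inl ⟨by rw [sr_mul_sr]; exact hrmem _, fun h => ?_⟩
      obtain ⟨k, hk⟩ := Subgroup.mem_zpowers_iff.mp h
      simp [r_one_zpow] at hk
  have hcard : Nat.card S = 2 * 2 ^ j := by
    rw [← ((S ⊓ R).subgroupOf S).card_mul_index, hidx, Nat.card_congr (Subgroup.subgroupOfEquivOfLe inf_le_left).toEquiv,
      ← hc, Nat.card_zpowers, hj, mul_comm]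
  rcases Nat.eq_zero_or_pos j with rfl | hj1
  · left; exact isCyclic_of_prime_card (p := 2) (by rw [hcard, pow_zero, mul_one])
  right
  refine ⟨j, hj1, ?_⟩
  haveI : NeZero (2 ^ j) := ⟨pow_ne_zero _ two_ne_zero⟩
  refine Classification.mulEquiv_dihedralGroup_of_generators (c := (⟨c, hcS⟩ : S)) (g := ⟨sr i₀, hgS⟩)
    (by rw [Subgroup.orderOf_mk]; exact hj) (Subtype.ext (hinv c (hc.le (Subgroup.mem_zpowers c)).2))
    (Subtype.ext (by show (sr i₀ : DihedralGroup (2 ^ n)) ^ 2 = 1; rw [sq, sr_mul_sr, sub_self]; rfl))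
    (fun h => ?_) hcard
  obtain ⟨k, hk⟩ := Subgroup.mem_zpowers_iff.mp h
  refine hgR ?_
  have e : c ^ k = sr i₀ := by simpa using congrArg Subtype.val hk
  rw [← e]
  exact Subgroup.zpow_mem _ (hc.le (Subgroup.mem_zpowers c)).2 k

theorem exists_four {j : ℕ} (hj : 1 ≤ j) :
    ∃ V : Subgroup (DihedralGroup (2 ^ j)), Nat.card V = 4 ∧ ∀ v ∈ V, v ^ 2 = 1 := by
  classical
  haveI : NeZero (2 ^ j) := ⟨pow_ne_zero _ two_ne_zero⟩
  set a : ZMod (2 ^ j) := ((2 ^ (j - 1) : ℕ) : ZMod (2 ^ j)) with haDef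
  have hlt : 2 ^ (j - 1) < 2 ^ j := Nat.pow_lt_pow_right (by norm_num) (by omega)
  have ha : a + a = 0 := by
    rw [haDef, ← Nat.cast_add, ← two_mul, ← pow_succ', Nat.sub_add_cancel hj, ZMod.natCast_self]
  have ha0 : a ≠ 0 := fun h => by
    rw [haDef, ZMod.natCast_eq_zero_iff] at h
    exact absurd (Nat.le_of_dvd (Nat.two_pow_pos _) h) (by omega)
  set V := Subgroup.centralizer ({sr 0} : Set (DihedralGroup (2 ^ j))) with hV
  have hlist : ∀ g ∈ V, g = 1 ∨ g = r a ∨ g = sr 0 ∨ g = sr (0 + a) := fun g hg =>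
    Involutions.dihedral_centralizer_sr ha ha0 (Subgroup.mem_centralizer_iff.mp hg _ rfl)
  have hneg : -a = a := neg_eq_of_add_eq_zero_left ha
  refine ⟨V, ?_, fun g hg => ?_⟩
  · have e : (V : Set (DihedralGroup (2 ^ j))) = {1, r a, sr 0, sr a} := by
      refine Set.Subset.antisymm (fun g hg => by simpa using hlist g hg) fun g hg => ?_
      simp only [Set.mem_insert_iff, Set.mem_singleton_iff] at hg
      rw [SetLike.mem_coe, hV, Subgroup.mem_centralizer_iff]
      intro y hy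
      rw [Set.mem_singleton_iff.mp hy]
      rcases hg with rfl | rfl | rfl | rfl
      · simp
      · simp [hneg]
      · simp
      · simp [hneg]
    show Nat.card (V : Set (DihedralGroup (2 ^ j))) = 4
    rw [Nat.card_coe_set_eq, e, Set.ncard_insert_of_notMem, Set.ncard_insert_of_notMem, Set.ncard_pair]
    · simpa using ha0.symm
    · simp
    · rw [one_def]; simp only [Set.mem_insert_iff, Set.mem_singleton_iff, r.injEq, reduceCtorEq, or_false]; exact ha0.symm
  · rcases hlist g hg with rfl | rfl | rfl | rfl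
    · exact one_pow 2
    · rw [sq, r_mul_r, ha]; rfl
    · rw [sq, sr_mul_sr, sub_self]; rfl
    · rw [sq, sr_mul_sr, sub_self]; rfl

end Cfsg.Agent.Lib.PGroups.DihedralSubgroups
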