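import Cfsg.Agent.Lib.Geometry.SympBasis
import Cfsg.Prelude.Def_Transfer
import Mathlib

/-!
Extraspecial groups of exponent `p` are determined by their order.
-/

set_option autoImplicit false

namespace Cfsg.Agent.Lib.PGroups.ExtraOddIso

open scoped commutatorElement

/-- The standard symplectic form. -/
def Omega {p m : ℕ} (u v : Fin m ⊕ Fin m → ZMod p) : ZMod p :=
  ∑ i, (u (Sum.inl i) * v (Sum.inr i) - u (Sum.inr i) * v (Sum.inl i))

/-- Coordinates for an extraspecial group. -/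
structure Coords (p : ℕ) (E : Type*) [Group E] (m : ℕ) where
  π : E → (Fin m ⊕ Fin m → ZMod p)
  sig : E → ZMod p
  map_mul : ∀ a b, π (a * b) = π a + π b
  ker : ∀ a, π a = 0 ↔ a ∈ Subgroup.center E
  surj : Function.Surjective π
  sig_mul : ∀ a ∈ Subgroup.center E, ∀ b ∈ Subgroup.center E, sig (a * b) = sig a + sig b
  sig_inj : ∀ a ∈ Subgroup.center E, sig a = 0 → a = 1
  sig_surj : ∀ t, ∃ a ∈ Subgroup.center E, sig a = t
  comm : ∀ a b : E, ⁅a, b⁆ ∈ Subgroup.center E
  sig_comm : ∀ a b : E, sig ⁅a, b⁆ = Omega (π a) (π b)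

variable {p : ℕ} [hp : Fact p.Prime]

theorem omega_of_basis {U : Type*} [AddCommGroup U] [Module (ZMod p) U] {m : ℕ}
    (B : LinearMap.BilinForm (ZMod p) U) (b : Module.Basis (Fin m ⊕ Fin m) (ZMod p) U)
    (h12 : ∀ i l, B (b (Sum.inl i)) (b (Sum.inr l)) = if i = l then 1 else 0)
    (h21 : ∀ i l, B (b (Sum.inr i)) (b (Sum.inl l)) = if i = l then -1 else 0)
    (h11 : ∀ i l, B (b (Sum.inl i)) (b (Sum.inl l)) = 0)
    (h22 : ∀ i l, B (b (Sum.inr i)) (b (Sum.inr l)) = 0) (u v : U) :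
    B u v = Omega (b.equivFun u) (b.equivFun v) := by
  conv_lhs => rw [← b.sum_equivFun u, ← b.sum_equivFun v]
  generalize b.equivFun u = x
  generalize b.equivFun v = y
  simp only [map_add, LinearMap.add_apply, map_sum, map_smul, LinearMap.coe_sum, Finset.sum_apply, LinearMap.smul_apply,
    smul_eq_mul, Fintype.sum_sum_type, h11, h22, h12, h21, mul_zero, Finset.sum_const_zero,
    mul_ite, mul_one, mul_neg, Finset.sum_ite_eq', Finset.sum_ite_eq, Finset.mem_univ, if_true,
    add_zero, zero_add]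
  simp only [Omega, Finset.sum_sub_distrib, Finset.sum_neg_distrib]
  simp only [mul_comm]
  ring

theorem exists_omega_repr {U : Type*} [AddCommGroup U] [Module (ZMod p) U] [Finite U]
    (Bf : U → U → ZMod p) (hB1 : ∀ u u' v, Bf (u + u') v = Bf u v + Bf u' v)
    (hB2 : ∀ u v, Bf v u = - Bf u v) (hAlt : ∀ u, Bf u u = 0)
    (hnd : ∀ u, (∀ v, Bf u v = 0) → u = 0) :
    ∃ m, ∃ e : U ≃+ (Fin m ⊕ Fin m → ZMod p), ∀ u v, Bf u v = Omega (e u) (e v) := by
  classical
  haveI : Module.Finite (ZMod p) U := Module.Finite.of_finite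
  have hB1' : ∀ u v v', Bf u (v + v') = Bf u v + Bf u v' := fun u v v' => by
    rw [hB2 (v + v') u, hB1, neg_add, ← hB2, ← hB2]
  let B : LinearMap.BilinForm (ZMod p) U :=
    LinearMap.mk₂ (ZMod p) Bf hB1
      (fun c u v => ZMod.map_smul (AddMonoidHom.mk' (fun u => Bf u v) fun u u' => hB1 u u' v) c u)
      hB1'
      (fun c u v => ZMod.map_smul (AddMonoidHom.mk' (Bf u) (hB1' u)) c v)
  have hB : ∀ u v, B u v = Bf u v := fun _ _ => rfl
  have hA : B.IsAlt := fun u => hAlt u
  obtain ⟨m, k, b, h12, h11, h22, hrad⟩ := Geometry.exists_sympBasis B hA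
  have hk : k = 0 := by
    by_contra hk
    haveI : NeZero k := ⟨hk⟩
    refine b.ne_zero (Sum.inr (0 : Fin k)) (hnd _ fun v => ?_)
    exact hrad 0 v
  subst hk
  let b' := b.reindex (Equiv.sumEmpty (Fin m ⊕ Fin m) (Fin 0))
  have hb' : ∀ i, b' i = b (Sum.inl i) := fun i => by simp [b']
  refine ⟨m, b'.equivFun.toAddEquiv, fun u v => ?_⟩
  rw [← hB]
  refine omega_of_basis B b' (fun i l => ?_) (fun i l => ?_) (fun i l => ?_) (fun i l => ?_) u v
  · rw [hb', hb', h12]
  · rw [hb', hb', ← hA.neg_eq, h12]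
    rcases eq_or_ne i l with h | h
    · rw [if_pos h, if_pos h.symm]
    · rw [if_neg h, if_neg (Ne.symm h), neg_zero]
  · rw [hb', hb', h11]
  · rw [hb', hb', h22]

theorem exists_coords {E : Type*} [Group E] [Finite E] (hE : Cfsg.IsExtraspecial p E)
    (hexp : ∀ x : E, x ^ p ∈ Subgroup.center E) :
    ∃ m, Nat.card E = p * p ^ (m + m) ∧ Nonempty (Coords p E m) := by
  classical
  set Z := Subgroup.center E with hZdef
  have hcomm : ∀ a b : E, ⁅a, b⁆ ∈ Z := fun a b => by
    rw [hZdef, ← hE.1.2.2]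
    exact Subgroup.commutator_mem_commutator (Subgroup.mem_top a) (Subgroup.mem_top b)
  obtain ⟨z, hz, hz1⟩ : ∃ z ∈ Z, z ≠ 1 := (Subgroup.bot_or_exists_ne_one Z).resolve_left fun h => by
    have := hE.2
    rw [← hZdef, h, Subgroup.card_bot] at this
    exact hp.out.ne_one this.symm
  have hzo : orderOf z = p := orderOf_eq_prime (by
    have h := pow_card_eq_one' (G := Z) (x := ⟨z, hz⟩)
    rw [hE.2] at h
    exact congrArg Subtype.val h) hz1
  have hzZ : Subgroup.zpowers z = Z :=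
    Subgroup.eq_of_le_of_card_ge (Subgroup.zpowers_le.mpr hz) (by rw [Nat.card_zpowers, hzo, hE.2])
  let ε : ZMod p → E := fun t => z ^ t.val
  have hε : ∀ i : ℕ, ε (i : ZMod p) = z ^ i := fun i => by
    show z ^ (i : ZMod p).val = z ^ i
    rw [ZMod.val_natCast]
    conv_rhs => rw [← pow_mod_orderOf, hzo]
  have hε_add : ∀ s t, ε (s + t) = ε s * ε t := fun s t => by
    conv_lhs => rw [← ZMod.natCast_zmod_val s, ← ZMod.natCast_zmod_val t, ← Nat.cast_add, hε, pow_add]
  have hε_inj : Function.Injective ε := by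
    intro s t h
    refine ZMod.val_injective p ?_
    exact pow_injOn_Iio_orderOf (by rw [hzo]; exact s.val_lt) (by rw [hzo]; exact t.val_lt) h
  have hε_surj : ∀ c ∈ Z, ∃ t, ε t = c := fun c hc => by
    obtain ⟨i, hi⟩ := mem_powers_iff_mem_zpowers.mpr (hzZ.ge hc)
    exact ⟨i, (hε i).trans hi⟩
  have hε_mem : ∀ t, ε t ∈ Z := fun t => pow_mem hz _
  let sig : E → ZMod p := fun c => if h : ∃ t, ε t = c then h.choose else 0
  have hsig : ∀ t, sig (ε t) = t := fun t => by
    have h : ∃ s, ε s = ε t := ⟨t, rfl⟩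
    show dite _ _ _ = t
    rw [dif_pos h]
    exact hε_inj h.choose_spec
  have hsig_mul : ∀ a ∈ Z, ∀ b ∈ Z, sig (a * b) = sig a + sig b := by
    intro a ha b hb
    obtain ⟨s, rfl⟩ := hε_surj a ha
    obtain ⟨t, rfl⟩ := hε_surj b hb
    rw [← hε_add, hsig, hsig, hsig]
  have hsig_inj : ∀ a ∈ Z, sig a = 0 → a = 1 := by
    intro a ha h
    obtain ⟨s, rfl⟩ := hε_surj a ha
    rw [hsig] at h
    subst h
    show z ^ (0 : ZMod p).val = 1
    rw [ZMod.val_zero, pow_zero]
  -- the quotient space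
  letI : CommGroup (E ⧸ Z) :=
    { (inferInstance : Group (E ⧸ Z)) with
      mul_comm := fun x y => by
        obtain ⟨a, rfl⟩ := QuotientGroup.mk_surjective x
        obtain ⟨b, rfl⟩ := QuotientGroup.mk_surjective y
        rw [← QuotientGroup.mk_mul, ← QuotientGroup.mk_mul, QuotientGroup.eq]
        have : (a * b)⁻¹ * (b * a) = ⁅b⁻¹, a⁻¹⁆ := by simp only [commutatorElement_def]; group
        rw [this]
        exact hcomm _ _ }
  let U := Additive (E ⧸ Z)
  let π : E → U := fun a => Additive.ofMul (QuotientGroup.mk a)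
  have hπm : ∀ a b, π (a * b) = π a + π b := fun a b => rfl
  have hπ0 : ∀ a, π a = 0 ↔ a ∈ Z := fun a => by
    show (QuotientGroup.mk a : E ⧸ Z) = 1 ↔ _
    rw [QuotientGroup.eq_one_iff]
  have hπs : Function.Surjective π := fun u => by
    obtain ⟨a, ha⟩ := QuotientGroup.mk_surjective (Additive.toMul u)
    exact ⟨a, by simp only [π, ha]; rfl⟩
  have hπpow : ∀ (n : ℕ) a, π (a ^ n) = n • π a := by
    intro n a
    induction n with
    | zero => rw [pow_zero, zero_nsmul, hπ0]; exact one_mem _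
    | succ n ih => rw [pow_succ, hπm, ih, succ_nsmul]
  letI : Module (ZMod p) U := AddCommGroup.zmodModule fun u => by
    obtain ⟨a, rfl⟩ := hπs u
    rw [← hπpow, hπ0]
    exact hexp a
  haveI : Finite U := Finite.of_surjective π hπs
  haveI : Module.Finite (ZMod p) U := Module.Finite.of_finite
  let lift : U → E := fun u => (hπs u).choose
  have hlift : ∀ u, π (lift u) = u := fun u => (hπs u).choose_spec
  have hbl : ∀ a a' b : E, sig ⁅a * a', b⁆ = sig ⁅a, b⁆ + sig ⁅a', b⁆ := fun a a' b => by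
    have e : ⁅a * a', b⁆ = ⁅a, b⁆ * ⁅a', b⁆ := by
      calc ⁅a * a', b⁆ = a * ⁅a', b⁆ * a⁻¹ * ⁅a, b⁆ := by simp only [commutatorElement_def]; group
        _ = ⁅a', b⁆ * ⁅a, b⁆ := by rw [Subgroup.mem_center_iff.mp (hcomm a' b) a, mul_inv_cancel_right]
        _ = _ := (Subgroup.mem_center_iff.mp (hcomm a' b) _).symm
    rw [e, hsig_mul _ (hcomm _ _) _ (hcomm _ _)]
  have hanti : ∀ a b : E, sig ⁅b, a⁆ = - sig ⁅a, b⁆ := fun a b => by
    rw [eq_neg_iff_add_eq_zero, ← hsig_mul _ (hcomm _ _) _ (hcomm _ _), ← commutatorElement_inv b a,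
      mul_inv_cancel]
    have := hsig (0 : ZMod p)
    rwa [show ε 0 = 1 by show z ^ (0 : ZMod p).val = 1; rw [ZMod.val_zero, pow_zero]] at this
  have hsame : ∀ a a' b : E, π a = π a' → sig ⁅a, b⁆ = sig ⁅a', b⁆ := by
    intro a a' b h
    have hc : a⁻¹ * a' ∈ Z := QuotientGroup.eq.1 (Additive.ofMul.injective h)
    rw [show a' = a * (a⁻¹ * a') by group, hbl,
      show ⁅a⁻¹ * a', b⁆ = 1 from commutatorElement_eq_one_iff_mul_comm.mpr
        (Subgroup.mem_center_iff.mp hc b).symm]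
    have h0 := hsig_mul 1 (one_mem _) 1 (one_mem _)
    rw [mul_one] at h0
    rw [left_eq_add.mp h0, add_zero]
  let Bf : U → U → ZMod p := fun u v => sig ⁅lift u, lift v⁆
  have hBf : ∀ a b, Bf (π a) (π b) = sig ⁅a, b⁆ := fun a b => by
    show sig ⁅lift (π a), lift (π b)⁆ = _
    rw [hsame _ a _ (hlift _), hanti (lift (π b)) a, hsame _ b _ (hlift _), ← hanti]
  have hB1 : ∀ u u' v, Bf (u + u') v = Bf u v + Bf u' v := by
    intro u u' v
    obtain ⟨a, rfl⟩ := hπs u
    obtain ⟨a', rfl⟩ := hπs u'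
    obtain ⟨b, rfl⟩ := hπs v
    rw [← hπm, hBf, hBf, hBf, hbl]
  have hB2 : ∀ u v, Bf v u = - Bf u v := fun u v => hanti _ _
  obtain ⟨m, e, hform⟩ := exists_omega_repr Bf hB1 hB2 (fun u => by
      obtain ⟨a, rfl⟩ := hπs u
      rw [hBf, commutatorElement_self]
      have h0 := hsig_mul 1 (one_mem _) 1 (one_mem _)
      rw [mul_one] at h0
      exact left_eq_add.mp h0) (fun u hu => by
      obtain ⟨a, rfl⟩ := hπs u
      rw [hπ0, hZdef, Subgroup.mem_center_iff]
      intro g
      have h1 := hu (π g)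
      rw [hBf] at h1
      exact (commutatorElement_eq_one_iff_mul_comm.mp (hsig_inj _ (hcomm _ _) h1)).symm)
  refine ⟨m, ?_, ⟨⟨fun a => e (π a), sig, fun a c => ?_, fun a => ?_, e.surjective.comp hπs,
    hsig_mul, hsig_inj, fun t => ⟨ε t, hε_mem t, hsig t⟩, hcomm, fun a c => ?_⟩⟩⟩
  · have h := Z.card_eq_card_quotient_mul_card_subgroup
    rw [hE.2, show Nat.card (E ⧸ Z) = Nat.card U from rfl, Nat.card_congr e.toEquiv,
      Nat.card_fun, Nat.card_zmod, Nat.card_sum, Nat.card_fin] at h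
    rw [h, mul_comm]
  · rw [hπm, map_add]
  · rw [← hπ0, e.map_eq_zero_iff]
  · rw [← hBf, hform]

theorem Coords.card_eq {F : Type*} [Group F] [Finite F] {m : ℕ} (d : Coords p F m) :
    Nat.card F = Nat.card (Fin m ⊕ Fin m → ZMod p) * p := by
  let T : F →* Multiplicative (Fin m ⊕ Fin m → ZMod p) :=
    MonoidHom.mk' (fun a => Multiplicative.ofAdd (d.π a)) fun a b => by rw [d.map_mul, ofAdd_add]
  have hT : T.ker = Subgroup.center F := by ext a; rw [← d.ker]; exact Iff.rfl
  have hz : Nat.card (Subgroup.center F) = p := by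
    rw [Nat.card_congr (Equiv.ofBijective (fun a : Subgroup.center F => d.sig a) ⟨fun a b h => ?_, fun t => ?_⟩),
      Nat.card_zmod]
    · have h1 := d.sig_mul _ (mul_mem a.2 (inv_mem b.2)) _ b.2
      rw [inv_mul_cancel_right] at h1
      exact Subtype.ext (mul_inv_eq_one.mp (d.sig_inj _ (mul_mem a.2 (inv_mem b.2))
        (left_eq_add.mp (by rw [add_comm]; exact (h.symm.trans h1)))))
    · obtain ⟨a, ha, h⟩ := d.sig_surj t
      exact ⟨⟨a, ha⟩, h⟩
  have h := Subgroup.card_eq_card_quotient_mul_card_subgroup T.ker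
  rw [Nat.card_congr (QuotientGroup.quotientKerEquivOfSurjective T fun v => d.surj v).toEquiv, hT,
    Nat.card_congr Multiplicative.toAdd, hz] at h
  exact h

theorem iso_of_coords {E E' : Type*} [Group E] [Finite E] [Group E'] [Finite E'] {m : ℕ}
    (c : Coords p E m) (c' : Coords p E' m) (hexp : ∀ x : E, x ^ p = 1) (hexp' : ∀ x : E', x ^ p = 1) :
    Nonempty (E ≃* E') := by
  classical
  have hπ1 : c.π 1 = 0 := (c.ker 1).mpr (one_mem _)
  have hπ1' : c'.π 1 = 0 := (c'.ker 1).mpr (one_mem _)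
  have hs1 : c.sig 1 = 0 := by
    have h0 := c.sig_mul 1 (one_mem _) 1 (one_mem _)
    rw [mul_one] at h0
    exact left_eq_add.mp h0
  have hs1' : c'.sig 1 = 0 := by
    have h0 := c'.sig_mul 1 (one_mem _) 1 (one_mem _)
    rw [mul_one] at h0
    exact left_eq_add.mp h0
  -- `D`, and subgroups of the fibre product above it
  let good : Subgroup (E × E') → Prop := fun M =>
    (∀ a ∈ Subgroup.center E, ∀ a' ∈ Subgroup.center E', c.sig a = c'.sig a' → (a, a') ∈ M) ∧
    (∀ x ∈ M, c.π x.1 = c'.π x.2) ∧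
    ∀ x ∈ M, x.1 ∈ Subgroup.center E → x.2 ∈ Subgroup.center E' ∧ c.sig x.1 = c'.sig x.2
  let D : Subgroup (E × E') :=
    { carrier := {x | x.1 ∈ Subgroup.center E ∧ x.2 ∈ Subgroup.center E' ∧ c.sig x.1 = c'.sig x.2}
      one_mem' := ⟨one_mem _, one_mem _, hs1.trans hs1'.symm⟩
      mul_mem' := fun {x y} hx hy => ⟨mul_mem hx.1 hy.1, mul_mem hx.2.1 hy.2.1, by
        show c.sig (x.1 * y.1) = c'.sig (x.2 * y.2)
        rw [c.sig_mul _ hx.1 _ hy.1, c'.sig_mul _ hx.2.1 _ hy.2.1, hx.2.2, hy.2.2]⟩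
      inv_mem' := fun {x} hx => ⟨inv_mem hx.1, inv_mem hx.2.1, by
        show c.sig x.1⁻¹ = c'.sig x.2⁻¹
        have e := c.sig_mul _ hx.1 _ (inv_mem hx.1)
        have e' := c'.sig_mul _ hx.2.1 _ (inv_mem hx.2.1)
        rw [mul_inv_cancel, hs1] at e
        rw [mul_inv_cancel, hs1'] at e'
        rw [eq_neg_of_add_eq_zero_right e.symm, eq_neg_of_add_eq_zero_right e'.symm, hx.2.2]⟩ }
  have hD : good D := ⟨fun a ha a' ha' h => ⟨ha, ha', h⟩,
    fun x hx => by rw [(c.ker _).mpr hx.1, (c'.ker _).mpr hx.2.1], fun x hx _ => hx.2⟩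
  obtain ⟨M, -, hMg, hmax⟩ := Set.Finite.exists_le_maximal (Set.toFinite {M | good M}) (show D ∈ _ from hD)
  obtain ⟨hDM, hMπ, hMZ⟩ := hMg
  have hpinv : ∀ {F : Type _} [Group F] (π : F → (Fin m ⊕ Fin m → ZMod p)), π 1 = 0 →
      (∀ a b, π (a * b) = π a + π b) → ∀ a, π a⁻¹ = - π a := by
    intro F _ π h1 hm a
    have := hm a a⁻¹
    rw [mul_inv_cancel, h1] at this
    exact eq_neg_of_add_eq_zero_right this.symm
  -- commutators of the fibre product lie in `M`
  have hcom : ∀ x y : E × E', c.π x.1 = c'.π x.2 → c.π y.1 = c'.π y.2 → ⁅x, y⁆ ∈ M := by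
    intro x y hx hy
    refine hDM ⁅x.1, y.1⁆ (c.comm _ _) ⁅x.2, y.2⁆ (c'.comm _ _) ?_
    rw [c.sig_comm, c'.sig_comm, hx, hy]
  -- `M` with the centres covers the fibre product
  have hcover : ∀ x : E × E', c.π x.1 = c'.π x.2 → ∃ y ∈ M, c.π y.1 = c.π x.1 := by
    intro x hx
    by_contra hno
    push Not at hno
    have hnorm : ∀ w ∈ M, x * w * x⁻¹ ∈ M := fun w hw => by
      have h1 := hcom x w hx (hMπ w hw)
      have e : x * w * x⁻¹ = ⁅x, w⁆ * w := by rw [commutatorElement_def]; group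
      rw [e]; exact mul_mem h1 hw
    have hxp : x ^ p = 1 := Prod.ext (hexp x.1) (hexp' x.2)
    haveI : Finite (E × E') := inferInstance
    have hxN : x ∈ Subgroup.normalizer (M : Set (E × E')) :=
      Subgroup.mem_normalizer_fintype hnorm
    have hsupmem : ∀ y, y ∈ M ⊔ Subgroup.zpowers x → ∃ w ∈ M, ∃ i : ℕ, y = w * x ^ i := by
      intro y hy
      rw [← SetLike.mem_coe, Subgroup.coe_mul_of_right_le_normalizer_left M _
        (Subgroup.zpowers_le.mpr hxN)] at hy
      obtain ⟨w, hw, u, hu, rfl⟩ := hy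
      obtain ⟨i, rfl⟩ := mem_powers_iff_mem_zpowers.mpr hu
      exact ⟨w, hw, i, rfl⟩
    have hπpow : ∀ (w : E × E') (i : ℕ), c.π (w * x ^ i).1 = c.π w.1 + i • c.π x.1 ∧
        c'.π (w * x ^ i).2 = c'.π w.2 + i • c'.π x.2 := by
      intro w i
      induction i with
      | zero => simp
      | succ i ih =>
        rw [pow_succ, ← mul_assoc]
        constructor
        · show c.π ((w * x ^ i).1 * x.1) = _
          rw [c.map_mul, ih.1, succ_nsmul, add_assoc]
        · show c'.π ((w * x ^ i).2 * x.2) = _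
          rw [c'.map_mul, ih.2, succ_nsmul, add_assoc]
    have hgood : good (M ⊔ Subgroup.zpowers x) := by
      refine ⟨fun a ha a' ha' h => Subgroup.mem_sup_left (hDM a ha a' ha' h), fun y hy => ?_,
        fun y hy hy1 => ?_⟩
      · obtain ⟨w, hw, i, rfl⟩ := hsupmem y hy
        rw [(hπpow w i).1, (hπpow w i).2, hMπ w hw, hx]
      · obtain ⟨w, hw, i, rfl⟩ := hsupmem y hy
        have h1 := (hπpow w i).1
        rw [(c.ker _).mpr hy1] at h1
        by_cases hi : p ∣ i
        · have : x ^ i = 1 := by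
            obtain ⟨t, rfl⟩ := hi
            rw [pow_mul, hxp, one_pow]
          rw [this, mul_one] at hy1 ⊢
          exact hMZ w hw hy1
        · exfalso
          obtain ⟨j, hj⟩ := exists_pow_eq_self_of_coprime (x := x) (n := i)
            (((hp.out.coprime_iff_not_dvd).mpr hi).symm.coprime_dvd_right (orderOf_dvd_of_pow_eq_one hxp))
          have h2 : c.π (w⁻¹ ^ j).1 = c.π x.1 := by
            have e1 : c.π w.1⁻¹ = i • c.π x.1 := by
              rw [hpinv c.π hπ1 c.map_mul]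
              exact neg_eq_of_add_eq_zero_right h1.symm
            have e2 : ∀ (a : E) (n : ℕ), c.π (a ^ n) = n • c.π a := fun a n => by
              induction n with
              | zero => simp [hπ1]
              | succ n ih => rw [pow_succ, c.map_mul, ih, succ_nsmul]
            show c.π (w.1⁻¹ ^ j) = _
            rw [e2, e1, ← mul_nsmul', ← e2, show x.1 ^ (j * i) = x.1 from ?_]
            have := congrArg Prod.fst hj
            rw [mul_comm, pow_mul]
            simpa using this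
          exact hno _ (pow_mem (inv_mem hw) j) h2
    have hle := hmax hgood le_sup_left
    exact hno x (hle (Subgroup.mem_sup_right (Subgroup.mem_zpowers x))) rfl
  have hsurj : ∀ e : E, ∃ e' : E', (e, e') ∈ M := by
    intro e
    obtain ⟨e', he'⟩ := c'.surj (c.π e)
    obtain ⟨y, hy, hyπ⟩ := hcover (e, e') he'.symm
    have hcen : y.1⁻¹ * e ∈ Subgroup.center E := by
      rw [← c.ker, c.map_mul, hpinv c.π hπ1 c.map_mul]
      show -c.π y.1 + c.π e = 0
      rw [hyπ, neg_add_cancel]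
    obtain ⟨a', ha', hsig⟩ := c'.sig_surj (c.sig (y.1⁻¹ * e))
    refine ⟨y.2 * a', ?_⟩
    have := mul_mem hy (hDM _ hcen a' ha' hsig.symm)
    have e2 : y * (y.1⁻¹ * e, a') = (e, y.2 * a') := Prod.ext (mul_inv_cancel_left _ _) rfl
    rwa [e2] at this
  have hinj : ∀ x ∈ M, x.1 = 1 → x.2 = 1 := fun x hx h => by
    obtain ⟨h2, h3⟩ := hMZ x hx (h ▸ one_mem _)
    rw [h, hs1] at h3
    exact c'.sig_inj _ h2 h3.symm
  choose φ hφ using hsurj
  have huniq : ∀ e e', (e, e') ∈ M → e' = φ e := fun e e' he => by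
    have := hinj _ (mul_mem (inv_mem (hφ e)) he) (inv_mul_cancel e)
    exact (inv_mul_eq_one.mp this).symm
  let f : E →* E' := MonoidHom.mk' φ fun a b => (huniq _ _ (mul_mem (hφ a) (hφ b))).symm
  have hfinj : Function.Injective f := (injective_iff_map_eq_one f).mpr fun a ha => by
    have h1 := hMπ _ (hφ a)
    have h2 : φ a = 1 := ha
    simp only [h2, hπ1'] at h1
    obtain ⟨-, h3⟩ := hMZ _ (hφ a) ((c.ker a).mp h1)
    simp only [h2, hs1'] at h3
    exact c.sig_inj a ((c.ker a).mp h1) h3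
  have hcard : Nat.card E = Nat.card E' := by rw [c.card_eq, c'.card_eq]
  exact ⟨MulEquiv.ofBijective f ((Nat.bijective_iff_injective_and_card f).mpr ⟨hfinj, hcard⟩)⟩

end Cfsg.Agent.Lib.PGroups.ExtraOddIso
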