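import Cfsg.Agent.Lib.ThreeTransp.ExtraOut
import Cfsg.Agent.Lib.QuadFin.TypeTwo

/-!
Extraspecial 2-groups with the same quadratic form are isomorphic; the count of square roots of one.
-/

set_option autoImplicit false
set_option linter.unusedSectionVars false
set_option linter.style.haveILetI false

namespace Cfsg.Agent.Lib.PGroups.ExtraTwoIso

open Cfsg.Agent.Lib.LocalEven2.PlusModel (sig sig_eq_zero sig_one sig_mul center_cases sq_mem_center)
open Cfsg.Agent.Lib.ThreeTransp.ExtraOut (coords_eq_iff)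

variable {E E' : Type*} [Group E] [Finite E] [Group E'] [Finite E'] {ι : Type} [Fintype ι]
  [DecidableEq ι] (π : E → ι → ZMod 2) (π' : E' → ι → ZMod 2)

/-- Two extraspecial 2-groups with the same form in coordinates are isomorphic. -/
theorem exists_iso (hE : Cfsg.IsExtraspecial 2 E) (hE' : Cfsg.IsExtraspecial 2 E')
    (f : (ι → ZMod 2) → ZMod 2)
    (hm : ∀ a b, π (a * b) = π a + π b) (h0 : ∀ a, π a = 0 ↔ a ∈ Subgroup.center E)
    (hs : Function.Surjective π) (hf : ∀ a, f (π a) = sig (a * a))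
    (hm' : ∀ a b, π' (a * b) = π' a + π' b) (h0' : ∀ a, π' a = 0 ↔ a ∈ Subgroup.center E')
    (hs' : Function.Surjective π') (hf' : ∀ a, f (π' a) = sig (a * a)) : Nonempty (E ≃* E') := by
  classical
  obtain ⟨z, hz1, hzz, hzc, hall⟩ := center_cases hE
  obtain ⟨z', hz1', hzz', hzc', hall'⟩ := center_cases hE'
  have hπ1 : π 1 = 0 := (h0 1).mpr (one_mem _)
  have hπ1' : π' 1 = 0 := (h0' 1).mpr (one_mem _)
  let P : Subgroup (E × E') :=
    { carrier := {p | π' p.2 = π p.1}
      one_mem' := by simp [hπ1, hπ1']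
      mul_mem' := fun {p q} hp hq => by
        show π' (p.2 * q.2) = π (p.1 * q.1)
        rw [hm, hm', hp, hq]
      inv_mem' := fun {p} hp => by
        show π' p.2⁻¹ = π p.1⁻¹
        have e1 := hm' p.2 p.2⁻¹
        have e2 := hm p.1 p.1⁻¹
        rw [mul_inv_cancel, hπ1'] at e1
        rw [mul_inv_cancel, hπ1] at e2
        rw [eq_neg_of_add_eq_zero_right e1.symm, eq_neg_of_add_eq_zero_right e2.symm, hp] }
  have hsq : ∀ p : P, sig (p.1.1 * p.1.1) = sig (p.1.2 * p.1.2) := by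
    intro p
    have hp : π' p.1.2 = π p.1.1 := p.2
    rw [← hf, ← hf', hp]
  let N : Subgroup P :=
    { carrier := {p | p.1.1 ∈ Subgroup.center E ∧ p.1.2 ∈ Subgroup.center E' ∧ sig p.1.1 = sig p.1.2}
      one_mem' := ⟨one_mem _, one_mem _, show sig (1 : E) = sig (1 : E') by rw [sig_one, sig_one]⟩
      mul_mem' := fun {p q} hp hq => ⟨mul_mem hp.1 hq.1, mul_mem hp.2.1 hq.2.1, by
        show sig (p.1.1 * q.1.1) = sig (p.1.2 * q.1.2)
        rw [sig_mul hE hp.1 hq.1, sig_mul hE' hp.2.1 hq.2.1, hp.2.2, hq.2.2]⟩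
      inv_mem' := fun {p} hp => ⟨inv_mem hp.1, inv_mem hp.2.1, by
        show sig p.1.1⁻¹ = sig p.1.2⁻¹
        have e := sig_mul hE hp.1 (inv_mem hp.1)
        have e' := sig_mul hE' hp.2.1 (inv_mem hp.2.1)
        rw [mul_inv_cancel, sig_one] at e e'
        rw [eq_neg_of_add_eq_zero_right e.symm, eq_neg_of_add_eq_zero_right e'.symm, hp.2.2]⟩ }
  have hNmem : ∀ p : P, p ∈ N ↔
      p.1.1 ∈ Subgroup.center E ∧ p.1.2 ∈ Subgroup.center E' ∧ sig p.1.1 = sig p.1.2 := fun _ => Iff.rfl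
  haveI : N.Normal := ⟨fun p hp q => by
    refine (hNmem _).2 ?_
    show q.1.1 * p.1.1 * q.1.1⁻¹ ∈ Subgroup.center E ∧
      q.1.2 * p.1.2 * q.1.2⁻¹ ∈ Subgroup.center E' ∧
      sig (q.1.1 * p.1.1 * q.1.1⁻¹) = sig (q.1.2 * p.1.2 * q.1.2⁻¹)
    rw [Subgroup.mem_center_iff.1 hp.1 q.1.1, Subgroup.mem_center_iff.1 hp.2.1 q.1.2,
      mul_inv_cancel_right, mul_inv_cancel_right]
    exact hp⟩
  have hNsq : ∀ x : P ⧸ N, x * x = 1 := fun x => by
    obtain ⟨p, rfl⟩ := QuotientGroup.mk_surjective x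
    rw [← QuotientGroup.mk_mul, QuotientGroup.eq_one_iff, hNmem]
    exact ⟨sq_mem_center hE p.1.1, sq_mem_center hE' p.1.2, hsq p⟩
  letI : CommGroup (P ⧸ N) :=
    { (inferInstance : Group (P ⧸ N)) with
      mul_comm := fun a b => by
        calc a * b = (a * b)⁻¹ := (inv_eq_of_mul_eq_one_right (hNsq _)).symm
          _ = _ := by rw [_root_.mul_inv_rev, inv_eq_of_mul_eq_one_right (hNsq a),
            inv_eq_of_mul_eq_one_right (hNsq b)] }
  letI : Module (ZMod 2) (Additive (P ⧸ N)) := AddCommGroup.zmodModule fun u => by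
    rw [two_nsmul]; exact hNsq (Additive.toMul u)
  have hw : ((1, z') : E × E') ∈ P := by
    show π' z' = π 1
    rw [hπ1, h0']; exact hzc'
  let w : P := ⟨(1, z'), hw⟩
  obtain ⟨φ, hφ⟩ : ∃ φ : Module.Dual (ZMod 2) (Additive (P ⧸ N)),
      φ (Additive.ofMul (QuotientGroup.mk w)) ≠ 0 := by
    by_contra hne
    push Not at hne
    have h := (Module.forall_dual_apply_eq_zero_iff (ZMod 2) _).1 hne
    have h' : (QuotientGroup.mk w : P ⧸ N) = 1 := h
    rw [QuotientGroup.eq_one_iff, hNmem] at h'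
    have h2 : sig z' = 0 := by
      have h3 := h'.2.2
      change sig (1 : E) = sig z' at h3
      rw [← h3, sig_one]
    exact hz1' (sig_eq_zero.1 h2)
  let ψ : P → ZMod 2 := fun p => φ (Additive.ofMul (QuotientGroup.mk p))
  have hψm : ∀ p q, ψ (p * q) = ψ p + ψ q := fun p q => by
    show φ (Additive.ofMul (QuotientGroup.mk p * QuotientGroup.mk q)) = _
    rw [ofMul_mul, map_add]
  have hψN : ∀ p : P, p ∈ N → ψ p = 0 := fun p hp => by
    show φ (Additive.ofMul (QuotientGroup.mk p)) = 0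
    rw [(QuotientGroup.eq_one_iff p).2 hp, ofMul_one, map_zero]
  have hψw : ψ w = 1 := by
    rcases (by decide : ∀ a : ZMod 2, a = 0 ∨ a = 1) (ψ w) with h | h
    · exact absurd h hφ
    · exact h
  have hex : ∀ x : E, ∃ y : E', ∃ h : π' y = π x, ψ ⟨(x, y), h⟩ = 0 := by
    intro x
    obtain ⟨y, hy⟩ := hs' (π x)
    by_cases hp : ψ ⟨(x, y), hy⟩ = 0
    · exact ⟨y, hy, hp⟩
    · have hy' : π' (y * z') = π x := by rw [hm', (h0' z').2 hzc', add_zero, hy]
      refine ⟨y * z', hy', ?_⟩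
      have he : (⟨(x, y * z'), hy'⟩ : P) = (⟨(x, y), hy⟩ : P) * w :=
        Subtype.ext (Prod.ext (mul_one x).symm rfl)
      rw [he, hψm, hψw]
      rcases (by decide : ∀ a : ZMod 2, a = 0 ∨ a = 1) (ψ ⟨(x, y), hy⟩) with h | h
      · exact absurd h hp
      · rw [h]; rfl
  choose F hF hFψ using hex
  have huniq : ∀ (x : E) (y : E') (h : π' y = π x), ψ ⟨(x, y), h⟩ = 0 → y = F x := by
    intro x y h hy
    have hc : (F x)⁻¹ * y ∈ Subgroup.center E' :=
      (coords_eq_iff π' hm' h0' _ _).1 (by rw [hF, h])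
    rcases hall' _ hc with h' | h'
    · exact (inv_mul_eq_one.1 h').symm
    · have he : (⟨(x, y), h⟩ : P) = (⟨(x, F x), hF x⟩ : P) * w :=
        Subtype.ext (Prod.ext (mul_one x).symm (by
          show y = F x * z'
          rw [← h', mul_inv_cancel_left]))
      rw [he, hψm, hψw, hFψ] at hy
      simp at hy
  let αh : E →* E' := MonoidHom.mk' F fun a b => by
    refine (huniq (a * b) (F a * F b) (by rw [hm, hm', hF, hF]) ?_).symm
    have he := hψm ⟨(a, F a), hF a⟩ ⟨(b, F b), hF b⟩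
    rw [hFψ, hFψ, add_zero] at he
    exact he
  have hinj : Function.Injective αh := by
    rw [injective_iff_map_eq_one]
    intro x hx
    have hx' : F x = 1 := hx
    have hc : x ∈ Subgroup.center E := by
      rw [← h0, ← hF x, hx', hπ1']
    rcases hall x hc with rfl | rfl
    · rfl
    · have hz' : π' z' = π x := by rw [(h0 x).2 hzc, h0']; exact hzc'
      have hN : (⟨(x, z'), hz'⟩ : P) ∈ N := by
        refine ⟨hzc, hzc', ?_⟩
        show sig x = sig z'
        rcases (by decide : ∀ a : ZMod 2, a = 0 ∨ a = 1) (sig x) with h | h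
        · exact absurd (sig_eq_zero.1 h) hz1
        · rcases (by decide : ∀ a : ZMod 2, a = 0 ∨ a = 1) (sig z') with h' | h'
          · exact absurd (sig_eq_zero.1 h') hz1'
          · rw [h, h']
      exact absurd ((huniq x z' hz' (hψN _ hN)).trans hx') hz1'
  refine ⟨MulEquiv.ofBijective αh ⟨hinj, fun y => ?_⟩⟩
  obtain ⟨x, hx⟩ := hs (π' y)
  have hc : (F x)⁻¹ * y ∈ Subgroup.center E' := (coords_eq_iff π' hm' h0' _ _).1 (by rw [hF, hx])
  rcases hall' _ hc with h' | h'
  · exact ⟨x, inv_mul_eq_one.1 h'⟩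
  · refine ⟨x * z, ?_⟩
    have hFz : F z = z' := by
      have h := hF z
      rw [(h0 z).2 hzc] at h
      rcases hall' _ ((h0' _).1 h) with h1 | h1
      · exact absurd (hinj (show αh z = αh 1 by rw [map_one]; exact h1)) hz1
      · exact h1
    show αh (x * z) = y
    rw [map_mul]
    show F x * F z = y
    rw [hFz, ← h', mul_inv_cancel_left]

/-- Elements squaring to one lie two above each singular vector. -/
theorem card_sq_eq_one (hE : Cfsg.IsExtraspecial 2 E) (f : (ι → ZMod 2) → ZMod 2)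
    (hm : ∀ a b, π (a * b) = π a + π b) (h0 : ∀ a, π a = 0 ↔ a ∈ Subgroup.center E)
    (hs : Function.Surjective π) (hf : ∀ a, f (π a) = sig (a * a)) :
    Nat.card {x : E // x ^ 2 = 1} = 2 * Nat.card {u : ι → ZMod 2 // f u = 0} := by
  classical
  choose lift hlift using hs
  have key : ∀ x : E, x ^ 2 = 1 ↔ f (π x) = 0 := fun x => by rw [hf, sig_eq_zero, pow_two]
  have hπl : ∀ (u : ι → ZMod 2) (c : Subgroup.center E), π (lift u * c) = u := fun u c => by
    rw [hm, hlift, (h0 _).2 c.2, add_zero]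
  let e : {x : E // x ^ 2 = 1} ≃ Subgroup.center E × {u : ι → ZMod 2 // f u = 0} :=
    { toFun := fun x => (⟨(lift (π x.1))⁻¹ * x.1,
        (coords_eq_iff π hm h0 _ _).1 (hlift _)⟩, ⟨π x.1, (key _).1 x.2⟩)
      invFun := fun p => ⟨lift p.2.1 * p.1, (key _).2 (by rw [hπl]; exact p.2.2)⟩
      left_inv := fun x => Subtype.ext (mul_inv_cancel_left _ _)
      right_inv := fun p => by
        refine Prod.ext (Subtype.ext ?_) (Subtype.ext (hπl _ _))
        show (lift (π (lift p.2.1 * p.1)))⁻¹ * (lift p.2.1 * p.1) = _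
        rw [hπl, inv_mul_cancel_left] }
  rw [Nat.card_congr e, Nat.card_prod, hE.2]

end Cfsg.Agent.Lib.PGroups.ExtraTwoIso
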