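import Cfsg.Agent.Lib.PGroups.ExtraTwoIso
import Cfsg.Agent.Lib.LocalEven.ExtraCount
import Cfsg.Prelude.Def_CaseTheorems

/-!
The two types of extraspecial 2-groups, told apart by the 2-rank.
-/

set_option autoImplicit false

namespace Cfsg.Agent.Lib.PGroups.ExtraTwoType

open Cfsg.Agent.Lib.LocalEven2.PlusModel (sig sig_eq_zero)

variable {E : Type*} [Group E] [Finite E]

/-- Coordinates of plus type. -/
def IsPlus (E : Type*) [Group E] (n : ℕ) : Prop :=
  ∃ π : E → (Fin n ⊕ Fin n → ZMod 2), (∀ a b, π (a * b) = π a + π b) ∧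
    (∀ a, π a = 0 ↔ a ∈ Subgroup.center E) ∧ Function.Surjective π ∧
    ∀ a, Cfsg.quadFormPlus n (ZMod 2) (π a) = sig (a * a)

/-- Coordinates of minus type. -/
def IsMinus (E : Type*) [Group E] (n : ℕ) : Prop :=
  ∃ π : E → ((Fin (n - 1) ⊕ Fin (n - 1)) ⊕ Fin 2 → ZMod 2), (∀ a b, π (a * b) = π a + π b) ∧
    (∀ a, π a = 0 ↔ a ∈ Subgroup.center E) ∧ Function.Surjective π ∧
    ∀ a, Cfsg.quadFormMinus (n - 1) (ZMod 2) 1 1 (π a) = sig (a * a)

theorem plus_or_minus (hE : Cfsg.IsExtraspecial 2 E) {n : ℕ} (hn : 1 ≤ n)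
    (hc : Nat.card E = 2 ^ (2 * n + 1)) : IsPlus E n ∨ IsMinus E n :=
  ThreeTransp.ExtraOut.exists_coords hE hn hc

theorem card_elementary_le (hE : Cfsg.IsExtraspecial 2 E) {n : ℕ}
    (hc : Nat.card E = 2 ^ (2 * n + 1)) (A : Subgroup E) (hA : IsMulCommutative A) :
    Nat.card A ≤ 2 ^ (n + 1) := by
  have hle : A ≤ A ⊔ Subgroup.center E := le_sup_left
  set B := A ⊔ Subgroup.center E with hB
  have hBC : B ≤ Subgroup.centralizer (B : Set E) := by
    refine sup_le ?_ (Subgroup.center_le_centralizer _)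
    rw [Subgroup.le_centralizer_iff]
    refine sup_le ?_ (Subgroup.center_le_centralizer _)
    exact fun a ha => Subgroup.mem_centralizer_iff.2 fun b hb =>
      congrArg Subtype.val (hA.is_comm.comm ⟨b, hb⟩ ⟨a, ha⟩)
  have h := LocalEven.card_mul_card_centralizer hE B le_sup_right
  have h1 := Nat.mul_le_mul_left (Nat.card B) (Subgroup.card_le_of_le hBC)
  rw [h, hc, show 2 * 2 ^ (2 * n + 1) = 2 ^ (n + 1) * 2 ^ (n + 1) by
    rw [← pow_add, ← pow_succ']; congr 1; omega] at h1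
  exact (Subgroup.card_le_of_le hle).trans (Nat.mul_self_le_mul_self_iff.mp h1)

theorem exists_elem_minus (hE : Cfsg.IsExtraspecial 2 E) {n : ℕ} (hn : 1 ≤ n)
    (hc : Nat.card E = 2 ^ (2 * n + 1)) (h : IsMinus E n) :
    ∃ A : Subgroup E, IsMulCommutative A ∧ (∀ a ∈ A, a ^ 2 = 1) ∧ Nat.card A = 2 ^ n := by
  classical
  obtain ⟨π, hm, h0, hs, hf⟩ := h
  let R : E →* Multiplicative ((Fin (n - 1) → ZMod 2) × (Fin 2 → ZMod 2)) :=
    MonoidHom.mk' (fun a => Multiplicative.ofAdd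
      ((fun i => π a (Sum.inl (Sum.inr i))), fun j => π a (Sum.inr j))) fun a b => by
      rw [← ofAdd_add, Prod.mk_add_mk]
      congr 2
      · exact funext fun i => congrFun (hm a b) _
      · exact funext fun i => congrFun (hm a b) _
  have hsq : ∀ a ∈ R.ker, a * a = 1 := fun a ha => by
    have h1 := Multiplicative.ofAdd.injective (ha : R a = 1)
    refine sig_eq_zero.1 ?_
    rw [← hf]
    have e1 : ∀ i, π a (Sum.inl (Sum.inr i)) = 0 := fun i => congrFun (congrArg Prod.fst h1) i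
    have e2 : ∀ j, π a (Sum.inr j) = 0 := fun j => congrFun (congrArg Prod.snd h1) j
    simp [Cfsg.quadFormMinus, e1, e2]
  refine ⟨R.ker, ⟨⟨fun a b => Subtype.ext ?_⟩⟩, fun a ha => by rw [pow_two]; exact hsq a ha, ?_⟩
  · show (a : E) * b = b * a
    calc (a : E) * b = ((a : E) * b)⁻¹ :=
          (inv_eq_of_mul_eq_one_right (hsq _ (mul_mem a.2 b.2))).symm
      _ = _ := by rw [_root_.mul_inv_rev, inv_eq_of_mul_eq_one_right (hsq _ a.2),
        inv_eq_of_mul_eq_one_right (hsq _ b.2)]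
  · have hRs : Function.Surjective R := fun v => by
      obtain ⟨a, ha⟩ := hs (Sum.elim (Sum.elim 0 (Multiplicative.toAdd v).1) (Multiplicative.toAdd v).2)
      exact ⟨a, congrArg Multiplicative.ofAdd (Prod.ext (funext fun i => by rw [ha]; rfl)
        (funext fun i => by rw [ha]; rfl))⟩
    have h := Subgroup.card_eq_card_quotient_mul_card_subgroup R.ker
    rw [Nat.card_congr (QuotientGroup.quotientKerEquivOfSurjective R hRs).toEquiv, hc,
      Nat.card_congr Multiplicative.toAdd, Nat.card_prod] at h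
    simp only [Nat.card_eq_fintype_card, Fintype.card_fun, ZMod.card, Fintype.card_fin] at h
    rw [← pow_add, show 2 * n + 1 = (n - 1 + 2) + n by omega, pow_add, pow_add] at h
    exact (Nat.eq_of_mul_eq_mul_left (by positivity) h).symm

theorem rank_plus (hE : Cfsg.IsExtraspecial 2 E) {n : ℕ}
    (hc : Nat.card E = 2 ^ (2 * n + 1)) (h : IsPlus E n) :
    Cfsg.PRankLE 2 (n + 1) E ∧ ¬ Cfsg.PRankLE 2 n E := by
  obtain ⟨π, hm, h0, hs, hf⟩ := h
  obtain ⟨A, hA, hAc⟩ := ThreeTransp.ExtraOut.exists_elem_plus hE π hm h0 hs hf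
  refine ⟨fun A hA _ => card_elementary_le hE hc A hA, fun hle => ?_⟩
  have := hle A hA.1 hA.2
  rw [hAc] at this
  exact absurd ((Nat.pow_le_pow_iff_right one_lt_two).mp this) (by omega)

theorem rank_minus (hE : Cfsg.IsExtraspecial 2 E) {n : ℕ} (hn : 1 ≤ n)
    (hc : Nat.card E = 2 ^ (2 * n + 1)) (h : IsMinus E n) :
    Cfsg.PRankLE 2 n E ∧ ¬ Cfsg.PRankLE 2 (n - 1) E := by
  obtain ⟨A, hA1, hA2, hAc⟩ := exists_elem_minus hE hn hc h
  obtain ⟨π, hm, h0, hs, hf⟩ := h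
  refine ⟨fun B hB hB2 => ?_, fun hle => ?_⟩
  · obtain ⟨k, hk⟩ := IsPGroup.iff_card.mp ((IsPGroup.of_card hc : IsPGroup 2 E).to_subgroup B)
    have hb := card_elementary_le hE hc B hB
    rw [hk, Nat.pow_le_pow_iff_right one_lt_two] at hb
    rw [hk, Nat.pow_le_pow_iff_right one_lt_two]
    by_contra hlt
    exact ThreeTransp.ExtraOut.no_elem_minus hE hn π hm h0 hf ⟨B, ⟨hB, hB2⟩, by rw [hk]; congr 1; omega⟩
  · have := hle A hA1 hA2
    rw [hAc, Nat.pow_le_pow_iff_right one_lt_two] at this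
    omega

theorem iso_of_plus {E' : Type*} [Group E'] [Finite E'] (hE : Cfsg.IsExtraspecial 2 E)
    (hE' : Cfsg.IsExtraspecial 2 E') {n : ℕ} (h : IsPlus E n) (h' : IsPlus E' n) :
    Nonempty (E ≃* E') := by
  obtain ⟨π, a, b, c, d⟩ := h
  obtain ⟨π', a', b', c', d'⟩ := h'
  exact ExtraTwoIso.exists_iso π π' hE hE' _ a b c d a' b' c' d'

theorem iso_of_minus {E' : Type*} [Group E'] [Finite E'] (hE : Cfsg.IsExtraspecial 2 E)
    (hE' : Cfsg.IsExtraspecial 2 E') {n : ℕ} (h : IsMinus E n) (h' : IsMinus E' n) :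
    Nonempty (E ≃* E') := by
  obtain ⟨π, a, b, c, d⟩ := h
  obtain ⟨π', a', b', c', d'⟩ := h'
  exact ExtraTwoIso.exists_iso π π' hE hE' _ a b c d a' b' c' d'

end Cfsg.Agent.Lib.PGroups.ExtraTwoType
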