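import Cfsg.Agent.Lib.Frobenius.Kernel
import Cfsg.Agent.Lib.Solvable.Nilpotent
import Mathlib

/-!
Freeness over the complement of a Frobenius group acting without fixed points of the kernel,
by Galois descent over the group algebra of an abelian section of the kernel.
-/

set_option autoImplicit false
set_option linter.style.haveILetI false
set_option linter.unusedSectionVars false

namespace Cfsg.Agent.Lib.PGroups.FreeModule

/-- A normal element: the matrix of its conjugates has trivial kernel. -/
theorem exists_normal_element (Γ E : Type*) [Group Γ] [Finite Γ] [Fintype Γ] [Field E]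
    [MulSemiringAction Γ E] [FaithfulSMul Γ E] :
    ∃ n : E, ∀ a : Γ → E, (∀ g, ∑ h, a h * ((g * h) • n) = 0) → a = 0 := by
  classical
  let K := FixedPoints.subfield Γ E
  haveI : FiniteDimensional K E := inferInstance
  obtain ⟨n, hn⟩ := exists_linearIndependent_algEquiv_apply K E
  refine ⟨n, fun a ha => ?_⟩
  let e := FixedPoints.toAlgAutMulEquiv Γ E
  have hcard : Fintype.card (E ≃ₐ[K] E) = Module.finrank K E := by
    rw [← Nat.card_eq_fintype_card]; exact IsGalois.card_aut_eq_finrank K E
  let bas := basisOfLinearIndependentOfCardEqFinrank hn hcard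
  have hcast : ∀ (g : Γ) (x : E), e g x = g • x := fun g x => rfl
  let M : Matrix Γ Γ E := Matrix.of fun g h => (g * h) • n
  have hrow : ∀ c : Γ → E, Matrix.vecMul c M = 0 → c = 0 := by
    intro c hc
    have hb : ∀ h, ∑ g, c g * g • (h • n) = 0 := fun h => by
      have := congrFun hc h
      simp only [Matrix.vecMul, dotProduct, M, Matrix.of_apply, Pi.zero_apply, mul_smul] at this
      exact this
    have hall : ∀ x : E, ∑ g, c g * g • x = 0 := by
      let L : E →ₗ[K] E := ∑ g, c g • (e g).toLinearMap
      have hL : ∀ x, L x = ∑ g, c g * g • x := fun x => by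
        simp only [L, LinearMap.sum_apply, LinearMap.smul_apply, AlgEquiv.toLinearMap_apply, hcast,
          smul_eq_mul]
      have h0 : L = 0 := bas.ext fun σ => by
        obtain ⟨h, rfl⟩ := e.surjective σ
        rw [coe_basisOfLinearIndependentOfCardEqFinrank, hL, LinearMap.zero_apply, hcast]
        exact hb h
      intro x; rw [← hL, h0, LinearMap.zero_apply]
    let f : Γ → (E →* E) := fun g => (MulSemiringAction.toRingHom Γ E g).toMonoidHom
    have hf : Function.Injective f := fun g g' h => FaithfulSMul.eq_of_smul_eq_smul (M := Γ) (α := E)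
      fun x => DFunLike.congr_fun h x
    have hli := (linearIndependent_monoidHom E E).comp f hf
    exact funext (Fintype.linearIndependent_iff.mp hli c (funext fun x => by
      simp only [Finset.sum_apply, Pi.smul_apply, Pi.zero_apply, Function.comp_apply, smul_eq_mul]
      exact hall x))
  have hdet : M.det ≠ 0 := fun h => by
    obtain ⟨c, hc, hcM⟩ := Matrix.exists_vecMul_eq_zero_iff.mpr h
    exact hc (hrow c hcM)
  refine Matrix.eq_zero_of_mulVec_eq_zero hdet (funext fun g => ?_)
  simpa [Matrix.mulVec, dotProduct, M, mul_comm] using ha g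

open MonoidAlgebra in
/-- The core: descent along a fixed-point-free group of automorphisms of an abelian group. -/
theorem core {k V H D : Type*} [Field k] [AddCommGroup V] [Module k V] [Group H] [Fintype H]
    [CommGroup D] [Fintype D] (hD : (Fintype.card D : k) ≠ 0)
    (τ : H →* Module.End k V) (σ : D →* Module.End k V) (φ : H →* MulAut D)
    (hcomp : ∀ h d, τ h * σ d = σ (φ h d) * τ h)
    (havg : ∑ d, σ d = 0)
    (hsurj : ∀ h : H, h ≠ 1 → ∀ d' : D, ∃ d, φ h d * d⁻¹ = d') :
    ∃ W : Submodule k V, ∀ v : V, ∃! f : H → V, (∀ h, f h ∈ W) ∧ ∑ h, τ h (f h) = v := by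
  classical
  let R := MonoidAlgebra k D
  let act : H →* (R ≃ₐ[k] R) := (MonoidAlgebra.domCongrAut (R := k) (A := k) (M := D)).comp φ
  letI : MulSemiringAction H R :=
    { smul := fun h x => act h x
      one_smul := fun x => show act 1 x = x by rw [map_one]; rfl
      mul_smul := fun g h x => show act (g * h) x = act g (act h x) by rw [map_mul]; rfl
      smul_zero := fun h => map_zero (act h)
      smul_add := fun h x y => map_add (act h) x y
      smul_one := fun h => map_one (act h)
      smul_mul := fun h x y => map_mul (act h) x y }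
  have hsingle : ∀ (h : H) (d : D) (c : k), h • (MonoidAlgebra.single d c : R) = MonoidAlgebra.single (φ h d) c :=
    fun h d c => MonoidAlgebra.domCongr_single (R := k) (A := k) (φ h) d c
  let L : R →ₐ[k] Module.End k V := MonoidAlgebra.lift k (Module.End k V) D σ
  have hLc : ∀ (h : H) (x : R), τ h * L x = L (h • x) * τ h := by
    intro h x
    induction x using MonoidAlgebra.induction_linear with
    | zero => simp
    | add x y hx hy => rw [smul_add, map_add, map_add, mul_add, add_mul, hx, hy]
    | single d c => rw [hsingle, MonoidAlgebra.lift_single, MonoidAlgebra.lift_single, mul_smul_comm, smul_mul_assoc, hcomp]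
  -- the averaging element
  let avg : R := ∑ d : D, MonoidAlgebra.single d ((Fintype.card D : k)⁻¹)
  have havgL : L avg = 0 := by
    rw [map_sum, Finset.sum_congr rfl fun d _ => MonoidAlgebra.lift_single σ d _, ← Finset.smul_sum, havg, smul_zero]
  have havgfix : ∀ h : H, h • avg = avg := fun h => by
    simp only [avg, Finset.smul_sum, hsingle]
    exact Fintype.sum_equiv (φ h).toEquiv _ _ fun d => rfl
  haveI : IsArtinianRing R := IsArtinianRing.of_finite k R
  let S := {m : MaximalSpectrum R // avg ∈ m.asIdeal}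
  haveI : Finite S := Subtype.finite
  letI : MulAction H S :=
    { smul := fun h m => ⟨⟨m.1.asIdeal.comap (MulSemiringAction.toRingHom H R h⁻¹),
          @Ideal.comap_isMaximal_of_surjective _ _ _ _ _ _ _ (MulSemiringAction.toRingHom H R h⁻¹)
            (fun y => ⟨h • y, inv_smul_smul h y⟩) m.1.asIdeal m.1.isMaximal⟩,
          show h⁻¹ • avg ∈ m.1.asIdeal by rw [havgfix]; exact m.2⟩
      one_smul := fun m => Subtype.ext (MaximalSpectrum.ext (Ideal.ext fun x => by
        show (1 : H)⁻¹ • x ∈ m.1.asIdeal ↔ _
        rw [inv_one, one_smul]))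
      mul_smul := fun g h m => Subtype.ext (MaximalSpectrum.ext (Ideal.ext fun x => by
        show (g * h)⁻¹ • x ∈ m.1.asIdeal ↔ h⁻¹ • g⁻¹ • x ∈ m.1.asIdeal
        rw [mul_inv_rev, mul_smul])) }
  have hmem : ∀ (h : H) (m : S) (x : R), x ∈ (h • m).1.asIdeal ↔ h⁻¹ • x ∈ m.1.asIdeal :=
    fun _ _ _ => Iff.rfl
  let rep : S → S := fun m => (Quotient.mk (MulAction.orbitRel H S) m).out
  have hrep : ∀ m : S, ∃ t : H, t • rep m = m := fun m =>
    (Quotient.exact (Quotient.out_eq (Quotient.mk (MulAction.orbitRel H S) m)).symm :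
      m ∈ MulAction.orbit H (rep m))
  have hrep' : ∀ (h : H) (m : S), rep (h • m) = rep m := fun h m =>
    congrArg Quotient.out (Quotient.sound (⟨h, rfl⟩ : h • m ∈ MulAction.orbit H m))
  -- a normal element at each fixed representative
  have hloc : ∀ r : S, ∃ n : R, ∀ a : MulAction.stabilizer H r → R,
      (∀ g : MulAction.stabilizer H r, ∑ h : MulAction.stabilizer H r, a h * (((g : H) * (h : H)) • n) ∈ r.1.asIdeal) →
        ∀ h, a h ∈ r.1.asIdeal := by
    intro r
    haveI := r.1.isMaximal
    letI : Field (R ⧸ r.1.asIdeal) := Ideal.Quotient.field r.1.asIdeal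
    have hle : ∀ γ : MulAction.stabilizer H r,
        r.1.asIdeal ≤ r.1.asIdeal.comap (MulSemiringAction.toRingHom H R (γ : H)) := fun γ x hx => by
      have hγ : (γ : H) • r = r := γ.2
      have h1 := hmem (γ : H) r ((γ : H) • x)
      rw [hγ, inv_smul_smul] at h1
      exact h1.mpr hx
    let Q := R ⧸ r.1.asIdeal
    let q := fun γ : MulAction.stabilizer H r =>
      Ideal.quotientMap r.1.asIdeal (MulSemiringAction.toRingHom H R (γ : H)) (hle γ)
    have hq : ∀ γ x, q γ (Ideal.Quotient.mk _ x) = Ideal.Quotient.mk _ ((γ : H) • x) := fun γ x => rfl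
    letI : MulSemiringAction (MulAction.stabilizer H r) Q :=
      { smul := fun γ x => q γ x
        one_smul := fun x => by
          obtain ⟨x, rfl⟩ := Ideal.Quotient.mk_surjective x
          show q 1 _ = _
          rw [hq, Subgroup.coe_one, one_smul]
        mul_smul := fun g h x => by
          obtain ⟨x, rfl⟩ := Ideal.Quotient.mk_surjective x
          show q (g * h) _ = q g (q h _)
          rw [hq, hq, hq, Subgroup.coe_mul, mul_smul]
        smul_zero := fun γ => map_zero (q γ)
        smul_add := fun γ x y => map_add (q γ) x y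
        smul_one := fun γ => map_one (q γ)
        smul_mul := fun γ x y => map_mul (q γ) x y }
    haveI : FaithfulSMul (MulAction.stabilizer H r) Q := by
      refine ⟨fun {g g'} hgg' => ?_⟩
      by_contra hne
      have hγ : g'⁻¹ * g ≠ 1 := fun h => hne (inv_mul_eq_one.mp h).symm
      have hfix : ∀ x : R, Ideal.Quotient.mk r.1.asIdeal (((g'⁻¹ * g : MulAction.stabilizer H r) : H) • x) =
          Ideal.Quotient.mk r.1.asIdeal x := fun x => by
        rw [← hq]
        show (g'⁻¹ * g) • Ideal.Quotient.mk r.1.asIdeal x = _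
        rw [mul_smul, hgg', inv_smul_smul]
      have hone : ∀ d : D, Ideal.Quotient.mk r.1.asIdeal (MonoidAlgebra.single d (1 : k)) = 1 := by
        intro d'
        obtain ⟨d, rfl⟩ := hsurj _ (fun h => hγ (Subtype.ext h)) d'
        have h1 := hfix (MonoidAlgebra.single d (1 : k))
        rw [hsingle] at h1
        have h2 : (MonoidAlgebra.single (φ ((g'⁻¹ * g : MulAction.stabilizer H r) : H) d * d⁻¹) (1 : k) : R) =
            MonoidAlgebra.single (φ ((g'⁻¹ * g : MulAction.stabilizer H r) : H) d) 1 * MonoidAlgebra.single d⁻¹ 1 := by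
          rw [MonoidAlgebra.single_mul_single, one_mul]
        rw [h2, map_mul, h1, ← map_mul, MonoidAlgebra.single_mul_single, mul_inv_cancel, one_mul,
          ← MonoidAlgebra.one_def, map_one]
      have h3 : Ideal.Quotient.mk r.1.asIdeal avg = 1 := by
        have e : avg = algebraMap k R (Fintype.card D : k)⁻¹ * ∑ d : D, MonoidAlgebra.single d (1 : k) := by
          rw [← Algebra.smul_def, Finset.smul_sum]
          exact Finset.sum_congr rfl fun d _ => by rw [MonoidAlgebra.smul_single, smul_eq_mul, mul_one]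
        refine (congrArg (Ideal.Quotient.mk r.1.asIdeal) e).trans ?_
        rw [map_mul, map_sum, Finset.sum_congr rfl fun d _ => hone d, Finset.sum_const, Finset.card_univ,
          nsmul_eq_mul, mul_one, ← map_natCast ((Ideal.Quotient.mk r.1.asIdeal).comp (algebraMap k R)),
          RingHom.comp_apply, ← map_mul, ← map_mul, inv_mul_cancel₀ hD, map_one, map_one]
      rw [Ideal.Quotient.eq_zero_iff_mem.mpr r.2] at h3
      exact zero_ne_one h3
    obtain ⟨n', hn'⟩ := exists_normal_element (MulAction.stabilizer H r) Q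
    obtain ⟨n, rfl⟩ := Ideal.Quotient.mk_surjective n'
    refine ⟨n, fun a ha h => ?_⟩
    rw [← Ideal.Quotient.eq_zero_iff_mem]
    refine congrFun (hn' (fun h => Ideal.Quotient.mk _ (a h)) fun g => ?_) h
    rw [← Ideal.Quotient.eq_zero_iff_mem.mpr (ha g), map_sum]
    refine Finset.sum_congr rfl fun h _ => ?_
    rw [map_mul]
    congr 1
  choose n hn using hloc
  obtain ⟨b, hb⟩ : ∃ b : R, ∀ m : S, b - (if rep m = m then n m else 0) ∈ m.1.asIdeal := by
    obtain ⟨b, hb⟩ := Ideal.pi_quotient_surjective (I := fun m : S => m.1.asIdeal) (fun m m' hne => by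
      haveI := m.1.isMaximal
      haveI := m'.1.isMaximal
      exact Ideal.isCoprime_iff_sup_eq.mpr (Ideal.IsMaximal.coprime_of_ne m.1.isMaximal m'.1.isMaximal
        fun e => hne (Subtype.ext (MaximalSpectrum.ext e))))
      fun m => Ideal.Quotient.mk _ (if rep m = m then n m else 0)
    exact ⟨b, fun m => Ideal.Quotient.eq.mp (hb m)⟩
  let M : Matrix H H R := Matrix.of fun g h => (g * h) • b
  have hdetrep : ∀ r : S, rep r = r → M.det ∉ r.1.asIdeal := by
    intro r hr hdet
    haveI := r.1.isMaximal
    letI : Field (R ⧸ r.1.asIdeal) := Ideal.Quotient.field r.1.asIdeal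
    have h0 : ((Ideal.Quotient.mk r.1.asIdeal).mapMatrix M).det = 0 := by
      rw [← RingHom.map_det]; exact Ideal.Quotient.eq_zero_iff_mem.mpr hdet
    obtain ⟨a', ha0, ha⟩ := Matrix.exists_mulVec_eq_zero_iff.mpr h0
    apply ha0
    choose a haeq using fun h => Ideal.Quotient.mk_surjective (a' h)
    have hbr : b - n r ∈ r.1.asIdeal := by simpa [hr] using hb r
    have hout : ∀ x : H, x ∉ MulAction.stabilizer H r → x • b ∈ r.1.asIdeal := by
      intro x hx
      have hne : rep (x⁻¹ • r) ≠ x⁻¹ • r := by
        rw [hrep', hr]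
        intro e
        apply hx
        show x • r = r
        nth_rewrite 1 [e]
        rw [smul_inv_smul]
      have h1 := hb (x⁻¹ • r)
      rw [if_neg hne, sub_zero, hmem, inv_inv] at h1
      exact h1
    funext h₀
    rw [← haeq, Pi.zero_apply, Ideal.Quotient.eq_zero_iff_mem]
    have key := hn r (fun h => a (h₀ * h)) fun g => ?_
    · simpa using key 1
    · have h1 := congrFun ha ((g : H) * h₀⁻¹)
      have h2 : ∑ h, a h * (((g : H) * h₀⁻¹ * h) • b) ∈ r.1.asIdeal := by
        rw [← Ideal.Quotient.eq_zero_iff_mem, map_sum]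
        simp only [map_mul, haeq]
        simpa [Matrix.mulVec, dotProduct, M, mul_comm] using h1
      have h3 : ∑ h, a h * (((g : H) * h₀⁻¹ * h) • b) =
          ∑ h, a (h₀ * h) * (((g : H) * h) • b) := by
        refine (Fintype.sum_equiv (Equiv.mulLeft h₀) _ _ fun h => ?_).symm
        show _ = a (h₀ * h) * (((g : H) * h₀⁻¹ * (h₀ * h)) • b)
        rw [mul_assoc, inv_mul_cancel_left]
      rw [h3, ← Fintype.sum_subtype_add_sum_subtype (fun h => h ∈ MulAction.stabilizer H r)
        (fun h => a (h₀ * h) * (((g : H) * h) • b))] at h2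
      have h4 : ∑ h : {h // h ∉ MulAction.stabilizer H r}, a (h₀ * h.1) * (((g : H) * h.1) • b) ∈ r.1.asIdeal :=
        Ideal.sum_mem _ fun h _ => Ideal.mul_mem_left _ _ (hout _ fun hm =>
          h.2 (by simpa using Subgroup.mul_mem _ (Subgroup.inv_mem _ g.2) hm))
      have h5 := (Ideal.add_mem_iff_left _ h4).mp h2
      have h6 : ∑ h : MulAction.stabilizer H r,
          (a (h₀ * (h : H)) * (((g : H) * (h : H)) • b) - a (h₀ * (h : H)) * (((g : H) * (h : H)) • n r)) ∈
            r.1.asIdeal := Ideal.sum_mem _ fun h _ => by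
        rw [← mul_sub, ← smul_sub]
        refine Ideal.mul_mem_left _ _ ?_
        have hγ : ((g : H) * (h : H))⁻¹ • r = r := Subgroup.inv_mem _ (Subgroup.mul_mem _ g.2 h.2)
        have hb' := (hmem ((g : H) * (h : H))⁻¹ r (b - n r)).mp (by rw [hγ]; exact hbr)
        rwa [inv_inv] at hb'
      rw [Finset.sum_sub_distrib] at h6
      have := Ideal.sub_mem _ h5 h6; rwa [sub_sub_cancel] at this
  have hMt : ∀ (t g h : H), t • M g h = M (t * g) h := fun t g h => by
    show t • ((g * h) • b) = (t * g * h) • b
    rw [smul_smul, mul_assoc]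
  have hdet : ∀ m : S, M.det ∉ m.1.asIdeal := by
    intro m hm
    obtain ⟨t, ht⟩ := hrep m
    refine hdetrep (rep m) ((hrep' t (rep m)).symm.trans (congrArg rep ht)) ?_
    rw [← ht, hmem] at hm
    have e : t⁻¹ • M.det = ((Equiv.Perm.sign (Equiv.mulLeft t⁻¹) : ℤ) : R) * M.det := by
      rw [← Matrix.det_permute]
      have : (MulSemiringAction.toRingHom H R t⁻¹).mapMatrix M = M.submatrix (Equiv.mulLeft t⁻¹) id := by
        refine Matrix.ext fun g h => ?_
        exact hMt t⁻¹ g h
      rw [← this, ← RingHom.map_det]; rfl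
    rw [e] at hm
    rcases Int.units_eq_one_or (Equiv.Perm.sign (Equiv.mulLeft t⁻¹)) with hs | hs <;> simpa [hs] using hm
  obtain ⟨x, y, hxy⟩ : ∃ x y : R, x * M.det + y * avg = 1 := by
    have htop : Ideal.span {M.det, avg} = ⊤ := by
      by_contra hne
      obtain ⟨m, hmax, hle⟩ := Ideal.exists_le_maximal _ hne
      exact hdet ⟨⟨m, hmax⟩, hle (Ideal.subset_span (by simp))⟩ (hle (Ideal.subset_span (by simp)))
    exact Ideal.mem_span_pair.mp (htop ▸ Submodule.mem_top)
  have hone : L (x * M.det) = 1 := by
    have := congrArg L hxy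
    rwa [map_add, map_mul L y, havgL, mul_zero, add_zero, map_one] at this
  have happ : ∀ (p q : R) (v : V), L p (L q v) = L (p * q) v := fun p q v => by
    rw [map_mul, Module.End.mul_apply]
  let N : Matrix H H R := x • M.adjugate
  have hNM : N * M = (x * M.det) • (1 : Matrix H H R) := by
    rw [Matrix.smul_mul, Matrix.adjugate_mul, smul_smul]
  have hMN : M * N = (x * M.det) • (1 : Matrix H H R) := by
    rw [Matrix.mul_smul, Matrix.mul_adjugate, smul_smul]
  have hprod : ∀ (P Q : Matrix H H R) (c : R), P * Q = c • (1 : Matrix H H R) → L c = 1 → ∀ (w : H → V) (g : H),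
      ∑ h, L (P g h) (∑ l, L (Q h l) (w l)) = w g := by
    intro P Q c hPQ hc w g
    simp only [map_sum, happ]
    rw [Finset.sum_comm]
    have : ∀ l, ∑ h, L (P g h * Q h l) (w l) = L ((c • (1 : Matrix H H R)) g l) (w l) := fun l => by
      rw [← hPQ, Matrix.mul_apply, map_sum, LinearMap.sum_apply]
    simp only [this]
    rw [Finset.sum_eq_single g]
    · simp [hc]
    · intro l _ hl; simp [Matrix.one_apply_ne (Ne.symm hl)]
    · simp
  -- the fixed vectors
  let V₀ : Submodule k V :=
    { carrier := {u | ∀ h, τ h u = u}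
      zero_mem' := fun h => map_zero _
      add_mem' := fun {u w} hu hw h => by rw [map_add, hu h, hw h]
      smul_mem' := fun c u hu h => by rw [map_smul, hu h] }
  refine ⟨V₀.map (L b), fun v => ?_⟩
  have hτapp : ∀ (h : H) (p : R) (u : V), τ h (L p u) = L (h • p) (τ h u) := fun h p u => by
    have := LinearMap.congr_fun (hLc h p) u
    simpa only [Module.End.mul_apply] using this
  have hττ : ∀ (g h : H) (u : V), τ g (τ h u) = τ (g * h) u := fun g h u => by
    rw [map_mul, Module.End.mul_apply]
  let w : H → V := fun g => τ g v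
  let u : H → V := fun h => ∑ l, L (N h l) (w l)
  have hu : ∀ g, ∑ h, L (M g h) (u h) = w g := fun g => hprod M N _ hMN hone w g
  have huniq : ∀ u' : H → V, (∀ g, ∑ h, L (M g h) (u' h) = w g) → u' = u := fun u' hu' => funext fun h => by
    have := hprod N M _ hNM hone u' h
    simp only [hu'] at this
    exact this.symm
  have hfix : ∀ (t h : H), τ t (u h) = u h := by
    intro t
    refine fun h => congrFun (huniq (fun h => τ t (u h)) fun g => ?_) h
    have h1 := congrArg (τ t) (hu (t⁻¹ * g))
    simp only [map_sum, hτapp, hMt, mul_inv_cancel_left] at h1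
    rw [h1]
    show τ t (τ (t⁻¹ * g) v) = τ g v
    rw [hττ, mul_inv_cancel_left]
  have hkey : ∀ (g h : H) (z : V), (∀ t, τ t z = z) → τ g (τ h (L b z)) = L (M g h) z := fun g h z hz => by
    rw [hττ, hτapp, hz]; rfl
  refine ⟨fun h => L b (u h), ⟨fun h => ⟨u h, fun t => hfix t h, rfl⟩, ?_⟩, ?_⟩
  · have h1 : ∑ h, τ 1 (τ h (L b (u h))) = v := by
      simp only [fun h => hkey 1 h (u h) (fun t => hfix t h), hu]
      simp [w]
    simpa using h1
  · rintro f' ⟨hfW, hfs⟩
    choose z hz hzf using hfW
    funext h
    have : z = u := huniq z fun g => by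
      rw [← (show τ g (∑ h, τ h (f' h)) = w g by rw [hfs]), map_sum]
      exact Finset.sum_congr rfl fun l _ => by rw [← hzf l, hkey g l (z l) (hz l)]
    rw [← hzf h, this]

end Cfsg.Agent.Lib.PGroups.FreeModule
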