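import Cfsg.Agent.Lib.PGroups.FreeModule
import Cfsg.Agent.Lib.Solvable.Nilpotent
import Mathlib

/-!
A nilpotent group acted on without fixed points by a group `H`, represented without nonzero
fixed vectors: the space is free over `H`.
-/

set_option autoImplicit false
set_option linter.style.haveILetI false
set_option linter.unusedSectionVars false

namespace Cfsg.Agent.Lib.PGroups.FreeModule

universe uk ua uv

variable {k : Type uk} [Field k]

/-- `U` is free over the family `τ`. -/
def FreeOn {V H : Type*} [AddCommGroup V] [Module k V] [Fintype H] (τ : H → Module.End k V)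
    (U : Submodule k V) : Prop :=
  ∃ W : Submodule k V, W ≤ U ∧ ∀ v ∈ U, ∃! f : H → V, (∀ h, f h ∈ W) ∧ ∑ h, τ h (f h) = v

theorem freeOn_of_restrict {V H : Type*} [AddCommGroup V] [Module k V] [Fintype H]
    (τ : H → Module.End k V) (U : Submodule k V) (τU : H → Module.End k U)
    (hτ : ∀ h (u : U), (τU h u : V) = τ h u)
    (hU : ∃ W : Submodule k U, ∀ v : U, ∃! f : H → U, (∀ h, f h ∈ W) ∧ ∑ h, τU h (f h) = v) :
    FreeOn τ U := by
  obtain ⟨W, hW⟩ := hU
  refine ⟨W.map U.subtype, Submodule.map_subtype_le U W, fun v hv => ?_⟩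
  obtain ⟨f, ⟨hf, hfs⟩, huniq⟩ := hW ⟨v, hv⟩
  refine ⟨fun h => (f h : V), ⟨fun h => ⟨f h, hf h, rfl⟩, ?_⟩, ?_⟩
  · have := congrArg Subtype.val hfs
    simpa [Submodule.coe_sum, hτ] using this
  · rintro f' ⟨hf', hfs'⟩
    choose g hg hgf using hf'
    have hgeq : g = f := huniq g ⟨hg, Subtype.ext (by
      simp only [Submodule.coe_sum, hτ]
      rw [← hfs']
      exact Finset.sum_congr rfl fun h _ => by rw [← hgf h]; rfl)⟩
    funext h
    rw [← hgf h, hgeq]; rfl

theorem freeOn_sup {V H : Type*} [AddCommGroup V] [Module k V] [Fintype H]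
    (τ : H → Module.End k V) (K R : Submodule k V) (hd : Disjoint K R)
    (hK : ∀ h, ∀ x ∈ K, τ h x ∈ K) (hR : ∀ h, ∀ x ∈ R, τ h x ∈ R)
    (h₁ : FreeOn τ K) (h₂ : FreeOn τ R) : FreeOn τ (K ⊔ R) := by
  obtain ⟨W₁, hW₁, e₁⟩ := h₁
  obtain ⟨W₂, hW₂, e₂⟩ := h₂
  refine ⟨W₁ ⊔ W₂, sup_le_sup hW₁ hW₂, fun v hv => ?_⟩
  obtain ⟨a, ha, b, hb, rfl⟩ := Submodule.mem_sup.mp hv
  obtain ⟨f₁, ⟨hf₁, hs₁⟩, hu₁⟩ := e₁ a ha
  obtain ⟨f₂, ⟨hf₂, hs₂⟩, hu₂⟩ := e₂ b hb
  refine ⟨f₁ + f₂, ⟨fun h => Submodule.add_mem_sup (hf₁ h) (hf₂ h), ?_⟩, ?_⟩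
  · simp [Finset.sum_add_distrib, hs₁, hs₂]
  · rintro f ⟨hf, hs⟩
    choose x hx y hy hxy using fun h => Submodule.mem_sup.mp (hf h)
    have hsum : ∑ h, τ h (x h) + ∑ h, τ h (y h) = a + b := by
      rw [← hs, ← Finset.sum_add_distrib]
      exact Finset.sum_congr rfl fun h _ => by rw [← hxy h, map_add]
    have hz : ∑ h, τ h (x h) - a = b - ∑ h, τ h (y h) := by
      rw [sub_eq_sub_iff_add_eq_add, hsum, add_comm]
    have h0 : ∑ h, τ h (x h) - a = 0 := Submodule.disjoint_def.mp hd _
      (K.sub_mem (Submodule.sum_mem _ fun h _ => hK h _ (hW₁ (hx h))) ha)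
      (hz ▸ R.sub_mem hb (Submodule.sum_mem _ fun h _ => hR h _ (hW₂ (hy h))))
    rw [h0] at hz
    have e₁' : x = f₁ := hu₁ x ⟨hx, sub_eq_zero.mp h0⟩
    have e₂' : y = f₂ := hu₂ y ⟨hy, (sub_eq_zero.mp hz.symm).symm⟩
    funext h
    rw [← hxy h, e₁', e₂']; rfl

/-- A finite `p`-group of operators in characteristic `p` fixes a nonzero vector. -/
theorem exists_fixed_vector {V Q : Type*} [AddCommGroup V] [Module k V] [Group Q] [Finite Q]
    {p : ℕ} [Fact p.Prime] (hpk : (p : k) = 0) (hQ : IsPGroup p Q) (θ : Q →* Module.End k V)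
    {v : V} (hv : v ≠ 0) : ∃ u : V, u ≠ 0 ∧ ∀ q, θ q u = u := by
  classical
  let M := AddSubgroup.closure (Set.range fun q => θ q v)
  have hmem : ∀ q, ∀ x ∈ M, θ q x ∈ M := by
    intro q x hx
    have : M ≤ M.comap (θ q).toAddMonoidHom := (AddSubgroup.closure_le _).mpr (by
      rintro _ ⟨r, rfl⟩
      exact AddSubgroup.subset_closure ⟨q * r, by show θ (q * r) v = θ q (θ r v); rw [map_mul]; rfl⟩)
    exact this hx
  have hp0 : ∀ x : V, p • x = 0 := fun x => by rw [← Nat.cast_smul_eq_nsmul k, hpk, zero_smul]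
  haveI : AddGroup.FG M := AddGroup.closure_finite_fg _
  haveI : Finite M := AddCommGroup.finite_of_fg_torsion _ fun x =>
    isOfFinAddOrder_iff_nsmul_eq_zero.mpr ⟨p, (Fact.out : p.Prime).pos, Subtype.ext (hp0 _)⟩
  have hvM : v ∈ M := AddSubgroup.subset_closure ⟨1, by simp⟩
  letI : MulAction Q M :=
    { smul := fun q x => ⟨θ q x, hmem q x x.2⟩
      one_smul := fun x => Subtype.ext (show θ 1 (x : V) = x by rw [map_one]; rfl)
      mul_smul := fun q r x => Subtype.ext (show θ (q * r) (x : V) = θ q (θ r x) by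
        rw [map_mul]; rfl) }
  have hord : addOrderOf (⟨v, hvM⟩ : M) = p :=
    addOrderOf_eq_prime (Subtype.ext (hp0 _)) fun h => hv (congrArg Subtype.val h)
  have hdvd : p ∣ Nat.card M := hord ▸ addOrderOf_dvd_natCard _
  obtain ⟨u, hu, hu0⟩ := hQ.exists_fixed_point_of_prime_dvd_card_of_fixed_point M hdvd
    (a := (0 : M)) fun q => Subtype.ext (map_zero (θ q))
  exact ⟨u, fun h => hu0 (Subtype.ext h).symm, fun q => congrArg Subtype.val (hu q)⟩

theorem natCast_ne_zero_of_dvd {a b : ℕ} (hb : (b : k) ≠ 0) (h : a ∣ b) : (a : k) ≠ 0 := by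
  obtain ⟨c, rfl⟩ := h
  intro ha; exact hb (by rw [Nat.cast_mul, ha, zero_mul])

/-- The central elements of order invertible in `k`. -/
def invPart (k : Type uk) [Field k] (Q : Type*) [Group Q] : Subgroup Q where
  carrier := {z | z ∈ Subgroup.center Q ∧ (orderOf z : k) ≠ 0}
  one_mem' := ⟨Subgroup.one_mem _, by simp⟩
  mul_mem' := fun {a b} ha hb => ⟨Subgroup.mul_mem _ ha.1 hb.1,
    natCast_ne_zero_of_dvd (by rw [Nat.cast_mul]; exact mul_ne_zero ha.2 hb.2)
      (Commute.orderOf_mul_dvd_mul_orderOf (((Subgroup.mem_center_iff.mp ha.1) b).symm))⟩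
  inv_mem' := fun {a} ha => ⟨Subgroup.inv_mem _ ha.1, by rw [orderOf_inv]; exact ha.2⟩

theorem card_invPart_ne_zero (Q : Type*) [Group Q] [Finite Q] :
    (Nat.card (invPart k Q) : k) ≠ 0 := by
  intro h
  obtain ⟨p, hp⟩ := CharP.exists k
  have hdvd : p ∣ Nat.card (invPart k Q) := (CharP.cast_eq_zero_iff k p _).mp h
  rcases CharP.char_is_prime_or_zero k p with hp' | hp'
  · haveI := Fact.mk hp'
    obtain ⟨x, hx⟩ := exists_prime_orderOf_dvd_card' p hdvd
    apply x.2.2
    rw [Subgroup.orderOf_coe, hx, CharP.cast_eq_zero]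
  · rw [hp'] at hdvd
    exact Nat.card_ne_zero.mpr ⟨⟨1⟩, inferInstance⟩ (Nat.eq_zero_of_zero_dvd hdvd)

theorem invPart_ne_bot {V Q : Type*} [AddCommGroup V] [Module k V] [Group Q] [Finite Q]
    [Group.IsNilpotent Q] (θ : Q →* Module.End k V) {v : V} (hv : v ≠ 0)
    (hfix : ∀ u : V, (∀ q, θ q u = u) → u = 0) : invPart k Q ≠ ⊥ := by
  classical
  intro hZ
  have hall : ∀ q : ℕ, q.Prime → q ∣ Nat.card Q → (q : k) = 0 := by
    intro q hq hdvd
    by_contra hqk
    haveI := Fact.mk hq
    let P : Sylow q Q := default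
    haveI : (P : Subgroup Q).Normal := inferInstance
    have hPb : (P : Subgroup Q) ≠ ⊥ := P.ne_bot_of_dvd_card hdvd
    obtain ⟨⟨z, hzP, hzC⟩, hz1⟩ := Subgroup.ne_bot_iff_exists_ne_one.mp
      (Solvable.inf_center_ne_bot hPb)
    obtain ⟨j, hj⟩ := P.2 ⟨z, hzP⟩
    have hzj : z ^ q ^ j = 1 := congrArg Subtype.val hj
    have : z ∈ invPart k Q := ⟨hzC, natCast_ne_zero_of_dvd
      (by rw [Nat.cast_pow]; exact pow_ne_zero _ hqk) (orderOf_dvd_of_pow_eq_one hzj)⟩
    rw [hZ, Subgroup.mem_bot] at this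
    exact hz1 (Subtype.ext this)
  by_cases h1 : Nat.card Q = 1
  · haveI := (Nat.card_eq_one_iff_unique.mp h1).1
    exact hv (hfix v fun q => by rw [Subsingleton.elim q 1, map_one]; rfl)
  · obtain ⟨p, hp, hpd⟩ := Nat.exists_prime_and_dvd h1
    haveI := Fact.mk hp
    have hpk := hall p hp hpd
    haveI : CharP k p := (CharP.charP_iff_prime_eq_zero hp).mpr hpk
    have hQ : IsPGroup p Q := by
      refine IsPGroup.of_card (n := (Nat.card Q).primeFactorsList.length) ?_
      refine (Nat.eq_prime_pow_of_unique_prime_dvd Nat.card_pos.ne' fun {q} hq hqd => ?_)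
      exact ((Nat.prime_dvd_prime_iff_eq hp hq).mp
        ((CharP.cast_eq_zero_iff k p q).mp (hall q hq hqd))).symm
    obtain ⟨u, hu, hfu⟩ := exists_fixed_vector hpk hQ θ hv
    exact hu (hfix u hfu)

/-- Freeness over `H`, by induction on the dimension. -/
theorem free_aux {A : Type ua} [Group A] [Finite A] (Fk Hc : Subgroup A) [Fk.Normal] [Fintype Hc]
    (hfpf : ∀ h ∈ Hc, h ≠ 1 → ∀ n ∈ Fk, h * n = n * h → n = 1) (hnil : Group.IsNilpotent Fk)
    (n : ℕ) : ∀ (V : Type uv) [AddCommGroup V] [Module k V] [FiniteDimensional k V]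
      (ρ : Representation k A V), Module.finrank k V = n →
      (∀ v : V, (∀ f ∈ Fk, ρ f v = v) → v = 0) → FreeOn (fun h : Hc => ρ (h : A)) ⊤ := by
  classical
  induction n using Nat.strong_induction_on with
  | _ n ih =>
    intro V _ _ _ ρ hn hCF
    by_cases hV : ∀ v : V, v = 0
    · exact ⟨⊤, le_rfl, fun v _ => ⟨0, ⟨fun h => trivial, by simp [hV v]⟩,
        fun f _ => funext fun h => hV _⟩⟩
    push Not at hV
    obtain ⟨v₀, hv₀⟩ := hV
    let u : A →* (Module.End k V)ˣ := MonoidHom.toHomUnits ρ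
    let Q : Subgroup (Module.End k V)ˣ := Fk.map u
    let θ : Fk →* Q := u.subgroupMap Fk
    have hθ : Function.Surjective θ := u.subgroupMap_surjective Fk
    haveI : Finite Q := Finite.of_surjective θ hθ
    haveI : Group.IsNilpotent Q := Group.nilpotent_of_surjective θ hθ
    let val : Q →* Module.End k V := (Units.coeHom _).comp Q.subtype
    have hval : Function.Injective val := fun a b h => Subtype.ext (Units.ext h)
    have hQfix : ∀ w : V, (∀ q, val q w = w) → w = 0 := fun w hw =>
      hCF w fun f hf => hw (θ ⟨f, hf⟩)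
    let Z := invPart k Q
    have hZ : Z ≠ ⊥ := invPart_ne_bot val hv₀ hQfix
    haveI : Fintype Z := Fintype.ofFinite _
    letI : CommGroup Z := { (inferInstance : Group Z) with
      mul_comm := fun a b => Subtype.ext (Subgroup.mem_center_iff.mp b.2.1 _) }
    have hconj : ∀ (a : A) (q : Q), u a * q * (u a)⁻¹ ∈ Q := by
      rintro a ⟨_, f, hf, rfl⟩
      exact ⟨a * f * a⁻¹, Subgroup.Normal.conj_mem inferInstance f hf a, by simp⟩
    let cj : A →* MulAut Q :=
      { toFun := fun a =>
          { toFun := fun q => ⟨u a * q * (u a)⁻¹, hconj a q⟩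
            invFun := fun q => ⟨(u a)⁻¹ * q * u a, by simpa using hconj a⁻¹ q⟩
            left_inv := fun q => Subtype.ext (by simp [mul_assoc])
            right_inv := fun q => Subtype.ext (by simp [mul_assoc])
            map_mul' := fun q r => Subtype.ext (by simp [mul_assoc]) }
        map_one' := MulEquiv.ext fun q => Subtype.ext (by simp)
        map_mul' := fun a b => MulEquiv.ext fun q => Subtype.ext (by simp [mul_assoc]) }
    have hcjv : ∀ a q, ρ a * val q = val (cj a q) * ρ a := by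
      intro a q
      have h : u a * (q : (Module.End k V)ˣ) = u a * q * (u a)⁻¹ * u a := by group
      exact congrArg Units.val h
    have hZinv : ∀ a, ∀ z ∈ Z, cj a z ∈ Z := by
      intro a z hz
      refine ⟨Subgroup.mem_center_iff.mpr fun q => ?_, by rw [MulEquiv.orderOf_eq]; exact hz.2⟩
      apply (cj a).symm.injective
      rw [map_mul, map_mul, MulEquiv.symm_apply_apply]
      exact Subgroup.mem_center_iff.mp hz.1 _
    let φ : A →* MulAut Z :=
      { toFun := fun a =>
          { toFun := fun z => ⟨cj a z, hZinv a z z.2⟩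
            invFun := fun z => ⟨cj a⁻¹ z, hZinv a⁻¹ z z.2⟩
            left_inv := fun z => Subtype.ext (by
              show cj a⁻¹ (cj a z) = _
              rw [map_inv]; exact (cj a).symm_apply_apply _)
            right_inv := fun z => Subtype.ext (by
              show cj a (cj a⁻¹ z) = _
              rw [map_inv]; exact (cj a).apply_symm_apply _)
            map_mul' := fun z w => Subtype.ext (map_mul (cj a) (z : Q) (w : Q)) }
        map_one' := MulEquiv.ext fun z => Subtype.ext (by show cj 1 (z : Q) = _; rw [map_one]; rfl)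
        map_mul' := fun a b => MulEquiv.ext fun z => Subtype.ext (by
          show cj (a * b) (z : Q) = cj a (cj b z); rw [map_mul]; rfl) }
    let σ : Z →* Module.End k V := val.comp Z.subtype
    have hcomp : ∀ a z, ρ a * σ z = σ (φ a z) * ρ a := fun a z => hcjv a z
    have hsurj : ∀ h : Hc, h ≠ 1 → ∀ z' : Z, ∃ z, φ (h : A) z * z⁻¹ = z' := by
      intro h hh
      let ψ : Z →* Z :=
        { toFun := fun z => φ (h : A) z * z⁻¹
          map_one' := by simp
          map_mul' := fun z w => by rw [map_mul, mul_inv, mul_mul_mul_comm] }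
      suffices Function.Injective ψ from fun z' => (Finite.surjective_of_injective this) z'
      rw [injective_iff_map_eq_one]
      intro z hz
      have hfixed : cj (h : A) (z : Q) = (z : Q) := congrArg Subtype.val (mul_inv_eq_one.mp hz)
      obtain ⟨f, hf⟩ := hθ (z : Q)
      let T : Fk → Fk := fun x => x⁻¹ *
        ⟨(h : A) * (x : A) * (h : A)⁻¹, ‹Fk.Normal›.conj_mem (x : A) x.2 (h : A)⟩
      have hT : ∀ x y : Fk, T x = T y → x = y := by
        intro x y hxy
        have h0 := congrArg Subtype.val hxy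
        simp only [T, Subgroup.coe_mul, Subgroup.coe_inv] at h0
        have h1 := hfpf h h.2 (fun e => hh (Subtype.ext e)) ((y : A) * (x : A)⁻¹)
          (Fk.mul_mem y.2 (Fk.inv_mem x.2)) ?_
        · exact Subtype.ext (mul_inv_eq_one.mp h1).symm
        · calc (h : A) * ((y : A) * (x : A)⁻¹)
              = (y : A) * ((y : A)⁻¹ * ((h : A) * y * (h : A)⁻¹)) * (h : A) * (x : A)⁻¹ := by group
            _ = (y : A) * ((x : A)⁻¹ * ((h : A) * x * (h : A)⁻¹)) * (h : A) * (x : A)⁻¹ := by rw [h0]
            _ = (y : A) * (x : A)⁻¹ * (h : A) := by group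
      have hTker : ∀ x ∈ θ.ker, T x ∈ θ.ker := by
        intro x hx
        have hx' : u (x : A) = 1 := congrArg Subtype.val (MonoidHom.mem_ker.mp hx)
        refine MonoidHom.mem_ker.mpr (Subtype.ext ?_)
        show u ((x : A)⁻¹ * ((h : A) * x * (h : A)⁻¹)) = 1
        simp [hx']
      have hTf : T f ∈ θ.ker := by
        refine MonoidHom.mem_ker.mpr (Subtype.ext ?_)
        show u ((f : A)⁻¹ * ((h : A) * f * (h : A)⁻¹)) = 1
        have h2 : u (f : A) = ((z : Q) : (Module.End k V)ˣ) := congrArg Subtype.val hf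
        have h3 : u (h : A) * ((z : Q) : (Module.End k V)ˣ) * (u (h : A))⁻¹ = ((z : Q) : (Module.End k V)ˣ) :=
          congrArg Subtype.val hfixed
        simp only [map_mul, map_inv, h2, h3, inv_mul_cancel]
      have hsT : Function.Surjective fun x : θ.ker => (⟨T x, hTker x x.2⟩ : θ.ker) :=
        Finite.surjective_of_injective fun x y e => Subtype.ext (hT _ _ (congrArg Subtype.val e))
      obtain ⟨m, hm⟩ := hsT ⟨T f, hTf⟩
      have hfm : (m : Fk) = f := hT _ _ (congrArg Subtype.val hm)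
      apply Subtype.ext
      rw [← hf, ← hfm, MonoidHom.mem_ker.mp m.2]; rfl
    -- the averaging idempotent
    have hc : (Fintype.card Z : k) ≠ 0 := by
      rw [← Nat.card_eq_fintype_card]; exact card_invPart_ne_zero Q
    let E : Module.End k V := (Fintype.card Z : k)⁻¹ • ∑ z, σ z
    have hσE : ∀ z, σ z * E = E := fun z => by
      simp only [E, mul_smul_comm, Finset.mul_sum, ← map_mul]
      congr 1
      exact Fintype.sum_equiv (Equiv.mulLeft z) _ _ fun w => rfl
    have hEE : E * E = E := by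
      show ((Fintype.card Z : k)⁻¹ • ∑ z, σ z) * E = E
      rw [smul_mul_assoc, Finset.sum_mul, Finset.sum_congr rfl fun z _ => hσE z, Finset.sum_const,
        Finset.card_univ, ← Nat.cast_smul_eq_nsmul k, smul_smul, inv_mul_cancel₀ hc, one_smul]
    have hEσ : ∀ z, E * σ z = E := fun z => by
      simp only [E, smul_mul_assoc, Finset.sum_mul, ← map_mul]
      congr 1
      exact Fintype.sum_equiv (Equiv.mulRight z) _ _ fun w => rfl
    have hρE : ∀ a, ρ a * E = E * ρ a := fun a => by
      simp only [E, mul_smul_comm, smul_mul_assoc, Finset.mul_sum, Finset.sum_mul, hcomp]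
      congr 1
      exact Fintype.sum_equiv (φ a).toEquiv _ _ fun w => rfl
    let R : Submodule k V := LinearMap.range E
    let K : Submodule k V := LinearMap.ker E
    have hRinv : ∀ a, ∀ x ∈ R, ρ a x ∈ R := by
      rintro a _ ⟨x, rfl⟩
      exact ⟨ρ a x, (LinearMap.congr_fun (hρE a) x).symm⟩
    have hKinv : ∀ a, ∀ x ∈ K, ρ a x ∈ K := fun a x hx => by
      show E (ρ a x) = 0
      rw [← Module.End.mul_apply, ← hρE a, Module.End.mul_apply, LinearMap.mem_ker.mp hx, map_zero]
    have hKσ : ∀ z, ∀ x ∈ K, σ z x ∈ K := fun z x hx => by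
      show E (σ z x) = 0
      rw [← Module.End.mul_apply, hEσ]; exact hx
    have hRK : Disjoint K R := Submodule.disjoint_def.mpr fun x hx ⟨y, hy⟩ => by
      rw [← hy, ← LinearMap.congr_fun hEE y, Module.End.mul_apply, hy]; exact hx
    have hsup : K ⊔ R = ⊤ := eq_top_iff.mpr fun x _ => Submodule.mem_sup.mpr
      ⟨x - E x, by show E (x - E x) = 0; rw [map_sub, ← Module.End.mul_apply, hEE, sub_self],
        E x, ⟨x, rfl⟩, sub_add_cancel _ _⟩
    have hRlt : Module.finrank k R < n := by
      rw [← hn]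
      refine Submodule.finrank_lt fun htop => hZ ((Subgroup.eq_bot_iff_forall _).mpr fun z hz => ?_)
      refine hval (LinearMap.ext fun x => ?_)
      obtain ⟨y, hy⟩ : x ∈ R := htop ▸ Submodule.mem_top
      rw [← hy, map_one]
      exact LinearMap.congr_fun (hσE ⟨z, hz⟩) y
    let ρR : Representation k A R :=
      { toFun := fun a => (ρ a).restrict (hRinv a)
        map_one' := LinearMap.ext fun x => Subtype.ext (by show ρ 1 (x : V) = x; rw [map_one]; rfl)
        map_mul' := fun a b => LinearMap.ext fun x => Subtype.ext (by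
          show ρ (a * b) (x : V) = ρ a (ρ b x); rw [map_mul]; rfl) }
    have hR : FreeOn (fun h : Hc => ρ (h : A)) R := by
      obtain ⟨W, -, hW⟩ := ih _ hRlt R ρR rfl fun w hw =>
        Subtype.ext (hCF w fun f hf => congrArg Subtype.val (hw f hf))
      exact freeOn_of_restrict _ R (fun h => ρR (h : A)) (fun _ _ => rfl)
        ⟨W, fun v => hW v trivial⟩
    have hK : FreeOn (fun h : Hc => ρ (h : A)) K := by
      let τK : Hc →* Module.End k K :=
        { toFun := fun h => (ρ (h : A)).restrict (hKinv h)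
          map_one' := LinearMap.ext fun x => Subtype.ext (by
            show ρ ((1 : Hc) : A) (x : V) = x; rw [Subgroup.coe_one, map_one]; rfl)
          map_mul' := fun a b => LinearMap.ext fun x => Subtype.ext (by
            show ρ ((a * b : Hc) : A) (x : V) = ρ (a : A) (ρ (b : A) x)
            rw [Subgroup.coe_mul, map_mul]; rfl) }
      let σK : Z →* Module.End k K :=
        { toFun := fun z => (σ z).restrict (hKσ z)
          map_one' := LinearMap.ext fun x => Subtype.ext (by
            show σ 1 (x : V) = x; rw [map_one]; rfl)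
          map_mul' := fun a b => LinearMap.ext fun x => Subtype.ext (by
            show σ (a * b) (x : V) = σ a (σ b x); rw [map_mul]; rfl) }
      refine freeOn_of_restrict _ K τK (fun _ _ => rfl)
        (core hc τK σK (φ.comp Hc.subtype)
          (fun h z => LinearMap.ext fun x => Subtype.ext (LinearMap.congr_fun (hcomp h z) x)) ?_ hsurj)
      refine LinearMap.ext fun x => Subtype.ext ?_
      have h0 : E (x : V) = 0 := x.2
      simp only [E, LinearMap.smul_apply, LinearMap.sum_apply, smul_eq_zero, inv_eq_zero, hc, false_or] at h0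
      simpa [σK, Submodule.coe_sum, LinearMap.sum_apply] using h0
    rw [← hsup]
    exact freeOn_sup _ K R hRK (fun h => hKinv h) (fun h => hRinv h) hK hR

/-- Freeness as an internal direct sum. -/
theorem exists_isInternal {A : Type ua} [Group A] [Finite A] {V : Type uv} [AddCommGroup V]
    [Module k V] [FiniteDimensional k V] (Fk Hc : Subgroup A) [Fk.Normal] [DecidableEq Hc]
    (hfpf : ∀ h ∈ Hc, h ≠ 1 → ∀ n ∈ Fk, h * n = n * h → n = 1) (hnil : Group.IsNilpotent Fk)
    (ρ : Representation k A V) (hCF : ∀ v : V, (∀ f ∈ Fk, ρ f v = v) → v = 0) :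
    ∃ W : Submodule k V, DirectSum.IsInternal (fun h : Hc => W.map (ρ (h : A))) := by
  haveI : Fintype Hc := Fintype.ofFinite _
  obtain ⟨W, -, hW⟩ := free_aux Fk Hc hfpf hnil _ V ρ rfl hCF
  refine ⟨W, ?_⟩
  let S := fun h : Hc => W.map (ρ (h : A))
  have hcoe : ∀ x : DirectSum Hc fun h => (S h), DirectSum.coeAddMonoidHom S x = ∑ h, (x h : V) := by
    intro x
    conv_lhs => rw [← DirectSum.sum_univ_of x]
    simp only [map_sum, DirectSum.coeAddMonoidHom_of]
  constructor
  · intro x y hxy
    rw [hcoe, hcoe] at hxy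
    choose a ha hax using fun h => (x h).2
    choose b hb hby using fun h => (y h).2
    obtain ⟨f, -, huniq⟩ := hW (∑ h, (x h : V)) trivial
    have e : a = b := (huniq a ⟨ha, by simp [hax]⟩).trans
      (huniq b ⟨hb, by simp [hby, hxy]⟩).symm
    refine DFinsupp.ext fun h => Subtype.ext ?_
    rw [← hax h, ← hby h, e]
  · intro v
    obtain ⟨f, ⟨hf, hs⟩, -⟩ := hW v trivial
    refine ⟨∑ h, DirectSum.of (fun h => (S h)) h ⟨ρ (h : A) (f h), ⟨f h, hf h, rfl⟩⟩, ?_⟩
    rw [map_sum]
    refine (Finset.sum_congr rfl fun h _ => ?_).trans hs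
    exact DirectSum.coeAddMonoidHom_of S h _

end Cfsg.Agent.Lib.PGroups.FreeModule
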