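import Cfsg.Agent.Lib.Frobenius.Complement
import Mathlib

/-!
Constructing small examples of Frobenius complements from fixed-point-free actions.
-/

set_option autoImplicit false

namespace Cfsg.Agent.Lib.PGroups

/-- A finite group acting fixed-point-freely on a nontrivial finite group is a Frobenius complement
in some finite group of type universe zero. -/
theorem exists_frobeniusComplement_of_action_card {H V : Type*} [Group H] [Finite H] [Nontrivial H]
    [Group V] [Finite V] [Nontrivial V] (φ : H →* MulAut V)
    (hfpf : ∀ h : H, h ≠ 1 → ∀ v : V, φ h v = v → v = 1) :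
    ∃ (L : Type) (_ : Group L) (_ : Finite L) (C : Subgroup L),
      Cfsg.IsFrobeniusComplement C ∧ Nonempty (H ≃* C) ∧
        Nat.card L = Nat.card V * Nat.card H := by
  classical
  let P := V ⋊[φ] H
  haveI : Finite P := Finite.of_equiv _ SemidirectProduct.equivProd.symm
  let N : Subgroup P := (SemidirectProduct.inl : V →* P).range
  let C : Subgroup P := (SemidirectProduct.inr : H →* P).range
  haveI hN : N.Normal := by
    show (SemidirectProduct.inl : V →* P).range.Normal
    rw [SemidirectProduct.range_inl_eq_ker_rightHom]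
    infer_instance
  have hdisj : N ⊓ C = ⊥ := by
    rw [Subgroup.eq_bot_iff_forall]
    rintro x ⟨⟨v, rfl⟩, ⟨h, hh⟩⟩
    have h1 := congrArg SemidirectProduct.left hh
    simp at h1
    simp [← h1]
  have hsup : N ⊔ C = ⊤ := by
    rw [eq_top_iff]
    intro x _
    rw [← SemidirectProduct.inl_left_mul_inr_right x]
    exact Subgroup.mul_mem_sup ⟨_, rfl⟩ ⟨_, rfl⟩
  have hNb : N ≠ ⊥ := by
    obtain ⟨v, hv⟩ := exists_ne (1 : V)
    intro h
    have : SemidirectProduct.inl v ∈ N := ⟨v, rfl⟩
    rw [h, Subgroup.mem_bot] at this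
    exact hv (SemidirectProduct.inl_injective (by rw [this, map_one]))
  have hCb : C ≠ ⊥ := by
    obtain ⟨v, hv⟩ := exists_ne (1 : H)
    intro h
    have : SemidirectProduct.inr v ∈ C := ⟨v, rfl⟩
    rw [h, Subgroup.mem_bot] at this
    exact hv (SemidirectProduct.inr_injective (by rw [this, map_one]))
  have hC : Cfsg.IsFrobeniusComplement C := by
    refine Cfsg.Agent.Lib.Frobenius.isFrobeniusComplement_of_fixedPointFree hdisj hsup hNb hCb ?_
    rintro _ ⟨h, rfl⟩ h1 _ ⟨v, rfl⟩ he
    have hh : h ≠ 1 := fun e => h1 (by rw [e, map_one])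
    have h2 := congrArg SemidirectProduct.left he
    have h3 : φ h v = v := by
      rw [SemidirectProduct.mul_left, SemidirectProduct.mul_left] at h2
      simpa only [SemidirectProduct.left_inl, SemidirectProduct.left_inr,
        SemidirectProduct.right_inl, SemidirectProduct.right_inr, map_one, MulAut.one_apply,
        one_mul, mul_one] using h2
    rw [hfpf h hh v h3, map_one]
  let e : P ≃* Shrink.{0} P := (Shrink.mulEquiv : Shrink.{0} P ≃* P).symm
  refine ⟨Shrink.{0} P, inferInstance, Finite.of_equiv _ e.toEquiv, C.map e.toMonoidHom,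
    Cfsg.Agent.Lib.Frobenius.map_mulEquiv hC e, ⟨?_⟩, ?_⟩
  · exact (MonoidHom.ofInjective SemidirectProduct.inr_injective).trans
      (Subgroup.equivMapOfInjective C e.toMonoidHom e.injective)
  · rw [← Nat.card_congr e.toEquiv, Nat.card_congr SemidirectProduct.equivProd, Nat.card_prod]

/-- The same, without the order. -/
theorem exists_frobeniusComplement_of_action {H V : Type*} [Group H] [Finite H] [Nontrivial H]
    [Group V] [Finite V] [Nontrivial V] (φ : H →* MulAut V)
    (hfpf : ∀ h : H, h ≠ 1 → ∀ v : V, φ h v = v → v = 1) :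
    ∃ (L : Type) (_ : Group L) (_ : Finite L) (C : Subgroup L),
      Cfsg.IsFrobeniusComplement C ∧ Nonempty (H ≃* C) := by
  obtain ⟨L, iL, fL, C, h1, h2, -⟩ := exists_frobeniusComplement_of_action_card φ hfpf
  exact ⟨L, iL, fL, C, h1, h2⟩

/-- Additive version, for a representation by additive endomorphisms. -/
theorem exists_frobeniusComplement_of_addAction_card {H V : Type*} [Group H] [Finite H] [Nontrivial H]
    [AddCommGroup V] [Finite V] [Nontrivial V] (ρ : H →* AddMonoid.End V)
    (hfpf : ∀ h : H, h ≠ 1 → ∀ v : V, ρ h v = v → v = 0) :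
    ∃ (L : Type) (_ : Group L) (_ : Finite L) (C : Subgroup L),
      Cfsg.IsFrobeniusComplement C ∧ Nonempty (H ≃* C) ∧
        Nat.card L = Nat.card V * Nat.card H := by
  have hinv : ∀ (a b : H) (v : V), ρ a (ρ b v) = ρ (a * b) v := by
    intro a b v; rw [map_mul]; rfl
  let f : H → MulAut (Multiplicative V) := fun h =>
    AddEquiv.toMultiplicative
      { toFun := ρ h
        invFun := ρ h⁻¹
        left_inv := fun v => by rw [hinv, inv_mul_cancel, map_one]; rfl
        right_inv := fun v => by rw [hinv, mul_inv_cancel, map_one]; rfl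
        map_add' := map_add (ρ h) }
  let φ : H →* MulAut (Multiplicative V) :=
    MonoidHom.mk' f (fun a b => by
      refine MulEquiv.ext fun v => ?_
      show Multiplicative.ofAdd (ρ (a * b) v.toAdd) = Multiplicative.ofAdd (ρ a (ρ b v.toAdd))
      rw [hinv])
  have hVc : Nat.card (Multiplicative V) = Nat.card V := rfl
  rw [← hVc]
  refine exists_frobeniusComplement_of_action_card φ fun h hh v hv => ?_
  have h1 : ρ h v.toAdd = v.toAdd := congrArg Multiplicative.toAdd hv
  exact toAdd_eq_zero.mp (hfpf h hh _ h1)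

/-- The same, without the order. -/
theorem exists_frobeniusComplement_of_addAction {H V : Type*} [Group H] [Finite H] [Nontrivial H]
    [AddCommGroup V] [Finite V] [Nontrivial V] (ρ : H →* AddMonoid.End V)
    (hfpf : ∀ h : H, h ≠ 1 → ∀ v : V, ρ h v = v → v = 0) :
    ∃ (L : Type) (_ : Group L) (_ : Finite L) (C : Subgroup L),
      Cfsg.IsFrobeniusComplement C ∧ Nonempty (H ≃* C) := by
  obtain ⟨L, iL, fL, C, h1, h2, -⟩ := exists_frobeniusComplement_of_addAction_card ρ hfpf
  exact ⟨L, iL, fL, C, h1, h2⟩

end Cfsg.Agent.Lib.PGroups
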