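import Cfsg.Agent.Lib.Transfer.Tate
import Cfsg.Agent.Lib.Transfer.Focal
import Cfsg.Agent.Lib.Transfer.PFrattini
import Cfsg.Agent.Lib.FusionControl.Basic
import Cfsg.Prelude.Def_BaumannBlocks
import Mathlib

/-!
The Hall–Wielandt transfer theorem.
-/

set_option autoImplicit false

open MulAction fwdDiff

namespace Cfsg.Agent.Lib.PGroups.HallWielandt

universe u v

/-- In a group of exponent `p`, the sum of `p` consecutive values is the `(p-1)`-st difference. -/
theorem sum_range_eq_fwdDiff {B : Type v} [AddCommGroup B] {p : ℕ} [hp : Fact p.Prime]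
    (hB : ∀ b : B, p • b = 0) (a : ℕ → B) :
    ∑ i ∈ Finset.range p, a i = (Δ_[1])^[p - 1] a 0 := by
  have hbin : ∀ i : ℕ, i ≤ p - 1 → ((p - 1).choose i : ZMod p) = (-1) ^ i := by
    intro i
    induction i with
    | zero => simp
    | succ i ih =>
      intro hi
      have h1 : ((p.choose (i + 1) : ℕ) : ZMod p) = 0 :=
        (ZMod.natCast_eq_zero_iff _ _).mpr
          (hp.out.dvd_choose_self (Nat.succ_ne_zero i) (by omega))
      have h2 : p.choose (i + 1) = (p - 1).choose i + (p - 1).choose (i + 1) := by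
        obtain ⟨m, hm⟩ : ∃ m, p = m + 1 := ⟨p - 1, by have := hp.out.one_le; omega⟩
        rw [hm, Nat.choose_succ_succ, Nat.add_sub_cancel]
      rw [h2, Nat.cast_add] at h1
      rw [ih (by omega)] at h1
      rw [pow_succ, eq_comm]
      linear_combination -h1
  have hneg : ((-1 : ZMod p)) ^ (p - 1) = 1 := ZMod.pow_card_sub_one_eq_one (by simp)
  rw [fwdDiff_iter_eq_sum_shift, show p - 1 + 1 = p by have := hp.out.one_le; omega]
  refine Finset.sum_congr rfl fun k hk => ?_
  have hk' : k ≤ p - 1 := by have := Finset.mem_range.mp hk; omega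
  rw [smul_eq_mul, mul_one, zero_add]
  set c : ℤ := (-1) ^ (p - 1 - k) * ((p - 1).choose k : ℤ) with hc
  have hc1 : ((c - 1 : ℤ) : ZMod p) = 0 := by
    rw [hc]
    push_cast
    rw [hbin k hk', ← pow_add, show p - 1 - k + k = p - 1 by omega, hneg, sub_self]
  obtain ⟨q, hq⟩ := (ZMod.intCast_zmod_eq_zero_iff_dvd _ _).mp hc1
  rw [show c = q * (p : ℤ) + 1 by linarith, add_smul, one_smul, mul_smul, natCast_zsmul, hB,
    smul_zero, zero_add]

variable {G : Type u} [Group G]

/-- Elements fixing a coset are conjugate into the subgroup. -/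
theorem conj_mem_of_fixed {H : Subgroup G} {x t : G} (h : x • (t : G ⧸ H) = (t : G ⧸ H)) :
    t⁻¹ * x * t ∈ H := by
  rw [mul_assoc, ← QuotientGroup.eq]
  exact h.symm

theorem fixed_of_conj_mem {H : Subgroup G} {x t : G} (h : t⁻¹ * x * t ∈ H) :
    x • (t : G ⧸ H) = (t : G ⧸ H) := by
  show ((x * t : G) : G ⧸ H) = t
  rw [QuotientGroup.eq]
  have := inv_mem h
  simpa [mul_assoc] using this

variable {H : Subgroup G} {A : Type v} [CommGroup A] (ψ : H →* A)

open scoped Classical in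
/-- The contribution of a coset to the transfer of `x`, ignoring cosets that are not fixed. -/
noncomputable def val (x : G) (c : G ⧸ H) : A :=
  if h : x • c = c then ψ ⟨c.out⁻¹ * x * c.out, conj_mem_of_fixed (by rwa [QuotientGroup.out_eq'])⟩
  else 1

theorem val_eq {x t : G} {c : G ⧸ H} (ht : (t : G ⧸ H) = c) (h : t⁻¹ * x * t ∈ H) :
    val ψ x c = ψ ⟨t⁻¹ * x * t, h⟩ := by
  have hf : x • c = c := ht ▸ fixed_of_conj_mem h
  have hs : t⁻¹ * c.out ∈ H := by rw [← QuotientGroup.eq, QuotientGroup.out_eq', ht]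
  rw [val, dif_pos hf]
  have : (⟨c.out⁻¹ * x * c.out, conj_mem_of_fixed (by rwa [QuotientGroup.out_eq'])⟩ : H) =
      (⟨_, hs⟩ : H)⁻¹ * ⟨t⁻¹ * x * t, h⟩ * ⟨_, hs⟩ := by
    refine Subtype.ext ?_
    simp only [Subgroup.coe_mul, Subgroup.coe_inv]
    group
  rw [this, map_mul, map_mul, map_inv, mul_comm, mul_inv_cancel_left]

theorem val_of_not_fixed {x : G} {c : G ⧸ H} (h : x • c ≠ c) : val ψ x c = 1 := dif_neg h

theorem val_conj (g x : G) (c : G ⧸ H) : val ψ (g * x * g⁻¹) (g • c) = val ψ x c := by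
  by_cases h : x • c = c
  · have h1 : c.out⁻¹ * x * c.out ∈ H := conj_mem_of_fixed (by rwa [QuotientGroup.out_eq'])
    have e : (g * c.out)⁻¹ * (g * x * g⁻¹) * (g * c.out) = c.out⁻¹ * x * c.out := by group
    rw [val_eq ψ (x := g * x * g⁻¹) (t := g * c.out) (c := g • c) (by
        rw [← smul_eq_mul]
        show g • ((c.out : G) : G ⧸ H) = g • c
        rw [QuotientGroup.out_eq']) (e ▸ h1),
      val_eq ψ (QuotientGroup.out_eq' c) h1]
    exact congrArg ψ (Subtype.ext e)
  · rw [val_of_not_fixed ψ h, val_of_not_fixed ψ (fun h' => h ?_)]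
    rw [mul_smul, mul_smul, inv_smul_smul] at h'
    exact smul_left_cancel g h'

/-- Powers `x ^ f`, `f > 1`, do not contribute. -/
def PowTrivial (x : G) : Prop :=
  ∀ (t : G) (f : ℕ), f ∣ orderOf x → 1 < f → ∀ h : t⁻¹ * x ^ f * t ∈ H, ψ ⟨_, h⟩ = 1

theorem PowTrivial.conj {x : G} (h : PowTrivial ψ x) (g : G) : PowTrivial ψ (g * x * g⁻¹) := by
  intro t f hf h1 hm
  have ho : orderOf (g * x * g⁻¹) = orderOf x := by
    rw [show g * x * g⁻¹ = MulAut.conj g x from rfl, MulEquiv.orderOf_eq]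
  have e : t⁻¹ * (g * x * g⁻¹) ^ f * t = (g⁻¹ * t)⁻¹ * x ^ f * (g⁻¹ * t) := by
    rw [conj_pow]; group
  rw [show (⟨_, hm⟩ : H) = ⟨_, e ▸ hm⟩ from Subtype.ext e]
  exact h _ f (ho ▸ hf) h1 _

theorem transfer_eq_prod_val [Finite G] [Fintype (G ⧸ H)] (x : G) (hx : PowTrivial ψ x) :
    MonoidHom.transfer ψ x = ∏ c, val ψ x c := by
  classical
  haveI := Fintype.ofFinite (Quotient (orbitRel (Subgroup.zpowers x) (G ⧸ H)))
  rw [MonoidHom.transfer_eq_prod_quotient_orbitRel_zpowers_quot,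
    ← Finset.prod_subset (Finset.subset_univ (Finset.univ.filter fun c => x • c = c))
      (fun c _ hc => val_of_not_fixed ψ (by simpa using hc)),
    ← Finset.prod_subset (Finset.subset_univ (Finset.univ.filter fun q :
      Quotient (orbitRel (Subgroup.zpowers x) (G ⧸ H)) => x • q.out = q.out))]
  · have hout : ∀ c : G ⧸ H, x • c = c → (Quotient.mk'' c :
        Quotient (orbitRel (Subgroup.zpowers x) (G ⧸ H))).out = c := by
      intro c hc
      obtain ⟨⟨g, hg⟩, h⟩ := Quotient.mk_out' (s₁ := orbitRel (Subgroup.zpowers x) _) c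
      obtain ⟨n, rfl⟩ := Subgroup.mem_zpowers_iff.mp hg
      rw [← h]
      show x ^ n • c = c
      exact zpow_smul_eq_iff_period_dvd.mpr (by
        rw [show MulAction.period x c = 1 from MulAction.period_eq_one_iff.mpr hc, Nat.cast_one]
        exact one_dvd _)
    symm
    refine Finset.prod_bij' (fun c _ => Quotient.mk'' c) (fun q _ => q.out) (fun c hc => ?_)
      (fun q hq => ?_) (fun c hc => ?_) (fun q _ => Quotient.out_eq' q) (fun c hc => ?_)
    · simp only [Finset.mem_filter, Finset.mem_univ, true_and] at hc ⊢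
      rw [hout c hc]
      exact hc
    · simpa using hq
    · exact hout c (by simpa using hc)
    · simp only [Finset.mem_filter, Finset.mem_univ, true_and] at hc
      have hmp : Function.minimalPeriod (x • ·) c = 1 :=
        Function.minimalPeriod_eq_one_iff_isFixedPt.mpr hc
      rw [val_eq ψ (QuotientGroup.out_eq' c) (conj_mem_of_fixed (by rwa [QuotientGroup.out_eq']))]
      exact congrArg ψ (Subtype.ext (by simp only [hout c hc, hmp, pow_one]))
  · intro q _ hq
    have hf : Function.minimalPeriod (x • ·) q.out ≠ 1 := fun h =>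
      hq (Finset.mem_filter.mpr ⟨Finset.mem_univ _,
        Function.minimalPeriod_eq_one_iff_isFixedPt.mp h⟩)
    have hfd : Function.minimalPeriod (x • ·) q.out ∣ orderOf x :=
      MulAction.period_dvd_orderOf x q.out
    have hfpos := Nat.pos_of_dvd_of_pos hfd (orderOf_pos x)
    exact hx _ _ hfd (by omega) _

/-- The sum of the contributions over the orbit of `M` through `c₀` is a homomorphism of `M`. -/
theorem exists_block_hom [Finite G] [Fintype (G ⧸ H)] (M : Subgroup G) (c₀ : G ⧸ H)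
    [Fintype (orbit M c₀)] :
    ∃ χ : M →* A, ∀ y : M, PowTrivial ψ (y : G) → χ y = ∏ b : orbit M c₀, val ψ (y : G) b := by
  classical
  set t₀ := c₀.out with ht₀
  have hS : ∀ s : stabilizer M c₀, t₀⁻¹ * ((s : M) : G) * t₀ ∈ H := fun s =>
    conj_mem_of_fixed (by rw [QuotientGroup.out_eq']; exact s.2)
  let ψ₀ : stabilizer M c₀ →* A :=
    { toFun := fun s => ψ ⟨_, hS s⟩
      map_one' := by
        rw [← map_one ψ]
        exact congrArg ψ (Subtype.ext (by simp))
      map_mul' := fun s r => by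
        rw [← map_mul]
        exact congrArg ψ (Subtype.ext (by simp [mul_assoc])) }
  haveI := Fintype.ofFinite (M ⧸ stabilizer M c₀)
  refine ⟨MonoidHom.transfer ψ₀, fun y hy => ?_⟩
  have hy' : PowTrivial ψ₀ y := by
    intro t f hf h1 hm
    refine Eq.trans (congrArg ψ (Subtype.ext ?_)) (hy ((t : G) * t₀) f
      (Subgroup.orderOf_coe y ▸ hf) h1 (by
        have := hS ⟨_, hm⟩
        simpa [mul_assoc] using this))
    simp [mul_assoc]
  rw [transfer_eq_prod_val ψ₀ y hy']
  let e : M ⧸ stabilizer M c₀ ≃ orbit M c₀ := (orbitEquivQuotientStabilizer M c₀).symm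
  refine Fintype.prod_equiv e _ _ fun d => ?_
  obtain ⟨m, rfl⟩ := QuotientGroup.mk_surjective d
  have he : ((e (m : M ⧸ stabilizer M c₀) : orbit M c₀) : G ⧸ H) = (m : G) • c₀ :=
    orbitEquivQuotientStabilizer_symm_apply M c₀ m
  rw [he]
  have hc : (((m : G) * t₀ : G) : G ⧸ H) = (m : G) • c₀ := by
    show (m : G) • ((t₀ : G) : G ⧸ H) = _
    rw [ht₀, QuotientGroup.out_eq']
  by_cases hmy : m⁻¹ * y * m ∈ stabilizer M c₀
  · have hmem : ((m : G) * t₀)⁻¹ * (y : G) * ((m : G) * t₀) ∈ H := by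
      have := hS ⟨_, hmy⟩
      simpa [mul_assoc] using this
    rw [val_eq ψ₀ rfl hmy, val_eq ψ hc hmem]
    exact congrArg ψ (Subtype.ext (by simp [mul_assoc]))
  · rw [val_of_not_fixed ψ₀ (fun h => hmy (conj_mem_of_fixed h)),
      val_of_not_fixed ψ (fun h => hmy ?_)]
    rw [mem_stabilizer_iff]
    show ((m⁻¹ * y * m : M) : G) • c₀ = c₀
    simp only [Subgroup.coe_mul, Subgroup.coe_inv]
    rw [mul_smul, mul_smul, h, inv_smul_smul]

variable {p : ℕ} [hp : Fact p.Prime]

/-- The contributions over an orbit on which `Q` moves a point cancel. -/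
theorem prod_orbit_eq_one [Finite G] [Fintype (G ⧸ H)] (hA : ∀ a : A, a ^ p = 1) (D Q : Subgroup G)
    (hD : IsPGroup p D) (hQD : Q ≤ D) (x : G) (hxD : x ∈ D) (hgen : D ≤ Q ⊔ Subgroup.zpowers x)
    (hz : ∀ z ∈ Q, (fun y : G => y⁻¹ * z⁻¹ * y * z)^[p - 1] x = 1)
    (hx : PowTrivial ψ x) (c₀ : G ⧸ H) (hc₀ : x • c₀ = c₀) (hQ : ∃ z ∈ Q, z • c₀ ≠ c₀)
    [Fintype (orbit D c₀)] : ∏ b : orbit D c₀, val ψ x b = 1 := by
  classical
  obtain ⟨z₀, hz₀, hz₀c⟩ := hQ
  have hne : stabilizer D c₀ ≠ ⊤ := fun h => hz₀c (by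
    have : (⟨z₀, hQD hz₀⟩ : D) ∈ stabilizer D c₀ := h ▸ Subgroup.mem_top _
    exact this)
  obtain ⟨M₀, hM₀, hle⟩ := (eq_top_or_exists_le_coatom (stabilizer D c₀)).resolve_left hne
  obtain ⟨hM₀n, hidx⟩ := Transfer.index_eq_of_isCoatom hD hM₀
  set M := M₀.map D.subtype with hMdef
  have hMD : M ≤ D := Subgroup.map_subtype_le M₀
  have hxM₀ : (⟨x, hxD⟩ : D) ∈ M₀ := hle hc₀
  have hxM : x ∈ M := ⟨_, hxM₀, rfl⟩
  obtain ⟨z, hzQ, hzM⟩ : ∃ z ∈ Q, z ∉ M := by
    by_contra! hall
    apply hM₀.1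
    rw [eq_top_iff]
    rintro ⟨d, hd⟩ -
    obtain ⟨w, hw, hwe⟩ := (sup_le hall (Subgroup.zpowers_le.mpr hxM)) (hgen hd)
    exact (Subtype.ext hwe : w = ⟨d, hd⟩) ▸ hw
  have hzD := hQD hzQ
  haveI := hM₀n
  have hMn : ∀ y ∈ M, z⁻¹ * y * z ∈ M := by
    rintro _ ⟨y, hy, rfl⟩
    refine ⟨(⟨z, hzD⟩ : D)⁻¹ * y * ⟨z, hzD⟩, ?_, by simp⟩
    simpa using hM₀n.conj_mem y hy (⟨z, hzD⟩ : D)⁻¹
  let σ : M →* M :=
    { toFun := fun y => ⟨z⁻¹ * y * z, hMn y y.2⟩
      map_one' := Subtype.ext (by simp)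
      map_mul' := fun a b => Subtype.ext (by simp [mul_assoc]) }
  let δ : M → M := fun y => y⁻¹ * σ y
  haveI := Fintype.ofFinite (orbit M c₀)
  obtain ⟨χ, hχ⟩ := exists_block_hom ψ M c₀
  set xM : M := ⟨x, hxM⟩
  have hσx : ∀ i : ℕ, ((σ^[i] xM : M) : G) = (z ^ i)⁻¹ * x * z ^ i := by
    intro i
    induction i with
    | zero => simp [xM]
    | succ i ih =>
      rw [Function.iterate_succ_apply']
      show z⁻¹ * ((σ^[i] xM : M) : G) * z = _
      rw [ih, pow_succ]
      group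
  have hδx : ∀ i : ℕ, ((δ^[i] xM : M) : G) = (fun y : G => y⁻¹ * z⁻¹ * y * z)^[i] x := by
    intro i
    induction i with
    | zero => simp [xM]
    | succ i ih =>
      rw [Function.iterate_succ_apply', Function.iterate_succ_apply']
      show ((δ^[i] xM : M) : G)⁻¹ * (z⁻¹ * ((δ^[i] xM : M) : G) * z) = _
      rw [ih]
      group
  -- the contribution of each block
  let a : ℕ → Additive A := fun i => Additive.ofMul (χ (σ^[i] xM))
  have hdiff : ∀ k i, (Δ_[1])^[k] a i = Additive.ofMul (χ (σ^[i] (δ^[k] xM))) := by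
    intro k
    induction k with
    | zero => intro i; rfl
    | succ k ih =>
      intro i
      rw [Function.iterate_succ_apply', fwdDiff, ih, ih, Function.iterate_succ_apply', ← ofMul_div]
      refine congrArg Additive.ofMul ?_
      rw [Function.iterate_succ_apply' δ k]
      show _ = χ (σ^[i] ((δ^[k] xM)⁻¹ * σ (δ^[k] xM)))
      rw [iterate_map_mul, iterate_map_inv, map_mul, map_inv, ← Function.iterate_succ_apply,
        div_eq_inv_mul, Nat.succ_eq_add_one, Function.iterate_succ_apply' σ]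
  have hsum : ∏ i ∈ Finset.range p, χ (σ^[i] xM) = 1 := by
    have h := sum_range_eq_fwdDiff (p := p) (B := Additive A)
      (fun b => hA (Additive.toMul b)) a
    rw [hdiff] at h
    have h1 : (δ^[p - 1] xM : M) = 1 := Subtype.ext ((hδx _).trans (hz z hzQ))
    rw [h1, Function.iterate_zero_apply, map_one] at h
    exact h
  -- the blocks partition the orbit
  have hzp : ∀ k : ℤ, z ^ k ∈ M → (p : ℤ) ∣ k := by
    intro k hk
    have hord : orderOf ((⟨z, hzD⟩ : D) : D ⧸ M₀) = p := by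
      refine orderOf_eq_prime ?_ ?_
      · rw [← hidx, Subgroup.index]
        exact pow_card_eq_one'
      · rw [Ne, QuotientGroup.eq_one_iff]
        exact fun h => hzM ⟨_, h, rfl⟩
    rw [← hord, orderOf_dvd_iff_zpow_eq_one, ← QuotientGroup.mk_zpow, QuotientGroup.eq_one_iff]
    obtain ⟨w, hw, hwe⟩ := hk
    exact (Subtype.ext (by simpa using hwe) : w = (⟨z, hzD⟩ : D) ^ k) ▸ hw
  have hbij : Function.Bijective (fun ib : Fin p × orbit M c₀ =>
      (⟨(z ^ (ib.1 : ℕ)) • (ib.2 : G ⧸ H), by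
        obtain ⟨m, hm⟩ := ib.2.2
        exact ⟨⟨z, hzD⟩ ^ (ib.1 : ℕ) * ⟨m, hMD m.2⟩, by rw [← hm]; exact mul_smul (z ^ (ib.1 : ℕ)) (m : G) c₀⟩⟩ :
        orbit D c₀)) := by
    constructor
    · rintro ⟨i, ⟨_, ⟨m, rfl⟩⟩⟩ ⟨j, ⟨_, ⟨m', rfl⟩⟩⟩ h
      have h' : (z ^ (i : ℕ)) • ((m : G) • c₀) = (z ^ (j : ℕ)) • ((m' : G) • c₀) :=
        congrArg Subtype.val h
      have hmem : ((z ^ (j : ℕ)) * (m' : G))⁻¹ * (z ^ (i : ℕ) * (m : G)) ∈ M := by
        have hfix : (((z ^ (j : ℕ)) * (m' : G))⁻¹ * (z ^ (i : ℕ) * (m : G))) • c₀ = c₀ := by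
          rw [mul_smul, mul_smul (z ^ (i : ℕ)), h', ← mul_smul (z ^ (j : ℕ)), inv_smul_smul]
        have hin : ((z ^ (j : ℕ)) * (m' : G))⁻¹ * (z ^ (i : ℕ) * (m : G)) ∈ D :=
          mul_mem (inv_mem (mul_mem (pow_mem hzD _) (hMD m'.2))) (mul_mem (pow_mem hzD _) (hMD m.2))
        exact ⟨⟨_, hin⟩, hle hfix, rfl⟩
      have hij : z ^ (((i : ℕ) : ℤ) - ((j : ℕ) : ℤ)) ∈ M := by
        have := mul_mem (mul_mem m'.2 hmem) (inv_mem m.2)
        convert this using 1
        rw [zpow_sub, zpow_natCast, zpow_natCast]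
        have hc : Commute (z ^ (i : ℕ)) (z ^ (j : ℕ))⁻¹ := ((Commute.refl z).pow_pow _ _).inv_right
        rw [hc.eq]
        group
      have hd := hzp _ hij
      have hieq : i = j := by
        have hi := i.2
        have hj := j.2
        refine Fin.ext ?_
        by_contra hne'
        have := Int.le_of_dvd (by
          rcases Nat.lt_or_gt_of_ne hne' with h1 | h1
          · exact show (0 : ℤ) < ((j : ℕ) : ℤ) - (i : ℕ) by omega
          · exact absurd (Int.le_of_dvd (by omega) hd) (by omega)) (dvd_sub_comm.mp hd)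
        omega
      subst hieq
      exact Prod.ext rfl (Subtype.ext (smul_left_cancel _ h'))
    · rintro ⟨_, ⟨⟨d, hd⟩, rfl⟩⟩
      haveI : Fact (Nat.card (D ⧸ M₀)).Prime := ⟨by rw [← Subgroup.index, hidx]; exact hp.out⟩
      have hne1 : ((⟨z, hzD⟩ : D) : D ⧸ M₀) ≠ 1 := by
        rw [Ne, QuotientGroup.eq_one_iff]
        exact fun h => hzM ⟨_, h, rfl⟩
      have htop := zpowers_eq_top_of_prime_card (G := D ⧸ M₀) rfl hne1
      obtain ⟨k, hk⟩ := Subgroup.mem_zpowers_iff.mp
        (htop ▸ Subgroup.mem_top ((⟨d, hd⟩ : D) : D ⧸ M₀))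
      have hp0 : (0 : ℤ) < p := by exact_mod_cast hp.out.pos
      obtain ⟨i, hi⟩ : ∃ i : Fin p, ((i : ℕ) : ℤ) = k % p :=
        ⟨⟨(k % p).toNat, by
          have := Int.emod_lt_of_pos k hp0
          have := Int.emod_nonneg k hp0.ne'
          omega⟩, Int.toNat_of_nonneg (Int.emod_nonneg k hp0.ne')⟩
      have hmem : (⟨z, hzD⟩ ^ (i : ℕ))⁻¹ * (⟨d, hd⟩ : D) ∈ M₀ := by
        rw [← QuotientGroup.eq, QuotientGroup.mk_pow, ← hk]
        have hordd : ((orderOf ((⟨z, hzD⟩ : D) : D ⧸ M₀)) : ℤ) ∣ (p : ℤ) := by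
          have := orderOf_dvd_natCard ((⟨z, hzD⟩ : D) : D ⧸ M₀)
          rw [← Subgroup.index, hidx] at this
          exact_mod_cast this
        rw [← zpow_natCast, hi, zpow_eq_zpow_iff_modEq]
        exact (Int.mod_modEq k p).of_dvd hordd
      refine ⟨(i, ⟨_, ⟨⟨_, _, hmem, rfl⟩, rfl⟩⟩), Subtype.ext ?_⟩
      show z ^ (i : ℕ) • (((z ^ (i : ℕ))⁻¹ * d) • c₀) = d • c₀
      rw [← mul_smul, mul_inv_cancel_left]
  rw [← (Equiv.ofBijective _ hbij).prod_comp, Fintype.prod_prod_type, ← hsum,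
    ← Fin.prod_univ_eq_prod_range (fun i => χ (σ^[i] xM)) p]
  refine Fintype.prod_congr _ _ fun i => ?_
  have hpt : PowTrivial ψ ((σ^[(i : ℕ)] xM : M) : G) := by
    rw [hσx]
    simpa using hx.conj ψ (z ^ (i : ℕ))⁻¹
  rw [hχ _ hpt]
  refine Fintype.prod_congr _ _ fun b => ?_
  show val ψ x ((z ^ (i : ℕ)) • (b : G ⧸ H)) = _
  rw [hσx, ← val_conj ψ (z ^ (i : ℕ)) ((z ^ (i : ℕ))⁻¹ * x * z ^ (i : ℕ))]
  congr 1
  group

omit hp in
/-- Transfer commutes with homomorphisms of the target. -/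
theorem transfer_comp [Finite G] {B : Type v} [CommGroup B] (ϕ : H →* A) (f : A →* B) (g : G) :
    MonoidHom.transfer (f.comp ϕ) g = f (MonoidHom.transfer ϕ g) := by
  classical
  haveI := Fintype.ofFinite (Quotient (orbitRel (Subgroup.zpowers g) (G ⧸ H)))
  rw [MonoidHom.transfer_eq_prod_quotient_orbitRel_zpowers_quot,
    MonoidHom.transfer_eq_prod_quotient_orbitRel_zpowers_quot, map_prod]
  rfl

/-- Into a target of exponent `p`, the transfer from the normalizer of `Q` restricted to the Sylow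
subgroup is the map itself. -/
theorem transfer_eq_self [Finite G] (P : Sylow p G) (Q : Subgroup G)
    (hQ : Cfsg.IsWeaklyClosed Q (P : Subgroup G)) (hH : H = Subgroup.normalizer (Q : Set G))
    (hPH : (P : Subgroup G) ≤ H)
    (hz : ∀ u ∈ (P : Subgroup G), ∀ z ∈ Q, (fun y : G => y⁻¹ * z⁻¹ * y * z)^[p - 1] u = 1)
    (hA : ∀ a : A, a ^ p = 1) :
    ∀ (x : G) (hx : x ∈ (P : Subgroup G)), MonoidHom.transfer ψ x = ψ ⟨x, hPH hx⟩ := by
  classical
  haveI := Fintype.ofFinite (G ⧸ H)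
  have hPi : ¬ p ∣ (P : Subgroup G).relIndex H := fun h =>
    P.not_dvd_index (h.trans (Subgroup.relIndex_dvd_index_of_le hPH))
  suffices main : ∀ (n : ℕ) (x : G) (hx : x ∈ (P : Subgroup G)), orderOf x = n →
      MonoidHom.transfer ψ x = ψ ⟨x, hPH hx⟩ from fun x hx => main _ x hx rfl
  intro n
  induction n using Nat.strong_induction_on with
  | _ n ih =>
    intro x hx hn
    obtain ⟨a, ha⟩ := IsPGroup.iff_orderOf.mp P.2 ⟨x, hx⟩
    rw [Subgroup.orderOf_mk] at ha
    have hpt : PowTrivial ψ x := by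
      intro t f hf h1 hmem
      obtain ⟨b, -, rfl⟩ := (Nat.dvd_prime_pow hp.out).mp (ha ▸ hf)
      have hb : b ≠ 0 := by rintro rfl; simp at h1
      set w := t⁻¹ * x ^ (p ^ b) * t with hw
      have hworder : orderOf w = orderOf (x ^ (p ^ b)) := by
        rw [show w = MulAut.conj t⁻¹ (x ^ (p ^ b)) by simp [hw], MulEquiv.orderOf_eq]
      have hwp : IsPGroup p (Subgroup.zpowers w) := by
        obtain ⟨c, -, hc⟩ := (Nat.dvd_prime_pow hp.out).mp
          (ha ▸ orderOf_pow_dvd (x := x) (p ^ b) : orderOf (x ^ p ^ b) ∣ p ^ a)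
        exact IsPGroup.of_card (n := c) (by rw [Nat.card_zpowers, hworder, hc])
      obtain ⟨k, hk, hkle⟩ := FusionControl.exists_cj_le_of_not_dvd hPH P.2 hPi
        (Subgroup.zpowers_le.mpr hmem) hwp
      have hwP : k * w * k⁻¹ ∈ (P : Subgroup G) :=
        hkle (FusionControl.conj_mem_cj (Subgroup.mem_zpowers w))
      have hlt : orderOf (k * w * k⁻¹) < n := by
        rw [show k * w * k⁻¹ = MulAut.conj k w from rfl, MulEquiv.orderOf_eq, hworder, orderOf_pow,
          Nat.gcd_eq_right hf, ← hn]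
        exact Nat.div_lt_self (orderOf_pos x) h1
      have h2 := ih _ hlt _ hwP rfl
      have h3 : MonoidHom.transfer ψ (k * w * k⁻¹) = 1 := by
        rw [hw, map_mul, map_mul, map_mul, map_mul, map_inv, map_inv, map_pow]
        have : (MonoidHom.transfer ψ x) ^ (p ^ b) = 1 := by
          obtain ⟨c, rfl⟩ := Nat.exists_eq_succ_of_ne_zero hb
          rw [pow_succ', pow_mul, hA, one_pow]
        rw [this, mul_one, inv_mul_cancel, mul_one, mul_inv_cancel]
      rw [h3] at h2
      have e : (⟨k * w * k⁻¹, hPH hwP⟩ : H) = ⟨k, hk⟩ * ⟨w, hmem⟩ * ⟨k, hk⟩⁻¹ := rfl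
      rw [e, map_mul, map_mul, map_inv, mul_inv_cancel_comm] at h2
      exact h2.symm
    rw [transfer_eq_prod_val ψ x hpt]
    set c₁ : G ⧸ H := ((1 : G) : G ⧸ H) with hc₁
    have h1mem : (1 : G)⁻¹ * x * 1 ∈ H := by simpa using hPH hx
    have hval1 : val ψ x c₁ = ψ ⟨x, hPH hx⟩ :=
      (val_eq ψ rfl h1mem).trans (congrArg ψ (Subtype.ext (by simp)))
    rw [← Finset.mul_prod_erase Finset.univ _ (Finset.mem_univ c₁), hval1]
    -- the other cosets, grouped into orbits of `Q⟨x⟩`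
    set D := Q ⊔ Subgroup.zpowers x with hD
    have hDP : D ≤ (P : Subgroup G) := sup_le hQ.1 (Subgroup.zpowers_le.mpr hx)
    have hmove : ∀ c : G ⧸ H, c ≠ c₁ → ∃ z ∈ Q, z • c ≠ c := by
      intro c hc
      by_contra! hall
      apply hc
      have hQt : FusionControl.cj c.out⁻¹ Q ≤ H := FusionControl.cj_le_iff.mpr fun z hzQ => by
        rw [inv_inv]
        exact conj_mem_of_fixed (by rw [QuotientGroup.out_eq']; exact hall z hzQ)
      obtain ⟨k, hk, hkle⟩ := FusionControl.exists_cj_le_of_not_dvd hPH P.2 hPi hQt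
        (FusionControl.isPGroup_cj (P.2.to_le hQ.1))
      rw [FusionControl.cj_cj] at hkle
      have hkH : k * c.out⁻¹ ∈ H :=
        hH.ge (FusionControl.mem_normalizer_iff_cj.mpr (hQ.2 _ hkle))
      have hout : c.out⁻¹ ∈ H := by simpa using mul_mem (inv_mem hk) hkH
      rw [← QuotientGroup.out_eq' c, hc₁, QuotientGroup.eq]
      simpa using hout
    have hrest : ∏ c ∈ Finset.univ.erase c₁, val ψ x c = 1 := by
      rw [← Finset.prod_fiberwise_of_maps_to (t := (Finset.univ : Finset (Quotient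
        (orbitRel D (G ⧸ H))))) (g := fun c => (Quotient.mk'' c : Quotient (orbitRel D (G ⧸ H))))
        (fun _ _ => Finset.mem_univ _)]
      refine Finset.prod_eq_one fun o _ => ?_
      set S := (Finset.univ.erase c₁).filter fun c =>
        (Quotient.mk'' c : Quotient (orbitRel D (G ⧸ H))) = o with hS
      by_cases hfix : ∃ c₀ ∈ S, x • c₀ = c₀
      · obtain ⟨c₀, hc₀S, hc₀⟩ := hfix
        obtain ⟨hc₀ne, hc₀o⟩ := Finset.mem_filter.mp hc₀S
        haveI := Fintype.ofFinite (orbit D c₀)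
        have hc1fix : ∀ d : D, d • c₁ = c₁ := fun d => by
          show (((d : G) * 1 : G) : G ⧸ H) = ((1 : G) : G ⧸ H)
          rw [mul_one, QuotientGroup.eq, mul_one]
          exact inv_mem (hPH (hDP d.2))
        have hSeq : ∀ c, c ∈ S ↔ c ∈ orbit D c₀ := by
          intro c
          rw [hS, Finset.mem_filter, ← hc₀o, Quotient.eq'', orbitRel_apply, and_iff_right_iff_imp]
          intro h
          refine Finset.mem_erase.mpr ⟨?_, Finset.mem_univ _⟩
          rintro rfl
          obtain ⟨d, hd⟩ := h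
          refine (Finset.mem_erase.mp hc₀ne).1 (smul_left_cancel d ?_)
          rw [hc1fix d]
          exact hd
        have e : ∏ c ∈ S, val ψ x c = ∏ b : orbit D c₀, val ψ x b :=
          Finset.prod_bij' (fun c hc => ⟨c, (hSeq c).mp hc⟩) (fun b _ => b.1)
            (fun c hc => Finset.mem_univ _) (fun b _ => (hSeq _).mpr b.2) (fun c hc => rfl)
            (fun b _ => rfl) (fun c hc => rfl)
        rw [e]
        exact prod_orbit_eq_one ψ hA D Q (P.2.to_le hDP) le_sup_left x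
          (Subgroup.mem_sup_right (Subgroup.mem_zpowers x)) le_rfl (hz x hx) hpt c₀ hc₀
          (hmove c₀ (Finset.mem_erase.mp hc₀ne).1)
      · push Not at hfix
        exact Finset.prod_eq_one fun c hc => val_of_not_fixed ψ (hfix c hc)
    rw [hrest, mul_one]

end Cfsg.Agent.Lib.PGroups.HallWielandt

namespace Cfsg.Agent.Lib.PGroups

universe u

set_option maxHeartbeats 1000000 in
open HallWielandt in
/-- **Hall–Wielandt**: `O^p(N(Q)) = O^p(G) ∩ N(Q)`. -/
theorem pResidualOf_normalizer_eq {G : Type u} [Group G] [Finite G] {p : ℕ} [hp : Fact p.Prime]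
    (P : Sylow p G) (Q : Subgroup G) (hQ : Cfsg.IsWeaklyClosed Q (P : Subgroup G))
    (hz : ∀ u ∈ (P : Subgroup G), ∀ z ∈ Q, (fun y : G => y⁻¹ * z⁻¹ * y * z)^[p - 1] u = 1) :
    Cfsg.pResidualOf p (Subgroup.normalizer (Q : Set G)) =
      Cfsg.pResidual p G ⊓ Subgroup.normalizer (Q : Set G) := by
  classical
  obtain ⟨H, hH⟩ : ∃ H, H = Subgroup.normalizer (Q : Set G) := ⟨_, rfl⟩
  rw [← hH]
  have hPH : (P : Subgroup G) ≤ H := by
    intro g hg
    rw [hH]
    refine FusionControl.mem_normalizer_iff_cj.mpr (hQ.2 g ?_)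
    rintro _ ⟨y, hy, rfl⟩
    exact mul_mem (mul_mem hg (hQ.1 hy)) (inv_mem hg)
  set K := commutator H ⊔ Cfsg.pResidual p H with hK
  haveI : K.Normal := Subgroup.sup_normal _ _
  have hAc : ∀ a b : H ⧸ K, a * b = b * a := by
    intro a b
    induction a using QuotientGroup.induction_on with
    | _ a =>
      induction b using QuotientGroup.induction_on with
      | _ b =>
        rw [← QuotientGroup.mk_mul, ← QuotientGroup.mk_mul, QuotientGroup.eq]
        refine Subgroup.mem_sup_left ?_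
        have e : (a * b)⁻¹ * (b * a) = b⁻¹ * a⁻¹ * b⁻¹⁻¹ * a⁻¹⁻¹ := by group
        rw [e]
        exact Subgroup.commutator_mem_commutator (Subgroup.mem_top _) (Subgroup.mem_top _)
  letI : CommGroup (H ⧸ K) := { (inferInstance : Group (H ⧸ K)) with mul_comm := hAc }
  have hAp : IsPGroup p (H ⧸ K) := (Transfer.isPGroup_quotient_pResidual (G := H) (p := p)).of_surjective
    (QuotientGroup.map _ _ (MonoidHom.id H) (le_sup_right (a := commutator H)))
    (fun y => by
      obtain ⟨h, rfl⟩ := QuotientGroup.mk_surjective y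
      exact ⟨(h : H ⧸ Cfsg.pResidual p H), rfl⟩)
  let ϕ : H →* H ⧸ K := QuotientGroup.mk' K
  have hϕs : Function.Surjective ϕ := QuotientGroup.mk'_surjective K
  let π : (H ⧸ K) →* (H ⧸ K) ⧸ frattini (H ⧸ K) := QuotientGroup.mk' _
  have hexp : ∀ a : (H ⧸ K) ⧸ frattini (H ⧸ K), a ^ p = 1 := by
    intro a
    obtain ⟨b, rfl⟩ := QuotientGroup.mk_surjective a
    rw [← QuotientGroup.mk_pow, QuotientGroup.eq_one_iff]
    exact Transfer.pow_mem_frattini hAp b
  let V : (P : Subgroup G) →* H ⧸ K := (MonoidHom.transfer ϕ).comp (P : Subgroup G).subtype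
  let W : (P : Subgroup G) →* H ⧸ K := ϕ.comp (Subgroup.inclusion hPH)
  have hπ : ∀ x, π (V x) = π (W x) := by
    intro x
    have h := transfer_eq_self (π.comp ϕ) P Q hQ hH hPH hz hexp x x.2
    rw [transfer_comp] at h
    exact h
  have hWs : W.range = ⊤ := by
    rw [eq_top_iff]
    rintro a -
    obtain ⟨h, rfl⟩ := hϕs a
    have hh : h ∈ ((P.subtype hPH : Subgroup H)) ⊔ Cfsg.pResidual p H := by
      rw [Transfer.sylow_sup_pResidual]; trivial
    obtain ⟨y, hy, k, hk, rfl⟩ := Subgroup.mem_sup_of_normal_right.mp hh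
    refine ⟨⟨y, hy⟩, ?_⟩
    show ϕ y = ϕ (y * k)
    have hk1 : ϕ k = 1 := (QuotientGroup.eq_one_iff k).mpr (Subgroup.mem_sup_right hk)
    rw [map_mul, hk1, mul_one]
  have hVs : V.range = ⊤ := by
    refine frattini_nongenerating (eq_top_iff.mpr fun a _ => ?_)
    obtain ⟨x, rfl⟩ := hWs.ge (Subgroup.mem_top a)
    have h := QuotientGroup.eq.mp (hπ x)
    have := mul_mem (Subgroup.mem_sup_left (S := V.range) (T := frattini (H ⧸ K)) (x := V x) ⟨x, rfl⟩)
      (Subgroup.mem_sup_right h)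
    rwa [mul_inv_cancel_left] at this
  have hle : W.ker ≤ V.ker := by
    intro x hx
    have hx' : Subgroup.inclusion hPH x ∈ K := (QuotientGroup.eq_one_iff _).mp hx
    have hsub : K ≤ (MonoidHom.transfer ϕ).ker.comap H.subtype := by
      refine sup_le ?_ ?_
      · rw [← Subgroup.map_le_iff_le_comap]
        exact le_trans (by
          rw [Subgroup.map_subtype_commutator, commutator_def]
          exact Subgroup.commutator_mono le_top le_top)
          (Abelianization.commutator_subset_ker (MonoidHom.transfer ϕ))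
      · exact (Transfer.pResidual_le_subgroupOf H).trans
          (Subgroup.comap_mono (Transfer.pResidual_le_ker hAp (MonoidHom.transfer ϕ)))
    have h3 := hsub hx'
    rw [Subgroup.mem_comap, MonoidHom.mem_ker, Subgroup.subtype_apply, Subgroup.coe_inclusion] at h3
    rw [MonoidHom.mem_ker]
    simp only [V, MonoidHom.comp_apply, Subgroup.subtype_apply]
    exact h3
  have hker : W.ker = V.ker := by
    refine Subgroup.eq_of_le_of_card_ge hle ?_
    have h1 := W.ker.card_mul_index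
    have h2 := V.ker.card_mul_index
    rw [Subgroup.index_ker, hWs] at h1
    rw [Subgroup.index_ker, hVs] at h2
    exact (Nat.eq_of_mul_eq_mul_right Nat.card_pos (h2.trans h1.symm)).le
  have hfoc : (P : Subgroup G) ⊓ Cfsg.pResidual p G ≤
      (frattini P).map (P : Subgroup G).subtype ⊔ ⁅H, H⁆ ⊔ (Cfsg.pResidual p H).map H.subtype := by
    intro x hx
    have hxc : x ∈ commutator G := Transfer.inf_pResidual_le_commutator P hx
    have hxV : (⟨x, hx.1⟩ : (P : Subgroup G)) ∈ V.ker := by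
      have h3 := Abelianization.commutator_subset_ker (MonoidHom.transfer ϕ) hxc
      rw [MonoidHom.mem_ker] at h3 ⊢
      simp only [V, MonoidHom.comp_apply, Subgroup.subtype_apply]
      exact h3
    rw [← hker] at hxV
    have hxK : x ∈ K.map H.subtype :=
      ⟨_, (QuotientGroup.eq_one_iff _).mp hxV, rfl⟩
    rw [hK, Subgroup.map_sup, Subgroup.map_subtype_commutator] at hxK
    rw [sup_assoc]
    exact Subgroup.mem_sup_right hxK
  have hT := Transfer.inf_pResidual_eq P hPH hfoc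
  refine le_antisymm (le_inf ?_ (Subgroup.map_subtype_le _)) ?_
  · exact Transfer.pResidual_map_subtype_le H
  · intro x hx
    have hh : (⟨x, hx.2⟩ : H) ∈ ((P.subtype hPH : Subgroup H)) ⊔ Cfsg.pResidual p H := by
      rw [Transfer.sylow_sup_pResidual]; trivial
    obtain ⟨y, hy, k, hk, he⟩ := Subgroup.mem_sup_of_normal_right.mp hh
    have he' : (y : G) * k = x := congrArg Subtype.val he
    have hkR : (k : G) ∈ (Cfsg.pResidual p H).map H.subtype := ⟨k, hk, rfl⟩
    have hyR : (y : G) ∈ (P : Subgroup G) ⊓ Cfsg.pResidual p G := by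
      refine ⟨hy, ?_⟩
      have hkG := Transfer.pResidual_map_subtype_le H hkR
      exact (Subgroup.mul_mem_cancel_right _ hkG).mp (he' ▸ hx.1)
    rw [hT] at hyR
    rw [← he']
    exact mul_mem hyR.2 hkR

end Cfsg.Agent.Lib.PGroups
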