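import Cfsg.Agent.Lib.Solvable.FixedPointFree
import Cfsg.Agent.Lib.Solvable.Nilpotent
import Cfsg.Agent.Lib.Cores

/-!
Kegel's theorem: if every element outside a normal subgroup of prime index `r` has order `r`,
that subgroup is nilpotent. Consequences for the Hughes subgroup.
-/

set_option autoImplicit false
set_option linter.style.haveILetI false

universe u

namespace Cfsg.Agent.Lib.PGroups.Hughes

open Cfsg.Agent.Lib

/-- Two commuting operators whose mixed products all have trivial norm. -/
theorem pow_eq_one_of_commuting {V : Type*} [CommGroup V] {r : ℕ} (hr : r.Prime) (a b : MulAut V)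
    (hab : Commute a b) (hb : b ^ r = 1) (hbfree : ∀ v, b v = v → v = 1) (v : V)
    (hnorm : ∀ i : ℕ, ∏ k ∈ Finset.range r, ((a * b ^ i) ^ k) v = 1) : v ^ r = 1 := by
  classical
  have hk : ∀ k ∈ Finset.range r, k ≠ 0 → ∏ i ∈ Finset.range r, (b ^ (i * k)) v = 1 := by
    intro k hk hk0
    set w := ∏ i ∈ Finset.range r, (b ^ (i * k)) v with hw
    have hshift : (b ^ k) w = w := by
      have h1 : (b ^ k) w = ∏ i ∈ Finset.range r, (b ^ ((i + 1) * k)) v := by
        rw [hw, map_prod]
        refine Finset.prod_congr rfl fun i _ => ?_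
        rw [← MulAut.mul_apply, ← pow_add, Nat.succ_mul, Nat.add_comm]
      have h2 := Finset.prod_range_succ' (fun i => (b ^ (i * k)) v) r
      have h3 := Finset.prod_range_succ (fun i => (b ^ (i * k)) v) r
      rw [h2] at h3
      simp only [zero_mul, pow_zero, MulAut.one_apply, pow_mul, hb, one_pow] at h3
      rw [h1, hw]
      simpa [pow_mul] using h3
    have hcop : k.Coprime r := (hr.coprime_iff_not_dvd.mpr
      (Nat.not_dvd_of_pos_of_lt (Nat.pos_of_ne_zero hk0) (Finset.mem_range.mp hk))).symm
    obtain ⟨m, hm⟩ := exists_pow_eq_self_of_coprime (x := b) (n := k)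
      (Nat.Coprime.coprime_dvd_right (orderOf_dvd_of_pow_eq_one hb) hcop)
    refine hbfree w ?_
    rw [← hm]
    clear hm
    induction m with
    | zero => rfl
    | succ m ih => rw [pow_succ, MulAut.mul_apply, hshift, ih]
  calc v ^ r = ∏ i ∈ Finset.range r, ((a ^ 0) ((b ^ (i * 0)) v)) := by simp
    _ = ∏ k ∈ Finset.range r, (a ^ k) (∏ i ∈ Finset.range r, (b ^ (i * k)) v) := by
        rw [Finset.prod_eq_single (f := fun k => (a ^ k) (∏ i ∈ Finset.range r, (b ^ (i * k)) v)) 0
          (fun k h1 h2 => by rw [hk k h1 h2, map_one])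
          (fun h => absurd (Finset.mem_range.mpr hr.pos) h), map_prod]
    _ = ∏ k ∈ Finset.range r, ∏ i ∈ Finset.range r, ((a * b ^ i) ^ k) v := by
        refine Finset.prod_congr rfl fun k _ => ?_
        rw [map_prod]
        refine Finset.prod_congr rfl fun i _ => ?_
        rw [(hab.pow_right i).mul_pow, MulAut.mul_apply, ← pow_mul]
    _ = 1 := by
        rw [Finset.prod_comm]
        exact Finset.prod_eq_one fun i _ => hnorm i

/-- If all conjugates of `x` have trivial norm and `x` moves every nontrivial element of `Q`,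
then `|Q|` annihilates the module, provided `Q` has no fixed points. -/
theorem pow_card_eq_one_of_norm {A V : Type*} [Group A] [CommGroup V] (φ : A →* MulAut V)
    (Q : Subgroup A) [Finite Q] {r : ℕ} (hr : 0 < r) (x : A)
    (hxQ : ∀ k : ℕ, ∀ f ∈ Q, x ^ k * f * (x ^ k)⁻¹ ∈ Q)
    (hfree : ∀ k : ℕ, 0 < k → k < r → ∀ f ∈ Q, x ^ k * f * (x ^ k)⁻¹ = f → f = 1)
    (hC : ∀ v, (∀ f ∈ Q, φ f v = v) → v = 1) (v : V)
    (hnorm : ∀ f ∈ Q, ∏ k ∈ Finset.range r, φ (f * x ^ k * f⁻¹) v = 1) :
    v ^ Nat.card Q = 1 := by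
  classical
  haveI := Fintype.ofFinite Q
  have hk : ∀ k ∈ Finset.range r, k ≠ 0 → ∏ f : Q, φ ((f : A) * x ^ k * (f : A)⁻¹) v = 1 := by
    intro k hk hk0
    let σ : Q → Q := fun f =>
      ⟨(f : A) * (x ^ k * (f : A)⁻¹ * (x ^ k)⁻¹), Q.mul_mem f.2 (hxQ k _ (Q.inv_mem f.2))⟩
    have hinj : Function.Injective σ := by
      intro f g h
      have h' : (f : A) * x ^ k * (f : A)⁻¹ = (g : A) * x ^ k * (g : A)⁻¹ := by
        have := congrArg Subtype.val h
        simp only [σ] at this
        calc _ = (f : A) * (x ^ k * (f : A)⁻¹ * (x ^ k)⁻¹) * x ^ k := by group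
          _ = (g : A) * (x ^ k * (g : A)⁻¹ * (x ^ k)⁻¹) * x ^ k := by rw [this]
          _ = _ := by group
      have h1 := hfree k (Nat.pos_of_ne_zero hk0) (Finset.mem_range.mp hk) ((g : A)⁻¹ * f)
        (Q.mul_mem (Q.inv_mem g.2) f.2) (by
          calc x ^ k * ((g : A)⁻¹ * f) * (x ^ k)⁻¹
              = (g : A)⁻¹ * ((g : A) * x ^ k * (g : A)⁻¹) * f * (x ^ k)⁻¹ := by group
            _ = (g : A)⁻¹ * ((f : A) * x ^ k * (f : A)⁻¹) * f * (x ^ k)⁻¹ := by rw [h']
            _ = (g : A)⁻¹ * f := by group)
      exact Subtype.ext (inv_mul_eq_one.mp h1).symm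
    have hb : Function.Bijective σ := Finite.injective_iff_bijective.mp hinj
    have heq : ∏ f : Q, φ ((f : A) * x ^ k * (f : A)⁻¹) v = ∏ g : Q, φ (g : A) (φ (x ^ k) v) := by
      rw [← hb.prod_comp (fun g : Q => φ (g : A) (φ (x ^ k) v))]
      refine Finset.prod_congr rfl fun f _ => ?_
      rw [← MulAut.mul_apply, ← map_mul]
      congr 2
      simp only [σ]
      group
    rw [heq]
    refine hC _ fun f hf => ?_
    rw [map_prod]
    conv_rhs => rw [← Equiv.prod_comp (Equiv.mulLeft (⟨f, hf⟩ : Q)) (fun g : Q => φ (g : A) (φ (x ^ k) v))]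
    refine Finset.prod_congr rfl fun g _ => ?_
    rw [← MulAut.mul_apply, ← map_mul]
    rfl
  have h0 : ∏ k ∈ Finset.range r, ∏ f : Q, φ ((f : A) * x ^ k * (f : A)⁻¹) v = 1 := by
    rw [Finset.prod_comm]
    exact Finset.prod_eq_one fun f _ => hnorm f f.2
  rw [Finset.prod_eq_single 0 (fun k h1 h2 => hk k h1 h2)
    (fun h => absurd (Finset.mem_range.mpr hr) h)] at h0
  simpa [Nat.card_eq_fintype_card] using h0

section Norm

variable {P : Type*} [Group P] {N : Subgroup P} [N.Normal]

/-- The norm identity in an abelian normal subgroup. -/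
theorem prod_conjNormal_eq [IsMulCommutative N] (y : P) (v : N) (n : ℕ) :
    ((((List.range n).map fun k => MulAut.conjNormal (H := N) (y ^ k) v).prod : N) : P) * y ^ n =
      ((v : P) * y) ^ n := by
  induction n with
  | zero => simp
  | succ n ih =>
    rw [List.range_succ, List.map_append, List.prod_append, Subgroup.coe_mul, pow_succ ((v : P) * y),
      ← ih]
    simp only [List.map_cons, List.map_nil, List.prod_cons, List.prod_nil, mul_one,
      MulAut.conjNormal_apply]
    rw [pow_succ]
    group

theorem norm_eq_one [IsMulCommutative N] {r : ℕ} (y : P) (v : N) (hy : y ^ r = 1)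
    (hvy : ((v : P) * y) ^ r = 1) :
    ((List.range r).map fun k => MulAut.conjNormal (H := N) (y ^ k) v).prod = 1 := by
  refine Subtype.ext ?_
  have h := prod_conjNormal_eq y v r
  rw [hy, mul_one, hvy] at h
  exact h

end Norm

theorem isNilpotent_of_index_prime_aux {r : ℕ} (hr : r.Prime) : ∀ (n : ℕ) (P : Type u) [Group P]
    [Finite P], Nat.card P = n → ∀ H : Subgroup P, H.Normal → H.index = r →
      (∀ x, x ∉ H → x ^ r = 1) → Group.IsNilpotent H := by
  intro n
  induction n using Nat.strongRecOn with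
  | ind n IH =>
  intro P _ _ hn H hHn hHi hx
  by_contra hnil
  haveI := hHn
  have hHtop : H ≠ ⊤ := fun h => hr.ne_one (by rw [← hHi, h, Subgroup.index_top])
  obtain ⟨x0, hx0⟩ : ∃ x, x ∉ H := by
    by_contra h
    push Not at h
    exact hHtop (eq_top_iff.mpr fun x _ => h x)
  haveI := Fact.mk hr
  have hsub : ∀ U : Subgroup P, U ≠ ⊤ → ¬ U ≤ H → ∀ W : Subgroup P, W ≤ U → W ≤ H →
      Group.IsNilpotent W := by
    intro U hU hUH W hWU hWH
    have hi : (H.subgroupOf U).index = r :=
      ((Nat.dvd_prime hr).mp (hHi ▸ Subgroup.relIndex_dvd_index_of_normal H U)).resolve_left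
        fun h => hUH (Subgroup.relIndex_eq_one.mp h)
    haveI := IH _ (hn ▸ Solvable.ThompsonComplement.card_lt_of_ne_top hU) U rfl (H.subgroupOf U)
      inferInstance hi fun y hy => Subtype.ext (by
        simpa using hx y fun h => hy (Subgroup.mem_subgroupOf.mpr h))
    let f : W →* H.subgroupOf U :=
      ((Subgroup.inclusion hWU).codRestrict (H.subgroupOf U)
        fun w => Subgroup.mem_subgroupOf.mpr (hWH w.2))
    exact Cores.isNilpotent_of_injective f fun a b h =>
      Subgroup.inclusion_injective hWU (congrArg Subtype.val h)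
  have hquot : ∀ (N : Subgroup P) [N.Normal], N ≤ H → N ≠ ⊥ →
      Group.IsNilpotent (H.map (QuotientGroup.mk' N)) := by
    intro N _ hNH hN0
    refine IH _ (hn ▸ Solvable.ThompsonComplement.card_quotient_lt hN0) (P ⧸ N) rfl _
      (hHn.map _ (QuotientGroup.mk'_surjective N)) ?_ ?_
    · rw [Subgroup.index_map_eq H (QuotientGroup.mk'_surjective N)
        (by rw [QuotientGroup.ker_mk']; exact hNH), hHi]
    · intro y hy
      induction y using QuotientGroup.induction_on with
      | H g =>
        rw [← QuotientGroup.mk_pow, hx g fun h => hy ⟨g, h, rfl⟩, QuotientGroup.mk_one]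
  have hnormal : ∀ (N : Subgroup P) [N.Normal], N ≤ H → N ≠ H → Group.IsNilpotent N := by
    intro N _ hNH hne
    refine hsub (Subgroup.zpowers x0 ⊔ N) ?_ ?_ N le_sup_right hNH
    · intro htop
      refine hne (Coprime.eq_of_le_of_card_le hNH ?_)
      have h1 := Cores.card_sup_mul_card_inf (Subgroup.zpowers x0) N
      rw [htop, Subgroup.card_top, ← H.index_mul_card, hHi] at h1
      have h2 : Nat.card (Subgroup.zpowers x0) ≤ r := by
        rw [Nat.card_zpowers]
        exact Nat.le_of_dvd hr.pos (orderOf_dvd_of_pow_eq_one (hx x0 hx0))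
      have h3 : r * Nat.card H ≤ r * Nat.card N := by
        calc r * Nat.card H ≤ r * Nat.card H *
              Nat.card ↥(Subgroup.zpowers x0 ⊓ N) := Nat.le_mul_of_pos_right _ Nat.card_pos
          _ = _ := h1
          _ ≤ r * Nat.card N := Nat.mul_le_mul_right _ h2
      exact Nat.le_of_mul_le_mul_left h3 hr.pos
    · exact fun h => hx0 (h ((le_sup_left : _ ≤ Subgroup.zpowers x0 ⊔ N) (Subgroup.mem_zpowers x0)))
  -- solvability
  have hsolv : Group.IsSolvable H := by
    by_contra hns
    have hext : ∀ (N : Subgroup P) [N.Normal], N ≤ H → N ≠ ⊥ → N = H := by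
      intro N _ hNH hN0
      by_contra hne
      haveI := hnormal N hNH hne
      haveI := hquot N hNH hN0
      refine hns (Group.isSolvable_of_ker_le_range (Subgroup.inclusion hNH)
        ((QuotientGroup.mk' N).subgroupMap H) ?_)
      intro y hy
      exact ⟨⟨y, (QuotientGroup.eq_one_iff (y : P)).mp (congrArg Subtype.val hy)⟩, rfl⟩
    obtain ⟨p, hp, hp2, hpd⟩ : ∃ p, p.Prime ∧ p ≠ 2 ∧ p ∣ Nat.card H := by
      by_contra h
      push Not at h
      have h2 : IsPGroup 2 H := by
        refine IsPGroup.of_card (n := (Nat.card H).primeFactorsList.length) ?_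
        exact Nat.eq_prime_pow_of_unique_prime_dvd Nat.card_pos.ne' fun {d} hd hdd => by
          by_contra hd2
          exact h d hd hd2 hdd
      exact hnil h2.isNilpotent
    haveI := Fact.mk hp
    obtain ⟨S⟩ := (inferInstance : Nonempty (Sylow p H))
    set S' := (S : Subgroup H).map H.subtype with hS'def
    have hnp : ¬ IsPGroup p H := fun h => hnil h.isNilpotent
    have hS'p : IsPGroup p S' := S.2.map _
    have hS'H : S' ≤ H := Subgroup.map_subtype_le _
    have hS'0 : S' ≠ ⊥ := fun h => by
      have h1 := S.dvd_card_of_dvd_card hpd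
      rw [(Subgroup.map_eq_bot_iff_of_injective _ H.subtype_injective).mp h,
        Subgroup.card_bot] at h1
      exact hp.not_dvd_one h1
    have hloc : ∀ Y : Subgroup P, Y ≤ S' → Y ≠ ⊥ →
        Subgroup.normalizer (S' : Set P) ≤ Subgroup.normalizer (Y : Set P) →
        Cfsg.HasNormalPComplement p ↥(Subgroup.normalizer (Y : Set P) ⊓ H) := by
      intro Y hY hY0 hN
      have hne : Subgroup.normalizer (Y : Set P) ≠ ⊤ := by
        intro h
        haveI : Y.Normal := Subgroup.normalizer_eq_top_iff.mp h
        have hYH := hext Y (hY.trans hS'H) hY0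
        exact hnp (hYH ▸ hS'p.to_le hY)
      haveI := hsub _ hne (fun h => hHtop (by
        rw [eq_top_iff, ← Sylow.normalizer_sup_eq_top S]
        exact sup_le (hN.trans h) le_rfl)) _
        (inf_le_left : Subgroup.normalizer (Y : Set P) ⊓ H ≤ _) inf_le_right
      exact Solvable.FixedPointFree.hasNormalPComplement_of_isNilpotent p
    have hnpc : Cfsg.HasNormalPComplement p H := by
      refine Solvable.ThompsonComplement.hasNormalPComplement hp2 S
        (Solvable.ThompsonComplement.npc_of_map_le H.subtype H.subtype_injective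
          (le_inf ?_ (Subgroup.map_subtype_le _))
          (hloc (Cfsg.thompsonSubgroupOf p S') (LocalEven2.thompsonSubgroupOf_le _ _)
            (Solvable.ThompsonComplement.thompsonSubgroupOf_ne_bot hS'p hS'0)
            (LocalEven2.normalizer_le_normalizer_thompson p S')))
        (Solvable.ThompsonComplement.npc_of_map_le H.subtype H.subtype_injective
          (le_inf ?_ (Subgroup.map_subtype_le _))
          (hloc (S' ⊓ Subgroup.centralizer (S' : Set P)) inf_le_left
            (Solvable.ThompsonComplement.center_ne_bot hS'p hS'0)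
            (Solvable.ThompsonComplement.normalizer_le_normalizer_center S')))
      · refine (Subgroup.le_normalizer_map H.subtype).trans ?_
        rw [hS'def, ← Solvable.ThompsonComplement.thompsonSubgroupOf_map p _ H.subtype_injective]
      · rintro _ ⟨g, hg, rfl⟩
        refine Subgroup.centralizer_le_normalizer _ (Subgroup.mem_centralizer_iff.mpr fun z hz => ?_)
        obtain ⟨hzS, hzC⟩ := Subgroup.mem_inf.mp hz
        obtain ⟨z', hz', rfl⟩ := hzS
        refine congrArg Subtype.val (Subgroup.mem_centralizer_iff.mp hg z'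
          (Subgroup.mem_inf.mpr ⟨hz', Subgroup.mem_centralizer_iff.mpr fun y hy => Subtype.ext ?_⟩))
        exact Subgroup.mem_centralizer_iff.mp hzC y ⟨y, hy, rfl⟩
    have hK := Transfer.hasNormalPComplement_iff_coprime.mp hnpc
    have hKH : (Cfsg.pResidual p H).map H.subtype ≤ H := Subgroup.map_subtype_le _
    by_cases hK0 : Cfsg.pResidual p H = ⊥
    · obtain ⟨k, hk⟩ := Transfer.exists_index_pResidual (G := H) (p := p)
      rw [hK0, Subgroup.index_bot] at hk
      exact hnp (IsPGroup.of_card hk)
    · haveI := Cores.normal_map_subtype_of_char H (Cfsg.pResidual p H)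
      have h1 := hext _ hKH fun h =>
        hK0 ((Subgroup.map_eq_bot_iff_of_injective _ H.subtype_injective).mp h)
      have h2 : Cfsg.pResidual p H = ⊤ := Subgroup.map_injective H.subtype_injective (by
        rw [h1, ← MonoidHom.range_eq_map, Subgroup.range_subtype])
      rw [h2, Subgroup.card_top, Transfer.coprime_iff_not_dvd] at hK
      exact hK hpd
  -- a minimal normal subgroup inside `H`
  have hH0 : H ≠ ⊥ := fun h => hnil (by subst h; infer_instance)
  obtain ⟨N, ⟨hNn, hNH, hN0⟩, hmin⟩ := (Set.toFinite {N : Subgroup P |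
      N.Normal ∧ N ≤ H ∧ N ≠ ⊥}).exists_minimal ⟨H, hHn, le_rfl, hH0⟩
  have hminE : ∀ L : Subgroup P, L.Normal → L ≤ N → L = ⊥ ∨ L = N := by
    intro L hLn hLN
    by_cases h : L = ⊥
    · exact Or.inl h
    · exact Or.inr (le_antisymm hLN (hmin ⟨hLn, hLN.trans hNH, h⟩ hLN))
  haveI := hNn
  have hNc : IsMulCommutative N := by
    haveI : Group.IsSolvable N := by
      haveI := hsolv
      exact Group.isSolvable_of_isSolvable_injective (Subgroup.inclusion_injective hNH)
    haveI : Nontrivial N := (Subgroup.nontrivial_iff_ne_bot N).mpr hN0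
    rcases hminE ⁅N, N⁆ inferInstance (Subgroup.commutator_le_right N N) with h | h
    · exact ⟨⟨fun x y => Subtype.ext (Subgroup.mem_centralizer_iff.mp
        (Subgroup.commutator_eq_bot_iff_le_centralizer.mp h y.2) x x.2)⟩⟩
    · refine absurd ?_ (Group.IsSolvable.commutator_lt_top_of_nontrivial N).ne
      refine Subgroup.map_injective N.subtype_injective ?_
      rw [← MonoidHom.range_eq_map, Subgroup.range_subtype, commutator_def,
        Subgroup.map_commutator, ← MonoidHom.range_eq_map, Subgroup.range_subtype, h]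
  have hNcomm : ∀ x ∈ N, ∀ y ∈ N, x * y = y * x := fun x hx y hy =>
    congrArg Subtype.val (hNc.is_comm.comm (⟨x, hx⟩ : N) ⟨y, hy⟩)
  obtain ⟨p, hp, hpd⟩ := Nat.exists_prime_and_dvd (fun h => hN0 (Subgroup.card_eq_one.mp h))
  haveI := Fact.mk hp
  have hNp : IsPGroup p N := by
    obtain ⟨x, hxo⟩ := exists_prime_orderOf_dvd_card' p hpd
    let E : Subgroup P :=
      { carrier := {x | x ∈ N ∧ x ^ p = 1}
        one_mem' := ⟨one_mem _, one_pow _⟩
        mul_mem' := fun {x y} hx hy => ⟨mul_mem hx.1 hy.1, by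
          rw [(show Commute x y from hNcomm x hx.1 y hy.1).mul_pow, hx.2, hy.2, one_mul]⟩
        inv_mem' := fun {x} hx => ⟨inv_mem hx.1, by rw [inv_pow, hx.2, inv_one]⟩ }
    rcases hminE E ⟨fun x hx g => ⟨hNn.conj_mem x hx.1 g, by
        rw [conj_pow, hx.2, mul_one, mul_inv_cancel]⟩⟩ (fun x hx => hx.1) with h | h
    · have hxE : (x : P) ∈ E :=
        ⟨x.2, by rw [← hxo, ← Subgroup.orderOf_coe, pow_orderOf_eq_one]⟩
      rw [h, Subgroup.mem_bot] at hxE
      rw [← Subgroup.orderOf_coe, hxE, orderOf_one] at hxo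
      exact absurd hxo.symm hp.ne_one
    · intro y
      have hy : (y : P) ∈ E := h.ge y.2
      exact ⟨1, Subtype.ext (by simpa using hy.2)⟩
  haveI hHN := hquot N hNH hN0
  obtain ⟨q, hq, Q, hQn⟩ : ∃ (q : ℕ) (_ : Fact q.Prime) (Q : Sylow q H),
      ¬ (Q : Subgroup H).Normal := by
    by_contra h
    push Not at h
    exact hnil (((Group.isNilpotent_of_finite_tfae (G := H)).out 0 3).mpr fun q hq Q => h q hq Q)
  set Q' := (Q : Subgroup H).map H.subtype with hQ'def
  have hQH : Q' ≤ H := Subgroup.map_subtype_le _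
  have hQ'n : ¬ Q'.Normal := fun h => hQn (by
    have := h.subgroupOf H
    rwa [hQ'def, Subgroup.subgroupOf, Subgroup.comap_map_eq_self_of_injective
      H.subtype_injective] at this)
  -- `Q' N` is normal
  have hQN : (Q' ⊔ N).Normal := by
    let f := (QuotientGroup.mk' N).subgroupMap H
    have hf : Function.Surjective f := MonoidHom.subgroupMap_surjective _ _
    haveI : ((Q.mapSurjective hf : Sylow q (H.map (QuotientGroup.mk' N))) :
        Subgroup (H.map (QuotientGroup.mk' N))).Characteristic :=
      Sylow.characteristic_of_normal _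
        (Sylow.normal_of_normalizerCondition Group.normalizerCondition_of_isNilpotent _)
    haveI := hHn.map _ (QuotientGroup.mk'_surjective N)
    have h1 := (Cores.normal_map_subtype_of_char (H.map (QuotientGroup.mk' N))
      ((Q.mapSurjective hf : Sylow q (H.map (QuotientGroup.mk' N))) :
        Subgroup (H.map (QuotientGroup.mk' N)))).comap (QuotientGroup.mk' N)
    have h2 : (((Q.mapSurjective hf : Sylow q (H.map (QuotientGroup.mk' N))) :
        Subgroup (H.map (QuotientGroup.mk' N))).map (H.map (QuotientGroup.mk' N)).subtype).comap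
          (QuotientGroup.mk' N) = Q' ⊔ N := by
      rw [Sylow.coe_mapSurjective, Subgroup.map_map]
      have : (H.map (QuotientGroup.mk' N)).subtype.comp f = (QuotientGroup.mk' N).comp H.subtype :=
        MonoidHom.ext fun _ => rfl
      rw [this, ← Subgroup.map_map, Subgroup.comap_map_eq, QuotientGroup.ker_mk']
    rwa [h2] at h1
  haveI := hQN
  have hqp : q ≠ p := by
    rintro rfl
    apply hQ'n
    have : N ≤ Q' := by
      haveI := hNn.subgroupOf H
      have h1 := (hNp.comap_of_injective H.subtype H.subtype_injective).le_sylow_of_normal Q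
      have h2 := Subgroup.map_mono (f := H.subtype) h1
      rwa [Subgroup.map_comap_eq_self (by rw [Subgroup.range_subtype]; exact hNH)] at h2
    rwa [sup_eq_left.mpr this] at hQN
  have hQq : IsPGroup q Q' := Q.2.map _
  have hcop : (Nat.card Q').Coprime (Nat.card N) := by
    obtain ⟨j, hj⟩ := IsPGroup.iff_card.mp hQq
    obtain ⟨i, hi⟩ := IsPGroup.iff_card.mp hNp
    rw [hj, hi]
    exact Nat.Coprime.pow _ _ ((Nat.coprime_primes hq.out hp).mpr hqp)
  have hdisj : Q' ⊓ N = ⊥ := Coprime.inf_eq_bot_of_coprime_card hcop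
  have hH : Q' ⊔ N = H := by
    by_contra hne
    haveI := hnormal (Q' ⊔ N) (sup_le hQH hNH) hne
    apply hQ'n
    have hQle : Q' ≤ Q' ⊔ N := le_sup_left
    have hsyl : IsPGroup q (Q'.subgroupOf (Q' ⊔ N)) :=
      hQq.comap_of_injective _ (Subgroup.subtype_injective _)
    have hind : ¬ q ∣ (Q'.subgroupOf (Q' ⊔ N)).index := by
      intro hd
      have h1 : Q'.relIndex (Q' ⊔ N) ∣ Q'.relIndex H :=
        Dvd.intro _ (Subgroup.relIndex_mul_relIndex _ _ _ hQle (sup_le hQH hNH))
      have h2 : Q'.relIndex H = (Q : Subgroup H).index := by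
        rw [hQ'def, Subgroup.relIndex, Subgroup.subgroupOf,
          Subgroup.comap_map_eq_self_of_injective H.subtype_injective]
      exact Q.not_dvd_index (h2 ▸ hd.trans h1)
    haveI : ((hsyl.toSylow hind : Sylow q ↥(Q' ⊔ N)) : Subgroup ↥(Q' ⊔ N)).Characteristic :=
      Sylow.characteristic_of_normal _
        (Sylow.normal_of_normalizerCondition Group.normalizerCondition_of_isNilpotent _)
    have h3 := Cores.normal_map_subtype_of_char (Q' ⊔ N)
      ((hsyl.toSylow hind : Sylow q ↥(Q' ⊔ N)) : Subgroup ↥(Q' ⊔ N))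
    rwa [IsPGroup.toSylow_coe, Subgroup.map_subgroupOf_eq_of_le hQle] at h3
  set K := Subgroup.normalizer (Q' : Set P) with hK
  have hKN : K ⊔ N = ⊤ := by
    rw [eq_top_iff, ← Sylow.normalizer_sup_eq_top Q, ← hQ'def, ← hK]
    refine sup_le le_sup_left ?_
    rw [← hH]
    exact sup_le (le_sup_of_le_left Subgroup.le_normalizer) le_sup_right
  have hLbot : N ⊓ Subgroup.centralizer (Q' : Set P) = ⊥ := by
    set L := N ⊓ Subgroup.centralizer (Q' : Set P) with hL
    have hLn : L.Normal := by
      rw [← Subgroup.normalizer_eq_top_iff, eq_top_iff, ← hKN]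
      refine sup_le (fun k hk => ?_) (fun x hx => ?_)
      · have hk' : k ∈ Subgroup.normalizer ((Subgroup.centralizer (Q' : Set P) : Subgroup P) :
            Set P) := by
          rw [Subgroup.mem_normalizer_iff'']
          intro c
          rw [hK, Subgroup.mem_normalizer_iff''] at hk
          constructor
          · intro hc
            refine Subgroup.mem_centralizer_iff.mpr fun y hy => ?_
            have h1 : k * y * k⁻¹ ∈ Q' := (hk _).mpr (by simpa [mul_assoc] using hy)
            have h2 := Subgroup.mem_centralizer_iff.mp hc _ h1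
            calc y * (k⁻¹ * c * k) = k⁻¹ * (k * y * k⁻¹ * c) * k := by group
              _ = k⁻¹ * (c * (k * y * k⁻¹)) * k := by rw [h2]
              _ = _ := by group
          · intro hc
            refine Subgroup.mem_centralizer_iff.mpr fun y hy => ?_
            have h2 := Subgroup.mem_centralizer_iff.mp hc _ ((hk y).mp hy)
            calc y * c = k * (k⁻¹ * y * k * (k⁻¹ * c * k)) * k⁻¹ := by group
              _ = k * (k⁻¹ * c * k * (k⁻¹ * y * k)) * k⁻¹ := by rw [h2]
              _ = _ := by group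
        rw [hL]
        exact Subgroup.inf_normalizer_le_normalizer_inf
          (Subgroup.mem_inf.mpr ⟨(Subgroup.normalizer_eq_top_iff.mpr hNn).ge trivial, hk'⟩)
      · exact Subgroup.centralizer_le_normalizer _ (Subgroup.mem_centralizer_iff.mpr fun y hy =>
          hNcomm y (Subgroup.mem_inf.mp hy).1 x hx)
    refine (hminE L hLn inf_le_left).resolve_right fun h => hQ'n ?_
    rw [← Subgroup.normalizer_eq_top_iff, eq_top_iff, ← hKN]
    exact sup_le le_rfl
      ((h.ge.trans inf_le_right).trans (Subgroup.centralizer_le_normalizer _))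
  have hKNbot : K ⊓ N = ⊥ := by
    rw [eq_bot_iff]
    intro c hc
    obtain ⟨hcK, hcN⟩ := Subgroup.mem_inf.mp hc
    rw [← hLbot]
    refine Subgroup.mem_inf.mpr ⟨hcN, Subgroup.mem_centralizer_iff.mpr fun y hy => ?_⟩
    have h1 : c * y * c⁻¹ * y⁻¹ ∈ Q' ⊓ N := Subgroup.mem_inf.mpr
      ⟨mul_mem ((Subgroup.mem_normalizer_iff.mp hcK y).mp hy) (inv_mem hy), by
        have : c * y * c⁻¹ * y⁻¹ = c * (y * c⁻¹ * y⁻¹) := by group
        rw [this]
        exact mul_mem hcN (hNn.conj_mem _ (inv_mem hcN) y)⟩
    rw [hdisj, Subgroup.mem_bot, mul_inv_eq_one, mul_inv_eq_iff_eq_mul] at h1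
    exact h1.symm
  have hKH : ∀ c ∈ K, c ∈ H → c ∈ Q' := by
    intro c hcK hcH
    rw [← hH] at hcH
    obtain ⟨a, ha, b, hb, rfl⟩ := Subgroup.mem_sup_of_normal_right.mp hcH
    have : b ∈ K ⊓ N := Subgroup.mem_inf.mpr ⟨by
      have : b = a⁻¹ * (a * b) := by group
      rw [this]
      exact mul_mem (inv_mem (Subgroup.le_normalizer ha)) hcK, hb⟩
    rw [hKNbot, Subgroup.mem_bot] at this
    rwa [this, mul_one]
  obtain ⟨x, hxK, hxH⟩ : ∃ x ∈ K, x ∉ H := by
    by_contra h
    push Not at h
    exact hHtop (eq_top_iff.mpr (hKN ▸ sup_le h hNH))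
  letI : CommGroup N := { (inferInstance : Group N) with mul_comm := hNc.is_comm.comm }
  have hnorm : ∀ y, y ∉ H → ∀ v : N,
      ∏ k ∈ Finset.range r, (MulAut.conjNormal (H := N) (y ^ k)) v = 1 := by
    intro y hy v
    have h := norm_eq_one y v (hx y hy)
      (hx _ fun h => hy ((Subgroup.mul_mem_cancel_left H (hNH v.2)).mp h))
    rw [← List.toFinset_range, List.prod_toFinset _ List.nodup_range]
    exact h
  have hQfix : ∀ v : N, (∀ f ∈ Q', MulAut.conjNormal (H := N) f v = v) → v = 1 := by
    intro v hv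
    refine Subtype.ext (Subgroup.mem_bot.mp (hLbot ▸ Subgroup.mem_inf.mpr
      ⟨v.2, Subgroup.mem_centralizer_iff.mpr fun f hf => ?_⟩))
    have := congrArg Subtype.val (hv f hf)
    rw [MulAut.conjNormal_apply] at this
    exact mul_inv_eq_iff_eq_mul.mp this
  have hfin : ∀ v : N, v = 1 := by
    intro v
    by_cases hqr : q = r
    · -- `K` is an `r`-group
      subst hqr
      have hKr : IsPGroup q K := by
        intro c
        by_cases hc : (c : P) ∈ H
        · obtain ⟨j, hj⟩ := hQq ⟨_, hKH _ c.2 hc⟩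
          exact ⟨j, Subtype.ext (congrArg (Subtype.val : Q' → P) hj)⟩
        · exact ⟨1, Subtype.ext (by simpa using hx _ hc)⟩
      haveI := hKr.isNilpotent
      haveI : (Q'.subgroupOf K).Normal := by rw [hK]; exact Subgroup.normal_in_normalizer
      have hQ0 : Q' ≠ ⊥ := fun h => hQ'n (h ▸ inferInstance)
      have hQK0 : Q'.subgroupOf K ⊓ Subgroup.center K ≠ ⊥ :=
        Solvable.inf_center_ne_bot fun h => hQ0 (by
          rw [← Subgroup.map_subgroupOf_eq_of_le (Subgroup.le_normalizer (H := Q')), ← hK, h,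
            Subgroup.map_bot])
      haveI : Nontrivial ↥(Q'.subgroupOf K ⊓ Subgroup.center K) :=
        (Subgroup.nontrivial_iff_ne_bot _).mpr hQK0
      obtain ⟨j, hj, hjc⟩ := (hKr.to_subgroup
        (Q'.subgroupOf K ⊓ Subgroup.center K)).nontrivial_iff_card.mp inferInstance
      obtain ⟨z, hz⟩ := exists_prime_orderOf_dvd_card'
        (G := ↥(Q'.subgroupOf K ⊓ Subgroup.center K)) q (hjc ▸ dvd_pow_self q hj.ne')
      have hzpow : ((z : K) : P) ^ q = 1 := by
        rw [← Subgroup.coe_pow, ← Subgroup.coe_pow, ← hz, pow_orderOf_eq_one]; rfl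
      have hz1 : ((z : K) : P) ≠ 1 := fun h => by
        have : z = 1 := Subtype.ext (Subtype.ext h)
        rw [this, orderOf_one] at hz
        exact hq.out.ne_one hz.symm
      have hzQ : ((z : K) : P) ∈ Q' := Subgroup.mem_subgroupOf.mp (Subgroup.mem_inf.mp z.2).1
      have hzK : ∀ c ∈ K, c * ((z : K) : P) = ((z : K) : P) * c := fun c hc =>
        congrArg Subtype.val (Subgroup.mem_center_iff.mp (Subgroup.mem_inf.mp z.2).2 ⟨c, hc⟩)
      generalize hzdef : ((z : K) : P) = z0 at hzpow hz1 hzQ hzK
      have hLn : (N ⊓ Subgroup.centralizer {z0}).Normal := by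
        rw [← Subgroup.normalizer_eq_top_iff, eq_top_iff, ← hKN]
        refine sup_le (fun k hk => ?_) (fun y hy => ?_)
        · refine Subgroup.inf_normalizer_le_normalizer_inf
            (Subgroup.mem_inf.mpr ⟨(Subgroup.normalizer_eq_top_iff.mpr hNn).ge trivial, ?_⟩)
          exact Subgroup.le_normalizer (Subgroup.mem_centralizer_singleton_iff.mpr (hzK k hk))
        · exact Subgroup.centralizer_le_normalizer _ (Subgroup.mem_centralizer_iff.mpr fun w hw =>
            hNcomm w (Subgroup.mem_inf.mp hw).1 y hy)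
      have hzfree : ∀ w : N, MulAut.conjNormal (H := N) z0 w = w → w = 1 := by
        rcases hminE _ hLn inf_le_left with h | h
        · intro w hw
          refine Subtype.ext (Subgroup.mem_bot.mp (h ▸ Subgroup.mem_inf.mpr
            ⟨w.2, Subgroup.mem_centralizer_singleton_iff.mpr ?_⟩))
          have := congrArg Subtype.val hw
          rw [MulAut.conjNormal_apply] at this
          exact (mul_inv_eq_iff_eq_mul.mp this).symm
        · exfalso
          have hzc : z0 ∈ Subgroup.center P := by
            rw [Subgroup.mem_center_iff]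
            intro g
            have hg : g ∈ Subgroup.centralizer {z0} := by
              refine (sup_le (fun c hc => Subgroup.mem_centralizer_singleton_iff.mpr (hzK c hc))
                (h.ge.trans inf_le_right) : K ⊔ N ≤ _) (hKN ▸ Subgroup.mem_top g)
            exact Subgroup.mem_centralizer_singleton_iff.mp hg
          haveI : (Subgroup.zpowers z0).Normal :=
            ⟨fun a ha g => by
              have : a ∈ Subgroup.center P := Subgroup.zpowers_le.mpr hzc ha
              rwa [Subgroup.mem_center_iff.mp this g, mul_inv_cancel_right]⟩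
          have hZH : Subgroup.zpowers z0 ≤ H := Subgroup.zpowers_le.mpr (hQH hzQ)
          haveI := hquot _ hZH (fun h' => hz1 (Subgroup.zpowers_eq_bot.mp h'))
          refine hnil (Cores.isNilpotent_of_injective
            (((QuotientGroup.mk' (Subgroup.zpowers z0)).subgroupMap H).prod
              ((QuotientGroup.mk' N).subgroupMap H)) ?_)
          refine (injective_iff_map_eq_one _).mpr fun c hc => Subtype.ext ?_
          have h1 : (c : P) ∈ Subgroup.zpowers z0 :=
            (QuotientGroup.eq_one_iff (c : P)).mp (congrArg Subtype.val (congrArg Prod.fst hc))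
          have h2 : (c : P) ∈ N :=
            (QuotientGroup.eq_one_iff (c : P)).mp (congrArg Subtype.val (congrArg Prod.snd hc))
          exact Subgroup.mem_bot.mp (hdisj ▸ Subgroup.mem_inf.mpr
            ⟨Subgroup.zpowers_le.mpr hzQ h1, h2⟩)
      refine Frobenius.eq_one_of_pow_eq_one_of_coprime (n := q) ?_
        (pow_eq_one_of_commuting hr (MulAut.conjNormal (H := N) x) (MulAut.conjNormal (H := N) z0)
          ?_ (by rw [← map_pow, hzpow, map_one]) hzfree v fun i => ?_)
      · obtain ⟨i, hi⟩ := IsPGroup.iff_card.mp hNp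
        rw [hi]
        exact Nat.Coprime.pow_right _ ((Nat.coprime_primes hq.out hp).mpr hqp)
      · exact (show Commute x z0 from hzK x hxK).map _
      · have hxz : x * z0 ^ i ∉ H := fun h =>
          hxH ((Subgroup.mul_mem_cancel_right H (pow_mem (hQH hzQ) i)).mp h)
        simpa only [map_pow, map_mul] using hnorm _ hxz v
    · refine Frobenius.eq_one_of_pow_eq_one_of_coprime hcop
        (pow_card_eq_one_of_norm (MulAut.conjNormal (H := N)) Q' hr.pos x (fun k f hf => ?_)
          (fun k hk0 hkr f hf hfx => ?_) hQfix v fun f hf => ?_)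
      · exact (Subgroup.mem_normalizer_iff.mp (pow_mem hxK k) f).mp hf
      · have hxk : x ^ k ∉ H := by
          intro h
          obtain ⟨m, hm⟩ := exists_pow_eq_self_of_coprime (x := x) (n := k)
            (Nat.Coprime.coprime_dvd_right (orderOf_dvd_of_pow_eq_one (hx x hxH))
              (hr.coprime_iff_not_dvd.mpr (Nat.not_dvd_of_pos_of_lt hk0 hkr)).symm)
          exact hxH (hm ▸ pow_mem h m)
        have hcomm : Commute (x ^ k) f := mul_inv_eq_iff_eq_mul.mp hfx
        have h1 := hx (x ^ k * f) fun h => hxk ((Subgroup.mul_mem_cancel_right H (hQH hf)).mp h)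
        rw [hcomm.mul_pow, hx _ hxk, one_mul] at h1
        obtain ⟨j, hj⟩ := IsPGroup.iff_card.mp hQq
        refine congrArg Subtype.val (Frobenius.eq_one_of_pow_eq_one_of_coprime (G := Q') (n := r)
          (g := ⟨f, hf⟩) ?_ (Subtype.ext h1))
        rw [hj]
        exact Nat.Coprime.pow_right _ ((Nat.coprime_primes hr hq.out).mpr (Ne.symm hqr))
      · have hy : f * x * f⁻¹ ∉ H := fun h => hxH (by
          have := mul_mem (mul_mem (inv_mem (hQH hf)) h) (hQH hf)
          simpa [mul_assoc] using this)
        simpa only [conj_pow] using hnorm _ hy v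
  exact hN0 ((Subgroup.eq_bot_iff_forall N).mpr fun v hv => congrArg Subtype.val (hfin ⟨v, hv⟩))

/-- Kegel: a normal subgroup of prime index `r` all of whose outside elements have order `r`
is nilpotent. -/
theorem isNilpotent_of_index_prime {P : Type u} [Group P] [Finite P] {r : ℕ} (hr : r.Prime)
    (H : Subgroup P) [H.Normal] (hHi : H.index = r) (hx : ∀ x, x ∉ H → x ^ r = 1) :
    Group.IsNilpotent H :=
  isNilpotent_of_index_prime_aux hr _ P rfl H inferInstance hHi hx

/-- A proper subgroup generated by everything not of exponent `p` is nilpotent of index `p`,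
unless the group is a `p`-group. -/
theorem hughes {G : Type u} [Group G] [Finite G] (p : ℕ) (hp : p.Prime) (hG : ¬ IsPGroup p G)
    (hH : Subgroup.closure {g : G | g ^ p ≠ 1} ≠ ⊤) :
    Group.IsNilpotent (Subgroup.closure {g : G | g ^ p ≠ 1}) ∧
      (Subgroup.closure {g : G | g ^ p ≠ 1}).index = p := by
  haveI := Fact.mk hp
  set H := Subgroup.closure {g : G | g ^ p ≠ 1} with hHdef
  have hxp : ∀ x, x ∉ H → x ^ p = 1 := fun x hx => by
    by_contra h
    exact hx (Subgroup.subset_closure h)
  have hHn : H.Normal := ⟨fun a ha g => by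
    have hle : H ≤ H.comap (MulAut.conj g).toMonoidHom := by
      conv_lhs => rw [hHdef]
      rw [Subgroup.closure_le]
      intro b hb
      refine Subgroup.subset_closure ?_
      simpa [conj_pow] using hb
    simpa using hle ha⟩
  haveI := hHn
  obtain ⟨x, hx⟩ : ∃ x, x ∉ H := by
    by_contra h
    push Not at h
    exact hH (eq_top_iff.mpr fun x _ => h x)
  have hnil : Group.IsNilpotent H := by
    set U := Subgroup.zpowers x ⊔ H with hU
    have hxU : x ∈ U := (le_sup_left : Subgroup.zpowers x ≤ U) (Subgroup.mem_zpowers x)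
    have hi : (H.subgroupOf U).index = p := by
      have hord : orderOf x = p := orderOf_eq_prime (hxp x hx) fun h => hx (h ▸ H.one_mem)
      refine ((Nat.dvd_prime hp).mp ?_).resolve_left fun h =>
        hx (Subgroup.relIndex_eq_one.mp h hxU)
      show H.relIndex U ∣ p
      rw [hU, Subgroup.relIndex_sup_right, ← hord, ← Nat.card_zpowers]
      exact Subgroup.relIndex_dvd_card _ _
    haveI := isNilpotent_of_index_prime hp (H.subgroupOf U) hi fun y hy => Subtype.ext (by
      simpa using hxp y fun h => hy (Subgroup.mem_subgroupOf.mpr h))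
    exact Cores.isNilpotent_of_injective
      (Subgroup.subgroupOfEquivOfLe (le_sup_right : H ≤ U)).symm.toMonoidHom
      (MulEquiv.injective _)
  refine ⟨hnil, ?_⟩
  have hexp : ∀ a : G ⧸ H, a ^ p = 1 := by
    intro a
    induction a using QuotientGroup.induction_on with
    | H g =>
      by_cases hg : g ∈ H
      · rw [(QuotientGroup.eq_one_iff g).mpr hg, one_pow]
      · rw [← QuotientGroup.mk_pow, hxp g hg, QuotientGroup.mk_one]
  have hpg : IsPGroup p (G ⧸ H) := fun a => ⟨1, by rw [pow_one]; exact hexp a⟩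
  obtain ⟨m, hm⟩ := IsPGroup.iff_card.mp hpg
  rw [Subgroup.index, hm]
  rcases Nat.lt_or_ge m 2 with hm2 | hm2
  · interval_cases m
    · exfalso
      exact hH (Subgroup.index_eq_one.mp (by rw [Subgroup.index, hm, pow_zero]))
    · exact pow_one p
  exfalso
  -- an element of prime order `q ≠ p` in the centre of `H`
  obtain ⟨q, hq, hqp, hqd⟩ : ∃ q, q.Prime ∧ q ≠ p ∧ q ∣ Nat.card H := by
    by_contra h
    push Not at h
    refine hG (fun g => ?_)
    by_cases hg : g ∈ H
    · have h2 : IsPGroup p H := IsPGroup.of_card (n := (Nat.card H).primeFactorsList.length)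
        (Nat.eq_prime_pow_of_unique_prime_dvd Nat.card_pos.ne' fun {d} hd hdd => by
          by_contra hd2
          exact h d hd hd2 hdd)
      obtain ⟨j, hj⟩ := h2 ⟨g, hg⟩
      exact ⟨j, congrArg Subtype.val hj⟩
    · exact ⟨1, by rw [pow_one]; exact hxp g hg⟩
  haveI := Fact.mk hq
  haveI := hnil
  obtain ⟨S⟩ := (inferInstance : Nonempty (Sylow q H))
  haveI : (S : Subgroup H).Normal :=
    Sylow.normal_of_normalizerCondition Group.normalizerCondition_of_isNilpotent _
  have hS0 : (S : Subgroup H) ≠ ⊥ := fun h => by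
    have h1 := S.dvd_card_of_dvd_card hqd
    rw [h, Subgroup.card_bot] at h1
    exact hq.not_dvd_one h1
  obtain ⟨c, hc, hc1⟩ := (Subgroup.bot_or_exists_ne_one
    ((S : Subgroup H) ⊓ Subgroup.center H)).resolve_left (Solvable.inf_center_ne_bot hS0)
  have hcq : IsPGroup q (Subgroup.zpowers c) :=
    S.2.to_le (Subgroup.zpowers_le.mpr (Subgroup.mem_inf.mp hc).1)
  -- `V`: the `q`-power torsion in the centre of `H`, as a subgroup of `G`
  let V : Subgroup G := (Subgroup.center H).map H.subtype
  haveI : V.Normal := Cores.normal_map_subtype_of_char H (Subgroup.center H)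
  have hVH : V ≤ H := Subgroup.map_subtype_le _
  have hVc : IsMulCommutative V := ⟨⟨fun a b => by
    obtain ⟨a', ha, haa⟩ := a.2
    obtain ⟨b', -, hbb⟩ := b.2
    refine Subtype.ext ?_
    show (a : G) * b = b * a
    rw [← haa, ← hbb]
    exact congrArg Subtype.val (Subgroup.mem_center_iff.mp ha b').symm⟩⟩
  letI : CommGroup V := { (inferInstance : Group V) with mul_comm := hVc.is_comm.comm }
  let φ : G →* MulAut V := MulAut.conjNormal
  have hker : ∀ h ∈ H, φ h = 1 := fun h hh => MulEquiv.ext fun v => Subtype.ext (by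
    rw [MulAut.conjNormal_apply]
    obtain ⟨v', hv', hvv⟩ := v.2
    rw [MulAut.one_apply, ← hvv, mul_inv_eq_iff_eq_mul]
    exact congrArg Subtype.val (Subgroup.mem_center_iff.mp hv' ⟨h, hh⟩))
  -- `z` central modulo `H`, and `x'` independent of it
  haveI := hpg.isNilpotent
  haveI : Nontrivial (G ⧸ H) := Finite.one_lt_card_iff_nontrivial.mp
    (hm ▸ Nat.one_lt_pow (by omega) hp.one_lt)
  obtain ⟨zb, hzb, hzb1⟩ := (Subgroup.bot_or_exists_ne_one
    (Subgroup.center (G ⧸ H))).resolve_left fun h => by
      have := hpg.center_nontrivial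
      exact (Subgroup.nontrivial_iff_ne_bot _).mp this h
  obtain ⟨xb, hxb⟩ : ∃ xb, xb ∉ Subgroup.zpowers zb := by
    by_contra h
    push Not at h
    have h1 : Subgroup.zpowers zb = ⊤ := eq_top_iff.mpr fun a _ => h a
    have h2 := Nat.card_zpowers zb
    rw [h1, Subgroup.card_top, hm] at h2
    have h3 : p ^ m ≤ p ^ 1 := by
      rw [h2, pow_one]
      exact Nat.le_of_dvd hp.pos (orderOf_dvd_of_pow_eq_one (hexp zb))
    have := (Nat.pow_le_pow_iff_right hp.one_lt).mp h3
    omega
  obtain ⟨z, rfl⟩ := QuotientGroup.mk_surjective zb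
  obtain ⟨y, rfl⟩ := QuotientGroup.mk_surjective xb
  have hzH : z ∉ H := fun h => hzb1 ((QuotientGroup.eq_one_iff z).mpr h)
  have hyz : ∀ i : ℕ, y * z ^ i ∉ H := fun i h => by
    rw [← QuotientGroup.eq_one_iff, QuotientGroup.mk_mul, QuotientGroup.mk_pow] at h
    exact hxb (eq_inv_of_mul_eq_one_left h ▸ inv_mem (Subgroup.npow_mem_zpowers _ i))
  have hcomm : Commute (φ y) (φ z) := by
    have h1 : y * z * (z * y)⁻¹ ∈ H := by
      rw [← QuotientGroup.eq_one_iff, QuotientGroup.mk_mul, QuotientGroup.mk_inv,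
        QuotientGroup.mk_mul, QuotientGroup.mk_mul, Subgroup.mem_center_iff.mp hzb (y : G ⧸ H),
        mul_inv_cancel]
    have h2 := hker _ h1
    rwa [map_mul, map_inv, mul_inv_eq_one, map_mul, map_mul] at h2
  obtain ⟨i, hi⟩ := IsPGroup.iff_card.mp hcq
  have hvc : ((c : H) : G) ∈ V := ⟨c, (Subgroup.mem_inf.mp hc).2, rfl⟩
  have hfix : ∀ v : V, φ z v = v → v ^ p = 1 := by
    intro v hv
    have hcv : Commute z (v : G) := by
      have := congrArg Subtype.val hv
      rw [MulAut.conjNormal_apply] at this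
      exact mul_inv_eq_iff_eq_mul.mp this
    have h1 := hxp (z * v) fun h => hzH ((Subgroup.mul_mem_cancel_right H (hVH v.2)).mp h)
    rw [hcv.mul_pow, hxp z hzH, one_mul] at h1
    exact Subtype.ext h1
  -- restrict to the elements of order prime to `p`
  let W : Subgroup V :=
    { carrier := {v | v ^ (q ^ i) = 1}
      one_mem' := one_pow _
      mul_mem' := fun {a b} ha hb => by
        show (a * b) ^ (q ^ i) = 1
        rw [mul_pow, ha, hb, one_mul]
      inv_mem' := fun {a} ha => by
        show a⁻¹ ^ (q ^ i) = 1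
        rw [inv_pow, ha, inv_one] }
  have hWm : ∀ g : G, ∀ v : V, v ∈ W → φ g v ∈ W := fun g v hv => by
    show (φ g v) ^ (q ^ i) = 1
    rw [← map_pow, show v ^ (q ^ i) = 1 from hv, map_one]
  let ψ : G →* MulAut W :=
    { toFun := fun g =>
        { toFun := fun w => ⟨φ g w, hWm g w w.2⟩
          invFun := fun w => ⟨φ g⁻¹ w, hWm g⁻¹ w w.2⟩
          left_inv := fun w => Subtype.ext (by
            show φ g⁻¹ (φ g w) = w
            rw [← MulAut.mul_apply, ← map_mul, inv_mul_cancel, map_one, MulAut.one_apply])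
          right_inv := fun w => Subtype.ext (by
            show φ g (φ g⁻¹ w) = w
            rw [← MulAut.mul_apply, ← map_mul, mul_inv_cancel, map_one, MulAut.one_apply])
          map_mul' := fun a b => Subtype.ext (map_mul (φ g) _ _) }
      map_one' := MulEquiv.ext fun w => Subtype.ext (by
        show φ 1 w = w
        rw [map_one, MulAut.one_apply])
      map_mul' := fun a b => MulEquiv.ext fun w => Subtype.ext (by
        show φ (a * b) w = φ a (φ b w)
        rw [map_mul, MulAut.mul_apply]) }
  have hψ : ∀ g (w : W), ((ψ g w : W) : V) = φ g w := fun _ _ => rfl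
  have hcopW : ∀ w : V, w ^ (q ^ i) = 1 → w ^ p = 1 → w = 1 := fun w h1 h2 => by
    have := pow_gcd_eq_one.mpr ⟨h1, h2⟩
    rwa [Nat.Coprime.pow_left _ ((Nat.coprime_primes hq hp).mpr hqp), pow_one] at this
  have hvW : (⟨_, hvc⟩ : V) ∈ W := by
    refine Subtype.ext (congrArg (Subtype.val : H → G) (?_ : c ^ (q ^ i) = 1))
    rw [← hi, Nat.card_zpowers, pow_orderOf_eq_one]
  have hnormW : ∀ g, g ∉ H → ∀ w : W, ∏ k ∈ Finset.range p, (ψ (g ^ k)) w = 1 := by
    intro g hg w
    refine Subtype.ext ?_
    rw [Subgroup.val_finsetProd, ← List.toFinset_range, List.prod_toFinset _ List.nodup_range,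
      Subgroup.coe_one]
    exact norm_eq_one g (w : V) (hxp g hg)
      (hxp _ fun h => hg ((Subgroup.mul_mem_cancel_left H (hVH (w : V).2)).mp h))
  have hcw : Commute (ψ y) (ψ z) := MulEquiv.ext fun w => Subtype.ext (by
    show φ y (φ z w) = φ z (φ y w)
    rw [← MulAut.mul_apply, hcomm.eq, MulAut.mul_apply])
  have hv1 := pow_eq_one_of_commuting hp (ψ y) (ψ z) hcw
    (by rw [← map_pow, hxp z hzH, map_one])
    (fun w hw => Subtype.ext (hcopW _ w.2 (hfix _ (congrArg Subtype.val hw))))
    ⟨_, hvW⟩ (fun i => by simpa only [map_pow, map_mul] using hnormW _ (hyz i) ⟨_, hvW⟩)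
  have hv2 := hcopW _ hvW (congrArg Subtype.val hv1)
  exact hc1 (Subtype.ext (congrArg (Subtype.val : V → G) hv2))

end Cfsg.Agent.Lib.PGroups.Hughes
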