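import Cfsg.Prelude.Def_PLocal
import Cfsg.Agent.Lib.Cores.Frattini
import Cfsg.Agent.Lib.PGroups.Commutator

/-! Regular `p`-groups: `a ^ q = b ^ q ↔ (a b⁻¹) ^ q = 1`. -/

set_option autoImplicit false
set_option linter.style.haveILetI false

namespace Cfsg.Agent.Lib.PGroups

open scoped commutatorElement

variable {G : Type*} [Group G] [Finite G]

/-- In a nilpotent group, a non-commutative subgroup is not a cyclic subgroup joined with its derived group. -/
theorem zpowers_sup_commutator_lt [Group.IsNilpotent G] {H : Subgroup G}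
    {a b : G} (ha : a ∈ H) (hb : b ∈ H) (hab : a * b ≠ b * a) {x : G} (hx : x ∈ H) :
    Subgroup.zpowers x ⊔ ⁅H, H⁆ < H := by
  have hle : Subgroup.zpowers x ⊔ ⁅H, H⁆ ≤ H :=
    sup_le (Subgroup.zpowers_le.mpr hx) (Subgroup.commutator_le.mpr fun u hu v hv =>
      mul_mem (mul_mem (mul_mem hu hv) (inv_mem hu)) (inv_mem hv))
  refine lt_of_le_of_ne hle fun heq => hab ?_
  have hD : ⁅H, H⁆ ≤ (frattini H).map H.subtype := by
    have h1 := Subgroup.map_mono (f := H.subtype) (Cfsg.Agent.Lib.Cores.commutator_le_frattini (G := H))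
    rwa [commutator_def, Subgroup.map_commutator, ← MonoidHom.range_eq_map, Subgroup.range_subtype] at h1
  have hcyc : Subgroup.zpowers x = H := by
    refine Cfsg.Agent.Lib.Cores.eq_of_sup_map_frattini (Subgroup.zpowers_le.mpr hx) (le_antisymm ?_ ?_)
    · exact sup_le (Subgroup.zpowers_le.mpr hx) (Subgroup.map_subtype_le _)
    · exact heq.ge.trans (sup_le_sup_left hD _)
  rw [← hcyc] at ha hb
  obtain ⟨i, rfl⟩ := Subgroup.mem_zpowers_iff.mp ha
  obtain ⟨j, rfl⟩ := Subgroup.mem_zpowers_iff.mp hb
  rw [← zpow_add, ← zpow_add, add_comm]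

variable {p : ℕ} [Fact p.Prime]

theorem regular_pow_eq_iff_aux (hG : Cfsg.IsRegularPGroup p G) (H : Subgroup G) :
    ∀ a ∈ H, ∀ b ∈ H, ∀ k : ℕ, a ^ p ^ k = b ^ p ^ k ↔ (a * b⁻¹) ^ p ^ k = 1 := by
  haveI := hG.1.isNilpotent
  induction H using WellFoundedLT.induction with
  | ind H ih =>
    intro a ha b hb k
    set q := p ^ k with hq
    have hMH : Subgroup.closure ({a, b} : Set G) ≤ H := by
      rw [Subgroup.closure_le]
      rintro x (rfl | rfl) <;> assumption
    have haM : a ∈ Subgroup.closure ({a, b} : Set G) := Subgroup.subset_closure (by simp)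
    have hbM : b ∈ Subgroup.closure ({a, b} : Set G) := Subgroup.subset_closure (by simp)
    rcases lt_or_eq_of_le hMH with hlt | heq
    · exact ih _ hlt a haM b hbM k
    by_cases hab : a * b = b * a
    · rw [(Commute.inv_right hab).mul_pow, inv_pow, mul_inv_eq_one]
    set D := ⁅H, H⁆ with hD
    have hU : ∀ x ∈ H, ∀ u ∈ Subgroup.zpowers x ⊔ D, ∀ v ∈ Subgroup.zpowers x ⊔ D,
        (u ^ q = v ^ q ↔ (u * v⁻¹) ^ q = 1) :=
      fun x hx u hu v hv => ih _ (zpowers_sup_commutator_lt ha hb hab hx) u hu v hv k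
    -- the elements of exponent `q` in the derived group form a subgroup
    let S : Subgroup G :=
      { carrier := {d | d ∈ D ∧ d ^ q = 1}
        one_mem' := ⟨one_mem _, one_pow _⟩
        mul_mem' := by
          intro u v hu hv
          refine ⟨mul_mem hu.1 hv.1, ?_⟩
          have h1 := (hU a ha u (Subgroup.mem_sup_right hu.1) v⁻¹ (Subgroup.mem_sup_right (inv_mem hv.1))).mp
            (by rw [hu.2, inv_pow, hv.2, inv_one])
          rwa [inv_inv] at h1
        inv_mem' := fun {u} hu => ⟨inv_mem hu.1, by rw [inv_pow, hu.2, inv_one]⟩ }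
    have hSH : ∀ h ∈ H, ∀ d ∈ S, h * d * h⁻¹ ∈ S := by
      intro h hh d hd
      refine ⟨?_, by rw [conj_pow, hd.2, mul_one, mul_inv_cancel]⟩
      have h1 : ⁅h, d⁆ ∈ D := Subgroup.commutator_mem_commutator hh (Subgroup.commutator_le.mpr
        (fun u hu v hv => mul_mem (mul_mem (mul_mem hu hv) (inv_mem hu)) (inv_mem hv)) hd.1)
      have := mul_mem h1 hd.1
      simpa [commutatorElement_def, mul_assoc] using this
    -- if a pair of generators has commutator of exponent `q` then so has the derived group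
    have key : ∀ u v : G, Subgroup.closure ({u, v} : Set G) = H → ⁅u, v⁆ ^ q = 1 →
        ∀ d ∈ D, d ^ q = 1 := by
      intro u v huv hcomm
      have hu : u ∈ H := huv ▸ Subgroup.subset_closure (by simp)
      have hv : v ∈ H := huv ▸ Subgroup.subset_closure (by simp)
      haveI : (S.subgroupOf H).Normal :=
        ⟨fun d hd h => hSH h h.2 d hd⟩
      have hgen : Subgroup.closure ({⟨u, hu⟩, ⟨v, hv⟩} : Set H) = ⊤ := by
        apply Subgroup.map_injective H.subtype_injective
        rw [MonoidHom.map_closure, ← MonoidHom.range_eq_map, Subgroup.range_subtype, Set.image_pair]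
        exact huv
      have hmk : ((⟨u, hu⟩ : H) : H ⧸ S.subgroupOf H) * (⟨v, hv⟩ : H) =
          ((⟨v, hv⟩ : H) : H ⧸ S.subgroupOf H) * (⟨u, hu⟩ : H) := by
        rw [← commutatorElement_eq_one_iff_mul_comm]
        show QuotientGroup.mk' _ ⁅(⟨u, hu⟩ : H), (⟨v, hv⟩ : H)⁆ = 1
        rw [QuotientGroup.mk'_apply, QuotientGroup.eq_one_iff]
        exact ⟨Subgroup.commutator_mem_commutator hu hv, hcomm⟩
      have hgen' := congrArg (Subgroup.map (QuotientGroup.mk' (S.subgroupOf H))) hgen
      rw [Subgroup.map_top_of_surjective _ (QuotientGroup.mk'_surjective _), MonoidHom.map_closure,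
        Set.image_pair] at hgen'
      have hcommQ : IsMulCommutative (⊤ : Subgroup (H ⧸ S.subgroupOf H)) := by
        rw [← hgen']
        refine Subgroup.isMulCommutative_closure ?_
        rintro _ (rfl | rfl) _ (rfl | rfl)
        exacts [rfl, hmk, hmk.symm, rfl]
      have hle : ⁅H, H⁆ ≤ S := by
        rw [Subgroup.commutator_le]
        intro x hx y hy
        have h2 : QuotientGroup.mk' (S.subgroupOf H) ⁅(⟨x, hx⟩ : H), ⟨y, hy⟩⁆ = 1 := by
          rw [map_commutatorElement, commutatorElement_eq_one_iff_mul_comm]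
          exact congrArg Subtype.val (hcommQ.is_comm.comm ⟨_, Subgroup.mem_top _⟩ ⟨_, Subgroup.mem_top _⟩)
        rw [QuotientGroup.mk'_apply, QuotientGroup.eq_one_iff] at h2
        exact h2
      exact fun d hd => (hle hd).2
    have hreg : ∀ u v : G, Subgroup.closure ({u, v} : Set G) = H → (∀ d ∈ D, d ^ q = 1) →
        (u * v) ^ q = u ^ q * v ^ q := by
      intro u v huv hexp
      obtain ⟨c, hc, heq'⟩ := hG.2 u v k
      rw [huv] at hc
      have : Cfsg.powerClosure p k ⁅H, H⁆ ≤ ⊥ := by
        rw [Cfsg.powerClosure, Subgroup.closure_le]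
        rintro _ ⟨d, hd, rfl⟩
        exact hexp d hd
      rw [Subgroup.mem_bot.mp (this hc), mul_one] at heq'
      exact heq'
    have hgenH : ∀ u v : G, a ∈ Subgroup.closure ({u, v} : Set G) → b ∈ Subgroup.closure ({u, v} : Set G) →
        u ∈ H → v ∈ H → Subgroup.closure ({u, v} : Set G) = H := by
      intro u v h1 h2 hu hv
      apply le_antisymm
      · rw [Subgroup.closure_le]; rintro x (rfl | rfl) <;> assumption
      · rw [← heq, Subgroup.closure_le]; rintro x (rfl | rfl) <;> assumption
    constructor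
    · intro h
      have hbb : ⁅a⁻¹, b⁆ ^ q = 1 := by
        have h1 : a⁻¹ * b * a ∈ Subgroup.zpowers b ⊔ D := by
          have := mul_mem (Subgroup.mem_sup_left (T := D) (Subgroup.mem_zpowers b))
            (Subgroup.mem_sup_right (S := Subgroup.zpowers b)
              (Subgroup.commutator_mem_commutator (inv_mem hb) (inv_mem ha) : ⁅b⁻¹, a⁻¹⁆ ∈ D))
          simpa [commutatorElement_def, mul_assoc] using this
        have h2 := (hU b hb (a⁻¹ * b * a) h1 b (Subgroup.mem_sup_left (Subgroup.mem_zpowers b))).mp (by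
          have h3 : (a⁻¹ * b * a) ^ q = a⁻¹ * b ^ q * a := by
            have := conj_pow (a := a⁻¹) (b := b) (i := q); simpa using this
          rw [h3, ← h]
          group)
        simpa [commutatorElement_def, mul_assoc] using h2
      have hH : Subgroup.closure ({a⁻¹, b} : Set G) = H :=
        hgenH _ _ (by simpa using inv_mem (Subgroup.subset_closure (by simp) : a⁻¹ ∈ Subgroup.closure ({a⁻¹, b} : Set G)))
          (Subgroup.subset_closure (by simp)) (inv_mem ha) hb
      have hH2 : Subgroup.closure ({a, b⁻¹} : Set G) = H :=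
        hgenH _ _ (Subgroup.subset_closure (by simp))
          (by simpa using inv_mem (Subgroup.subset_closure (by simp) : b⁻¹ ∈ Subgroup.closure ({a, b⁻¹} : Set G)))
          ha (inv_mem hb)
      rw [hreg a b⁻¹ hH2 (key _ _ hH hbb), inv_pow, h, mul_inv_cancel]
    · intro h
      set x := a * b⁻¹ with hx
      have hxH : x ∈ H := mul_mem ha (inv_mem hb)
      have hH : Subgroup.closure ({x, b} : Set G) = H := by
        refine hgenH _ _ ?_ (Subgroup.subset_closure (by simp)) hxH hb
        have : x * b ∈ Subgroup.closure ({x, b} : Set G) :=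
          mul_mem (Subgroup.subset_closure (by simp)) (Subgroup.subset_closure (by simp))
        simpa [hx] using this
      have hH' : Subgroup.closure ({b, x} : Set G) = H := by rw [Set.pair_comm]; exact hH
      have h1 : b * x * b⁻¹ ∈ Subgroup.zpowers x ⊔ D := by
        have := mul_mem (Subgroup.mem_sup_right (S := Subgroup.zpowers x)
            (Subgroup.commutator_mem_commutator hb hxH : ⁅b, x⁆ ∈ D))
          (Subgroup.mem_sup_left (T := D) (Subgroup.mem_zpowers x))
        simpa [commutatorElement_def, mul_assoc] using this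
      have h2 := (hU x hxH _ h1 x (Subgroup.mem_sup_left (Subgroup.mem_zpowers x))).mp (by
        rw [conj_pow, h]; simp)
      have h3 := hreg x b hH (key b x hH' (by simpa [commutatorElement_def, mul_assoc] using h2))
      rw [h, one_mul, hx, inv_mul_cancel_right] at h3
      exact h3

theorem regular_pow_eq_iff (hG : Cfsg.IsRegularPGroup p G) (a b : G) (k : ℕ) :
    a ^ p ^ k = b ^ p ^ k ↔ (a * b⁻¹) ^ p ^ k = 1 :=
  regular_pow_eq_iff_aux hG ⊤ a (Subgroup.mem_top a) b (Subgroup.mem_top b) k

end Cfsg.Agent.Lib.PGroups
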