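import Mathlib.GroupTheory.Commutator.Basic
import Mathlib.GroupTheory.OrderOfElement
import Mathlib.GroupTheory.Exponent
import Mathlib.Data.Nat.Choose.Basic
import Mathlib.Tactic.Group

/-! Polynomial sequences with respect to a filtration (the Hall-Petrescu formula in Lazard's form). -/

set_option autoImplicit false
set_option linter.style.haveILetI false

namespace Cfsg.Agent.Lib.PGroups

open scoped commutatorElement

variable {G : Type*} [Group G]

/-- The difference sequence. -/
def diffSeq (g : ℕ → G) : ℕ → G := fun n => (g n)⁻¹ * g (n + 1)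

/-- A finite-length filtration `F 0 ≥ F 1 ≥ ⋯` with `[F i, F j] ≤ F (i + j)`. -/
structure IsFiltration (F : ℕ → Subgroup G) (N : ℕ) : Prop where
  anti : ∀ i, F (i + 1) ≤ F i
  comm : ∀ i j, ⁅F i, F j⁆ ≤ F (i + j)
  bot : ∀ i, N ≤ i → F i = ⊥

/-- A polynomial sequence of level `d`. -/
def IsPolySeq (F : ℕ → Subgroup G) (d : ℕ) (g : ℕ → G) : Prop :=
  ∀ i n, diffSeq^[i] g n ∈ F (d + i)

variable {F : ℕ → Subgroup G} {N : ℕ}

theorem IsFiltration.le (hF : IsFiltration F N) {i j : ℕ} (h : i ≤ j) : F j ≤ F i :=
  antitone_nat_of_succ_le (fun k => hF.anti k) h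

theorem isPolySeq_of_diff {d : ℕ} {g : ℕ → G} (h0 : ∀ n, g n ∈ F d) (h1 : IsPolySeq F (d + 1) (diffSeq g)) :
    IsPolySeq F d g := by
  intro i n
  cases i with
  | zero => simpa using h0 n
  | succ i =>
    rw [Function.iterate_succ_apply]
    have := h1 i n
    rwa [show d + 1 + i = d + (i + 1) by omega] at this

theorem IsPolySeq.mem {d : ℕ} {g : ℕ → G} (h : IsPolySeq F d g) (n : ℕ) : g n ∈ F d := h 0 n

theorem IsPolySeq.diff {d : ℕ} {g : ℕ → G} (h : IsPolySeq F d g) : IsPolySeq F (d + 1) (diffSeq g) := by
  intro i n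
  have := h (i + 1) n
  rwa [Function.iterate_succ_apply, show d + (i + 1) = d + 1 + i by omega] at this

theorem IsPolySeq.mono (hF : IsFiltration F N) {d e : ℕ} {g : ℕ → G} (h : IsPolySeq F e g) (hde : d ≤ e) :
    IsPolySeq F d g := fun i n => hF.le (by omega) (h i n)

theorem IsPolySeq.shift {d : ℕ} {g : ℕ → G} (h : IsPolySeq F d g) : IsPolySeq F d (fun n => g (n + 1)) := by
  have key : ∀ (i : ℕ) (f : ℕ → G) (n : ℕ),
      diffSeq^[i] (fun n => f (n + 1)) n = diffSeq^[i] f (n + 1) := by
    intro i
    induction i with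
    | zero => intro f n; rfl
    | succ i ih =>
      intro f n
      rw [Function.iterate_succ_apply, Function.iterate_succ_apply]
      exact ih (diffSeq f) n
  intro i n
  rw [key]
  exact h i (n + 1)

theorem isPolySeq_one (d : ℕ) : IsPolySeq F d (fun _ => (1 : G)) := by
  have : ∀ i, diffSeq^[i] (fun _ => (1 : G)) = fun _ => 1 := by
    intro i
    induction i with
    | zero => rfl
    | succ i ih => rw [Function.iterate_succ_apply']; rw [ih]; funext n; simp [diffSeq]
  intro i n
  rw [this]; exact one_mem _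

theorem isPolySeq_const {x : G} {d : ℕ} (hx : x ∈ F d) : IsPolySeq F d (fun _ => x) :=
  isPolySeq_of_diff (fun _ => hx) (by
    have e : diffSeq (fun _ => x) = fun _ => 1 := funext fun _ => inv_mul_cancel x
    rw [e]; exact isPolySeq_one _)

theorem isPolySeq_choose (hF : IsFiltration F N) {x : G} {k : ℕ} (hx : x ∈ F k) : ∀ j ≤ k,
    IsPolySeq F (k - j) (fun n => x ^ n.choose j) := by
  intro j
  induction j with
  | zero => intro _; simpa using isPolySeq_const hx
  | succ j ih =>
    intro hj
    refine isPolySeq_of_diff (fun n => pow_mem (hF.le (Nat.sub_le _ _) hx) _) ?_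
    have e : diffSeq (fun n => x ^ n.choose (j + 1)) = fun n => x ^ n.choose j := by
      funext n
      simp only [diffSeq, Nat.choose_succ_succ', add_comm (n.choose j), pow_add, inv_mul_cancel_left]
    rw [e, show k - (j + 1) + 1 = k - j by omega]
    exact ih (by omega)

theorem eq_one_of_level_ge (hF : IsFiltration F N) {d : ℕ} {g : ℕ → G} (hd : N ≤ d) (h : ∀ n, g n ∈ F d) :
    g = fun _ => 1 := funext fun n => Subgroup.mem_bot.mp (hF.bot d hd ▸ h n)

section Closure
variable [Finite G] (hF : IsFiltration F N)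

/-- Joint closure of levels `≥ s` under products and of level sums `≥ s` under commutators. -/
def PolyClosed (F : ℕ → Subgroup G) (s : ℕ) : Prop :=
  (∀ d, s ≤ d → ∀ g h, IsPolySeq F d g → IsPolySeq F d h → IsPolySeq F d (fun n => g n * h n)) ∧
  (∀ d e, s ≤ d + e → ∀ g h, IsPolySeq F d g → IsPolySeq F e h → IsPolySeq F (d + e) (fun n => ⁅g n, h n⁆))

include hF in
omit [Finite G] in
theorem PolyClosed.conj {s t e : ℕ} (hc : PolyClosed F s) (ht : s ≤ t) {X h : ℕ → G}
    (hX : IsPolySeq F t X) (hh : IsPolySeq F e h) : IsPolySeq F t (fun n => h n * X n * (h n)⁻¹) := by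
  have h1 : IsPolySeq F t (fun n => ⁅h n, X n⁆) := (hc.2 e t (by omega) h X hh hX).mono hF (by omega)
  have h2 := hc.1 t ht _ _ h1 hX
  simpa [commutatorElement_def] using h2

include hF in
theorem PolyClosed.conj_inv {s t e : ℕ} (hc : PolyClosed F s) (ht : s ≤ t) {X h : ℕ → G}
    (hX : IsPolySeq F t X) (hh : IsPolySeq F e h) : IsPolySeq F t (fun n => (h n)⁻¹ * X n * h n) := by
  have key : ∀ k : ℕ, IsPolySeq F t (fun n => (h n) ^ k * X n * ((h n) ^ k)⁻¹) := by
    intro k
    induction k with
    | zero => simpa using hX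
    | succ k ih =>
      have := hc.conj hF ht ih hh
      simpa [pow_succ', mul_assoc] using this
  have h2 := key (Monoid.exponent G - 1)
  have e1 : ∀ x : G, x ^ (Monoid.exponent G - 1) = x⁻¹ := by
    intro x
    apply eq_inv_of_mul_eq_one_left
    rw [← pow_succ, Nat.sub_add_cancel (Nat.one_le_iff_ne_zero.mpr Monoid.exponent_ne_zero_of_finite),
      Monoid.pow_exponent_eq_one]
  simpa [e1] using h2

include hF in
theorem polyClosed (s : ℕ) : PolyClosed F s := by
  obtain ⟨m, hm⟩ : ∃ m, N ≤ s + m := ⟨N, by omega⟩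
  induction m generalizing s with
  | zero =>
    refine ⟨fun d hd g h hg hh => ?_, fun d e hde g h hg hh => ?_⟩
    · rw [eq_one_of_level_ge hF (d := d) (g := fun n => g n * h n) (by omega) fun n => mul_mem (hg.mem n) (hh.mem n)]
      exact isPolySeq_one d
    · rw [eq_one_of_level_ge hF (d := d + e) (g := fun n => ⁅g n, h n⁆) (by omega)
        fun n => hF.comm d e (Subgroup.commutator_mem_commutator (hg.mem n) (hh.mem n))]
      exact isPolySeq_one _
  | succ m ih =>
    have hc := ih (s + 1) (by omega)
    constructor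
    · intro d hd g h hg hh
      refine isPolySeq_of_diff (fun n => mul_mem (hg.mem n) (hh.mem n)) ?_
      have e : diffSeq (fun n => g n * h n) =
          fun n => (h n)⁻¹ * diffSeq g n * h n * diffSeq h n := by
        funext n; simp only [diffSeq]; group
      rw [e]
      exact hc.1 _ (by omega) _ _ (hc.conj_inv hF (by omega) hg.diff hh) hh.diff
    · intro d e hde g h hg hh
      refine isPolySeq_of_diff
        (fun n => hF.comm d e (Subgroup.commutator_mem_commutator (hg.mem n) (hh.mem n))) ?_
      have ht : s + 1 ≤ d + e + 1 := by omega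
      have hu : IsPolySeq F (d + e + 1) (fun n => ⁅diffSeq g n, h (n + 1)⁆) :=
        (hc.2 (d + 1) e (by omega) _ _ hg.diff hh.shift).mono hF (by omega)
      have hv : IsPolySeq F (d + e + 1) (fun n => ⁅g n, diffSeq h n⁆) :=
        (hc.2 d (e + 1) (by omega) _ _ hg hh.diff).mono hF (by omega)
      -- conjugate the first term by the inverse of the commutator
      have hA := hc.conj hF ht hu hg
      have hA1 := hc.conj_inv hF ht hA hg
      have hA2 := hc.conj_inv hF ht hA1 hh
      have hA3 := hc.conj hF ht hA2 hg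
      have hA4 := hc.conj hF ht hA3 hh
      have hB := hc.conj hF ht hv hh
      have e : diffSeq (fun n => ⁅g n, h n⁆) =
          fun n => h n * (g n * ((h n)⁻¹ * ((g n)⁻¹ *
            (g n * ⁅diffSeq g n, h (n + 1)⁆ * (g n)⁻¹) * g n) * h n) * (g n)⁻¹) * (h n)⁻¹ *
            (h n * ⁅g n, diffSeq h n⁆ * (h n)⁻¹) := by
        funext n; simp only [diffSeq, commutatorElement_def]; group
      rw [e]
      exact hc.1 _ ht _ _ hA4 hB

include hF in
theorem IsPolySeq.mul {d : ℕ} {g h : ℕ → G} (hg : IsPolySeq F d g) (hh : IsPolySeq F d h) :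
    IsPolySeq F d (fun n => g n * h n) :=
  (polyClosed hF d).1 d le_rfl g h hg hh

omit [Finite G] in
theorem diffSeq_iterate_initial {g : ℕ → G} {k : ℕ} (h : ∀ j < k, g j = 1) :
    ∀ i j, (i + j < k → diffSeq^[i] g j = 1) ∧ (i + j = k → diffSeq^[i] g j = g k) := by
  intro i
  induction i with
  | zero =>
    intro j
    refine ⟨fun hj => h j (by omega), fun hj => ?_⟩
    rw [Function.iterate_zero, id, show j = k by omega]
  | succ i ih =>
    intro j
    rw [Function.iterate_succ_apply']
    constructor
    · intro hj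
      rw [diffSeq, (ih j).1 (by omega), (ih (j + 1)).1 (by omega), inv_one, one_mul]
    · intro hj
      rw [diffSeq, (ih j).1 (by omega), (ih (j + 1)).2 (by omega), inv_one, one_mul]

include hF in
/-- Taylor expansion evaluated at `q`. -/
theorem IsPolySeq.apply_mem {g : ℕ → G} (hg : IsPolySeq F 0 g) {k : ℕ} (hk : ∀ j < k, g j = 1) (q : ℕ)
    (T : Subgroup G) (hT : ∀ j, k ≤ j → j < N → ∀ x ∈ F j, x ^ q.choose j ∈ T) : g q ∈ T := by
  obtain ⟨m, hm⟩ : ∃ m, N ≤ k + m := ⟨N, by omega⟩
  induction m generalizing g k with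
  | zero =>
    have : ∀ n i, diffSeq^[i] g n = 1 := by
      intro n
      induction n with
      | zero =>
        intro i
        rcases Nat.lt_or_ge i k with hi | hi
        · exact (diffSeq_iterate_initial hk i 0).1 (by omega)
        · exact Subgroup.mem_bot.mp (hF.bot (0 + i) (by omega) ▸ hg i 0)
      | succ n ih =>
        intro i
        have := ih (i + 1)
        rw [Function.iterate_succ_apply', diffSeq, ih i, inv_one, one_mul] at this
        exact this
    rw [show g q = 1 from this q 0]
    exact one_mem T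
  | succ m ih =>
    rcases Nat.lt_or_ge k N with hkN | hkN
    · have hx : g k ∈ F k := by
        have := hg k 0
        rwa [(diffSeq_iterate_initial hk k 0).2 (by omega), zero_add] at this
      have hpoly : IsPolySeq F 0 (fun n => (g k)⁻¹ ^ n.choose k) := by
        have := isPolySeq_choose hF (inv_mem hx) k le_rfl
        rwa [Nat.sub_self] at this
      have hmem := ih (g := fun n => (g k)⁻¹ ^ n.choose k * g n) (k := k + 1) (hpoly.mul hF hg) (by
        intro j hj
        rcases Nat.lt_or_ge j k with hjk | hjk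
        · rw [hk j hjk, Nat.choose_eq_zero_of_lt hjk, pow_zero, one_mul]
        · rw [show j = k by omega, Nat.choose_self, pow_one, inv_mul_cancel])
        (fun j hj hjN => hT j (by omega) hjN) (by omega)
      have hq := hT k le_rfl hkN _ (inv_mem hx)
      have := mul_mem (inv_mem hq) hmem
      simpa using this
    · exact ih hg hk hT (by omega)

end Closure

end Cfsg.Agent.Lib.PGroups
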