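import Cfsg.Agent.Lib.OddLocal.OddOperators
import Cfsg.Agent.Lib.PGroups.Regular
import Cfsg.Agent.S4209
import Cfsg.Agent.S4224
import Cfsg.Agent.S4225

/-!
Groups of odd prime power order with few elements of order `p`, for `p > 3`: Blackburn's and Huppert's
theorems.
-/

set_option autoImplicit false
set_option linter.unusedSectionVars false

namespace Cfsg.Agent.Lib.HuppertTwo

open scoped commutatorElement

universe u

variable {p : ℕ} [Fact p.Prime]

theorem eq_bot_of_commutator_top {X : Type u} [Group X] [Finite X] (hX : IsPGroup p X) {D : Subgroup X}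
    (h : ⁅D, (⊤ : Subgroup X)⁆ = D) : D = ⊥ := by
  haveI : Group.IsNilpotent X := hX.isNilpotent
  obtain ⟨n, hn⟩ := Subgroup.nilpotent_iff_lowerCentralSeries.1 (inferInstance : Group.IsNilpotent X)
  have key : ∀ k, D ≤ (⊤ : Subgroup X).lowerCentralSeries k := by
    intro k
    induction k with
    | zero => rw [Subgroup.lowerCentralSeries_zero]; exact le_top
    | succ k ih =>
      rw [Subgroup.lowerCentralSeries_succ]
      conv_lhs => rw [← h]
      exact Subgroup.commutator_mono ih le_rfl
  exact le_bot_iff.1 (hn ▸ key n)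

/-- a group of order at most `p ^ 4` is regular for `p > 3` -/
theorem regular_of_card_le {X : Type u} [Group X] [Finite X] (hp : 3 < p) (hX : IsPGroup p X)
    (hc : Nat.card X ≤ p ^ 4) : Cfsg.IsRegularPGroup p X := by
  have hp5 : 5 ≤ p := by
    by_contra h
    obtain rfl : p = 4 := by omega
    exact absurd (Fact.out : Nat.Prime 4) (by decide)
  have hpos : 0 < p := by omega
  refine Cfsg.Agent.S4209.result hX ?_
  have key : ∀ k, (⊤ : Subgroup X).lowerCentralSeries k = ⊥ ∨
      p ^ k * Nat.card ↥((⊤ : Subgroup X).lowerCentralSeries k) ≤ p ^ 4 := by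
    intro k
    induction k with
    | zero => right; rw [Subgroup.lowerCentralSeries_zero, pow_zero, one_mul, Subgroup.card_top]; exact hc
    | succ k ih =>
      set A := (⊤ : Subgroup X).lowerCentralSeries k with hA
      by_cases hA0 : A = ⊥
      · left; rw [Subgroup.lowerCentralSeries_succ, ← hA, hA0, Subgroup.commutator_bot_left]
      right
      set B := (⊤ : Subgroup X).lowerCentralSeries (k + 1) with hB
      have hle : B ≤ A := Subgroup.lowerCentralSeries_antitone _ (Nat.le_succ k)
      have hne : B ≠ A := fun h => hA0 (eq_bot_of_commutator_top hX (by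
        rw [← Subgroup.lowerCentralSeries_succ]; exact h))
      obtain ⟨a, ha⟩ := (IsPGroup.iff_card.1 (hX.to_subgroup A))
      obtain ⟨b, hb⟩ := (IsPGroup.iff_card.1 (hX.to_subgroup B))
      have hlt : Nat.card B < Nat.card A := lt_of_le_of_ne (Subgroup.card_le_of_le hle)
        fun h => hne (Subgroup.eq_of_le_of_card_ge hle h.ge)
      rw [ha, hb] at hlt
      have hba : b + 1 ≤ a := (Nat.pow_lt_pow_iff_right (by omega)).1 hlt
      calc p ^ (k + 1) * Nat.card B = p ^ k * p ^ (b + 1) := by rw [hb, pow_succ', pow_succ']; ring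
        _ ≤ p ^ k * p ^ a := Nat.mul_le_mul_left _ (Nat.pow_le_pow_right hpos hba)
        _ ≤ p ^ 4 := by rw [← ha]; exact ih.resolve_left hA0
  have h4 : (⊤ : Subgroup X).lowerCentralSeries 4 = ⊥ := (key 4).elim id fun h => by
    refine Subgroup.card_eq_one.1 (le_antisymm ?_ Nat.card_pos)
    exact Nat.le_of_mul_le_mul_left (by rwa [mul_one]) (pow_pos hpos 4)
  exact le_bot_iff.1 (h4 ▸ Subgroup.lowerCentralSeries_antitone _ (by omega))

theorem pow_eq_one_of_card_le {X : Type u} [Group X] [Finite X] (hp : 3 < p) (hX : IsPGroup p X)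
    (hc : Nat.card X ≤ p ^ 4) {S : Set X} (hS : ∀ s ∈ S, s ^ p = 1) {x : X} (hx : x ∈ Subgroup.closure S) :
    x ^ p = 1 := by
  obtain ⟨H, -, hH⟩ := Cfsg.Agent.S4225.result (regular_of_card_le hp hX hc) 1
  have hle : Subgroup.closure S ≤ H := (Subgroup.closure_le _).2 fun s hs => by
    show s ∈ (H : Set X)
    rw [hH, Set.mem_setOf_eq, pow_one]; exact hS s hs
  have := hle hx
  rw [← SetLike.mem_coe, hH, Set.mem_setOf_eq, pow_one] at this
  exact this

/-- Blackburn: in a group of rank at most two the elements of order `p` form a subgroup -/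
theorem omega_pow {R : Type u} [Group R] [Finite R] (hp : 3 < p) (hR : IsPGroup p R)
    (hrk : Cfsg.PRankLE p 2 R) {x : R} (hx : x ∈ Subgroup.closure {y : R | y ^ p = 1}) : x ^ p = 1 := by
  obtain ⟨L, hL, hLmax⟩ := (Set.toFinite {L : Subgroup R | ∀ y ∈ L, y ^ p = 1}).exists_maximal
    ⟨⊥, fun y hy => by rw [Subgroup.mem_bot.1 hy, one_pow]⟩
  set N := Subgroup.normalizer (L : Set R) with hN
  have hL3 : Nat.card L ≤ p ^ 3 := OddLocal.card_le_cube_of_exponent (fun y => Subtype.ext (hL y y.2))
    (fun A hA hAp => by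
      haveI := hA
      have h2 := hrk (A.map L.subtype) (Subgroup.map_isMulCommutative A L.subtype) (by
        rintro _ ⟨a, ha, rfl⟩
        rw [← map_pow, hAp a ha, map_one])
      rwa [Subgroup.card_map_of_injective L.subtype_injective] at h2)
  have hzL : ∀ z ∈ N, z ^ p = 1 → z ∈ L := by
    intro z hz hzp
    set X := L ⊔ Subgroup.zpowers z with hX
    have hmul := Subgroup.coe_mul_of_right_le_normalizer_left L (Subgroup.zpowers z)
      (by rw [Subgroup.zpowers_le]; exact hz)
    have hcard : Nat.card X ≤ p ^ 4 := by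
      have h1 : Nat.card X ≤ Nat.card L * Nat.card (Subgroup.zpowers z) := by
        have := Set.natCard_mul_le (s := (L : Set R)) (t := (Subgroup.zpowers z : Set R))
        rwa [← hmul] at this
      refine h1.trans ?_
      rw [Nat.card_zpowers]
      calc Nat.card L * orderOf z ≤ p ^ 3 * p := Nat.mul_le_mul hL3
            (Nat.le_of_dvd (Fact.out (p := p.Prime)).pos (orderOf_dvd_of_pow_eq_one hzp))
        _ = p ^ 4 := (pow_succ p 3).symm
    have hXexp : ∀ y ∈ X, y ^ p = 1 := by
      intro y hy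
      have hcl : (⊤ : Subgroup X) ≤ Subgroup.closure {w : X | w ^ p = 1} := by
        have hm : X ≤ (Subgroup.closure {w : X | w ^ p = 1}).map X.subtype := sup_le
          (fun l hl => ⟨⟨l, Subgroup.mem_sup_left hl⟩, Subgroup.subset_closure (Subtype.ext (hL l hl)), rfl⟩)
          (by rw [Subgroup.zpowers_le]; exact ⟨⟨z, Subgroup.mem_sup_right (Subgroup.mem_zpowers z)⟩,
            Subgroup.subset_closure (Subtype.ext hzp), rfl⟩)
        intro w _
        obtain ⟨w', hw', hww⟩ := hm w.2
        obtain rfl : w' = w := Subtype.ext hww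
        exact hw'
      exact congrArg Subtype.val
        (pow_eq_one_of_card_le hp (hR.to_subgroup X) hcard (fun s hs => hs) (hcl (Subgroup.mem_top ⟨y, hy⟩)))
    exact hLmax hXexp le_sup_left (Subgroup.mem_sup_right (Subgroup.mem_zpowers z))
  have hLN : L ≤ N := Subgroup.le_normalizer
  have hNtop : N = ⊤ := by
    haveI : Group.IsNilpotent R := hR.isNilpotent
    refine normalizerCondition_iff_only_full_group_self_normalizing.mp Group.normalizerCondition_of_isNilpotent N
      (le_antisymm (fun g hg => ?_) Subgroup.le_normalizer)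
    rw [hN, Subgroup.mem_normalizer_iff_map_conj_eq]
    refine Subgroup.eq_of_le_of_card_ge ?_
      (le_of_eq (Subgroup.card_map_of_injective (MulAut.conj g).injective).symm)
    rintro _ ⟨l, hl, rfl⟩
    refine hzL _ ((Subgroup.mem_normalizer_iff.1 hg l).1 (hLN hl)) ?_
    show (MulAut.conj g l) ^ p = 1
    rw [← map_pow, hL l hl, map_one]
  exact hL x ((Subgroup.closure_le L).2 (fun y hy => hzL y (hNtop ▸ Subgroup.mem_top y) hy) hx)

/-- there are at most `p ^ 2` elements of order dividing `p`, with their closure -/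
def SmallOmega (p : ℕ) (R : Type u) [Group R] : Prop :=
  Nat.card ↥(Subgroup.closure {y : R | y ^ p = 1}) ≤ p ^ 2

theorem smallOmega_sub {R : Type u} [Group R] [Finite R] (h : SmallOmega p R) (H : Subgroup R) :
    SmallOmega p H := by
  refine le_trans ?_ h
  rw [← Subgroup.card_map_of_injective H.subtype_injective]
  refine Subgroup.card_le_of_le ?_
  rw [MonoidHom.map_closure]
  refine Subgroup.closure_mono ?_
  rintro _ ⟨y, hy, rfl⟩
  show (y : R) ^ p = 1
  exact congrArg Subtype.val hy

/-- equal `p`-th powers differ by an element of order dividing `p` -/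
theorem pow_eq_iff {R : Type u} [Group R] [Finite R] (hp : 3 < p) (hR : IsPGroup p R) (h : SmallOmega p R)
    {x y : R} (hxy : x ^ p = y ^ p) : (x * y⁻¹) ^ p = 1 := by
  induction hn : Nat.card R using Nat.strong_induction_on generalizing R with
  | _ n ih =>
    set H := Subgroup.closure ({x, y} : Set R) with hH
    have hxH : x ∈ H := Subgroup.subset_closure (Set.mem_insert _ _)
    have hyH : y ∈ H := Subgroup.subset_closure (Set.mem_insert_of_mem _ rfl)
    by_cases hHt : H = ⊤
    swap
    · have hlt : Nat.card H < n := by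
        rw [← hn]
        exact lt_of_le_of_ne (Subgroup.card_le_card_group _) fun h' => hHt (Subgroup.eq_top_of_card_eq _ h')
      exact congrArg Subtype.val (ih _ hlt (hR.to_subgroup H) (smallOmega_sub h H)
        (x := ⟨x, hxH⟩) (y := ⟨y, hyH⟩) (Subtype.ext hxy) rfl)
    set O := Subgroup.closure {w : R | w ^ p = 1} with hO
    haveI hOn : O.Normal := ⟨fun w hw g => by
      induction hw using Subgroup.closure_induction with
      | mem w hw => exact Subgroup.subset_closure (show (g * w * g⁻¹) ^ p = 1 by rw [conj_pow, hw]; group)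
      | one => simp
      | mul a b _ _ iha ihb =>
        rw [show g * (a * b) * g⁻¹ = (g * a * g⁻¹) * (g * b * g⁻¹) by group]; exact mul_mem iha ihb
      | inv a _ iha => rw [show g * a⁻¹ * g⁻¹ = (g * a * g⁻¹)⁻¹ by group]; exact inv_mem iha⟩
    -- the commutator of the two generators
    have hc : ⁅x, y⁆ ∈ O := by
      by_cases hxc : Subgroup.zpowers x = ⊤
      · rw [commutatorElement_eq_one_iff_mul_comm.2]
        · exact one_mem _
        · obtain ⟨i, rfl⟩ := Subgroup.mem_zpowers_iff.1 (hxc ▸ Subgroup.mem_top y : y ∈ Subgroup.zpowers x)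
          exact (Commute.self_zpow x i).eq
      obtain ⟨M, hM, hxM⟩ := (eq_top_or_exists_le_coatom (Subgroup.zpowers x)).resolve_left hxc
      haveI : Group.IsNilpotent R := hR.isNilpotent
      haveI : M.Normal := Subgroup.NormalizerCondition.normal_of_coatom _ Group.normalizerCondition_of_isNilpotent hM
      have hxM' : x ∈ M := hxM (Subgroup.mem_zpowers x)
      have hx2 : y * x * y⁻¹ ∈ M := Subgroup.Normal.conj_mem ‹M.Normal› x hxM' y
      have hpow : x ^ p = (y * x * y⁻¹) ^ p := by
        have hcy : y * x ^ p = x ^ p * y := by rw [hxy, ← pow_succ, ← pow_succ']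
        rw [conj_pow, hcy, mul_inv_cancel_right]
      have hlt : Nat.card M < n := by
        rw [← hn]
        exact lt_of_le_of_ne (Subgroup.card_le_card_group _) fun h' => hM.1 (Subgroup.eq_top_of_card_eq _ h')
      have h2 : (x * (y * x * y⁻¹)⁻¹) ^ p = 1 := congrArg Subtype.val (ih _ hlt (hR.to_subgroup M) (smallOmega_sub h M)
        (x := ⟨x, hxM'⟩) (y := ⟨_, hx2⟩) (Subtype.ext hpow) rfl)
      refine Subgroup.subset_closure (show ⁅x, y⁆ ^ p = 1 from ?_)
      rw [show ⁅x, y⁆ = x * (y * x * y⁻¹)⁻¹ by rw [commutatorElement_def]; group]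
      exact h2
    -- hence the group has small class
    have hab : ∀ a b : R, ⁅a, b⁆ ∈ O := by
      let f := QuotientGroup.mk' O
      have hgen : ∀ a : R, f a ∈ Subgroup.closure ({f x, f y} : Set (R ⧸ O)) := fun a => by
        have := Subgroup.mem_map_of_mem f (hHt ▸ Subgroup.mem_top a : a ∈ H)
        rwa [hH, MonoidHom.map_closure, Set.image_pair] at this
      intro a b
      rw [← QuotientGroup.eq_one_iff]
      show f ⁅a, b⁆ = 1
      rw [map_commutatorElement, commutatorElement_eq_one_iff_mul_comm]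
      have hcomm : Commute (f x) (f y) := by
        rw [commute_iff_eq, ← commutatorElement_eq_one_iff_mul_comm, ← map_commutatorElement]
        exact (QuotientGroup.eq_one_iff _).2 hc
      haveI := Subgroup.isMulCommutative_closure (k := ({f x, f y} : Set (R ⧸ O))) (by
        rintro u (rfl | rfl) v (rfl | rfl)
        · rfl
        · exact hcomm.eq
        · exact hcomm.eq.symm
        · rfl)
      exact Subgroup.mul_comm_of_mem_isMulCommutative _ (hgen a) (hgen b)
    have hreg : Cfsg.IsRegularPGroup p R := by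
      refine Cfsg.Agent.S4209.result hR ?_
      have h1 : (⊤ : Subgroup R).lowerCentralSeries 1 ≤ O := by
        rw [Subgroup.lowerCentralSeries_succ, Subgroup.lowerCentralSeries_zero, Subgroup.commutator_le]
        exact fun a _ b _ => hab a b
      have hp2 : 2 ≤ p := (Fact.out (p := p.Prime)).two_le
      have key : ∀ k, (⊤ : Subgroup R).lowerCentralSeries (k + 1) = ⊥ ∨
          p ^ k * Nat.card ↥((⊤ : Subgroup R).lowerCentralSeries (k + 1)) ≤ p ^ 2 := by
        intro k
        induction k with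
        | zero => right; rw [pow_zero, one_mul]; exact (Subgroup.card_le_of_le h1).trans h
        | succ k ihk =>
          set A := (⊤ : Subgroup R).lowerCentralSeries (k + 1) with hA
          by_cases hA0 : A = ⊥
          · left; rw [Subgroup.lowerCentralSeries_succ, ← hA, hA0, Subgroup.commutator_bot_left]
          right
          set B := (⊤ : Subgroup R).lowerCentralSeries (k + 1 + 1) with hB
          have hle : B ≤ A := Subgroup.lowerCentralSeries_antitone _ (Nat.le_succ _)
          have hne : B ≠ A := fun h' => hA0 (eq_bot_of_commutator_top hR (by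
            rw [← Subgroup.lowerCentralSeries_succ]; exact h'))
          obtain ⟨a, ha⟩ := IsPGroup.iff_card.1 (hR.to_subgroup A)
          obtain ⟨b, hb⟩ := IsPGroup.iff_card.1 (hR.to_subgroup B)
          have hlt : Nat.card B < Nat.card A := lt_of_le_of_ne (Subgroup.card_le_of_le hle)
            fun h' => hne (Subgroup.eq_of_le_of_card_ge hle h'.ge)
          rw [ha, hb] at hlt
          have hba : b + 1 ≤ a := (Nat.pow_lt_pow_iff_right (by omega)).1 hlt
          calc p ^ (k + 1) * Nat.card B = p ^ k * p ^ (b + 1) := by rw [hb, pow_succ', pow_succ']; ring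
            _ ≤ p ^ k * p ^ a := Nat.mul_le_mul_left _ (Nat.pow_le_pow_right (by omega) hba)
            _ ≤ p ^ 2 := by rw [← ha]; exact ihk.resolve_left hA0
      have h3 : (⊤ : Subgroup R).lowerCentralSeries 3 = ⊥ := (key 2).elim id fun h' => by
        refine Subgroup.card_eq_one.1 (le_antisymm ?_ Nat.card_pos)
        exact Nat.le_of_mul_le_mul_left (by rwa [mul_one]) (pow_pos (by omega) 2)
      exact le_bot_iff.1 (h3 ▸ Subgroup.lowerCentralSeries_antitone _ (by omega))
    have := (PGroups.regular_pow_eq_iff hreg x y 1).1 (by simpa using hxy)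
    simpa using this

/-- the fibres of the `p`-th power map -/
theorem card_fibre_le {R : Type u} [Group R] [Finite R] (hp : 3 < p) (hR : IsPGroup p R) (h : SmallOmega p R)
    (t : R) : Nat.card {x : R // x ^ p = t} ≤ p ^ 2 := by
  rcases isEmpty_or_nonempty {x : R // x ^ p = t} with he | ⟨⟨x₀, hx₀⟩⟩
  · simp
  refine le_trans ?_ h
  refine Nat.card_le_card_of_injective (fun x => (⟨x.1 * x₀⁻¹, Subgroup.subset_closure
    (pow_eq_iff hp hR h (x.2.trans hx₀.symm))⟩ : Subgroup.closure {y : R | y ^ p = 1})) ?_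
  intro a b hab
  exact Subtype.ext (mul_right_cancel (congrArg Subtype.val hab))

theorem rank_of_smallOmega {R : Type u} [Group R] [Finite R] (h : SmallOmega p R) : Cfsg.PRankLE p 2 R :=
  fun _ _ hA => le_trans (Subgroup.card_le_of_le fun a ha => Subgroup.subset_closure (hA a ha)) h

/-- the hypothesis passes to quotients -/
theorem smallOmega_quotient {R : Type u} [Group R] [Finite R] (hp : 3 < p) (hR : IsPGroup p R)
    (h : SmallOmega p R) (T : Subgroup R) [T.Normal] : SmallOmega p (R ⧸ T) := by
  classical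
  set Q := R ⧸ T
  have hE : Nat.card {w : Q // w ^ p = 1} ≤ p ^ 2 := by
    haveI : Fintype T := Fintype.ofFinite _
    let W := {w : Q // w ^ p = 1}
    have hsurj : ∀ w : W, ∃ x : R, (QuotientGroup.mk x : Q) = w.1 := fun w => QuotientGroup.mk_surjective w.1
    choose s hs using hsurj
    let f : W × T → (Σ t : T, {x : R // x ^ p = (t : R)}) := fun wt =>
      ⟨⟨(s wt.1 * wt.2) ^ p, by
        rw [← QuotientGroup.eq_one_iff, QuotientGroup.mk_pow, QuotientGroup.mk_mul,
          (QuotientGroup.eq_one_iff (wt.2 : R)).2 wt.2.2, mul_one, hs]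
        exact wt.1.2⟩, ⟨s wt.1 * wt.2, rfl⟩⟩
    have hf : Function.Injective f := by
      rintro ⟨w, t⟩ ⟨w', t'⟩ hh
      have hx : s w * t = s w' * t' := congrArg (fun z : Σ t : T, {x : R // x ^ p = (t : R)} => z.2.1) hh
      have hw : w = w' := by
        refine Subtype.ext ?_
        have := congrArg (fun r : R => (QuotientGroup.mk r : Q)) hx
        simpa [(QuotientGroup.eq_one_iff (t : R)).2 t.2, (QuotientGroup.eq_one_iff (t' : R)).2 t'.2, hs] using this
      subst hw
      exact Prod.ext rfl (Subtype.ext (mul_left_cancel hx))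
    have h1 := Nat.card_le_card_of_injective f hf
    rw [Nat.card_prod, Nat.card_sigma] at h1
    have h2 : (∑ t : T, Nat.card {x : R // x ^ p = (t : R)}) ≤ p ^ 2 * Nat.card T := by
      refine (Finset.sum_le_card_nsmul (Finset.univ : Finset T) (fun t => Nat.card {x : R // x ^ p = (t : R)}) (p ^ 2) (fun t _ => card_fibre_le hp hR h t)).trans ?_
      rw [Finset.card_univ, smul_eq_mul, Nat.card_eq_fintype_card, mul_comm]
    exact Nat.le_of_mul_le_mul_right (h1.trans h2) Nat.card_pos
  have hQ : IsPGroup p Q := hR.to_quotient T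
  have hrk : Cfsg.PRankLE p 2 Q := fun A _ hA => le_trans
    (Nat.card_le_card_of_injective (fun a : A => (⟨a.1, hA a a.2⟩ : {w : Q // w ^ p = 1}))
      (fun a b hab => Subtype.ext (congrArg (fun z : {w : Q // w ^ p = 1} => z.1) hab))) hE
  show Nat.card _ ≤ _
  refine le_trans (Nat.card_le_card_of_injective
    (fun w : Subgroup.closure {y : Q | y ^ p = 1} => (⟨w.1, omega_pow hp hQ hrk w.2⟩ : {w : Q // w ^ p = 1}))
    (fun a b hab => Subtype.ext (congrArg (fun z : {w : Q // w ^ p = 1} => z.1) hab))) hE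

/-- the subgroup generated by the `p`-th powers of a subgroup -/
def agemo (p : ℕ) {R : Type u} [Group R] (H : Subgroup R) : Subgroup R :=
  Subgroup.closure {y : R | ∃ x ∈ H, y = x ^ p}

theorem agemo_normal {R : Type u} [Group R] (H : Subgroup R) [hH : H.Normal] : (agemo p H).Normal :=
  ⟨fun w hw g => by
    induction hw using Subgroup.closure_induction with
    | mem w hw =>
      obtain ⟨x, hx, rfl⟩ := hw
      exact Subgroup.subset_closure ⟨g * x * g⁻¹, hH.conj_mem x hx g, conj_pow.symm⟩
    | one => simp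
    | mul a b _ _ iha ihb =>
      rw [show g * (a * b) * g⁻¹ = (g * a * g⁻¹) * (g * b * g⁻¹) by group]; exact mul_mem iha ihb
    | inv a _ iha => rw [show g * a⁻¹ * g⁻¹ = (g * a * g⁻¹)⁻¹ by group]; exact inv_mem iha⟩

theorem index_agemo_le {R : Type u} [Group R] [Finite R] (hp : 3 < p) (hR : IsPGroup p R)
    (h : SmallOmega p R) :
    (agemo p (⊤ : Subgroup R)).index ≤ p ^ 2 ∧
      ((agemo p (⊤ : Subgroup R)).index = p ^ 2 →
        ∀ u ∈ agemo p (⊤ : Subgroup R), ∃ x : R, x ^ p = u) := by
  classical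
  haveI : Fintype R := Fintype.ofFinite _
  set U := agemo p (⊤ : Subgroup R) with hU
  set I := (Finset.univ : Finset R).image (fun x => x ^ p) with hI
  have hcount : Nat.card R ≤ p ^ 2 * I.card := by
    rw [Nat.card_eq_fintype_card, ← Finset.card_univ]
    refine Finset.card_le_mul_card_image _ _ (fun t _ => ?_)
    rw [← Fintype.card_subtype, ← Nat.card_eq_fintype_card]
    exact card_fibre_le hp hR h t
  haveI : Fintype U := Fintype.ofFinite _
  have hIU : I ⊆ (Finset.univ : Finset U).map ⟨Subtype.val, Subtype.val_injective⟩ := by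
    intro t ht
    obtain ⟨x, -, rfl⟩ := Finset.mem_image.1 ht
    exact Finset.mem_map.2 ⟨⟨x ^ p, Subgroup.subset_closure ⟨x, Subgroup.mem_top x, rfl⟩⟩,
      Finset.mem_univ _, rfl⟩
  have hI' : I.card ≤ Nat.card U := by
    rw [Nat.card_eq_fintype_card]
    simpa using Finset.card_le_card hIU
  have hidx := U.card_mul_index
  refine ⟨?_, fun heq u hu => ?_⟩
  · refine Nat.le_of_mul_le_mul_left ?_ (Nat.card_pos (α := U))
    rw [hidx, mul_comm]
    exact hcount.trans (Nat.mul_le_mul_left _ hI')
  · have hge : Nat.card U ≤ I.card := by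
      refine Nat.le_of_mul_le_mul_left ?_ (pow_pos (Fact.out (p := p.Prime)).pos 2)
      rw [← heq, mul_comm, hidx, heq]
      exact hcount
    have : I = (Finset.univ : Finset U).map ⟨Subtype.val, Subtype.val_injective⟩ :=
      Finset.eq_of_subset_of_card_le hIU (by simpa [← Nat.card_eq_fintype_card] using hge)
    have hu' : u ∈ I := this ▸ Finset.mem_map.2 ⟨⟨u, hu⟩, Finset.mem_univ _, rfl⟩
    obtain ⟨x, -, hx⟩ := Finset.mem_image.1 hu'
    exact ⟨x, hx⟩

theorem isCyclic_of_index_le_prime {X : Type u} [Group X] [Finite X] (hX : IsPGroup p X) {F : Subgroup X}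
    [F.Normal] (hF : F.index ≤ p) (hgen : ∀ H : Subgroup X, H ⊔ F = ⊤ → H = ⊤) : IsCyclic X := by
  obtain ⟨k, hk⟩ := IsPGroup.iff_card.1 (hX.to_quotient F)
  rw [← Subgroup.index_eq_card] at hk
  have hk1 : k ≤ 1 := by
    by_contra h'
    have := Nat.pow_lt_pow_right (Fact.out (p := p.Prime)).one_lt (show 1 < k by omega)
    rw [pow_one, ← hk] at this
    omega
  haveI : IsCyclic (X ⧸ F) := by
    rcases (show k = 0 ∨ k = 1 by omega) with rfl | rfl
    · haveI : Subsingleton (X ⧸ F) :=
        (Nat.card_eq_one_iff_unique.mp (by rw [← Subgroup.index_eq_card, hk, pow_zero])).1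
      infer_instance
    · exact isCyclic_of_prime_card (p := p) (by rw [← Subgroup.index_eq_card, hk, pow_one])
  obtain ⟨g, hg⟩ := IsCyclic.exists_generator (α := X ⧸ F)
  obtain ⟨g, rfl⟩ := QuotientGroup.mk_surjective g
  have htop : Subgroup.zpowers g = ⊤ := by
    refine hgen _ (eq_top_iff.2 fun x _ => ?_)
    obtain ⟨i, hi⟩ := Subgroup.mem_zpowers_iff.1 (hg x)
    rw [← QuotientGroup.mk_zpow, QuotientGroup.eq] at hi
    have := Subgroup.mul_mem _ (Subgroup.mem_sup_left (T := F) (Subgroup.zpow_mem_zpowers g i))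
      (Subgroup.mem_sup_right hi)
    rwa [mul_inv_cancel_left] at this
  exact ⟨⟨g, fun x => Subgroup.mem_zpowers_iff.1 (htop.ge (Subgroup.mem_top x))⟩⟩

theorem isCoatom_facts {X : Type u} [Group X] [Finite X] (hX : IsPGroup p X) {M : Subgroup X} (hM : IsCoatom M)
    (x : X) : x ^ p ∈ M ∧ ∀ y : X, ⁅x, y⁆ ∈ M := by
  haveI : Group.IsNilpotent X := hX.isNilpotent
  haveI : M.Normal := Subgroup.NormalizerCondition.normal_of_coatom _ Group.normalizerCondition_of_isNilpotent hM
  haveI hQ : Nontrivial (X ⧸ M) := by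
    rw [← Finite.one_lt_card_iff_nontrivial, ← Subgroup.index_eq_card]
    exact Subgroup.one_lt_index_of_ne_top hM.1
  obtain ⟨z, -, hzo, hzc⟩ := PLocal.exists_central_prime_mem (hX.to_quotient M)
    (top_ne_bot : (⊤ : Subgroup (X ⧸ M)) ≠ ⊥)
  have htop : Subgroup.zpowers z = ⊤ := by
    have hle : M ≤ (Subgroup.zpowers z).comap (QuotientGroup.mk' M) := fun m hm => by
      rw [Subgroup.mem_comap, QuotientGroup.mk'_apply, (QuotientGroup.eq_one_iff m).2 hm]; exact one_mem _
    rcases hM.le_iff.1 hle with h | h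
    · exact Subgroup.comap_injective (QuotientGroup.mk'_surjective M) (h.trans (Subgroup.comap_top _).symm)
    · exfalso
      obtain ⟨w, rfl⟩ := QuotientGroup.mk_surjective z
      have hw : w ∈ (Subgroup.zpowers (w : X ⧸ M)).comap (QuotientGroup.mk' M) := Subgroup.mem_zpowers _
      rw [h, ← QuotientGroup.eq_one_iff] at hw
      rw [hw, orderOf_one] at hzo
      exact (Fact.out (p := p.Prime)).ne_one hzo.symm
  have hmem : ∀ w : X ⧸ M, ∃ i : ℤ, z ^ i = w := fun w =>
    Subgroup.mem_zpowers_iff.1 (htop ▸ Subgroup.mem_top w)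
  refine ⟨?_, fun y => ?_⟩
  · rw [← QuotientGroup.eq_one_iff, QuotientGroup.mk_pow]
    obtain ⟨i, hi⟩ := hmem x
    have hzp : z ^ p = 1 := hzo ▸ pow_orderOf_eq_one z
    rw [← hi, ← zpow_natCast, ← zpow_mul, mul_comm, zpow_mul, zpow_natCast, hzp, one_zpow]
  · rw [← QuotientGroup.eq_one_iff]
    show QuotientGroup.mk' M ⁅x, y⁆ = 1
    rw [map_commutatorElement, commutatorElement_eq_one_iff_mul_comm]
    obtain ⟨i, hi⟩ := hmem (QuotientGroup.mk' M x)
    obtain ⟨j, hj⟩ := hmem (QuotientGroup.mk' M y)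
    rw [← hi, ← hj, ← zpow_add, ← zpow_add, add_comm]

/-- the subgroup generated by `p`-th powers covers nothing: it consists of non-generators -/
theorem sup_agemo_eq_top {X : Type u} [Group X] [Finite X] (hX : IsPGroup p X) {H : Subgroup X}
    (h : H ⊔ agemo p (⊤ : Subgroup X) = ⊤) : H = ⊤ := by
  by_contra hne
  obtain ⟨M, hM, hHM⟩ := (eq_top_or_exists_le_coatom H).resolve_left hne
  refine hM.1 (eq_top_iff.2 (h ▸ sup_le hHM ((Subgroup.closure_le _).2 ?_)))
  rintro _ ⟨x, -, rfl⟩
  exact (isCoatom_facts hX hM x).1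

/-- Huppert: a small `Ω₁` forces a metacyclic group -/
theorem metacyclic {R : Type u} [Group R] [Finite R] (hp : 3 < p) (hR : IsPGroup p R)
    (h : SmallOmega p R) : Cfsg.IsMetacyclic R := by
  set U := agemo p (⊤ : Subgroup R) with hU
  haveI hUn : U.Normal := agemo_normal _
  obtain ⟨hidx, hpow⟩ := index_agemo_le hp hR h
  by_cases hsm : U.index ≤ p
  · haveI := isCyclic_of_index_le_prime hR hsm fun H hH => sup_agemo_eq_top hR hH
    exact ⟨⊤, inferInstance, isCyclic_of_surjective Subgroup.topEquiv.symm.toMonoidHom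
      Subgroup.topEquiv.symm.surjective, isCyclic_of_surjective (QuotientGroup.mk' (⊤ : Subgroup R))
      (QuotientGroup.mk'_surjective _)⟩
  have hU2 : U.index = p ^ 2 := by
    obtain ⟨k, hk⟩ := IsPGroup.iff_card.1 (hR.to_quotient U)
    rw [← Subgroup.index_eq_card] at hk
    rw [hk] at hidx hsm ⊢
    have h2 : k ≤ 2 := (Nat.pow_le_pow_iff_right (Fact.out (p := p.Prime)).one_lt).1 hidx
    have h1 : 1 < k := by
      by_contra h'
      exact hsm ((Nat.pow_le_pow_right (Fact.out (p := p.Prime)).pos (show k ≤ 1 by omega)).trans (pow_one p).le)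
    rw [show k = 2 by omega]
  -- two generators
  have hqc : ∀ u v : R ⧸ U, u * v = v * u := fun u v =>
    OddLocal.comm_of_card_le_sq (hR.to_quotient U) (by rw [← Subgroup.index_eq_card, hU2]) u v
  have hderU : commutator R ≤ U := by
    rw [commutator_def, Subgroup.commutator_le]
    intro a _ b _
    rw [← QuotientGroup.eq_one_iff]
    show QuotientGroup.mk' U ⁅a, b⁆ = 1
    rw [map_commutatorElement]
    exact commutatorElement_eq_one_iff_mul_comm.2 (hqc _ _)
  have hexpQ : ∀ w : R ⧸ U, w ^ p = 1 := fun w => by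
    induction w using QuotientGroup.induction_on with | H r => ?_
    rw [← QuotientGroup.mk_pow, QuotientGroup.eq_one_iff]
    exact Subgroup.subset_closure ⟨r, Subgroup.mem_top r, rfl⟩
  have hgen2 : ∀ x : R, x ∉ U → ∃ y : R, Subgroup.closure ({x, y} : Set R) = ⊤ := by
    intro x hx
    have hne : (x : R ⧸ U) ≠ 1 := fun h' => hx ((QuotientGroup.eq_one_iff x).1 h')
    have hzx : Nat.card (Subgroup.zpowers (x : R ⧸ U)) = p := by
      rw [Nat.card_zpowers]; exact orderOf_eq_prime (hexpQ _) hne
    obtain ⟨w, hw⟩ : ∃ w : R ⧸ U, w ∉ Subgroup.zpowers (x : R ⧸ U) := by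
      by_contra hcon
      push_neg at hcon
      have h1 : Nat.card (Subgroup.zpowers (x : R ⧸ U)) = Nat.card (R ⧸ U) := by
        rw [(Subgroup.eq_top_iff' _).2 hcon, Subgroup.card_top]
      rw [hzx, ← Subgroup.index_eq_card, hU2] at h1
      nlinarith [(Fact.out (p := p.Prime)).two_le]
    obtain ⟨y, rfl⟩ := QuotientGroup.mk_surjective w
    refine ⟨y, sup_agemo_eq_top hR ?_⟩
    set K := (Subgroup.closure ({x, y} : Set R)).map (QuotientGroup.mk' U) with hK
    have hlt : Subgroup.zpowers (x : R ⧸ U) < K := by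
      refine lt_of_le_of_ne (Subgroup.zpowers_le.2 ⟨x, Subgroup.subset_closure (Set.mem_insert _ _), rfl⟩) fun h' => hw ?_
      rw [h']
      exact ⟨y, Subgroup.subset_closure (Set.mem_insert_of_mem _ rfl), rfl⟩
    obtain ⟨k, hk⟩ := IsPGroup.iff_card.1 ((hR.to_quotient U).to_subgroup K)
    have hKtop : K = ⊤ := by
      refine Subgroup.eq_top_of_le_card _ ?_
      rw [← Subgroup.index_eq_card, hU2, hk]
      refine Nat.pow_le_pow_right (Fact.out (p := p.Prime)).pos ?_
      have h3 : Nat.card (Subgroup.zpowers (x : R ⧸ U)) < Nat.card K :=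
        lt_of_le_of_ne (Subgroup.card_le_of_le hlt.le)
          fun h' => hlt.ne (Subgroup.eq_of_le_of_card_ge hlt.le h'.ge)
      rw [hzx, hk] at h3
      by_contra h'
      have := Nat.pow_le_pow_right (Fact.out (p := p.Prime)).pos (show k ≤ 1 by omega)
      rw [pow_one] at this
      omega
    rw [eq_top_iff]
    intro r _
    have hr : (QuotientGroup.mk' U r) ∈ K := hKtop ▸ Subgroup.mem_top _
    obtain ⟨c, hc, hcr⟩ := hr
    have hcu : c⁻¹ * r ∈ U := QuotientGroup.eq.1 hcr
    have := Subgroup.mul_mem _ (Subgroup.mem_sup_left (T := agemo p ⊤) hc) (Subgroup.mem_sup_right hcu)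
    rwa [mul_inv_cancel_left] at this
  obtain ⟨a, ha⟩ : ∃ a : R, a ∉ U := by
    by_contra hcon
    push_neg at hcon
    rw [(Subgroup.eq_top_iff' U).2 hcon, Subgroup.index_top] at hU2
    have h3 := Nat.pow_le_pow_left (Fact.out (p := p.Prime)).two_le 2
    rw [← hU2] at h3
    omega
  obtain ⟨b, hab⟩ := hgen2 a ha
  -- the derived subgroup is cyclic
  set D := commutator R with hD
  set V := agemo p D with hV
  haveI : V.Normal := agemo_normal _
  have hVD : V ≤ D := (Subgroup.closure_le _).2 (by rintro _ ⟨d, hd, rfl⟩; exact pow_mem hd p)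
  have hDcyc : IsCyclic D := by
    set Q := R ⧸ V
    set f := QuotientGroup.mk' V with hf
    have hQp : IsPGroup p Q := hR.to_quotient V
    have hQs : SmallOmega p Q := smallOmega_quotient hp hR h V
    have hDp : ∀ d ∈ D, (f d) ^ p = 1 := fun d hd => by
      rw [← map_pow]; exact (QuotientGroup.eq_one_iff _).2 (Subgroup.subset_closure ⟨d, hd, rfl⟩)
    have hmapD : commutator Q = D.map f := by
      rw [hD, map_commutator_eq, MonoidHom.range_eq_top.2 (QuotientGroup.mk'_surjective V), commutator_def]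
    have hQD : ∀ w ∈ commutator Q, w ^ p = 1 := by
      intro w hw
      rw [hmapD] at hw
      obtain ⟨d, hd, rfl⟩ := hw
      exact hDp d hd
    have hreg : Cfsg.IsRegularPGroup p Q := by
      refine Cfsg.Agent.S4209.result hQp ?_
      have hc1 : Nat.card (commutator Q) ≤ p ^ 2 :=
        le_trans (Subgroup.card_le_of_le fun w hw => Subgroup.subset_closure (hQD w hw)) hQs
      have step : ∀ k, (⊤ : Subgroup Q).lowerCentralSeries k = ⊥ ∨
          (⊤ : Subgroup Q).lowerCentralSeries (k + 1) ≠ (⊤ : Subgroup Q).lowerCentralSeries k := fun k => by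
        by_cases h0 : (⊤ : Subgroup Q).lowerCentralSeries k = ⊥
        · exact Or.inl h0
        · exact Or.inr fun h' => h0 (eq_bot_of_commutator_top hQp (by
            rw [← Subgroup.lowerCentralSeries_succ]; exact h'))
      have hdec : ∀ k, (⊤ : Subgroup Q).lowerCentralSeries k = ⊥ ∨
          p * Nat.card ↥((⊤ : Subgroup Q).lowerCentralSeries (k + 1)) ≤
            Nat.card ↥((⊤ : Subgroup Q).lowerCentralSeries k) := fun k => by
        rcases step k with h0 | h0
        · exact Or.inl h0
        right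
        have hle : (⊤ : Subgroup Q).lowerCentralSeries (k + 1) ≤ (⊤ : Subgroup Q).lowerCentralSeries k :=
          Subgroup.lowerCentralSeries_antitone _ (Nat.le_succ k)
        obtain ⟨i, hi⟩ := IsPGroup.iff_card.1 (hQp.to_subgroup ((⊤ : Subgroup Q).lowerCentralSeries (k + 1)))
        obtain ⟨j, hj⟩ := IsPGroup.iff_card.1 (hQp.to_subgroup ((⊤ : Subgroup Q).lowerCentralSeries k))
        have hlt : p ^ i < p ^ j := hi ▸ hj ▸ lt_of_le_of_ne (Subgroup.card_le_of_le hle)
          fun h' => h0 (Subgroup.eq_of_le_of_card_ge hle h'.ge)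
        rw [hi, hj, ← pow_succ']
        exact Nat.pow_le_pow_right (Fact.out (p := p.Prime)).pos
          ((Nat.pow_lt_pow_iff_right (Fact.out (p := p.Prime)).one_lt).1 hlt)
      have h1 : (⊤ : Subgroup Q).lowerCentralSeries 1 = commutator Q := by
        rw [Subgroup.lowerCentralSeries_succ, Subgroup.lowerCentralSeries_zero, commutator_def]
      have h3 : (⊤ : Subgroup Q).lowerCentralSeries 3 = ⊥ := by
        have hanti := Subgroup.lowerCentralSeries_antitone (⊤ : Subgroup Q)
        rcases hdec 1 with e | e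
        · exact le_bot_iff.1 (e ▸ hanti (by omega))
        rcases hdec 2 with e' | e'
        · exact le_bot_iff.1 (e' ▸ hanti (by omega))
        refine Subgroup.card_eq_one.1 (le_antisymm ?_ Nat.card_pos)
        rw [h1] at e
        refine Nat.le_of_mul_le_mul_left ?_ (pow_pos (Fact.out (p := p.Prime)).pos 2)
        calc p ^ 2 * Nat.card ↥((⊤ : Subgroup Q).lowerCentralSeries 3)
            = p * (p * Nat.card ↥((⊤ : Subgroup Q).lowerCentralSeries 3)) := by ring
          _ ≤ p * Nat.card ↥((⊤ : Subgroup Q).lowerCentralSeries 2) := Nat.mul_le_mul_left _ e'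
          _ ≤ p ^ 2 * 1 := by rw [mul_one]; exact e.trans hc1
      exact le_bot_iff.1 (h3 ▸ Subgroup.lowerCentralSeries_antitone _ (by omega))
    have hcen : ∀ u v : Q, u ^ p * v = v * u ^ p := fun u v => by
      have := (Cfsg.Agent.S4224.result hreg u v 1).2 (by
        rw [pow_one]
        refine hQD _ ?_
        rw [show u⁻¹ * v⁻¹ * u * v = ⁅u⁻¹, v⁻¹⁆ by rw [commutatorElement_def]; group]
        exact Subgroup.commutator_mem_commutator (Subgroup.mem_top _) (Subgroup.mem_top _))
      rwa [pow_one] at this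
    have hUc : U.map f ≤ Subgroup.center Q := by
      rw [Subgroup.map_le_iff_le_comap, hU, agemo, Subgroup.closure_le]
      rintro _ ⟨x, -, rfl⟩
      rw [SetLike.mem_coe, Subgroup.mem_comap, map_pow, Subgroup.mem_center_iff]
      exact fun g => (hcen (f x) g).symm
    have hcD : D.map f ≤ Subgroup.center Q := (Subgroup.map_mono hderU).trans hUc
    -- everything is a power of one commutator
    have hcab : ⁅a, b⁆ ∈ D := Subgroup.commutator_mem_commutator (Subgroup.mem_top _) (Subgroup.mem_top _)
    let C := Subgroup.zpowers ⁅a, b⁆ ⊔ V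
    have hC : D ≤ C := by
      let Cz := Subgroup.zpowers (f ⁅a, b⁆)
      have hcz : f ⁅a, b⁆ ∈ Subgroup.center Q := hcD ⟨_, hcab, rfl⟩
      haveI : Cz.Normal := ⟨fun t ht g => by
        rw [Subgroup.mem_center_iff.1 (Subgroup.zpowers_le.2 hcz ht) g, mul_inv_cancel_right]; exact ht⟩
      intro d hd
      have hgenQ : ∀ q : Q ⧸ Cz, q ∈ Subgroup.closure
          ({QuotientGroup.mk' Cz (f a), QuotientGroup.mk' Cz (f b)} : Set (Q ⧸ Cz)) := fun q => by
        obtain ⟨q, rfl⟩ := QuotientGroup.mk_surjective q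
        obtain ⟨r, rfl⟩ := QuotientGroup.mk'_surjective V q
        have := Subgroup.mem_map_of_mem ((QuotientGroup.mk' Cz).comp f) (hab ▸ Subgroup.mem_top r : r ∈ Subgroup.closure {a, b})
        rwa [MonoidHom.map_closure, Set.image_pair] at this
      have hcc : Commute (QuotientGroup.mk' Cz (f a)) (QuotientGroup.mk' Cz (f b)) := by
        rw [commute_iff_eq, ← commutatorElement_eq_one_iff_mul_comm, ← map_commutatorElement,
          ← map_commutatorElement]
        exact (QuotientGroup.eq_one_iff _).2 (Subgroup.mem_zpowers _)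
      haveI := Subgroup.isMulCommutative_closure
        (k := ({QuotientGroup.mk' Cz (f a), QuotientGroup.mk' Cz (f b)} : Set (Q ⧸ Cz))) (by
        rintro u (rfl | rfl) v (rfl | rfl)
        · rfl
        · exact hcc.eq
        · exact hcc.eq.symm
        · rfl)
      have hfd : f d ∈ Cz := by
        have hle : commutator Q ≤ Cz := by
          rw [commutator_def, Subgroup.commutator_le]
          intro u _ v _
          rw [← QuotientGroup.eq_one_iff]
          show QuotientGroup.mk' Cz ⁅u, v⁆ = 1
          rw [map_commutatorElement, commutatorElement_eq_one_iff_mul_comm]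
          exact Subgroup.mul_comm_of_mem_isMulCommutative _ (hgenQ _) (hgenQ _)
        exact hle (hmapD ▸ ⟨d, hd, rfl⟩)
      obtain ⟨i, hi⟩ := Subgroup.mem_zpowers_iff.1 hfd
      rw [← map_zpow] at hi
      have hv : (⁅a, b⁆ ^ i)⁻¹ * d ∈ V := QuotientGroup.eq.1 hi
      have := Subgroup.mul_mem C (Subgroup.mem_sup_left (Subgroup.zpow_mem_zpowers _ i)) (Subgroup.mem_sup_right hv)
      rwa [mul_inv_cancel_left] at this
    let g : D := ⟨⁅a, b⁆, hcab⟩
    have htop : Subgroup.zpowers g = ⊤ := by
      refine sup_agemo_eq_top (hR.to_subgroup D) (eq_top_iff.2 fun d _ => ?_)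
      have hle : C ≤ (Subgroup.zpowers g ⊔ agemo p (⊤ : Subgroup D)).map D.subtype := by
        refine sup_le (Subgroup.zpowers_le.2 ⟨g, Subgroup.mem_sup_left (Subgroup.mem_zpowers g), rfl⟩)
          ((Subgroup.closure_le _).2 ?_)
        rintro _ ⟨x, hx, rfl⟩
        exact ⟨⟨x, hx⟩ ^ p, Subgroup.mem_sup_right (Subgroup.subset_closure ⟨⟨x, hx⟩, Subgroup.mem_top _, rfl⟩), rfl⟩
      obtain ⟨d', hd', hdd⟩ := hle (hC d.2)
      obtain rfl : d' = d := Subtype.ext hdd
      exact hd'
    exact ⟨⟨g, fun x => Subgroup.mem_zpowers_iff.1 (htop.ge (Subgroup.mem_top x))⟩⟩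
  -- extend a generator of the derived subgroup to a generator
  obtain ⟨g, hg⟩ := hDcyc.exists_generator
  have hx : ∃ x : R, x ∉ U ∧ D ≤ Subgroup.zpowers x := by
    by_cases hD0 : D = ⊥
    · exact ⟨a, ha, hD0.le.trans bot_le⟩
    obtain ⟨x, hxD, hxmax⟩ := (Set.toFinite {x : R | D ≤ Subgroup.zpowers x}).exists_maximalFor
      (fun x => orderOf x) _ ⟨(g : R), fun d hd => by
        obtain ⟨i, hi⟩ := Subgroup.mem_zpowers_iff.1 (hg ⟨d, hd⟩)
        exact Subgroup.mem_zpowers_iff.2 ⟨i, by rw [← Subgroup.coe_zpow, hi]⟩⟩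
    refine ⟨x, fun hxU => ?_, hxD⟩
    obtain ⟨w, hw⟩ := hpow hU2 x hxU
    have hwD : D ≤ Subgroup.zpowers w :=
      hxD.trans (Subgroup.zpowers_le.2 (hw ▸ Subgroup.pow_mem _ (Subgroup.mem_zpowers w) p))
    have hx1 : x ≠ 1 := fun h1 => hD0 (le_bot_iff.1 (by
      have h2 : D ≤ Subgroup.zpowers x := hxD
      rwa [h1, Subgroup.zpowers_one_eq_bot] at h2))
    obtain ⟨k, hk⟩ := hR.exists_orderOf_eq_pow w
    have hk0 : k ≠ 0 := by
      rintro rfl
      rw [pow_zero, orderOf_eq_one_iff] at hk
      exact hx1 (by rw [← hw, hk, one_pow])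
    have hox : orderOf x = p ^ (k - 1) := by
      rw [← hw, orderOf_pow, hk, Nat.gcd_eq_right (dvd_pow_self p hk0)]
      conv_lhs => rw [show k = (k - 1) + 1 by omega, pow_succ, Nat.mul_div_cancel _ (Fact.out (p := p.Prime)).pos]
    have hlt : orderOf x < orderOf w := by
      rw [hox, hk]; exact Nat.pow_lt_pow_right (Fact.out (p := p.Prime)).one_lt (by omega)
    exact absurd (hxmax hwD hlt.le) (not_le.2 hlt)
  obtain ⟨x, hxU, hxD⟩ := hx
  obtain ⟨y, hxy⟩ := hgen2 x hxU
  haveI hNn : (Subgroup.zpowers x).Normal := ⟨fun t ht r => by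
    have hc : ⁅r, t⁆ ∈ Subgroup.zpowers x :=
      hxD (Subgroup.commutator_mem_commutator (Subgroup.mem_top r) (Subgroup.mem_top t))
    rw [show r * t * r⁻¹ = ⁅r, t⁆ * t by rw [commutatorElement_def]; group]
    exact mul_mem hc ht⟩
  refine ⟨Subgroup.zpowers x, hNn, inferInstance, ⟨⟨(y : R ⧸ Subgroup.zpowers x), fun q => ?_⟩⟩⟩
  obtain ⟨r, rfl⟩ := QuotientGroup.mk_surjective q
  have hle : Subgroup.closure ({x, y} : Set R) ≤
      (Subgroup.zpowers (y : R ⧸ Subgroup.zpowers x)).comap (QuotientGroup.mk' (Subgroup.zpowers x)) := by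
    rw [Subgroup.closure_le]
    rintro z (rfl | rfl)
    · rw [SetLike.mem_coe, Subgroup.mem_comap, QuotientGroup.mk'_apply, (QuotientGroup.eq_one_iff z).2 (Subgroup.mem_zpowers z)]
      exact one_mem _
    · exact Subgroup.mem_zpowers _
  exact hle (hxy ▸ Subgroup.mem_top r)

end Cfsg.Agent.Lib.HuppertTwo
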