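import Cfsg.Agent.Lib.PGroups.MaximalClass
import Cfsg.Agent.Lib.Classification.CyclicNormalAbelian
import Mathlib

/-!
2-groups of maximal class: index of the derived group, cyclic subgroup of index 2, class.
-/

set_option autoImplicit false

namespace Cfsg.Agent.Lib.PGroups

universe u

variable {S : Type u} [Group S] [Finite S]

open scoped commutatorElement

/-- In a 2-group of maximal class the derived group has index 4 and contains all squares. -/
theorem maximal_class_index (hS : IsPGroup 2 S) (n : ℕ) (hn : Nat.card S = 2 ^ n) (h3 : 3 ≤ n)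
    (hc : Group.nilpotencyClass S = n - 1) :
    (commutator S).index = 4 ∧ ∀ x : S, x ^ 2 ∈ commutator S := by
  haveI : Fact (Nat.Prime 2) := ⟨Nat.prime_two⟩
  haveI := hS.isNilpotent
  have h8 : 8 ≤ Nat.card S := by
    rw [hn]; calc 8 = 2 ^ 3 := by norm_num
      _ ≤ 2 ^ n := Nat.pow_le_pow_right (by norm_num) h3
  have hna : ∀ K : Subgroup S, commutator S ⊔ K = ⊤ → IsCyclic K → False := by
    intro K hK hKc
    have hKt : K = ⊤ := frattini_nongenerating (top_le_iff.mp (hK ▸ sup_le
      (le_sup_of_le_right (Coprime.commutator_le_frattini_of_isPGroup hS)) le_sup_left))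
    obtain ⟨g, hg⟩ := isCyclic_iff_exists_zpowers_eq_top.mp hKc
    have h1 : (⊤ : Subgroup S).lowerCentralSeries 1 = ⊥ := by
      rw [Subgroup.top_lowerCentralSeries_one, eq_bot_iff, commutator_def, Subgroup.commutator_le]
      intro a _ b _
      obtain ⟨i, hi⟩ := Subgroup.mem_zpowers_iff.mp (hg.ge (Subgroup.mem_top (⟨a, hKt.ge trivial⟩ : K)))
      obtain ⟨j, hj⟩ := Subgroup.mem_zpowers_iff.mp (hg.ge (Subgroup.mem_top (⟨b, hKt.ge trivial⟩ : K)))
      have hcm := congrArg Subtype.val (show (g ^ i) * g ^ j = g ^ j * g ^ i by rw [← zpow_add, ← zpow_add, add_comm])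
      rw [hi, hj] at hcm
      rw [Subgroup.mem_bot, commutatorElement_eq_one_iff_mul_comm]
      exact hcm
    rw [Subgroup.lowerCentralSeries_eq_bot_iff_nilpotencyClass_le, hc] at h1
    omega
  obtain ⟨a, ha⟩ := IsPGroup.iff_card.mp (hS.to_subgroup (commutator S))
  have hidx : (commutator S).index = 2 ^ (n - a) ∧ a ≤ n := by
    have h := (commutator S).card_mul_index
    rw [ha, hn] at h
    have han : a ≤ n := (Nat.pow_dvd_pow_iff_le_right (by norm_num)).mp (h ▸ dvd_mul_right _ _)
    refine ⟨Nat.eq_of_mul_eq_mul_left (Nat.two_pow_pos a) ?_, han⟩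
    rw [h, ← pow_add]; congr 1; omega
  -- the lower central series descends strictly
  have hdesc : ∀ i, (⊤ : Subgroup S).lowerCentralSeries (i + 1) = ⊥ ∨
      ∃ b, Nat.card ((⊤ : Subgroup S).lowerCentralSeries (i + 1)) = 2 ^ b ∧ b + i ≤ a := by
    intro i
    induction i with
    | zero => exact Or.inr ⟨a, by rw [Subgroup.top_lowerCentralSeries_one, ha], le_rfl⟩
    | succ i ih =>
      rcases ih with h | ⟨b, hb, hbi⟩
      · exact Or.inl (le_bot_iff.mp (h ▸ (⊤ : Subgroup S).lowerCentralSeries_antitone (Nat.le_succ _)))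
      · set L := fun j => (⊤ : Subgroup S).lowerCentralSeries j with hL
        by_cases he : L (i + 1 + 1) = L (i + 1)
        · left
          obtain ⟨N, hN⟩ := Subgroup.nilpotent_iff_lowerCentralSeries.mp (inferInstance : Group.IsNilpotent S)
          have hst : ∀ j, L (i + 1 + j) = L (i + 1) := by
            intro j
            induction j with
            | zero => rfl
            | succ j ihj =>
              show (⊤ : Subgroup S).lowerCentralSeries (i + 1 + j + 1) = _
              rw [Subgroup.lowerCentralSeries_succ]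
              rw [show (⊤ : Subgroup S).lowerCentralSeries (i + 1 + j) = L (i + 1) from ihj]
              rw [← Subgroup.lowerCentralSeries_succ]
              exact he
          show L (i + 1 + 1) = ⊥
          rw [he, ← hst N, eq_bot_iff, ← hN]
          exact (⊤ : Subgroup S).lowerCentralSeries_antitone (by omega)
        · right
          obtain ⟨c, hc'⟩ := IsPGroup.iff_card.mp (hS.to_subgroup (L (i + 1 + 1)))
          refine ⟨c, hc', ?_⟩
          have hle : L (i + 1 + 1) ≤ L (i + 1) :=
            (⊤ : Subgroup S).lowerCentralSeries_antitone (Nat.le_succ _)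
          have hlt : c < b := by
            by_contra hge
            refine he (Subgroup.eq_of_le_of_card_ge hle ?_)
            rw [hc', hb]
            exact Nat.pow_le_pow_right (by norm_num) (not_lt.mp hge)
          omega
  have ha2 : n - a ≤ 2 := by
    by_contra hlt
    have h4 : (⊤ : Subgroup S).lowerCentralSeries (n - 2) = ⊥ := by
      rcases hdesc (n - 3) with h | ⟨b, hb, hb'⟩
      · rwa [show n - 3 + 1 = n - 2 by omega] at h
      · rw [show n - 3 + 1 = n - 2 by omega] at hb
        refine Subgroup.card_eq_one.mp ?_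
        rw [hb, show b = 0 by omega, pow_zero]
    rw [Subgroup.lowerCentralSeries_eq_bot_iff_nilpotencyClass_le, hc] at h4
    omega
  have hgen : ∀ x : S, commutator S ⊔ Subgroup.zpowers x ≠ ⊤ := fun x h =>
    hna _ h (Subgroup.isCyclic_zpowers x)
  have hcyc : ∀ x : S, orderOf (x : S ⧸ commutator S) ≠ (commutator S).index := by
    intro x hx
    refine hgen x (eq_top_iff.mpr fun y _ => ?_)
    have htop : Subgroup.zpowers (x : S ⧸ commutator S) = ⊤ :=
      Subgroup.eq_top_of_card_eq _ (by rw [Nat.card_zpowers, hx, Subgroup.index])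
    obtain ⟨i, hi⟩ := Subgroup.mem_zpowers_iff.mp (htop.ge (Subgroup.mem_top (y : S ⧸ commutator S)))
    have h := Subgroup.mul_mem_sup ((inferInstance : (commutator S).Normal).conj_mem _
      (QuotientGroup.eq.mp (hi : ((x ^ i : S) : S ⧸ commutator S) = y)) (x ^ i))
      (Subgroup.zpow_mem _ (Subgroup.mem_zpowers x) i)
    have e : x ^ i * ((x ^ i)⁻¹ * y) * (x ^ i)⁻¹ * x ^ i = y := by group
    rwa [e] at h
  have h2 : n - a = 2 := by
    rcases Nat.lt_or_ge (n - a) 2 with h | h
    · exfalso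
      interval_cases hna' : n - a
      · refine hcyc 1 ?_
        rw [QuotientGroup.mk_one, orderOf_one, hidx.1, pow_zero]
      · obtain ⟨y, hy⟩ := exists_prime_orderOf_dvd_card' (G := S ⧸ commutator S) 2
          (by rw [← Subgroup.index, hidx.1, pow_one])
        obtain ⟨x, rfl⟩ := QuotientGroup.mk_surjective y
        exact hcyc x (by rw [hy, hidx.1, pow_one])
    · omega
  rw [h2] at hidx
  refine ⟨hidx.1, fun x => ?_⟩
  rw [← QuotientGroup.eq_one_iff, QuotientGroup.mk_pow]
  obtain ⟨j, hj⟩ := IsPGroup.iff_orderOf.mp (hS.to_quotient (commutator S)) (x : S ⧸ commutator S)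
  have hd : orderOf (x : S ⧸ commutator S) ∣ 2 ^ 2 := by
    rw [← hidx.1, Subgroup.index]; exact orderOf_dvd_natCard _
  rw [hj] at hd
  have hj2 := (Nat.pow_dvd_pow_iff_le_right (by norm_num)).mp hd
  refine orderOf_dvd_iff_pow_eq_one.mp ?_
  rw [hj]
  rcases Nat.lt_or_ge j 2 with h | h
  · interval_cases j <;> norm_num
  · exact absurd (hj.trans (by rw [show j = 2 by omega, hidx.1])) (hcyc x)


/-- A 2-group whose derived group has index 4 and contains all squares has a cyclic subgroup of
index 2 whose squares form the derived group, generated by one commutator. -/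
theorem index_four_data (hS : IsPGroup 2 S) (n : ℕ) (hn : Nat.card S = 2 ^ n) (h3 : 3 ≤ n)
    (hidx : (commutator S).index = 4) (hsq : ∀ x : S, x ^ 2 ∈ commutator S) :
    ∃ a b : S, orderOf a = 2 ^ (n - 1) ∧ (Subgroup.zpowers a).index = 2 ∧ b ∉ Subgroup.zpowers a ∧
      commutator S = Subgroup.zpowers (a ^ 2) ∧
      commutator S = Subgroup.zpowers (b * a * b⁻¹ * a⁻¹) := by
  obtain ⟨a, ha⟩ := exists_orderOf_half hS (by
    rw [hn]
    calc 8 = 2 ^ 3 := by norm_num
      _ ≤ 2 ^ n := Nat.pow_le_pow_right (by norm_num) h3) hidx hsq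
  have hao : orderOf a = 2 ^ (n - 1) := by
    rw [hn, show n = n - 1 + 1 by omega, pow_succ] at ha
    omega
  have hai : (Subgroup.zpowers a).index = 2 := by
    have h := (Subgroup.zpowers a).card_mul_index
    rw [Nat.card_zpowers, ← ha] at h
    have h0 : 0 < orderOf a := orderOf_pos a
    nlinarith
  obtain ⟨b, hb⟩ : ∃ b, b ∉ Subgroup.zpowers a := by
    by_contra hall
    push Not at hall
    rw [(Subgroup.eq_top_iff' _).mpr hall, Subgroup.index_top] at hai
    omega
  have h1 := commutator_le_zpowers_of_index_two hai (Subgroup.mem_zpowers a) le_sup_left hb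
  have hcc : b * a * b⁻¹ * a⁻¹ ∈ commutator S :=
    Subgroup.commutator_mem_commutator (Subgroup.mem_top b) (Subgroup.mem_top a)
  refine ⟨a, b, hao, hai, hb, ?_, le_antisymm h1 (Subgroup.zpowers_le.mpr hcc)⟩
  refine (Subgroup.eq_of_le_of_card_ge (Subgroup.zpowers_le.mpr (hsq a)) ?_).symm
  have h := (commutator S).card_mul_index
  rw [hidx] at h
  rw [Nat.card_zpowers, orderOf_pow' a (by norm_num : (2 : ℕ) ≠ 0), hao]
  rw [Nat.gcd_eq_right (dvd_pow_self 2 (by omega : n - 1 ≠ 0))]
  have e : 2 ^ (n - 1) = 2 ^ (n - 2) * 2 := by rw [← pow_succ]; congr 1; omega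
  have e2 : 2 ^ n = 2 ^ (n - 2) * 4 := by
    rw [show (4 : ℕ) = 2 ^ 2 by norm_num, ← pow_add]; congr 1; omega
  rw [e, Nat.mul_div_cancel _ two_pos]
  omega

/-- Such a group has maximal class. -/
theorem maximal_class_of_index_four (hS : IsPGroup 2 S) (n : ℕ) (hn : Nat.card S = 2 ^ n)
    (h3 : 3 ≤ n) (hidx : (commutator S).index = 4) (hsq : ∀ x : S, x ^ 2 ∈ commutator S) :
    Group.nilpotencyClass S = n - 1 := by
  haveI : Fact (Nat.Prime 2) := ⟨Nat.prime_two⟩
  haveI := hS.isNilpotent
  obtain ⟨a, b, hao, hai, hb, hD, hDc⟩ := index_four_data hS n hn h3 hidx hsq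
  set c := b * a * b⁻¹ * a⁻¹ with hc
  set A := Subgroup.zpowers a with hA
  have hlow : ∀ i, 1 ≤ i → a ^ 2 ^ i ∈ (⊤ : Subgroup S).lowerCentralSeries i := by
    intro i hi
    induction i, hi using Nat.le_induction with
    | base => rw [Subgroup.top_lowerCentralSeries_one, hD, pow_one]; exact Subgroup.mem_zpowers _
    | succ i hi ih =>
      have hcA : c ∈ A := by
        have : c ∈ Subgroup.zpowers (a ^ 2) := hD ▸ hDc.ge (Subgroup.mem_zpowers c)
        exact Subgroup.zpowers_le.mpr (pow_mem (Subgroup.mem_zpowers a) 2) this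
      have hc1 : ⁅a ^ 2 ^ i, b⁆ = (c ^ 2 ^ i)⁻¹ := by
        have hcomm : Commute c a := by
          obtain ⟨j, hj⟩ := Subgroup.mem_zpowers_iff.mp hcA
          rw [← hj]; exact (Commute.refl a).zpow_left j
        have h1 : b * a ^ 2 ^ i * b⁻¹ = c ^ 2 ^ i * a ^ 2 ^ i := by
          rw [← hcomm.mul_pow, hc, inv_mul_cancel_right, conj_pow]
        rw [commutatorElement_def]
        calc a ^ 2 ^ i * b * (a ^ 2 ^ i)⁻¹ * b⁻¹ = a ^ 2 ^ i * (b * a ^ 2 ^ i * b⁻¹)⁻¹ := by group
          _ = (c ^ 2 ^ i)⁻¹ := by rw [h1]; group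
      have hmem : c ^ 2 ^ i ∈ (⊤ : Subgroup S).lowerCentralSeries (i + 1) := by
        rw [Subgroup.lowerCentralSeries_succ, ← inv_inv (c ^ 2 ^ i), ← hc1]
        exact inv_mem (Subgroup.commutator_mem_commutator ih (Subgroup.mem_top b))
      obtain ⟨j, hj⟩ := Subgroup.mem_zpowers_iff.mp
        (hDc.le (hD.ge (Subgroup.mem_zpowers (a ^ 2))))
      have e : a ^ 2 ^ (i + 1) = (c ^ 2 ^ i) ^ j := by
        rw [pow_succ', pow_mul, ← hj, ← zpow_natCast, ← zpow_mul, ← zpow_natCast, ← zpow_mul,
          mul_comm]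
      rw [e]
      exact zpow_mem hmem j
  have hne : (⊤ : Subgroup S).lowerCentralSeries (n - 2) ≠ ⊥ := by
    intro h
    have h1 := hlow (n - 2) (by omega)
    rw [h, Subgroup.mem_bot, ← orderOf_dvd_iff_pow_eq_one, hao,
      Nat.pow_dvd_pow_iff_le_right (by norm_num)] at h1
    omega
  have hlt : ¬ Group.nilpotencyClass S ≤ n - 2 := fun h =>
    hne (Subgroup.lowerCentralSeries_eq_bot_iff_nilpotencyClass_le.mpr h)
  have hup : Group.nilpotencyClass S ≤ n - 1 := by
    rw [← Subgroup.lowerCentralSeries_eq_bot_iff_nilpotencyClass_le]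
    have hup' : ∀ i, 1 ≤ i → (⊤ : Subgroup S).lowerCentralSeries i ≤ Subgroup.zpowers (a ^ 2 ^ i) := by
      intro i hi
      induction i, hi using Nat.le_induction with
      | base => rw [Subgroup.top_lowerCentralSeries_one, hD, pow_one]
      | succ i hi ih =>
        rw [Subgroup.lowerCentralSeries_succ, Subgroup.commutator_le]
        intro u hu s _
        obtain ⟨t, rfl⟩ := Subgroup.mem_zpowers_iff.mp (ih hu)
        have hd : s * a * s⁻¹ * a⁻¹ ∈ Subgroup.zpowers (a ^ 2) := hD ▸
          (Subgroup.commutator_mem_commutator (Subgroup.mem_top s) (Subgroup.mem_top a))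
        obtain ⟨j, hj⟩ := Subgroup.mem_zpowers_iff.mp hd
        have hs : s * a * s⁻¹ = a ^ (2 * j + 1) := by
          rw [zpow_add, zpow_one, zpow_mul, zpow_ofNat, hj, inv_mul_cancel_right]
        rw [Subgroup.mem_zpowers_iff]
        refine ⟨-(t * j), ?_⟩
        rw [commutatorElement_def]
        calc (a ^ 2 ^ (i + 1)) ^ (-(t * j))
            = (a ^ 2 ^ i) ^ t * ((a ^ (2 * j + 1)) ^ (((2 ^ i : ℕ) : ℤ) * t))⁻¹ := by
              rw [← zpow_natCast a (2 ^ (i + 1)), ← zpow_natCast a (2 ^ i), ← zpow_mul, ← zpow_mul,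
                ← zpow_mul, ← zpow_neg, ← zpow_add]
              congr 1
              push_cast
              ring
          _ = _ := by
              rw [← hs, conj_zpow, zpow_mul, zpow_natCast]
              group
    refine le_bot_iff.mp ((hup' (n - 1) (by omega)).trans ?_)
    rw [← hao, pow_orderOf_eq_one, Subgroup.zpowers_one_eq_bot]
  omega

/-- The central quotient is dihedral. -/
theorem center_quotient_dihedral (hS : IsPGroup 2 S) (n : ℕ) (hn : Nat.card S = 2 ^ n)
    (h3 : 3 ≤ n) (hidx : (commutator S).index = 4) (hsq : ∀ x : S, x ^ 2 ∈ commutator S) :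
    Nonempty (S ⧸ Subgroup.center S ≃* DihedralGroup (2 ^ (n - 2))) := by
  haveI : Fact (Nat.Prime 2) := ⟨Nat.prime_two⟩
  obtain ⟨a, b, hao, hai, hb, hD, hDc⟩ := index_four_data hS n hn h3 hidx hsq
  set c := b * a * b⁻¹ * a⁻¹ with hc
  set A := Subgroup.zpowers a with hA
  set Z := Subgroup.center S
  haveI : A.Normal := Subgroup.normal_of_index_eq_two hai
  have hAA : ∀ x ∈ A, Commute a x := by
    intro x hx
    obtain ⟨j, rfl⟩ := Subgroup.mem_zpowers_iff.mp hx
    exact (Commute.refl a).zpow_right j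
  have hgen : ∀ y ∉ A, ∀ x : S, Commute x y → Commute x a → x ∈ Z := by
    intro y hy x hxy hxa
    rw [Subgroup.mem_center_iff]
    intro g
    have hxA : ∀ h ∈ A, Commute x h := by
      intro h hh
      obtain ⟨j, rfl⟩ := Subgroup.mem_zpowers_iff.mp hh
      exact hxa.zpow_right j
    by_cases hg : g ∈ A
    · exact (hxA g hg).symm
    · have h1 : g * y⁻¹ ∈ A := (Subgroup.mul_mem_iff_of_index_two hai).mpr
        ⟨fun h => absurd h hg, fun h => absurd (inv_mem_iff.mp h) hy⟩
      have h2 := (hxA _ h1).mul_right hxy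
      rw [inv_mul_cancel_right] at h2
      exact h2.symm
  have hsqZ : ∀ y ∉ A, y ^ 2 ∈ Z := fun y hy =>
    hgen y hy _ ((Commute.refl y).pow_left 2)
      (hAA _ (by rw [pow_two]; exact Subgroup.mul_self_mem_of_index_two hai y)).symm
  have hcA : c ∈ A := by
    have : c ∈ Subgroup.zpowers (a ^ 2) := hD ▸ hDc.ge (Subgroup.mem_zpowers c)
    exact Subgroup.zpowers_le.mpr (pow_mem (Subgroup.mem_zpowers a) 2) this
  have hco : orderOf c = 2 ^ (n - 2) := by
    have h := congrArg (fun H : Subgroup S => Nat.card H) (hDc.symm.trans hD)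
    simp only [Nat.card_zpowers] at h
    rw [h, orderOf_pow' a (by norm_num : (2 : ℕ) ≠ 0), hao,
      Nat.gcd_eq_right (dvd_pow_self 2 (by omega : n - 1 ≠ 0))]
    rw [show n - 1 = n - 2 + 1 by omega, pow_succ, Nat.mul_div_cancel _ two_pos]
  have hbig : 2 ≤ 2 ^ (n - 2) := le_self_pow (by norm_num) (by omega)
  -- powers of `a` in the centre
  have hpowZ : ∀ j : ℕ, a ^ j ∈ Z ↔ 2 ^ (n - 2) ∣ j := by
    intro j
    rw [← hco, orderOf_dvd_iff_pow_eq_one]
    have hcj : c ^ j = b * a ^ j * b⁻¹ * (a ^ j)⁻¹ := by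
      rw [eq_mul_inv_iff_mul_eq, ← (hAA c hcA).symm.mul_pow, hc, inv_mul_cancel_right, conj_pow]
    constructor
    · intro h
      rw [hcj, Subgroup.mem_center_iff.mp h b]; group
    · intro h
      rw [hcj] at h
      refine hgen b hb _ ?_ ((Commute.refl a).pow_left j)
      rw [mul_inv_eq_one, mul_inv_eq_iff_eq_mul] at h
      exact h.symm
  set f := QuotientGroup.mk' Z
  have hfo : orderOf (f a) = 2 ^ (n - 2) := by
    refine Nat.dvd_antisymm ?_ ?_
    · rw [orderOf_dvd_iff_pow_eq_one, ← map_pow]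
      exact (QuotientGroup.eq_one_iff _).mpr ((hpowZ _).mpr dvd_rfl)
    · refine (hpowZ _).mp ((QuotientGroup.eq_one_iff _).mp ?_)
      show f _ = 1
      rw [map_pow, pow_orderOf_eq_one]
  have hba : b * a ∉ A := fun h => hb (by simpa using mul_mem h (inv_mem (Subgroup.mem_zpowers a)))
  have hf2 : f b ^ 2 = 1 := by rw [← map_pow]; exact (QuotientGroup.eq_one_iff _).mpr (hsqZ b hb)
  have hfinv : f b * f a * (f b)⁻¹ = (f a)⁻¹ := by
    have h1 : f (b * a) ^ 2 = 1 := by rw [← map_pow]; exact (QuotientGroup.eq_one_iff _).mpr (hsqZ _ hba)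
    have e : (f b)⁻¹ = f b := inv_eq_of_mul_eq_one_left (by rw [← pow_two, hf2])
    rw [e]
    rw [map_mul, pow_two, ← mul_assoc] at h1
    exact eq_inv_of_mul_eq_one_left h1
  have hfb : f b ∉ Subgroup.zpowers (f a) := by
    intro h
    obtain ⟨j, hj⟩ := Subgroup.mem_zpowers_iff.mp h
    have h1 : (a ^ j)⁻¹ * b ∈ Z := (QuotientGroup.eq_one_iff _).mp (by
      show f _ = 1
      rw [map_mul, map_inv, map_zpow, hj, inv_mul_cancel])
    have h2 : b = a ^ j * ((a ^ j)⁻¹ * b) := by group
    have h3 : Commute b a := by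
      rw [h2]
      exact ((Commute.refl a).zpow_left j).mul_left (Subgroup.mem_center_iff.mp h1 a).symm
    have : c = 1 := by rw [hc, h3.eq]; group
    rw [this, orderOf_one] at hco
    omega
  refine Classification.mulEquiv_dihedralGroup_of_generators (n := 2 ^ (n - 2)) hfo hfinv hf2 hfb ?_
  have hZA : Z = Subgroup.zpowers (a ^ 2 ^ (n - 2)) := by
    refine le_antisymm (fun z hz => ?_) (Subgroup.zpowers_le.mpr ((hpowZ _).mpr dvd_rfl))
    have hzA : z ∈ A := by
      by_contra hzA
      have h3 : Commute b a := (Subgroup.mem_center_iff.mp (hgen z hzA a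
        (Subgroup.mem_center_iff.mp hz a) (Commute.refl a)) b)
      have : c = 1 := by rw [hc, h3.eq]; group
      rw [this, orderOf_one] at hco
      omega
    obtain ⟨j, hj, rfl⟩ := (mem_powers_iff_mem_zpowers.mpr hzA)
    obtain ⟨d, rfl⟩ := (hpowZ _).mp hz
    exact ⟨d, by simp [pow_mul]⟩
  have hk := Z.card_eq_card_quotient_mul_card_subgroup
  have hc2 : Nat.card Z = 2 := by
    rw [hZA, Nat.card_zpowers, orderOf_pow' a (by positivity : (2 ^ (n - 2) : ℕ) ≠ 0), hao,
      Nat.gcd_eq_right (pow_dvd_pow 2 (by omega)), Nat.pow_div (by omega) two_pos,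
      show n - 1 - (n - 2) = 1 by omega, pow_one]
  have e4 : 2 ^ n = 2 ^ (n - 2) * 4 := by
    rw [show (4 : ℕ) = 2 ^ 2 by norm_num, ← pow_add]; congr 1; omega
  rw [hn, hc2] at hk
  show Nat.card (S ⧸ Z) = _
  omega

end Cfsg.Agent.Lib.PGroups
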