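import Cfsg.Agent.Lib.Classification.CyclicNormalAbelian
import Cfsg.Agent.Lib.PGroups.CyclicMaximal
import Cfsg.Agent.Lib.Coprime.Generation
import Cfsg.Agent.Lib.Solvable.Nilpotent
import Mathlib

/-!
Counting solutions of `x² = 1` in a 2-group.
-/

set_option autoImplicit false

namespace Cfsg.Agent.Lib.PGroups.InvolutionCount

open scoped commutatorElement

variable {G : Type*} [Group G] [Finite G]

theorem card_dvd_of_mul_closed (V : Subgroup G) (X : Set G) (h : ∀ x ∈ X, ∀ v ∈ V, x * v ∈ X) :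
    Nat.card V ∣ Nat.card X := by
  have e : X = (QuotientGroup.mk : G → G ⧸ V) ⁻¹' ((QuotientGroup.mk : G → G ⧸ V) '' X) := by
    refine Set.Subset.antisymm (Set.subset_preimage_image _ _) ?_
    rintro y ⟨x, hx, hxy⟩
    have := h x hx _ (QuotientGroup.eq.1 hxy)
    rwa [mul_inv_cancel_left] at this
  rw [e, Nat.card_congr (QuotientGroup.preimageMkEquivSubgroupProdSet V _), Nat.card_prod]
  exact Dvd.intro _ rfl

theorem card_sq_even (hG : IsPGroup 2 G) [Nontrivial G] : 2 ∣ Nat.card {x : G // x ^ 2 = 1} := by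
  haveI : Fact (Nat.Prime 2) := ⟨Nat.prime_two⟩
  obtain ⟨z, hz⟩ := exists_prime_orderOf_dvd_card' (G := Subgroup.center G) 2 (by
    haveI := hG.center_nontrivial
    obtain ⟨n, hn⟩ := (hG.to_subgroup (Subgroup.center G)).exists_card_eq
    rcases n with _ | n
    · exact absurd hn (ne_of_gt Finite.one_lt_card)
    · rw [hn, pow_succ]; exact dvd_mul_left _ _)
  have hz' : orderOf (z : G) = 2 := by rw [Subgroup.orderOf_coe]; exact hz
  have h := card_dvd_of_mul_closed (Subgroup.zpowers (z : G)) {x : G | x ^ 2 = 1} (by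
    intro x hx v hv
    have hc : v ∈ Subgroup.center G := (Subgroup.zpowers_le.mpr z.2) hv
    have hv2 : v ^ 2 = 1 := by
      rw [← orderOf_dvd_iff_pow_eq_one, ← hz']
      exact orderOf_dvd_of_mem_zpowers hv
    show (x * v) ^ 2 = 1
    rw [(show Commute x v from Subgroup.mem_center_iff.mp hc x).mul_pow, hv2, mul_one]
    exact hx)
  rwa [Nat.card_zpowers, hz'] at h

theorem index_four_of_le (hG : IsPGroup 2 G) (hnc : ¬ IsCyclic G) (K : Subgroup G)
    (hK : K ≤ commutator G) (hKi : K.index = 4) : (commutator G).index = 4 := by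
  haveI : Fact (Nat.Prime 2) := ⟨Nat.prime_two⟩
  haveI := hG.isNilpotent
  have hd : (commutator G).index ∣ 4 := hKi ▸ Subgroup.index_dvd_of_le hK
  by_contra h4
  refine hnc ?_
  have hle : (commutator G).index ≤ 2 := by
    have := Nat.le_of_dvd (by norm_num) hd
    interval_cases (commutator G).index <;> simp_all
  haveI hQc : IsCyclic (G ⧸ commutator G) := by
    rw [Subgroup.index_eq_card] at hle
    have hpos : 0 < Nat.card (G ⧸ commutator G) := Nat.card_pos
    rcases Nat.lt_or_eq_of_le hle with h | h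
    · haveI := (Nat.card_eq_one_iff_unique.mp (show Nat.card (G ⧸ commutator G) = 1 by omega)).1
      infer_instance
    · exact isCyclic_of_prime_card h
  obtain ⟨q, hq⟩ := IsCyclic.exists_generator (α := G ⧸ commutator G)
  obtain ⟨g, rfl⟩ := QuotientGroup.mk_surjective q
  have htop : Subgroup.zpowers g ⊔ commutator G = ⊤ := (Subgroup.eq_top_iff' _).mpr fun x => by
    obtain ⟨i, hi⟩ := Subgroup.mem_zpowers_iff.mp (hq (x : G ⧸ commutator G))
    rw [← QuotientGroup.mk_zpow] at hi
    have := mul_mem (Subgroup.mem_sup_left (Subgroup.zpow_mem _ (Subgroup.mem_zpowers g) i))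
      (Subgroup.mem_sup_right (QuotientGroup.eq.1 hi) :
        (g ^ i)⁻¹ * x ∈ Subgroup.zpowers g ⊔ commutator G)
    rwa [mul_inv_cancel_left] at this
  have : Subgroup.zpowers g = ⊤ := frattini_nongenerating (top_le_iff.mp (htop ▸
    sup_le_sup_left (Coprime.commutator_le_frattini_of_isPGroup hG) _))
  exact isCyclic_iff_exists_zpowers_eq_top.mpr ⟨g, this⟩

theorem index_four_of_cyclic (hG : IsPGroup 2 G) (hnc : ¬ IsCyclic G) (a w : G) (r : ℤ)
    (hi : (Subgroup.zpowers a).index = 2) (hr : w * a * w⁻¹ = a ^ r) (hodd : Odd ((r - 1) / 2))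
    (heven : 2 ∣ r - 1) : (commutator G).index = 4 := by
  obtain ⟨k, hk⟩ := IsPGroup.iff_orderOf.mp hG a
  obtain ⟨k, rfl⟩ : ∃ j, k = j + 1 := by
    refine ⟨k - 1, ?_⟩
    rcases Nat.eq_zero_or_pos k with rfl | h
    · exfalso
      rw [pow_zero, orderOf_eq_one_iff] at hk
      subst hk
      rw [Subgroup.zpowers_one_eq_bot, Subgroup.index_bot] at hi
      exact hnc (isCyclic_of_prime_card hi)
    · omega
  have h2 : orderOf (a ^ 2) = 2 ^ k := by
    rw [orderOf_pow, hk, Nat.gcd_eq_right (dvd_pow_self 2 (Nat.succ_ne_zero k)), pow_succ,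
      Nat.mul_div_cancel _ (by norm_num)]
  refine index_four_of_le hG hnc (Subgroup.zpowers (a ^ 2)) ?_ ?_
  · obtain ⟨s, hs⟩ := heven
    rw [hs, Int.mul_ediv_cancel_left _ (by norm_num)] at hodd
    have hmem : (a ^ 2) ^ s ∈ commutator G := by
      rw [← zpow_natCast, ← zpow_mul]
      have : a ^ (((2 : ℕ) : ℤ) * s) = ⁅w, a⁆ := by
        rw [commutatorElement_def, hr, show ((2 : ℕ) : ℤ) * s = r - 1 by rw [hs]; norm_num, zpow_sub, zpow_one]
      rw [this]
      exact Subgroup.commutator_mem_commutator (Subgroup.mem_top w) (Subgroup.mem_top a)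
    rw [Subgroup.zpowers_le]
    have hcop : Int.gcd s (2 ^ k : ℕ) = 1 := by
      rw [Int.gcd_eq_natAbs, Int.natAbs_natCast]
      exact (Nat.Coprime.pow_right k (Nat.coprime_two_right.mpr (Int.natAbs_odd.mpr hodd)))
    have hb := Int.gcd_eq_gcd_ab s (2 ^ k : ℕ)
    rw [hcop, Nat.cast_one] at hb
    have e : a ^ 2 = ((a ^ 2) ^ s) ^ (Int.gcdA s (2 ^ k : ℕ)) := by
      conv_lhs => rw [← zpow_one (a ^ 2), hb, zpow_add, zpow_mul, zpow_mul _ ((2 ^ k : ℕ) : ℤ),
        zpow_natCast _ (2 ^ k), ← h2, pow_orderOf_eq_one, one_zpow, mul_one]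
      rw [h2]
    rw [e]
    exact Subgroup.zpow_mem _ hmem _
  · have h1 := (Subgroup.zpowers (a ^ 2)).card_mul_index
    have h3 := (Subgroup.zpowers a).card_mul_index
    rw [Nat.card_zpowers, h2] at h1
    rw [Nat.card_zpowers, hk, hi, ← h1, pow_succ] at h3
    nlinarith [Nat.two_pow_pos k]

theorem four_dvd (hG : IsPGroup 2 G) (V : Subgroup G) [V.Normal] (hV : Nat.card V = 4)
    (hV2 : ∀ v ∈ V, v ^ 2 = 1) (hidx : (commutator G).index ≠ 4) (hnc : ¬ IsCyclic G) :
    4 ∣ Nat.card {x : G // x ^ 2 = 1} := by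
  classical
  haveI : Fact (Nat.Prime 2) := ⟨Nat.prime_two⟩
  set C := Subgroup.centralizer (V : Set G) with hC
  have hVc : ∀ a ∈ V, ∀ b ∈ V, a * b = b * a := fun a ha b hb => by
    have h := hV2 _ (mul_mem ha hb)
    have ha2 := hV2 a ha
    have hb2 := hV2 b hb
    rw [sq] at h ha2 hb2
    calc a * b = a * ((a * b) * (a * b)) * b := by rw [h, mul_one]
      _ = (a * a) * (b * a) * (b * b) := by group
      _ = b * a := by rw [ha2, hb2, one_mul, mul_one]
  have hVC : V ≤ C := fun a ha => Subgroup.mem_centralizer_iff.mpr fun b hb => hVc b hb a ha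
  have e : {x : G | x ^ 2 = 1} = {x | x ∈ C ∧ x ^ 2 = 1} ∪ {x | x ∉ C ∧ x ^ 2 = 1} := by
    ext x; simp only [Set.mem_union, Set.mem_setOf_eq]; tauto
  show 4 ∣ Set.ncard {x : G | x ^ 2 = 1}
  rw [e, Set.ncard_union_eq (Set.disjoint_left.mpr fun x hx hx' => hx'.1 hx.1) (Set.toFinite _) (Set.toFinite _)]
  refine dvd_add ?_ ?_
  · rw [← Nat.card_coe_set_eq, ← hV]
    refine card_dvd_of_mul_closed V _ fun x hx v hv => ⟨mul_mem hx.1 (hVC hv), ?_⟩
    rw [(show Commute x v from (Subgroup.mem_centralizer_iff.mp hx.1 v hv).symm).mul_pow, hx.2,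
      hV2 v hv, one_mul]
  -- outside the centralizer
  set Y := {x : G | x ∉ C ∧ x ^ 2 = 1} with hY
  obtain ⟨u, hu, hu1⟩ := (Subgroup.bot_or_exists_ne_one (V ⊓ Subgroup.center G)).resolve_left (by
    haveI := hG.isNilpotent
    exact Solvable.inf_center_ne_bot (fun h => by rw [h, Subgroup.card_bot] at hV; omega))
  obtain ⟨huV, huZ⟩ := hu
  have huo : orderOf u = 2 := orderOf_eq_prime (hV2 u huV) hu1
  letI act : MulAction C Y :=
    { smul := fun c y => ⟨(c : G) * y * (c : G)⁻¹, fun h => y.2.1 (by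
          have h1 := mul_mem (mul_mem (inv_mem c.2) h) c.2
          simpa [mul_assoc] using h1), by
        rw [conj_pow, y.2.2, mul_one, mul_inv_cancel]⟩
      one_smul := fun y => Subtype.ext (by show (1 : G) * y * (1 : G)⁻¹ = y; simp)
      mul_smul := fun c d y => Subtype.ext (by
        show ((c * d : C) : G) * y * ((c * d : C) : G)⁻¹ = (c : G) * ((d : G) * y * (d : G)⁻¹) * (c : G)⁻¹
        rw [Subgroup.coe_mul, mul_inv_rev]; group) }
  rw [← Nat.card_coe_set_eq]
  by_cases hbig : ∀ y : Y, 4 ∣ Nat.card (MulAction.orbit C y)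
  · haveI := Fintype.ofFinite (MulAction.orbitRel.Quotient C Y)
    rw [Nat.card_congr (MulAction.selfEquivSigmaOrbits C Y), Nat.card_sigma]
    exact Finset.dvd_sum fun ω _ => hbig _
  push Not at hbig
  obtain ⟨⟨y, hyC, hy2⟩, hy⟩ := hbig
  set K := C ⊓ Subgroup.centralizer ({y} : Set G) with hKdef
  -- `v` moves `y`
  obtain ⟨v, hv, hvy⟩ : ∃ v ∈ V, y * v ≠ v * y := by
    by_contra h
    push Not at h
    exact hyC (Subgroup.mem_centralizer_iff.mpr fun v hv => (h v hv).symm)
  have hKmem : ∀ k : G, k ∈ K ↔ k ∈ C ∧ y * k = k * y := fun k => by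
    rw [hKdef, Subgroup.mem_inf, Subgroup.mem_centralizer_iff]
    exact ⟨fun h => ⟨h.1, h.2 y rfl⟩, fun h => ⟨h.1, fun b hb => (Set.mem_singleton_iff.mp hb) ▸ h.2⟩⟩
  have huK : u ∈ K := (hKmem u).mpr ⟨hVC huV, Subgroup.mem_center_iff.mp huZ y⟩
  have hvK : v ∉ K := fun h => hvy ((hKmem v).mp h).2
  have hvu : v ≠ u := fun h => hvK (h ▸ huK)
  have hv1 : v ≠ 1 := fun h => hvK (h ▸ one_mem K)
  have hVlist : ∀ w ∈ V, w = 1 ∨ w = u ∨ w = v ∨ w = u * v := by
    intro w hw
    by_contra hc
    push Not at hc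
    obtain ⟨h1, h2, h3, h4⟩ := hc
    haveI := Fintype.ofFinite G
    have hsub : ({w, 1, u, v, u * v} : Finset G) ⊆ (V : Set G).toFinset := by
      intro t ht
      simp only [Finset.mem_insert, Finset.mem_singleton] at ht
      rw [Set.mem_toFinset]
      rcases ht with rfl | rfl | rfl | rfl | rfl
      exacts [hw, one_mem V, huV, hv, mul_mem huV hv]
    have hle := Finset.card_le_card hsub
    rw [← Set.ncard_eq_toFinset_card', ← Nat.card_coe_set_eq, show Nat.card (V : Set G) = 4 from hV] at hle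
    have hu2 : u * u = 1 := by rw [← sq]; exact hV2 u huV
    rw [Finset.card_insert_of_notMem (by simp [h1, h2, h3, h4]),
      Finset.card_insert_of_notMem (by
        simp only [Finset.mem_insert, Finset.mem_singleton, not_or]
        exact ⟨hu1.symm, hv1.symm, fun h => hvu (mul_left_cancel (a := u) (by rw [hu2]; exact h.symm))⟩),
      Finset.card_insert_of_notMem (by
        simp only [Finset.mem_insert, Finset.mem_singleton, not_or]
        exact ⟨hvu.symm, fun h => hv1 (left_eq_mul.mp h)⟩),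
      Finset.card_pair (fun h => hu1 (right_eq_mul.mp h))] at hle
    omega
  -- the commutator of `y` and `v`
  have hw : v⁻¹ * (y * v * y⁻¹) = u := by
    have hyv : y * v * y⁻¹ ∈ V := (inferInstance : V.Normal).conj_mem v hv y
    rcases hVlist _ (mul_mem (inv_mem hv) hyv) with h | h | h | h
    · exact absurd (mul_inv_eq_iff_eq_mul.mp (inv_mul_eq_one.mp h).symm) hvy
    · exact h
    · have hv2 := hV2 v hv
      rw [inv_mul_eq_iff_eq_mul, ← sq, hv2, mul_inv_eq_one, mul_eq_left] at h
      exact absurd h hv1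
    · rw [inv_mul_eq_iff_eq_mul, ← mul_assoc v u v, hVc v hv u huV, mul_assoc u v v, ← sq, hV2 v hv,
        mul_one, mul_inv_eq_iff_eq_mul] at h
      exact absurd (by
        rw [← Subgroup.mem_center_iff.mp huZ y] at h
        exact mul_left_cancel h) hvu
  -- `K` has index two in `C`
  have hKi : ∀ c ∈ C, c ∉ K → v * c ∈ K := by
    intro c hc hcK
    have hstab : ∀ x : C, x ∈ MulAction.stabilizer C (⟨y, hyC, hy2⟩ : Y) ↔ (x : G) ∈ K := by
      intro x
      rw [MulAction.mem_stabilizer_iff, Subtype.ext_iff]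
      show (x : G) * y * (x : G)⁻¹ = y ↔ _
      rw [mul_inv_eq_iff_eq_mul, hKmem]
      exact ⟨fun h => ⟨x.2, h.symm⟩, fun h => h.2.symm⟩
    have hi : (MulAction.stabilizer C (⟨y, hyC, hy2⟩ : Y)).index = 2 := by
      haveI := hG.to_subgroup C
      obtain ⟨k, hk⟩ := IsPGroup.index (hG.to_subgroup C) (MulAction.stabilizer C (⟨y, hyC, hy2⟩ : Y))
      rw [MulAction.index_stabilizer, ← Nat.card_coe_set_eq] at hk ⊢
      rcases k with _ | _ | k
      · exfalso
        have h1 : (MulAction.stabilizer C (⟨y, hyC, hy2⟩ : Y)) = ⊤ := by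
          rw [← Subgroup.index_eq_one, MulAction.index_stabilizer, ← Nat.card_coe_set_eq, hk, pow_zero]
        exact hvK ((hstab ⟨v, hVC hv⟩).mp (h1 ▸ Subgroup.mem_top _))
      · simpa using hk
      · exact absurd (hk ▸ ⟨2 ^ k, by ring⟩) hy
    have := (Subgroup.mul_mem_iff_of_index_two hi (a := (⟨v, hVC hv⟩ : C)) (b := ⟨c, hc⟩)).mpr
      (by rw [hstab, hstab]; exact ⟨fun h => absurd h hvK, fun h => absurd h hcK⟩)
    exact (hstab _).mp this
  have hv2 : v * v = 1 := by rw [← sq]; exact hV2 v hv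
  have huu : u * u = 1 := by rw [← sq]; exact hV2 u huV
  have hcy : ∀ k ∈ K, y * k = k * y := fun k hk => ((hKmem k).mp hk).2
  have hvk : ∀ k ∈ K, v * k = k * v := fun k hk => Subgroup.mem_centralizer_iff.mp hk.1 v hv
  have hy2' : y * y = 1 := by rw [← sq]; exact hy2
  have hsq1 : ∀ k ∈ K, (y * k) ^ 2 = k ^ 2 := fun k hk => by
    rw [(show Commute y k from hcy k hk).mul_pow, hy2, one_mul]
  have hyvy : y * v * y = v * u := by
    rw [← hw, mul_inv_cancel_left, inv_eq_of_mul_eq_one_right hy2']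
  have hsq2 : ∀ k ∈ K, (y * (k * v)) ^ 2 = k ^ 2 * u := fun k hk => by
    calc (y * (k * v)) ^ 2 = y * k * v * (y * (k * v)) := by rw [sq]; group
      _ = k * y * v * (y * (k * v)) := by rw [hcy k hk]
      _ = k * (y * v * y) * (k * v) := by group
      _ = k * v * (u * k) * v := by rw [hyvy]; group
      _ = k * v * (k * u) * v := by rw [Subgroup.mem_center_iff.mp huZ k]
      _ = k * (v * k) * (u * v) := by group
      _ = k * (k * v) * (v * u) := by rw [hvk k hk, hVc u huV v hv]
      _ = k * k * (v * v) * u := by group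
      _ = k ^ 2 * u := by rw [hv2, mul_one, sq]
  have hyc : ∀ k : G, k ∈ C → y * k ∉ C := fun k hk h => hyC (by
    simpa using mul_mem h (inv_mem hk))
  -- every element of `Y` is `y * c` with `c ∈ C`
  have hYform : ∀ x : G, x ∉ C → y * x ∈ C := by
    intro x hx
    rw [hC, Subgroup.mem_centralizer_iff]
    intro b hb
    have hxw : x * v * x⁻¹ = v * u := by
      have hxv : x * v * x⁻¹ ∈ V := (inferInstance : V.Normal).conj_mem v hv x
      rcases hVlist _ hxv with h | h | h | h
      · exact absurd (by simpa using h) hv1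
      · have : v = u := by
          have h' := congrArg (fun t => x⁻¹ * t * x) h
          simp only [mul_assoc, inv_mul_cancel_left, inv_mul_cancel, mul_one] at h'
          rw [← Subgroup.mem_center_iff.mp huZ x, inv_mul_cancel_left] at h'
          exact h'
        exact absurd this hvu
      · exfalso
        refine hx (Subgroup.mem_centralizer_iff.mpr fun b hb => ?_)
        have hcx : x * v = v * x := mul_inv_eq_iff_eq_mul.mp h
        have hcu : x * u = u * x := Subgroup.mem_center_iff.mp huZ x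
        rcases hVlist b hb with rfl | rfl | rfl | rfl
        · simp
        · exact hcu.symm
        · exact hcx.symm
        · exact ((show Commute x u from hcu).mul_right hcx).eq.symm
      · rw [h, hVc u huV v hv]
    have hyxv : (y * x) * v = v * (y * x) := by
      calc (y * x) * v = y * (x * v * x⁻¹) * x := by group
        _ = (y * v * y) * y⁻¹ * (u * x) := by rw [hxw]; group
        _ = v * u * y⁻¹ * (u * x) := by rw [hyvy]
        _ = v * u * (y * u) * x := by rw [inv_eq_of_mul_eq_one_right hy2']; group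
        _ = v * u * (u * y) * x := by rw [Subgroup.mem_center_iff.mp huZ y]
        _ = v * (u * u) * (y * x) := by group
        _ = _ := by rw [huu, mul_one]
    have hcu : (y * x) * u = u * (y * x) := Subgroup.mem_center_iff.mp huZ _
    rcases hVlist b hb with rfl | rfl | rfl | rfl
    · simp
    · exact hcu.symm
    · exact hyxv.symm
    · exact ((show Commute (y * x) u from hcu).mul_right hyxv).eq.symm
  -- identify `Y`
  let S : Set K := {k | ((k : G) ^ 2 = 1 ∨ (k : G) ^ 2 = u)}
  have hequ : Nat.card Y = Nat.card S := by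
    refine Nat.card_congr (Equiv.ofBijective (fun k : S =>
      (⟨y * (if ((k : K) : G) ^ 2 = 1 then ((k : K) : G) else ((k : K) : G) * v), ?_, ?_⟩ : Y)) ⟨?_, ?_⟩).symm
    · split_ifs
      · exact hyc _ (k : K).2.1
      · exact hyc _ (mul_mem (k : K).2.1 (hVC hv))
    · split_ifs with h
      · rw [hsq1 _ (k : K).2, h]
      · rw [hsq2 _ (k : K).2, (k.2.resolve_left h), huu]
    · intro k l hkl
      have h := mul_left_cancel (congrArg Subtype.val hkl)
      split_ifs at h with h1 h2 h2
      · exact Subtype.ext (Subtype.ext h)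
      · exfalso
        refine hvK ?_
        have := mul_mem (inv_mem (l : K).2) (h ▸ (k : K).2)
        rwa [inv_mul_cancel_left] at this
      · exfalso
        refine hvK ?_
        have := mul_mem (inv_mem (k : K).2) (h.symm ▸ (l : K).2)
        rwa [inv_mul_cancel_left] at this
      · exact Subtype.ext (Subtype.ext (mul_right_cancel h))
    · rintro ⟨x, hx⟩
      have hc := hYform x hx.1
      have hx' : x = y * (y * x) := by rw [← mul_assoc, hy2', one_mul]
      by_cases hk : y * x ∈ K
      · have h2 : (y * x) ^ 2 = 1 := by rw [← hsq1 _ hk, ← hx']; exact hx.2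
        exact ⟨⟨⟨_, hk⟩, Or.inl h2⟩, Subtype.ext (by simp only [if_pos h2]; exact hx'.symm)⟩
      · have hk' := hKi _ hc hk
        have e : v * (y * x) * v = y * x := by
          rw [mul_assoc, ← Subgroup.mem_centralizer_iff.mp hc v hv, ← mul_assoc, hv2, one_mul]
        have h2 : (v * (y * x)) ^ 2 = u := by
          have h3 := hsq2 _ hk'
          rw [e, ← hx', hx.2] at h3
          rw [eq_inv_of_mul_eq_one_left h3.symm, inv_eq_of_mul_eq_one_right huu]
        refine ⟨⟨⟨_, hk'⟩, Or.inr h2⟩, Subtype.ext ?_⟩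
        simp only [if_neg (show ¬ (v * (y * x)) ^ 2 = 1 by rw [h2]; exact hu1), e]
        exact hx'.symm
  rw [hequ]
  let U : Subgroup K := Subgroup.zpowers ⟨u, huK⟩
  have hUmem : ∀ k : K, k ∈ U ↔ (k : G) = 1 ∨ (k : G) = u := by
    intro k
    refine ⟨fun hk => ?_, fun hk => ?_⟩
    · obtain ⟨i, rfl⟩ := Subgroup.mem_zpowers_iff.mp hk
      rw [Subgroup.coe_zpow, ← zpow_mod_orderOf u i, huo]
      rcases Int.emod_two_eq_zero_or_one i with h | h
      · left; rw [show ((2 : ℕ) : ℤ) = 2 from rfl, h, zpow_zero]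
      · right; rw [show ((2 : ℕ) : ℤ) = 2 from rfl, h, zpow_one]
    · rcases hk with h | h
      · rw [show k = 1 from Subtype.ext h]; exact one_mem _
      · rw [show k = ⟨u, huK⟩ from Subtype.ext h]; exact Subgroup.mem_zpowers _
  haveI : U.Normal := ⟨fun a ha g => by
    rw [hUmem] at ha ⊢
    rcases ha with h | h
    · left; simp [h]
    · right; simp [h, Subgroup.mem_center_iff.mp huZ (g : G)]⟩
  have hUcard : Nat.card U = 2 := by
    rw [Nat.card_zpowers, ← Subgroup.orderOf_coe]; exact huo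
  have hS : S = (QuotientGroup.mk : K → K ⧸ U) ⁻¹' {q | q ^ 2 = 1} := by
    ext k
    show _ ↔ (k : K ⧸ U) ^ 2 = 1
    rw [← QuotientGroup.mk_pow, QuotientGroup.eq_one_iff, hUmem]
    rfl
  rw [hS, Nat.card_congr (QuotientGroup.preimageMkEquivSubgroupProdSet U _), Nat.card_prod, hUcard]
  haveI : Nontrivial (K ⧸ U) := by
    rw [← Finite.one_lt_card_iff_nontrivial, ← Subgroup.index_eq_card]
    by_contra hle
    refine hidx ?_
    have hU1 : U.index = 1 := le_antisymm (not_lt.mp hle) (Nat.pos_of_ne_zero Subgroup.index_ne_zero_of_finite)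
    have hKU : ∀ k ∈ K, k = 1 ∨ k = u := fun k hk => (hUmem ⟨k, hk⟩).mp
      (Subgroup.index_eq_one.mp hU1 ▸ Subgroup.mem_top _)
    -- `C = V` and `G = V ⟨y⟩`
    have hCV : C = V := le_antisymm (fun c hc => by
      by_cases hk : c ∈ K
      · rcases hKU c hk with h | h <;> rw [h]
        exacts [one_mem _, huV]
      · have : v * c ∈ V := by rcases hKU _ (hKi c hc hk) with h | h <;> rw [h]; exacts [one_mem _, huV]
        have := mul_mem (inv_mem hv) this
        rwa [inv_mul_cancel_left] at this) hVC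
    have hCi : C.index = 2 := by
      refine Subgroup.index_eq_two_iff.mpr ⟨y, fun b => ?_⟩
      by_cases hb : b ∈ C
      · exact Or.inr ⟨hb, fun h => hyC (by simpa using mul_mem (inv_mem hb) h)⟩
      · refine Or.inl ⟨?_, hb⟩
        have h := (inferInstance : C.Normal).conj_mem _ (hYform b hb) y
        rwa [← mul_assoc y y b, hy2', one_mul, inv_eq_of_mul_eq_one_right hy2'] at h
    refine index_four_of_le hG hnc (Subgroup.zpowers u) ?_ ?_
    · rw [Subgroup.zpowers_le, ← hw]
      have e : v⁻¹ * (y * v * y⁻¹) = ⁅v⁻¹, y⁆ := by rw [commutatorElement_def]; group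
      rw [e]
      exact Subgroup.commutator_mem_commutator (Subgroup.mem_top _) (Subgroup.mem_top _)
    · have h1 := (Subgroup.zpowers u).card_mul_index
      have h2 := C.card_mul_index
      rw [Nat.card_zpowers, huo] at h1
      rw [hCi, hCV, hV] at h2
      omega
  exact mul_dvd_mul_left 2 (card_sq_even ((hG.to_subgroup K).to_quotient U))

end Cfsg.Agent.Lib.PGroups.InvolutionCount
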