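import Cfsg.Agent.Lib.Solvable.FixedPointFree
import Cfsg.Agent.Lib.Transfer.Basic
import Cfsg.Agent.Lib.Coprime.Hall

/-!
A finite group in which the centralizer of every noncentral element is maximal is solvable.
-/

set_option autoImplicit false
set_option linter.style.haveILetI false

namespace Cfsg.Agent.Lib.PGroups.MaxCentralizer

open Cfsg.Agent.Lib

variable {G : Type*} [Group G]

theorem centralizer_le_of_mem_zpowers {x y : G} (h : y ∈ Subgroup.zpowers x) :
    Subgroup.centralizer ({x} : Set G) ≤ Subgroup.centralizer {y} := by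
  obtain ⟨n, rfl⟩ := h
  intro c hc
  rw [Subgroup.mem_centralizer_singleton_iff] at hc ⊢
  exact (Commute.zpow_right (show Commute c x from hc) n).eq

theorem centralizer_ne_top {x : G} (hx : x ∉ Subgroup.center G) :
    Subgroup.centralizer ({x} : Set G) ≠ ⊤ := fun h => hx (Subgroup.mem_center_iff.mpr fun g =>
  Subgroup.mem_centralizer_singleton_iff.mp (h.ge (Subgroup.mem_top g)))

theorem centralizer_eq_of_le
    (h : ∀ g : G, g ∉ Subgroup.center G → IsCoatom (Subgroup.centralizer ({g} : Set G)))
    {x y : G} (hx : x ∉ Subgroup.center G) (hy : y ∉ Subgroup.center G)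
    (hle : Subgroup.centralizer ({x} : Set G) ≤ Subgroup.centralizer {y}) :
    Subgroup.centralizer ({x} : Set G) = Subgroup.centralizer {y} := by
  by_contra hne
  exact centralizer_ne_top hy ((h x hx).2 _ (lt_of_le_of_ne hle hne))

variable [Finite G]

theorem mem_zpowers_mul_of_coprime {a b : G} (hab : Commute b a)
    (hcop : (orderOf a).Coprime (orderOf b)) : b ∈ Subgroup.zpowers (b * a) := by
  obtain ⟨m, hm⟩ := exists_pow_eq_self_of_coprime (x := b) (n := orderOf a) hcop
  have hpow : (b * a) ^ orderOf a = b ^ orderOf a := by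
    rw [hab.mul_pow, pow_orderOf_eq_one, mul_one]
  exact ⟨((orderOf a * m : ℕ) : ℤ), by
    show (b * a) ^ ((orderOf a * m : ℕ) : ℤ) = b
    rw [zpow_natCast, pow_mul, hpow, hm]⟩

/-- A noncentral element has a noncentral power of prime power order. -/
theorem exists_noncentral_prime_part {g : G} (hg : g ∉ Subgroup.center G) {p : ℕ} [Fact p.Prime]
    (hp : p ∣ orderOf (g : G ⧸ Subgroup.center G)) :
    ∃ b, b ∈ Subgroup.zpowers g ∧ (∃ k, orderOf b = p ^ k) ∧ b ∉ Subgroup.center G := by
  obtain ⟨a, b, -, hb, ha, hk, rfl⟩ := Transfer.exists_pPart_decomp (p := p) g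
  refine ⟨b, hb, hk, fun hbz => ?_⟩
  rw [QuotientGroup.mk_mul, (QuotientGroup.eq_one_iff b).mpr hbz, mul_one] at hp
  exact (Transfer.coprime_iff_not_dvd _).mp ha
    (hp.trans (orderOf_map_dvd (QuotientGroup.mk' _) a))

/-- Such a centralizer is nilpotent. -/
theorem isNilpotent_centralizer
    (h : ∀ g : G, g ∉ Subgroup.center G → IsCoatom (Subgroup.centralizer ({g} : Set G)))
    {g : G} (hg : g ∉ Subgroup.center G) :
    Group.IsNilpotent (Subgroup.centralizer ({g} : Set G)) := by
  obtain ⟨p, hp, hpd⟩ := Nat.exists_prime_and_dvd (n := orderOf (g : G ⧸ Subgroup.center G))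
    (fun h1 => hg ((QuotientGroup.eq_one_iff g).mp (orderOf_eq_one_iff.mp h1)))
  haveI := Fact.mk hp
  obtain ⟨b, hbg, ⟨k, hbk⟩, hb⟩ := exists_noncentral_prime_part hg hpd
  rw [centralizer_eq_of_le h hg hb (centralizer_le_of_mem_zpowers hbg)]
  set M := Subgroup.centralizer ({b} : Set G)
  have key : ∀ y : M, ∃ j, y ^ p ^ j ∈ Subgroup.center M := by
    intro y
    obtain ⟨a, c, ha, -, hao, ⟨j, hj⟩, hy⟩ := Transfer.exists_pPart_decomp (p := p) y
    refine ⟨j, ?_⟩
    have hca : Commute a c := by
      obtain ⟨i, rfl⟩ := ha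
      have h1 : c = (y ^ i)⁻¹ * y := by rw [eq_inv_mul_iff_mul_eq]; exact hy.symm
      rw [h1]
      exact ((Commute.refl (y ^ i)).inv_right).mul_right ((Commute.refl y).zpow_left i)
    rw [hy, hca.mul_pow, ← hj, pow_orderOf_eq_one, mul_one]
    refine Subgroup.pow_mem _ ?_ _
    rw [Subgroup.mem_center_iff]
    intro w
    by_cases haz : (a : G) ∈ Subgroup.center G
    · exact Subtype.ext (Subgroup.mem_center_iff.mp haz w)
    have hab : Commute b (a : G) :=
      (Subgroup.mem_centralizer_singleton_iff.mp a.2).symm
    have hcop : (orderOf (a : G)).Coprime (orderOf b) := by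
      rw [Subgroup.orderOf_coe, hbk]
      exact Nat.Coprime.pow_right _ hao
    have hb' := mem_zpowers_mul_of_coprime hab hcop
    have ha' : (a : G) ∈ Subgroup.zpowers (b * a) := by
      rw [hab.eq]
      exact mem_zpowers_mul_of_coprime hab.symm hcop.symm
    have hba : b * a ∉ Subgroup.center G := fun hz => hb (Subgroup.zpowers_le.mpr hz hb')
    have h1 := centralizer_eq_of_le h hba hb (centralizer_le_of_mem_zpowers hb')
    have h2 := centralizer_eq_of_le h hba haz (centralizer_le_of_mem_zpowers ha')
    have hw : (w : G) ∈ Subgroup.centralizer ({(a : G)} : Set G) := h2 ▸ h1.symm ▸ w.2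
    exact Subtype.ext (Subgroup.mem_centralizer_singleton_iff.mp hw)
  have hpg : IsPGroup p (M ⧸ Subgroup.center M) := by
    intro x
    induction x using QuotientGroup.induction_on with
    | H y =>
      obtain ⟨j, hj⟩ := key y
      exact ⟨j, by rw [← QuotientGroup.mk_pow, QuotientGroup.eq_one_iff]; exact hj⟩
  haveI := hpg.isNilpotent
  exact Group.of_quotient_center_nilpotent inferInstance

theorem isSolvable_of_centralizers_maximal
    (h : ∀ g : G, g ∉ Subgroup.center G → IsCoatom (Subgroup.centralizer ({g} : Set G))) :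
    Group.IsSolvable G := by
  by_contra hns
  set Q := G ⧸ Subgroup.center G
  let π : G →* Q := QuotientGroup.mk' _
  have hπ : Function.Surjective π := QuotientGroup.mk'_surjective _
  have hπker : π.ker = Subgroup.center G := QuotientGroup.ker_mk' _
  have hQns : ¬ Group.IsSolvable Q := fun hQ => hns (by
    haveI := hQ
    haveI : Group.IsSolvable (Subgroup.center G) :=
      Coprime.isSolvable_of_isMulCommutative (Subgroup.center G)
    exact Group.isSolvable_of_ker_le_range (Subgroup.center G).subtype π
      (by rw [hπker, Subgroup.range_subtype]))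
  have hexists : ∃ g : G, g ∉ Subgroup.center G := by
    by_contra hc
    push Not at hc
    exact hns (Group.isSolvable_of_comm fun a b => (Subgroup.mem_center_iff.mp (hc b) a))
  -- normal nilpotent subgroups are central
  have hsmall : ∀ O : Subgroup G, O.Normal → Group.IsNilpotent O → O ≤ Subgroup.center G := by
    intro O hO hOnil x hx
    haveI := hO
    rw [Subgroup.mem_center_iff]
    intro g
    by_cases hg : g ∈ Subgroup.center G
    · exact (Subgroup.mem_center_iff.mp hg x).symm
    by_contra hne
    have hMn := isNilpotent_centralizer h hg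
    have htop : Subgroup.centralizer ({g} : Set G) ⊔ O = ⊤ := by
      refine (h g hg).2 _ (lt_of_le_of_ne le_sup_left fun he => hne ?_)
      have hxC : x ∈ Subgroup.centralizer ({g} : Set G) := he ▸ Subgroup.mem_sup_right hx
      exact (Subgroup.mem_centralizer_singleton_iff.mp hxC).symm
    have hsurj : Function.Surjective
        ((QuotientGroup.mk' O).comp (Subgroup.centralizer ({g} : Set G)).subtype) := by
      intro y
      obtain ⟨y, rfl⟩ := QuotientGroup.mk'_surjective O y
      obtain ⟨a, ha, b, hb, rfl⟩ :=
        Subgroup.mem_sup_of_normal_right.mp (htop.ge (Subgroup.mem_top y))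
      exact ⟨⟨a, ha⟩, by simp [(QuotientGroup.eq_one_iff b).mpr hb]⟩
    haveI : Group.IsSolvable (G ⧸ O) := Group.isSolvable_of_surjective hsurj
    exact hns (Group.isSolvable_of_ker_le_range O.subtype (QuotientGroup.mk' O)
      (by rw [QuotientGroup.ker_mk', Subgroup.range_subtype]))
  -- every odd prime gives a normal complement in the quotient
  have hnpc : ∀ p : ℕ, p.Prime → p ≠ 2 → p ∣ Nat.card Q → Cfsg.HasNormalPComplement p Q := by
    intro p hp hp2 hpd
    haveI := Fact.mk hp
    obtain ⟨y, hy⟩ := exists_prime_orderOf_dvd_card' p hpd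
    obtain ⟨g, rfl⟩ := hπ y
    have hg : g ∉ Subgroup.center G := fun hz => hp.ne_one (by
      rw [← hy, orderOf_eq_one_iff]
      exact (QuotientGroup.eq_one_iff g).mpr hz)
    obtain ⟨b, -, ⟨k, hbk⟩, hb⟩ := exists_noncentral_prime_part hg hy.symm.dvd
    set M := (Subgroup.centralizer ({b} : Set G)).map π with hM
    haveI hMnil : Group.IsNilpotent M := by
      haveI := isNilpotent_centralizer h hb
      exact Cores.isNilpotent_map π _
    have hMc : IsCoatom M := by
      have hcm : M.comap π = Subgroup.centralizer ({b} : Set G) := by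
        rw [hM, Subgroup.comap_map_eq, sup_eq_left, hπker]
        exact Subgroup.center_le_centralizer _
      refine ⟨fun ht => (h b hb).1 ?_, fun K hK => ?_⟩
      · rw [← hcm, ht, Subgroup.comap_top]
      · have h1 : Subgroup.centralizer ({b} : Set G) < K.comap π := by
          rw [← hcm]
          exact lt_of_le_of_ne (Subgroup.comap_mono hK.le)
            fun he => hK.ne (Subgroup.comap_injective hπ he)
        exact Subgroup.comap_injective hπ (((h b hb).2 _ h1).trans (Subgroup.comap_top π).symm)
    have hOp : ∀ Y : Subgroup Q, IsPGroup p Y → Y ≠ ⊥ → ¬ Y.Normal := by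
      intro Y hYp hY0 hYn
      haveI := hYn
      haveI := hYp.isNilpotent
      apply hY0
      have hO : Y.comap π ≤ Subgroup.center G := by
        refine hsmall _ (hYn.comap π) ?_
        refine Subgroup.isNilpotent_of_ker_le_center
          ((π.comp (Y.comap π).subtype).codRestrict Y fun o => o.2) (fun o ho => ?_)
        have ho' : (o : G) ∈ Subgroup.center G :=
          hπker.le (MonoidHom.mem_ker.mpr (congrArg Subtype.val ho))
        rw [Subgroup.mem_center_iff]
        exact fun w => Subtype.ext (Subgroup.mem_center_iff.mp ho' w)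
      rw [eq_bot_iff]
      intro z hz
      obtain ⟨z, rfl⟩ := hπ z
      exact Subgroup.mem_bot.mpr ((QuotientGroup.eq_one_iff z).mpr (hO hz))
    have hnorm : ∀ Y : Subgroup Q, IsPGroup p Y → Y ≠ ⊥ →
        M ≤ Subgroup.normalizer (Y : Set Q) → Subgroup.normalizer (Y : Set Q) = M := by
      intro Y hYp hY0 hMY
      by_contra hne
      exact hOp Y hYp hY0 (Subgroup.normalizer_eq_top_iff.mp
        (hMc.2 _ (lt_of_le_of_ne hMY (Ne.symm hne))))
    obtain ⟨P0⟩ := (inferInstance : Nonempty (Sylow p M))
    haveI hP0n : (P0 : Subgroup M).Normal :=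
      Sylow.normal_of_normalizerCondition Group.normalizerCondition_of_isNilpotent _
    set P := (P0 : Subgroup M).map M.subtype with hP
    have hPp : IsPGroup p P := P0.2.map _
    have hmemP : ∀ z ∈ M, IsPGroup p (Subgroup.zpowers z) → z ∈ P := by
      intro z hz hzp
      have h1 : IsPGroup p ((Subgroup.zpowers z).subgroupOf M) :=
        hzp.comap_of_injective _ M.subtype_injective
      obtain ⟨R, hR⟩ := h1.exists_le_sylow
      haveI := Sylow.unique_of_normal P0 inferInstance
      rw [Subsingleton.elim R P0] at hR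
      exact ⟨⟨z, hz⟩, hR (Subgroup.mem_zpowers z), rfl⟩
    have hP0 : P ≠ ⊥ := by
      intro hbot
      have hbM : π b ∈ M := Subgroup.mem_map_of_mem π
        (Subgroup.mem_centralizer_singleton_iff.mpr rfl)
      have hbP : π b ∈ P := hmemP _ hbM (by
        rw [← MonoidHom.map_zpowers π b]
        exact (IsPGroup.of_card (n := k) (by rw [Nat.card_zpowers, hbk])).map π)
      rw [hbot, Subgroup.mem_bot] at hbP
      exact hb ((QuotientGroup.eq_one_iff b).mp hbP)
    have hMP : M ≤ Subgroup.normalizer (P : Set Q) := by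
      intro z hz
      rw [hP]
      refine Subgroup.le_normalizer_map M.subtype ⟨⟨z, hz⟩, ?_, rfl⟩
      rw [Subgroup.normalizer_eq_top_iff.mpr hP0n]
      trivial
    have hNP := hnorm P hPp hP0 hMP
    obtain ⟨S, hS⟩ := hPp.exists_le_sylow
    have hSP : (S : Subgroup Q) = P := by
      refine le_antisymm ?_ hS
      by_contra hle
      have hlt : P.subgroupOf S < ⊤ :=
        lt_top_iff_ne_top.mpr fun he => hle (Subgroup.subgroupOf_eq_top.mp he)
      haveI := S.2.isNilpotent
      obtain ⟨z, hz, hzP⟩ :=
        SetLike.exists_of_lt (Group.normalizerCondition_of_isNilpotent _ hlt)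
      refine hzP (Subgroup.mem_subgroupOf.mpr (hmemP _ (hNP ▸ ?_) (S.2.to_le
        (Subgroup.zpowers_le.mpr z.2))))
      have h2 := Subgroup.le_normalizer_map (S : Subgroup Q).subtype
        (Subgroup.mem_map_of_mem _ hz)
      rwa [Subgroup.map_subgroupOf_eq_of_le hS] at h2
    have hnpM : Cfsg.HasNormalPComplement p M :=
      Solvable.FixedPointFree.hasNormalPComplement_of_isNilpotent p
    refine Solvable.ThompsonComplement.hasNormalPComplement hp2 S ?_ ?_
    · rw [hSP, hnorm (Cfsg.thompsonSubgroupOf p P)
        (hPp.to_le (LocalEven2.thompsonSubgroupOf_le _ _))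
        (Solvable.ThompsonComplement.thompsonSubgroupOf_ne_bot hPp hP0)
        (hMP.trans (LocalEven2.normalizer_le_normalizer_thompson p P))]
      exact hnpM
    · rw [hSP]
      refine Transfer.hasNormalPComplement_of_le (Subgroup.centralizer_le_normalizer _) ?_
      rw [hnorm (P ⊓ Subgroup.centralizer (P : Set Q)) (hPp.to_le inf_le_left)
        (Solvable.ThompsonComplement.center_ne_bot hPp hP0)
        (hMP.trans (Solvable.ThompsonComplement.normalizer_le_normalizer_center P))]
      exact hnpM
  -- the limit of the derived series is a 2-group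
  obtain ⟨D, ⟨n, rfl⟩, hD⟩ := (Set.toFinite (Set.range fun n => derivedSeries Q n)).exists_minimal
    (Set.range_nonempty _)
  have hDle : ∀ m, derivedSeries Q n ≤ derivedSeries Q m := fun m =>
    (hD ⟨max n m, rfl⟩ (derivedSeries_antitone Q (le_max_left n m))).trans
      (derivedSeries_antitone Q (le_max_right n m))
  have hD2 : IsPGroup 2 (derivedSeries Q n) := by
    refine IsPGroup.of_card (n := (Nat.card (derivedSeries Q n)).primeFactorsList.length) ?_
    refine Nat.eq_prime_pow_of_unique_prime_dvd Nat.card_pos.ne' fun {p} hp hpd => ?_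
    by_contra hp2
    haveI := Fact.mk hp
    have hK := Transfer.hasNormalPComplement_iff_coprime.mp
      (hnpc p hp hp2 (hpd.trans (Subgroup.card_subgroup_dvd_card _)))
    obtain ⟨j, hj⟩ := Transfer.exists_index_pResidual (G := Q) (p := p)
    have hq : IsPGroup p (Q ⧸ Cfsg.pResidual p Q) := IsPGroup.of_card hj
    haveI := hq.isNilpotent
    obtain ⟨m, hm⟩ := (Group.isSolvable_def (Q ⧸ Cfsg.pResidual p Q)).mp inferInstance
    have hle : derivedSeries Q m ≤ Cfsg.pResidual p Q := by
      have := map_derivedSeries_le_derivedSeries (QuotientGroup.mk' (Cfsg.pResidual p Q)) m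
      rw [hm, le_bot_iff, Subgroup.map_eq_bot_iff, QuotientGroup.ker_mk'] at this
      exact this
    rw [Transfer.coprime_iff_not_dvd] at hK
    exact hK (hpd.trans (Subgroup.card_dvd_of_le ((hDle m).trans hle)))
  haveI := hD2.isNilpotent
  refine hQns ((Group.isSolvable_def Q).mpr ⟨n, ?_⟩)
  by_contra h0
  haveI : Nontrivial (derivedSeries Q n) := (Subgroup.nontrivial_iff_ne_bot _).mpr h0
  refine (Group.IsSolvable.commutator_lt_top_of_nontrivial (derivedSeries Q n)).ne ?_
  refine Subgroup.map_injective (derivedSeries Q n).subtype_injective ?_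
  rw [← MonoidHom.range_eq_map, Subgroup.range_subtype, commutator_def,
    Subgroup.map_commutator, ← MonoidHom.range_eq_map, Subgroup.range_subtype,
    ← derivedSeries_succ]
  exact le_antisymm (derivedSeries_antitone Q (Nat.le_succ n)) (hDle (n + 1))

end Cfsg.Agent.Lib.PGroups.MaxCentralizer
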