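import Cfsg.Agent.Lib.PGroups.Taussky
import Cfsg.Agent.Lib.Coprime.Generation
import Mathlib

/-!
2-groups of maximal class.
-/

set_option autoImplicit false

namespace Cfsg.Agent.Lib.PGroups

universe u

variable {S : Type u} [Group S] [Finite S]

open scoped commutatorElement in
/-- A non-abelian 2-group of maximal class is dihedral, semidihedral or generalized quaternion. -/
theorem classify_maximal_class (hS : IsPGroup 2 S) (n : ℕ) (hn : Nat.card S = 2 ^ n) (h3 : 3 ≤ n)
    (hc : Group.nilpotencyClass S = n - 1) :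
    (∃ k : ℕ, Nonempty (S ≃* DihedralGroup (2 ^ (k + 2)))) ∨
      (∃ k : ℕ, Nat.card S = 2 ^ (k + 4) ∧ ∃ a b : S, orderOf a = 2 ^ (k + 3) ∧ orderOf b = 2 ∧
        b * a * b⁻¹ = a ^ (2 ^ (k + 2) - 1)) ∨
      (∃ k : ℕ, Nonempty (S ≃* QuaternionGroup (2 ^ (k + 1)))) := by
  haveI : Fact (Nat.Prime 2) := ⟨Nat.prime_two⟩
  haveI := hS.isNilpotent
  have h8 : 8 ≤ Nat.card S := by
    rw [hn]; calc 8 = 2 ^ 3 := by norm_num
      _ ≤ 2 ^ n := Nat.pow_le_pow_right (by norm_num) h3
  have hna : ∀ K : Subgroup S, commutator S ⊔ K = ⊤ → IsCyclic K → False := by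
    intro K hK hKc
    have hKt : K = ⊤ := frattini_nongenerating (top_le_iff.mp (hK ▸ sup_le
      (le_sup_of_le_right (Coprime.commutator_le_frattini_of_isPGroup hS)) le_sup_left))
    obtain ⟨g, hg⟩ := isCyclic_iff_exists_zpowers_eq_top.mp hKc
    have h1 : (⊤ : Subgroup S).lowerCentralSeries 1 = ⊥ := by
      rw [Subgroup.top_lowerCentralSeries_one, eq_bot_iff, commutator_def, Subgroup.commutator_le]
      intro a _ b _
      obtain ⟨i, hi⟩ := Subgroup.mem_zpowers_iff.mp (hg.ge (Subgroup.mem_top (⟨a, hKt.ge trivial⟩ : K)))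
      obtain ⟨j, hj⟩ := Subgroup.mem_zpowers_iff.mp (hg.ge (Subgroup.mem_top (⟨b, hKt.ge trivial⟩ : K)))
      have hcm := congrArg Subtype.val (show (g ^ i) * g ^ j = g ^ j * g ^ i by rw [← zpow_add, ← zpow_add, add_comm])
      rw [hi, hj] at hcm
      rw [Subgroup.mem_bot, commutatorElement_eq_one_iff_mul_comm]
      exact hcm
    rw [Subgroup.lowerCentralSeries_eq_bot_iff_nilpotencyClass_le, hc] at h1
    omega
  obtain ⟨a, ha⟩ := IsPGroup.iff_card.mp (hS.to_subgroup (commutator S))
  have hidx : (commutator S).index = 2 ^ (n - a) ∧ a ≤ n := by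
    have h := (commutator S).card_mul_index
    rw [ha, hn] at h
    have han : a ≤ n := (Nat.pow_dvd_pow_iff_le_right (by norm_num)).mp (h ▸ dvd_mul_right _ _)
    refine ⟨Nat.eq_of_mul_eq_mul_left (Nat.two_pow_pos a) ?_, han⟩
    rw [h, ← pow_add]; congr 1; omega
  -- the lower central series descends strictly
  have hdesc : ∀ i, (⊤ : Subgroup S).lowerCentralSeries (i + 1) = ⊥ ∨
      ∃ b, Nat.card ((⊤ : Subgroup S).lowerCentralSeries (i + 1)) = 2 ^ b ∧ b + i ≤ a := by
    intro i
    induction i with
    | zero => exact Or.inr ⟨a, by rw [Subgroup.top_lowerCentralSeries_one, ha], le_rfl⟩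
    | succ i ih =>
      rcases ih with h | ⟨b, hb, hbi⟩
      · exact Or.inl (le_bot_iff.mp (h ▸ (⊤ : Subgroup S).lowerCentralSeries_antitone (Nat.le_succ _)))
      · set L := fun j => (⊤ : Subgroup S).lowerCentralSeries j with hL
        by_cases he : L (i + 1 + 1) = L (i + 1)
        · left
          obtain ⟨N, hN⟩ := Subgroup.nilpotent_iff_lowerCentralSeries.mp (inferInstance : Group.IsNilpotent S)
          have hst : ∀ j, L (i + 1 + j) = L (i + 1) := by
            intro j
            induction j with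
            | zero => rfl
            | succ j ihj =>
              show (⊤ : Subgroup S).lowerCentralSeries (i + 1 + j + 1) = _
              rw [Subgroup.lowerCentralSeries_succ]
              rw [show (⊤ : Subgroup S).lowerCentralSeries (i + 1 + j) = L (i + 1) from ihj]
              rw [← Subgroup.lowerCentralSeries_succ]
              exact he
          show L (i + 1 + 1) = ⊥
          rw [he, ← hst N, eq_bot_iff, ← hN]
          exact (⊤ : Subgroup S).lowerCentralSeries_antitone (by omega)
        · right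
          obtain ⟨c, hc'⟩ := IsPGroup.iff_card.mp (hS.to_subgroup (L (i + 1 + 1)))
          refine ⟨c, hc', ?_⟩
          have hle : L (i + 1 + 1) ≤ L (i + 1) :=
            (⊤ : Subgroup S).lowerCentralSeries_antitone (Nat.le_succ _)
          have hlt : c < b := by
            by_contra hge
            refine he (Subgroup.eq_of_le_of_card_ge hle ?_)
            rw [hc', hb]
            exact Nat.pow_le_pow_right (by norm_num) (not_lt.mp hge)
          omega
  have ha2 : n - a ≤ 2 := by
    by_contra hlt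
    have h4 : (⊤ : Subgroup S).lowerCentralSeries (n - 2) = ⊥ := by
      rcases hdesc (n - 3) with h | ⟨b, hb, hb'⟩
      · rwa [show n - 3 + 1 = n - 2 by omega] at h
      · rw [show n - 3 + 1 = n - 2 by omega] at hb
        refine Subgroup.card_eq_one.mp ?_
        rw [hb, show b = 0 by omega, pow_zero]
    rw [Subgroup.lowerCentralSeries_eq_bot_iff_nilpotencyClass_le, hc] at h4
    omega
  have hgen : ∀ x : S, commutator S ⊔ Subgroup.zpowers x ≠ ⊤ := fun x h =>
    hna _ h (Subgroup.isCyclic_zpowers x)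
  have hcyc : ∀ x : S, orderOf (x : S ⧸ commutator S) ≠ (commutator S).index := by
    intro x hx
    refine hgen x (eq_top_iff.mpr fun y _ => ?_)
    have htop : Subgroup.zpowers (x : S ⧸ commutator S) = ⊤ :=
      Subgroup.eq_top_of_card_eq _ (by rw [Nat.card_zpowers, hx, Subgroup.index])
    obtain ⟨i, hi⟩ := Subgroup.mem_zpowers_iff.mp (htop.ge (Subgroup.mem_top (y : S ⧸ commutator S)))
    have h := Subgroup.mul_mem_sup ((inferInstance : (commutator S).Normal).conj_mem _
      (QuotientGroup.eq.mp (hi : ((x ^ i : S) : S ⧸ commutator S) = y)) (x ^ i))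
      (Subgroup.zpow_mem _ (Subgroup.mem_zpowers x) i)
    have e : x ^ i * ((x ^ i)⁻¹ * y) * (x ^ i)⁻¹ * x ^ i = y := by group
    rwa [e] at h
  have h2 : n - a = 2 := by
    rcases Nat.lt_or_ge (n - a) 2 with h | h
    · exfalso
      interval_cases hna' : n - a
      · refine hcyc 1 ?_
        rw [QuotientGroup.mk_one, orderOf_one, hidx.1, pow_zero]
      · obtain ⟨y, hy⟩ := exists_prime_orderOf_dvd_card' (G := S ⧸ commutator S) 2
          (by rw [← Subgroup.index, hidx.1, pow_one])
        obtain ⟨x, rfl⟩ := QuotientGroup.mk_surjective y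
        exact hcyc x (by rw [hy, hidx.1, pow_one])
    · omega
  rw [h2] at hidx
  refine taussky hS h8 hidx.1 fun x => ?_
  rw [← QuotientGroup.eq_one_iff, QuotientGroup.mk_pow]
  obtain ⟨j, hj⟩ := IsPGroup.iff_orderOf.mp (hS.to_quotient (commutator S)) (x : S ⧸ commutator S)
  have hd : orderOf (x : S ⧸ commutator S) ∣ 2 ^ 2 := by
    rw [← hidx.1, Subgroup.index]; exact orderOf_dvd_natCard _
  rw [hj] at hd
  have hj2 := (Nat.pow_dvd_pow_iff_le_right (by norm_num)).mp hd
  refine orderOf_dvd_iff_pow_eq_one.mp ?_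
  rw [hj]
  rcases Nat.lt_or_ge j 2 with h | h
  · interval_cases j <;> norm_num
  · exact absurd (hj.trans (by rw [show j = 2 by omega, hidx.1])) (hcyc x)

end Cfsg.Agent.Lib.PGroups
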