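import Cfsg.Agent.S0638
import Cfsg.Agent.Lib.RankTwo.Basic
import Cfsg.Agent.Lib.Metacyclic.Geom

/-!
Elements of order `p` of metacyclic `p`-groups without cyclic subgroups of index `p`, for odd `p`.
-/

set_option autoImplicit false

open scoped commutatorElement

namespace Cfsg.Agent.Lib.PGroups

universe u

/-- The powers of a product in a metacyclic presentation. -/
theorem metacyclic_mul_pow {L : Type u} [Group L] {x m : L} {r : ℕ} (h : x * m * x⁻¹ = m ^ r) (k : ℕ) :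
    (m * x) ^ k = m ^ Metacyclic.gsum r k * x ^ k := by
  induction k with
  | zero => simp [Metacyclic.gsum]
  | succ k ih =>
    have hx : ∀ j : ℕ, x ^ j * m = m ^ r ^ j * x ^ j := by
      intro j
      induction j with
      | zero => simp
      | succ j ihj =>
        have hb : x * m ^ r ^ j = m ^ r ^ (j + 1) * x := by
          rw [pow_succ', pow_mul, ← h, conj_pow, inv_mul_cancel_right]
        rw [pow_succ', mul_assoc, ihj, ← mul_assoc, hb, mul_assoc]
    rw [pow_succ, ih, Metacyclic.gsum_succ, pow_add, pow_succ x]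
    rw [show m ^ Metacyclic.gsum r k * x ^ k * (m * x) = m ^ Metacyclic.gsum r k * (x ^ k * m) * x by group, hx]
    simp only [mul_assoc]

/-- For odd `p`, in a metacyclic `p`-group without cyclic subgroups of index `p` the elements of order `p`
form an elementary group of order `p ^ 2` made of `p`-th powers, and commuting with all their `p`-th roots. -/
theorem metacyclic_omega_spec {L : Type u} [Group L] [Finite L] [Nontrivial L] {p : ℕ} [Fact p.Prime]
    (hp : p ≠ 2) (hL : IsPGroup p L) (hmc : Cfsg.IsMetacyclic L)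
    (hnc : ∀ C : Subgroup L, IsCyclic C → C.index ≠ p) :
    p ^ 4 ≤ Nat.card L ∧ ∃ E : Subgroup L, E.Normal ∧ Nat.card E = p ^ 2 ∧ (∀ e ∈ E, e ^ p = 1) ∧
      (∀ t : L, t ^ p = 1 → t ∈ E) ∧ (∀ x : L, x ^ p ∈ E → ∀ e ∈ E, Commute e x) ∧
      (∀ y ∈ E, ∃ x : L, x ^ p = y) := by
  have hp' : p.Prime := Fact.out
  obtain ⟨M0, hM0⟩ := IsPGroup.iff_card.mp hL
  have hM01 : 1 ≤ M0 := by
    by_contra h
    have := (Finite.one_lt_card (α := L))
    rw [hM0, show M0 = 0 by omega, pow_zero] at this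
    omega
  have hncyc : ¬ IsCyclic L := by
    intro hc
    obtain ⟨C, hC⟩ := Sylow.exists_subgroup_card_pow_prime p (n := M0 - 1) (G := L)
      (hM0 ▸ pow_dvd_pow p (Nat.sub_le _ _))
    refine hnc C inferInstance ?_
    have h := C.card_mul_index
    rw [hC, hM0] at h
    exact Nat.eq_of_mul_eq_mul_left (pow_pos hp'.pos (M0 - 1))
      (h.trans (by rw [← pow_succ, Nat.sub_add_cancel hM01]))
  obtain ⟨hEel, hEc⟩ := Cfsg.Agent.S0638.result hp hL hmc hncyc
  set E := Cfsg.omegaOne p (⊤ : Subgroup L) with hE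
  have hΩ : ∀ t : L, t ^ p = 1 → t ∈ E := fun t ht => Subgroup.subset_closure ⟨Subgroup.mem_top t, ht⟩
  have hEn : E.Normal := by
    refine ⟨fun e he g => hΩ _ ?_⟩
    rw [conj_pow, hEel.2 e he, mul_one, mul_inv_cancel]
  have hEcomm : ∀ u ∈ E, ∀ v ∈ E, Commute u v := fun u hu v hv =>
    congrArg Subtype.val (hEel.1.is_comm.comm ⟨u, hu⟩ ⟨v, hv⟩)
  obtain ⟨N, hNn, hNc, hQc⟩ := hmc
  haveI := hNn
  obtain ⟨⟨ν, hνN⟩, hν⟩ := hNc.exists_generator
  have hNgen : N = Subgroup.zpowers ν := by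
    refine le_antisymm (fun x hx => ?_) (Subgroup.zpowers_le.mpr hνN)
    obtain ⟨k, hk⟩ := Subgroup.mem_zpowers_iff.mp (hν ⟨x, hx⟩)
    exact Subgroup.mem_zpowers_iff.mpr ⟨k, congrArg Subtype.val hk⟩
  have hNpow : ∀ x ∈ N, ∃ i : ℕ, ν ^ i = x := fun x hx => by
    rw [hNgen, ← mem_powers_iff_mem_zpowers] at hx
    exact (Submonoid.mem_powers_iff _ _).mp hx
  obtain ⟨t, hνt⟩ := IsPGroup.iff_orderOf.mp hL ν
  have hNt : Nat.card N = p ^ t := by rw [hNgen, Nat.card_zpowers, hνt]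
  obtain ⟨s, hs⟩ := hL.index N
  obtain ⟨q, hq⟩ := hQc.exists_generator
  obtain ⟨b, rfl⟩ := QuotientGroup.mk'_surjective N q
  set π := QuotientGroup.mk' N with hπ
  have hπb : orderOf (π b) = p ^ s := by
    rw [orderOf_eq_card_of_forall_mem_zpowers hq, ← Subgroup.index_eq_card, hs]
  have hcardL : Nat.card L = p ^ (t + s) := by rw [pow_add, ← hNt, ← hs, N.card_mul_index]
  -- cyclic subgroups have index at least `p ^ 2`
  have hcyc : ∀ g : L, ∀ j, orderOf g = p ^ j → j + 2 ≤ t + s := by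
    intro g j hj
    have h := (Subgroup.zpowers g).card_mul_index
    rw [Nat.card_zpowers, hj, hcardL] at h
    have hle : j ≤ t + s := (Nat.pow_dvd_pow_iff_le_right hp'.one_lt).mp (h ▸ dvd_mul_right _ _)
    have hidx : (Subgroup.zpowers g).index = p ^ (t + s - j) := by
      refine Nat.eq_of_mul_eq_mul_left (pow_pos hp'.pos j) (h.trans ?_)
      rw [← pow_add, Nat.add_sub_cancel' hle]
    by_contra hlt
    rcases (show t + s - j = 0 ∨ t + s - j = 1 by omega) with h0 | h1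
    · rw [h0, pow_zero, Subgroup.index_eq_one] at hidx
      exact hncyc (isCyclic_iff_exists_zpowers_eq_top.mpr ⟨g, hidx⟩)
    · rw [h1, pow_one] at hidx
      exact hnc _ inferInstance hidx
  have hs2 : 2 ≤ s := by
    have := hcyc ν t hνt
    omega
  have ht2 : 2 ≤ t := by
    obtain ⟨j, hj⟩ := IsPGroup.iff_orderOf.mp hL b
    have h1 : s ≤ j := (Nat.pow_dvd_pow_iff_le_right hp'.one_lt).mp (hj ▸ hπb ▸ orderOf_map_dvd π b)
    have := hcyc b j hj
    omega
  refine ⟨by rw [hcardL]; exact Nat.pow_le_pow_right hp'.pos (by omega), E, hEn, hEc, hEel.2, hΩ, ?_⟩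
  -- conjugation on `N`
  have hconj : ∀ g : L, ∃ c : ℕ, ∀ n ∈ N, g * n * g⁻¹ = n ^ (1 + p * c) := by
    intro g
    obtain ⟨r, hr⟩ := hNpow _ (hNn.conj_mem ν hνN g)
    set z := ν ^ p ^ (t - 1) with hz
    have hzo : orderOf z = p := by
      rw [hz, orderOf_pow_of_dvd (pow_ne_zero _ hp'.ne_zero) (hνt ▸ pow_dvd_pow p (Nat.sub_le _ _)), hνt,
        Nat.pow_div (Nat.sub_le _ _) hp'.pos, show t - (t - 1) = 1 by omega, pow_one]
    haveI hzn : (Subgroup.zpowers z).Normal := ⟨fun w hw h => by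
      obtain ⟨r', hr'⟩ := hNpow _ (hNn.conj_mem ν hνN h)
      obtain ⟨k, rfl⟩ := Subgroup.mem_zpowers_iff.mp hw
      rw [← conj_zpow]
      refine zpow_mem ?_ k
      rw [hz, ← conj_pow, ← hr', pow_right_comm]
      exact pow_mem (Subgroup.mem_zpowers _) _⟩
    have hzc : z ∈ Subgroup.center L := RankTwo.le_center_of_card_le hL
      (N := Subgroup.zpowers z) (by rw [Nat.card_zpowers, hzo]) (Subgroup.mem_zpowers z)
    have hzr : z ^ r = z ^ 1 := by
      rw [pow_one, hz, pow_right_comm, hr, conj_pow, ← hz, Subgroup.mem_center_iff.mp hzc g, mul_inv_cancel_right]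
    have hmod : r ≡ 1 [MOD p] := hzo ▸ pow_eq_pow_iff_modEq.mp hzr
    obtain ⟨c, hc⟩ : ∃ c, r = 1 + p * c := by
      refine ⟨r / p, ?_⟩
      have h := Nat.div_add_mod r p
      rw [hmod, Nat.one_mod_eq_one.mpr hp'.ne_one] at h
      omega
    refine ⟨c, fun n hn => ?_⟩
    obtain ⟨i, rfl⟩ := hNpow n hn
    rw [← conj_pow, ← hr, hc, pow_right_comm]
  -- elements of order `p` in `N` are central
  have hNΩ : ∀ e ∈ N, e ^ p = 1 → e ∈ Subgroup.center L := by
    intro e he hep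
    refine Subgroup.mem_center_iff.mpr fun g => ?_
    obtain ⟨c, hc⟩ := hconj g
    have h1 : g * e * g⁻¹ = e := by rw [hc e he, pow_add, pow_one, pow_mul, hep, one_pow, mul_one]
    exact mul_inv_eq_iff_eq_mul.mp h1
  -- commutators of `E` with `N`
  have hcE : ∀ e ∈ E, ∀ n ∈ N, ⁅n, e⁆ ∈ Subgroup.center L ∧ ⁅n, e⁆ ^ p = 1 := by
    intro e he n hn
    have h1 : ⁅n, e⁆ ∈ E := by
      rw [commutatorElement_def]
      exact E.mul_mem (hEn.conj_mem e he n) (E.inv_mem he)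
    have h2 : ⁅n, e⁆ ∈ N := by
      rw [commutatorElement_def, mul_assoc, mul_assoc, ← mul_assoc e]
      exact N.mul_mem hn (hNn.conj_mem _ (N.inv_mem hn) e)
    exact ⟨hNΩ _ h2 (hEel.2 _ h1), hEel.2 _ h1⟩
  have hEpowN : ∀ e ∈ E, ∀ n ∈ N, Commute e (n ^ p) := by
    intro e he n hn
    obtain ⟨hc, hcp⟩ := hcE e he n hn
    have h1 : e * n * e⁻¹ = ⁅n, e⁆⁻¹ * n := by rw [commutatorElement_def]; group
    have h2 : e * n ^ p * e⁻¹ = n ^ p := by
      rw [← conj_pow, h1, (show Commute ⁅n, e⁆⁻¹ n from (Subgroup.mem_center_iff.mp (inv_mem hc) n).symm).mul_pow,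
        inv_pow, hcp, inv_one,
        one_mul]
    exact mul_inv_eq_iff_eq_mul.mp h2
  -- `E` is not in `N`, and its image is the socle of `L ⧸ N`
  set β := π (b ^ p ^ (s - 1)) with hβ
  have hsoc : ∀ g : L, π g ^ p = 1 → ∃ i : ℕ, π g = β ^ i := by
    intro g hg
    obtain ⟨k, hk⟩ := (Submonoid.mem_powers_iff _ _).mp (mem_powers_iff_mem_zpowers.mpr (hq (π g)))
    rw [← hk, ← pow_mul, ← orderOf_dvd_iff_pow_eq_one, hπb] at hg
    have hd : p ^ (s - 1) ∣ k := (Nat.mul_dvd_mul_iff_right hp'.pos).mp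
      (by rwa [← pow_succ, Nat.sub_add_cancel (by omega : 1 ≤ s)])
    obtain ⟨i, rfl⟩ := hd
    exact ⟨i, by rw [← hk, hβ, map_pow, pow_mul]⟩
  obtain ⟨e₀, he₀, he₀N⟩ : ∃ e ∈ E, e ∉ N := by
    by_contra hcon
    push Not at hcon
    haveI : IsCyclic E := isCyclic_of_injective (Subgroup.inclusion (show E ≤ N from hcon))
      (Subgroup.inclusion_injective _)
    obtain ⟨⟨g, hg⟩, hgen⟩ := IsCyclic.exists_generator (α := E)
    have h1 : orderOf g = p ^ 2 := by
      rw [← hEc, ← orderOf_eq_card_of_forall_mem_zpowers hgen, Subgroup.orderOf_mk]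
    have h2 := Nat.le_of_dvd hp'.pos (h1 ▸ orderOf_dvd_of_pow_eq_one (hEel.2 g hg))
    exact absurd h2 (not_le.mpr (lt_self_pow₀ hp'.one_lt (by norm_num)))
  obtain ⟨e₁, he₁, he₁π⟩ : ∃ e ∈ E, π e = β := by
    obtain ⟨i, hi⟩ := hsoc e₀ (by rw [← map_pow, hEel.2 e₀ he₀, map_one])
    have hβp : β ^ p = 1 := by
      rw [hβ, ← map_pow, ← pow_mul, ← pow_succ, Nat.sub_add_cancel (by omega : 1 ≤ s), map_pow, ← hπb,
        pow_orderOf_eq_one]
    have hni : ¬ p ∣ i := by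
      rintro ⟨k, rfl⟩
      rw [pow_mul, hβp, one_pow] at hi
      exact he₀N ((QuotientGroup.eq_one_iff e₀).mp hi)
    have hco : i.Coprime (orderOf β) := by
      rcases (Nat.dvd_prime hp').mp (orderOf_dvd_of_pow_eq_one hβp) with h | h <;> rw [h]
      · exact Nat.coprime_one_right i
      · exact ((Nat.Prime.coprime_iff_not_dvd hp').mpr hni).symm
    obtain ⟨j, hj⟩ := exists_pow_eq_self_of_coprime hco
    exact ⟨e₀ ^ j, E.pow_mem he₀ j, by rw [map_pow, hi, hj]⟩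
  have hEdec : ∀ e ∈ E, ∃ (i : ℕ) (ζ : L), ζ ∈ E ∧ ζ ∈ N ∧ e = e₁ ^ i * ζ := by
    intro e he
    obtain ⟨i, hi⟩ := hsoc e (by rw [← map_pow, hEel.2 e he, map_one])
    refine ⟨i, (e₁ ^ i)⁻¹ * e, E.mul_mem (E.inv_mem (E.pow_mem he₁ i)) he, ?_, by group⟩
    rw [← QuotientGroup.eq_one_iff, ← QuotientGroup.mk'_apply, ← hπ, map_mul, map_inv, map_pow, he₁π, hi,
      inv_mul_cancel]
  -- `E` centralises the elements of order `p ^ 2` of `N`
  have hN2 : ∀ n ∈ N, n ^ p ^ 2 = 1 → ∀ e ∈ E, Commute e n := by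
    intro n hn hn2 e he
    obtain ⟨i, hi⟩ := hsoc e (by rw [← map_pow, hEel.2 e he, map_one])
    set g := b ^ (p ^ (s - 2) * i) with hg
    have hπe : π e = π (g ^ p) := by
      rw [hi, hβ, ← map_pow, ← pow_mul, hg, ← pow_mul,
        show p ^ (s - 2) * i * p = p ^ (s - 1) * i by
          rw [show s - 1 = (s - 2) + 1 by omega, pow_succ]; ring]
    obtain ⟨n', hn', rfl⟩ : ∃ n' ∈ N, e = g ^ p * n' :=
      ⟨(g ^ p)⁻¹ * e, by rw [← QuotientGroup.eq_one_iff, ← QuotientGroup.mk'_apply, ← hπ, map_mul, map_inv, hπe,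
        inv_mul_cancel], by group⟩
    have h1 : Commute n' n := congrArg Subtype.val (mul_comm' (⟨n', hn'⟩ : N) ⟨n, hn⟩)
    refine Commute.mul_left ?_ h1
    obtain ⟨c, hc⟩ := hconj g
    have h2 : ∀ k : ℕ, g ^ k * n * (g ^ k)⁻¹ = n ^ (1 + p * c) ^ k := by
      intro k
      induction k with
      | zero => simp
      | succ k ih =>
        rw [pow_succ', show g * g ^ k * n * (g * g ^ k)⁻¹ = g * (g ^ k * n * (g ^ k)⁻¹) * g⁻¹ by group, ih,
          ← conj_pow, hc n hn, ← pow_mul, pow_succ']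
    obtain ⟨v, hv⟩ := Metacyclic.gsum_prime (p := p) hp (x := 1 + p * c) (by simp)
    have h3 := h2 p
    rw [Metacyclic.pow_eq_one_add, hv, pow_add, pow_one, show p * c * (p * (1 + p * v)) = p ^ 2 * (c * (1 + p * v))
      by ring, pow_mul n, hn2, one_pow, mul_one] at h3
    exact mul_inv_eq_iff_eq_mul.mp h3
  have hF1 : ∀ x : L, x ^ p ∈ E → ∀ e ∈ E, Commute e x := by
    intro x hx
    suffices Commute e₁ x by
      intro e he
      obtain ⟨i, ζ, hζE, hζN, rfl⟩ := hEdec e he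
      exact (this.pow_left i).mul_left
        (Subgroup.mem_center_iff.mp (hNΩ ζ hζN (hEel.2 ζ hζE)) x).symm
    obtain ⟨i, ζ, hζE, hζN, hi⟩ := hEdec _ hx
    by_cases hpi : p ∣ i
    · obtain ⟨k, rfl⟩ := hpi
      rw [pow_mul, hEel.2 e₁ he₁, one_pow, one_mul] at hi
      obtain ⟨j, hj⟩ := hsoc x (by
        rw [← map_pow, hi, hπ, QuotientGroup.mk'_apply, QuotientGroup.eq_one_iff]
        exact hζN)
      obtain ⟨n, hn, rfl⟩ : ∃ n ∈ N, x = e₁ ^ j * n := ⟨(e₁ ^ j)⁻¹ * x, by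
        rw [← QuotientGroup.eq_one_iff, ← QuotientGroup.mk'_apply, ← hπ, map_mul, map_inv, map_pow, he₁π, hj,
          inv_mul_cancel], by group⟩
      obtain ⟨hcc, hcp⟩ := hcE _ (E.pow_mem he₁ j) n hn
      rw [RankTwo.mul_pow_class_two hp (Subgroup.mem_center_iff.mp hcc _) (Subgroup.mem_center_iff.mp hcc _) hcp,
        hEel.2 _ (E.pow_mem he₁ j), one_mul] at hi
      exact ((Commute.refl e₁).pow_right j).mul_right (hN2 n hn (by rw [pow_two, pow_mul, hi, hEel.2 ζ hζE]) e₁ he₁)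
    · have h1 : Commute (e₁ ^ i) x := by
        have h2 : Commute (x ^ p * ζ⁻¹) x := ((Commute.refl x).pow_left p).mul_left
          (Subgroup.mem_center_iff.mp (inv_mem (hNΩ ζ hζN (hEel.2 ζ hζE))) x).symm
        rwa [hi, mul_inv_cancel_right] at h2
      have hco : i.Coprime (orderOf e₁) := by
        rcases (Nat.dvd_prime hp').mp (orderOf_dvd_of_pow_eq_one (hEel.2 e₁ he₁)) with h | h <;> rw [h]
        · exact Nat.coprime_one_right i
        · exact ((Nat.Prime.coprime_iff_not_dvd hp').mpr hpi).symm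
      obtain ⟨j, hj⟩ := exists_pow_eq_self_of_coprime hco
      exact hj ▸ h1.pow_left j
  refine ⟨hF1, ?_⟩
  -- a root of `e₁`
  obtain ⟨x₁, hx₁⟩ : ∃ x : L, x ^ p = e₁ := by
    set x := b ^ p ^ (s - 2) with hx
    have hxp : x ^ p = b ^ p ^ (s - 1) := by
      rw [hx, ← pow_mul, ← pow_succ, show s - 2 + 1 = s - 1 by omega]
    obtain ⟨n, hn, hen⟩ : ∃ n ∈ N, x ^ p = e₁ * n := ⟨e₁⁻¹ * x ^ p, by
      rw [← QuotientGroup.eq_one_iff, ← QuotientGroup.mk'_apply, ← hπ, map_mul, map_inv, he₁π, hxp, ← hβ,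
        inv_mul_cancel], by group⟩
    obtain ⟨i, rfl⟩ := hNpow n hn
    by_cases hpi : p ∣ i
    · obtain ⟨k, rfl⟩ := hpi
      obtain ⟨c, hc⟩ := hconj x
      obtain ⟨v, hv⟩ := Metacyclic.gsum_prime (p := p) hp (x := 1 + p * c) (by simp)
      have hn1 : ν ^ k ∈ N := N.pow_mem hνN k
      obtain ⟨d, hd⟩ := IsPGroup.iff_orderOf.mp hL (ν ^ k)
      have hco : (1 + p * v).Coprime (orderOf (ν ^ k)) := by
        rw [hd]
        refine (Nat.Coprime.pow_left d ((Nat.Prime.coprime_iff_not_dvd hp').mpr ?_)).symm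
        rw [Nat.dvd_add_left (dvd_mul_right p v)]
        exact hp'.not_dvd_one
      obtain ⟨q, hq⟩ := exists_pow_eq_self_of_coprime hco
      set m := (((ν ^ k) ^ q))⁻¹ with hm
      refine ⟨m * x, ?_⟩
      rw [metacyclic_mul_pow (hc m (N.inv_mem (N.pow_mem hn1 q))) p, hv, hen, hm, inv_pow, ← pow_mul,
        show q * (p * (1 + p * v)) = (1 + p * v) * q * p by ring, pow_mul (ν ^ k) _ p, pow_mul (ν ^ k) _ q, hq,
        mul_comm p k, pow_mul ν k p, (hEpowN e₁ he₁ _ hn1).eq, inv_mul_cancel_left]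
    · exfalso
      obtain ⟨hcc, hcp⟩ := hcE e₁ he₁ _ hn
      have h1 : b ^ p ^ s = (ν ^ i) ^ p := by
        rw [show p ^ s = p ^ (s - 1) * p by rw [← pow_succ, Nat.sub_add_cancel (by omega : 1 ≤ s)],
          pow_mul, ← hxp, hen,
          RankTwo.mul_pow_class_two hp (Subgroup.mem_center_iff.mp hcc _) (Subgroup.mem_center_iff.mp hcc _) hcp,
          hEel.2 e₁ he₁, one_mul]
      obtain ⟨j, hj⟩ := IsPGroup.iff_orderOf.mp hL b
      have hsj : s ≤ j := (Nat.pow_dvd_pow_iff_le_right hp'.one_lt).mp (hj ▸ hπb ▸ orderOf_map_dvd π b)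
      have h2 := congrArg orderOf h1
      rw [orderOf_pow_of_dvd (pow_ne_zero _ hp'.ne_zero) (hj ▸ pow_dvd_pow p hsj), hj, Nat.pow_div hsj hp'.pos,
        ← pow_mul, mul_comm i p, pow_mul,
        Nat.Coprime.orderOf_pow (by
          refine Nat.Coprime.coprime_dvd_left (orderOf_pow_dvd p) ?_
          rw [hνt]
          exact Nat.Coprime.pow_left t ((Nat.Prime.coprime_iff_not_dvd hp').mpr hpi)),
        orderOf_pow_of_dvd hp'.ne_zero (hνt ▸ dvd_pow_self p (by omega))] at h2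
      have h3 : p ^ t / p = p ^ (t - 1) := by
        have := Nat.pow_div (show 1 ≤ t by omega) hp'.pos
        rwa [pow_one] at this
      rw [hνt, h3] at h2
      have := Nat.pow_right_injective hp'.two_le h2
      have := hcyc b j hj
      omega
  intro y hy
  obtain ⟨i, ζ, hζE, hζN, rfl⟩ := hEdec y hy
  obtain ⟨j, rfl⟩ := hNpow ζ hζN
  have hd := orderOf_dvd_of_pow_eq_one (hEel.2 _ hζE ▸ pow_mul ν j p ▸ rfl : ν ^ (j * p) = 1)
  rw [hνt] at hd
  obtain ⟨k, rfl⟩ : p ∣ j := by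
    have h : p ^ (t - 1) * p ∣ j * p := by rwa [← pow_succ, Nat.sub_add_cancel (by omega : 1 ≤ t)]
    exact (dvd_pow_self p (by omega)).trans ((Nat.mul_dvd_mul_iff_right hp'.pos).mp h)
  have hrootcent : ∀ u : L, u ^ p ∈ E → u ∈ Subgroup.centralizer (E : Set L) := fun u hu =>
    Subgroup.mem_centralizer_iff.mpr fun e he => (hF1 u hu e he).eq
  have ha : (x₁ ^ i) ^ p = e₁ ^ i := by rw [← pow_mul, mul_comm, pow_mul, hx₁]
  have hb : (ν ^ k) ^ p = ν ^ (p * k) := by rw [← pow_mul, mul_comm]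
  have hM : RankTwo.OmegaCentral p (Subgroup.centralizer (E : Set L)) := fun u _ hu m hm =>
    Subgroup.mem_centralizer_iff.mp hm u (hΩ u hu)
  have hbE : (ν ^ k) ^ p ∈ E := hb ▸ hζE
  refine ⟨x₁ ^ i * ν ^ k, ?_⟩
  rw [RankTwo.mul_pow_of_commute_pow hp hL hM (hrootcent _ (ha ▸ E.pow_mem he₁ i)) (hrootcent _ hbE)
    (ha ▸ (hF1 _ hbE _ (E.pow_mem he₁ i)).symm), ha, hb]

end Cfsg.Agent.Lib.PGroups
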