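import Mathlib
import Cfsg.Prelude.Def_HallClasses

/-!
Pronormality of the overgroups of Sylow subgroups, passing to a normal subgroup and its quotient.
-/

set_option autoImplicit false
set_option linter.style.haveILetI false

namespace Cfsg.Agent.Lib.PGroups.Pronormal

open scoped Pointwise

variable {G : Type*} [Group G]

/-- The conjugate subgroup. -/
abbrev cj (g : G) (H : Subgroup G) : Subgroup G := H.map (MulAut.conj g).toMonoidHom

theorem cj_mul (a b : G) (H : Subgroup G) : cj (a * b) H = cj a (cj b H) := by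
  show H.map _ = (H.map _).map _
  rw [Subgroup.map_map, map_mul]; rfl

theorem cj_one (H : Subgroup G) : cj 1 H = H := by
  show H.map _ = H
  rw [map_one]
  exact Subgroup.map_id H

theorem cj_iff {H : Subgroup G} {g : G} :
    cj g H = H ↔ g ∈ Subgroup.normalizer (H : Set G) := by
  rw [Subgroup.mem_normalizer_iff_map_conj_eq]; rfl

theorem cj_self {H : Subgroup G} {h : G} (hh : h ∈ H) : cj h H = H :=
  cj_iff.mpr (Subgroup.le_normalizer hh)

theorem cj_mono {H K : Subgroup G} (g : G) (h : H ≤ K) : cj g H ≤ cj g K := Subgroup.map_mono h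

theorem cj_eq_cj {H : Subgroup G} {a b : G} :
    cj a H = cj b H ↔ a⁻¹ * b ∈ Subgroup.normalizer (H : Set G) := by
  rw [← cj_iff, cj_mul]
  constructor
  · intro h; rw [← h, ← cj_mul, inv_mul_cancel, cj_one]
  · intro h
    calc cj a H = cj a (cj a⁻¹ (cj b H)) := by rw [h]
      _ = cj b H := by rw [← cj_mul, mul_inv_cancel, cj_one]

theorem cj_le_of_mem {H X : Subgroup G} {x : G} (hx : x ∈ X) (h : H ≤ X) : cj x H ≤ X := by
  rintro _ ⟨u, hu, rfl⟩
  exact X.mul_mem (X.mul_mem hx (h hu)) (X.inv_mem hx)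

theorem map_cj {G' : Type*} [Group G'] (φ : G →* G') (g : G) (H : Subgroup G) :
    (cj g H).map φ = cj (φ g) (H.map φ) := by
  show (H.map _).map φ = (H.map φ).map _
  rw [Subgroup.map_map, Subgroup.map_map]
  congr 1
  ext u
  simp [MulAut.conj_apply]

/-- Pronormality passes to images. -/
theorem pronormal_map {G' : Type*} [Group G'] {φ : G →* G'} (hφ : Function.Surjective φ)
    {H : Subgroup G} (h : Cfsg.IsPronormal H) : Cfsg.IsPronormal (H.map φ) := by
  intro g'
  obtain ⟨g, rfl⟩ := hφ g'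
  obtain ⟨x, hx, he⟩ := h g
  refine ⟨φ x, ?_, ?_⟩
  · have := Subgroup.mem_map_of_mem φ hx
    rwa [Subgroup.map_sup, map_cj] at this
  · show cj (φ g) (H.map φ) = cj (φ x) (H.map φ)
    rw [← map_cj, ← map_cj]; exact congrArg (Subgroup.map φ) he

/-- Pronormality is inherited by an intermediate subgroup. -/
theorem pronormal_subgroupOf {H N : Subgroup G} (hHN : H ≤ N) (h : Cfsg.IsPronormal H) :
    Cfsg.IsPronormal (H.subgroupOf N) := by
  intro n
  obtain ⟨x, hx, he⟩ := h n
  have hmap : (H.subgroupOf N).map N.subtype = H := Subgroup.map_subgroupOf_eq_of_le hHN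
  have hX : H ⊔ cj (n : G) H = ((H.subgroupOf N) ⊔ cj n (H.subgroupOf N)).map N.subtype := by
    rw [Subgroup.map_sup, map_cj, hmap]; rfl
  change x ∈ H ⊔ cj (n : G) H at hx
  rw [hX] at hx
  obtain ⟨y, hy, rfl⟩ := hx
  refine ⟨y, hy, Subgroup.map_injective N.subtype_injective ?_⟩
  show (cj n (H.subgroupOf N)).map N.subtype = (cj y (H.subgroupOf N)).map N.subtype
  rw [map_cj, map_cj, hmap]
  exact he

/-- Pronormality lifts through a quotient whose kernel lies in the subgroup. -/
theorem pronormal_of_map {G' : Type*} [Group G'] {φ : G →* G'}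
    {H : Subgroup G} (hk : φ.ker ≤ H) (h : Cfsg.IsPronormal (H.map φ)) : Cfsg.IsPronormal H := by
  intro g
  obtain ⟨x', hx', he⟩ := h (φ g)
  change x' ∈ H.map φ ⊔ cj (φ g) (H.map φ) at hx'
  rw [← map_cj, ← Subgroup.map_sup] at hx'
  obtain ⟨x, hx, rfl⟩ := hx'
  refine ⟨x, hx, ?_⟩
  have hle : ∀ z : G, φ.ker ≤ cj z H := fun z u hu => by
    refine ⟨z⁻¹ * u * z, hk ?_, by simp [MulAut.conj_apply, mul_assoc]⟩
    have := φ.normal_ker.conj_mem u hu z⁻¹
    rwa [inv_inv] at this
  have hm : (cj g H).map φ = (cj x H).map φ := by rw [map_cj, map_cj]; exact he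
  have := congrArg (Subgroup.comap φ) hm
  rwa [Subgroup.comap_map_eq_self (hle g), Subgroup.comap_map_eq_self (hle x)] at this

variable [Finite G] {p : ℕ} [Fact p.Prime]

/-- Containing a Sylow subgroup means index prime to `p`. -/
theorem contains_sylow_iff {K : Subgroup G} :
    (∃ P : Sylow p G, (P : Subgroup G) ≤ K) ↔ ¬ p ∣ K.index := by
  constructor
  · rintro ⟨P, hP⟩ h
    exact P.not_dvd_index (h.trans (Subgroup.index_dvd_of_le hP))
  · intro h
    have Q : Sylow p K := Classical.arbitrary _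
    have hd : ¬ p ∣ ((Q : Subgroup K).map K.subtype).index := by
      rw [Subgroup.index_map_subtype]
      exact Nat.Prime.not_dvd_mul Fact.out Q.not_dvd_index h
    exact ⟨(Q.2.map K.subtype).toSylow hd, Subgroup.map_subtype_le _⟩

variable (p) in
/-- Every overgroup of a Sylow subgroup is pronormal. -/
abbrev AllPro (G : Type*) [Group G] : Prop :=
  ∀ K : Subgroup G, (∃ P : Sylow p G, (P : Subgroup G) ≤ K) → Cfsg.IsPronormal K

/-- Conjugates of a Sylow subgroup inside an overgroup are conjugate there. -/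
theorem exists_conj_in {P D : Subgroup G} (hP : IsPGroup p P) (hPD : P ≤ D) (hd : ¬ p ∣ P.relIndex D)
    {g : G} (hg : cj g P ≤ D) : ∃ d ∈ D, cj d P = cj g P := by
  let P₁ : Sylow p D := (hP.comap_of_injective D.subtype D.subtype_injective).toSylow hd
  have hgd : ¬ p ∣ (cj g P).relIndex D := by
    have hc : Nat.card (cj g P) = Nat.card P :=
      Nat.card_congr (Subgroup.equivMapOfInjective P _ (MulEquiv.injective _)).symm.toEquiv
    have e1 := Subgroup.card_mul_index ((cj g P).subgroupOf D)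
    have e2 := Subgroup.card_mul_index (P.subgroupOf D)
    rw [Nat.card_congr (Subgroup.subgroupOfEquivOfLe hg).toEquiv, hc] at e1
    rw [Nat.card_congr (Subgroup.subgroupOfEquivOfLe hPD).toEquiv] at e2
    have : (cj g P).relIndex D = P.relIndex D :=
      Nat.eq_of_mul_eq_mul_left Nat.card_pos (e1.trans e2.symm)
    rwa [this]
  let P₂ : Sylow p D := ((hP.map _).comap_of_injective D.subtype D.subtype_injective).toSylow hgd
  obtain ⟨d, hd'⟩ := MulAction.exists_smul_eq D P₁ P₂
  refine ⟨d, d.2, ?_⟩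
  have h := congrArg (fun Q : Sylow p D => (Q : Subgroup D).map D.subtype) hd'
  simp only [Sylow.coe_subgroup_smul] at h
  have h1 : (MulAut.conj d • (P₁ : Subgroup D)).map D.subtype = cj (d : G) P := by
    rw [Subgroup.pointwise_smul_def]
    show (cj d (P₁ : Subgroup D)).map D.subtype = _
    rw [map_cj]
    show cj (d : G) ((P.subgroupOf D).map D.subtype) = _
    rw [Subgroup.map_subgroupOf_eq_of_le hPD]
  rw [h1] at h
  rw [h]
  exact Subgroup.map_subgroupOf_eq_of_le hg

section Main

variable (A : Subgroup G) [A.Normal] (T : Subgroup G)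

theorem not_dvd_relIndex {H : Subgroup G} (hH : ¬ p ∣ H.index) : ¬ p ∣ H.relIndex A := by
  obtain ⟨k, hk⟩ := A.relIndex_dvd_index_of_normal H
  have e1 : H.relIndex A * A.index = (H ⊓ A).index := by
    rw [← Subgroup.inf_relIndex_right H A, Subgroup.relIndex_mul_index inf_le_right]
  have e2 : A.relIndex H * H.index = (H ⊓ A).index := by
    rw [← Subgroup.inf_relIndex_left H A, Subgroup.relIndex_mul_index inf_le_left]
  have hpos : 0 < A.relIndex H := Nat.pos_of_ne_zero (Subgroup.index_ne_zero_of_finite (H := A.subgroupOf H))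
  have e3 : H.index = H.relIndex A * k := Nat.eq_of_mul_eq_mul_left hpos
    (by rw [e2, ← e1, hk]; ring)
  intro h
  exact hH (e3 ▸ h.mul_right k)

variable (hT : ∃ P : Sylow p ↥A, (P : Subgroup ↥A).map A.subtype = T)
include hT

theorem sylow_data : T ≤ A ∧ IsPGroup p T ∧ ¬ p ∣ T.relIndex A := by
  obtain ⟨P, rfl⟩ := hT
  refine ⟨Subgroup.map_subtype_le _, P.2.map _, ?_⟩
  rw [Subgroup.relIndex, Subgroup.subgroupOf, Subgroup.comap_map_eq_self_of_injective A.subtype_injective]
  exact P.not_dvd_index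

/-- An overgroup of a Sylow subgroup contains a conjugate of `T` by an element of `A`. -/
theorem exists_conj_le {H : Subgroup G} (hH : ¬ p ∣ H.index) : ∃ c ∈ A, cj c T ≤ H := by
  obtain ⟨S, hS⟩ := (contains_sylow_iff (p := p)).mpr hH
  obtain ⟨P, rfl⟩ := hT
  let Q : Sylow p A := (S.2.comap_of_injective A.subtype A.subtype_injective).toSylow
    (not_dvd_relIndex A S.not_dvd_index)
  obtain ⟨c, hc⟩ := MulAction.exists_smul_eq A P Q
  refine ⟨c, c.2, ?_⟩
  have h := congrArg (fun Q : Sylow p A => (Q : Subgroup A).map A.subtype) hc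
  simp only [Sylow.coe_subgroup_smul, Subgroup.pointwise_smul_def] at h
  change (cj c (P : Subgroup A)).map A.subtype = _ at h
  rw [map_cj] at h
  change cj (c : G) _ = _ at h
  rw [h]
  exact (Subgroup.map_comap_le _ _).trans hS

theorem le_normalizer_of_sylow {S : Sylow p G} (h : T ≤ (S : Subgroup G)) :
    (S : Subgroup G) ≤ Subgroup.normalizer (T : Set G) := by
  obtain ⟨hTA, -, -⟩ := sylow_data A T hT
  have e : T = (S : Subgroup G) ⊓ A := by
    obtain ⟨P, rfl⟩ := hT
    refine le_antisymm (le_inf h hTA) fun u hu => ?_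
    have hmax := P.3 (Q := (S : Subgroup G).subgroupOf A)
      (S.2.comap_of_injective A.subtype A.subtype_injective)
      (fun v hv => h ⟨v, hv, rfl⟩)
    have : (⟨u, hu.2⟩ : A) ∈ (S : Subgroup G).subgroupOf A := hu.1
    rw [hmax] at this
    exact ⟨_, this, rfl⟩
  intro s hs
  rw [e, ← cj_iff]
  show ((S : Subgroup G) ⊓ A).map _ = _
  rw [Subgroup.map_inf _ _ _ (MulEquiv.injective _)]
  congr 1
  · exact cj_self hs
  · exact cj_iff.mpr (Subgroup.normalizer_eq_top A ▸ Subgroup.mem_top s)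

theorem normalizer_index : ¬ p ∣ (Subgroup.normalizer (T : Set G)).index := by
  obtain ⟨S, hS⟩ := (sylow_data A T hT).2.1.exists_le_sylow
  exact contains_sylow_iff.mp ⟨S, le_normalizer_of_sylow A T hT hS⟩

theorem quotient_necessary [(T.subgroupOf (Subgroup.normalizer (T : Set G))).Normal]
    (h : AllPro p G) :
    AllPro p (↥(Subgroup.normalizer (T : Set G)) ⧸ T.subgroupOf (Subgroup.normalizer (T : Set G))) := by
  intro K hK
  set N := Subgroup.normalizer (T : Set G)
  set φ := QuotientGroup.mk' (T.subgroupOf N)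
  have hφ : Function.Surjective φ := QuotientGroup.mk'_surjective _
  have hi : ¬ p ∣ ((K.comap φ).map N.subtype).index := by
    rw [Subgroup.index_map_subtype, Subgroup.index_comap_of_surjective _ hφ]
    exact Nat.Prime.not_dvd_mul Fact.out (contains_sylow_iff.mp hK) (normalizer_index A T hT)
  have hp := pronormal_map hφ (pronormal_subgroupOf (Subgroup.map_subtype_le (K.comap φ))
    (h _ (contains_sylow_iff.mpr hi)))
  change Cfsg.IsPronormal ((((K.comap φ).map N.subtype).comap N.subtype).map φ) at hp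
  rwa [Subgroup.comap_map_eq_self_of_injective N.subtype_injective,
    Subgroup.map_comap_eq_self_of_surjective hφ] at hp

omit hT in
theorem normalizer_image (h : AllPro p G) (K : Subgroup G)
    (hK : ∃ P : Sylow p G, (P : Subgroup G) ≤ K) :
    (Subgroup.normalizer (K : Set G)).map (QuotientGroup.mk' A) =
      Subgroup.normalizer ((K.map (QuotientGroup.mk' A) : Subgroup (G ⧸ A)) : Set (G ⧸ A)) := by
  refine le_antisymm ?_ fun g' hg' => ?_
  · rintro _ ⟨g, hg, rfl⟩
    rw [← cj_iff, ← map_cj, cj_iff.mpr hg]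
  · obtain ⟨g, rfl⟩ := QuotientGroup.mk'_surjective A g'
    rw [← cj_iff, ← map_cj] at hg'
    obtain ⟨x, hx, he⟩ := h K hK g
    have hX : K ⊔ cj g K ≤ A ⊔ K := by
      refine sup_le le_sup_right fun u hu => ?_
      have hu' : QuotientGroup.mk' A u ∈ K.map (QuotientGroup.mk' A) :=
        hg' ▸ Subgroup.mem_map_of_mem _ hu
      have : u ∈ (K.map (QuotientGroup.mk' A)).comap (QuotientGroup.mk' A) := hu'
      rwa [QuotientGroup.comap_map_mk', sup_comm, sup_comm] at this
    obtain ⟨a, ha, k, hk, rfl⟩ := Subgroup.mem_sup_of_normal_left.mp (hX hx)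
    change cj g K = cj (a * k) K at he
    rw [cj_mul, cj_self hk] at he
    refine ⟨a⁻¹ * g, cj_eq_cj.mp he.symm, ?_⟩
    rw [map_mul, map_inv, (QuotientGroup.eq_one_iff a).mpr ha |> fun e => show QuotientGroup.mk' A a = 1 from e,
      inv_one, one_mul]

set_option maxHeartbeats 600000 in
theorem allPro_of_conditions [(T.subgroupOf (Subgroup.normalizer (T : Set G))).Normal]
    (hA : AllPro p ↥A) (hQ : AllPro p (G ⧸ A))
    (h1 : AllPro p (↥(Subgroup.normalizer (T : Set G)) ⧸ T.subgroupOf (Subgroup.normalizer (T : Set G))))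
    (h2 : ∀ K : Subgroup G, (∃ P : Sylow p G, (P : Subgroup G) ≤ K) →
      (Subgroup.normalizer (K : Set G)).map (QuotientGroup.mk' A) =
        Subgroup.normalizer ((K.map (QuotientGroup.mk' A) : Subgroup (G ⧸ A)) : Set (G ⧸ A))) :
    AllPro p G := by
  obtain ⟨hTA, hTp, hTd⟩ := sylow_data A T hT
  set N := Subgroup.normalizer (T : Set G)
  -- the case of a conjugating element normalising both the intersection with `A` and `T`
  have step3 : ∀ H : Subgroup G, ¬ p ∣ H.index → T ≤ H → ∀ a ∈ A, cj a (H ⊓ A) = H ⊓ A → a ∈ N →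
      ∃ y ∈ H ⊔ cj a H, cj a H = cj y H := by
    intro H hH hTH a haA haD haN
    set D := H ⊓ A
    have hDn : ∀ k ∈ H, cj k D = D := fun k hk => by
      show (H ⊓ A).map _ = _
      rw [Subgroup.map_inf _ _ _ (MulEquiv.injective _)]
      congr 1
      · exact cj_self hk
      · exact cj_iff.mpr (Subgroup.normalizer_eq_top A ▸ Subgroup.mem_top k)
    set K := H ⊓ N
    have hK : ¬ p ∣ K.index := by
      obtain ⟨S, hS⟩ := (hTp.comap_of_injective H.subtype H.subtype_injective).exists_le_sylow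
      have hd : ¬ p ∣ ((S : Subgroup H).map H.subtype).index := by
        rw [Subgroup.index_map_subtype]
        exact Nat.Prime.not_dvd_mul Fact.out S.not_dvd_index hH
      refine contains_sylow_iff.mp ⟨(S.2.map H.subtype).toSylow hd,
        le_inf (Subgroup.map_subtype_le _) (le_normalizer_of_sylow A T hT ?_)⟩
      intro u hu
      exact ⟨⟨u, hTH hu⟩, hS hu, rfl⟩
    have hH' : H = D ⊔ K := by
      refine le_antisymm (fun h hh => ?_) (sup_le inf_le_left inf_le_left)
      have hle : cj h T ≤ D := hDn h hh ▸ cj_mono h (le_inf hTH hTA)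
      obtain ⟨d, hd, he⟩ := exists_conj_in hTp (le_inf hTH hTA)
        (fun hh' => hTd (hh'.trans (Dvd.intro _ (Subgroup.relIndex_mul_relIndex T D A
          (le_inf hTH hTA) inf_le_right)))) hle
      rw [show h = d * (d⁻¹ * h) by group]
      exact Subgroup.mul_mem_sup hd ⟨H.mul_mem (H.inv_mem hd.1) hh, cj_eq_cj.mp he⟩
    have hpro : Cfsg.IsPronormal (K.subgroupOf N) := by
      refine pronormal_of_map (φ := QuotientGroup.mk' (T.subgroupOf N)) ?_ (h1 _ ?_)
      · rw [QuotientGroup.ker_mk']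
        exact fun u hu => Subgroup.mem_subgroupOf.mpr
          ⟨hTH hu, u.2⟩
      · rw [contains_sylow_iff]
        exact fun h => hK ((h.trans (Subgroup.index_map_dvd _ (QuotientGroup.mk'_surjective _))).trans
          (Dvd.intro _ (Subgroup.relIndex_mul_index inf_le_right)))
    obtain ⟨y, hy, he⟩ := hpro ⟨a, haN⟩
    change y ∈ (K.subgroupOf N) ⊔ cj (⟨a, haN⟩ : N) (K.subgroupOf N) at hy
    change cj (⟨a, haN⟩ : N) (K.subgroupOf N) = cj y (K.subgroupOf N) at he
    have hmap : (K.subgroupOf N).map N.subtype = K := Subgroup.map_subgroupOf_eq_of_le inf_le_right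
    have hy' : (y : G) ∈ K ⊔ cj a K := by
      have := Subgroup.mem_map_of_mem N.subtype hy
      rwa [Subgroup.map_sup, map_cj, hmap] at this
    have he' : cj a K = cj (y : G) K := by
      have := congrArg (Subgroup.map N.subtype) he
      rwa [map_cj, map_cj, hmap] at this
    have hyD : cj (y : G) D = D := by
      have hle : K ⊔ cj a K ≤ Subgroup.normalizer (D : Set G) := by
        refine sup_le (fun k hk => cj_iff.mp (hDn k hk.1)) ?_
        rintro _ ⟨k, hk, rfl⟩
        have han : a ∈ Subgroup.normalizer (D : Set G) := cj_iff.mp haD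
        exact Subgroup.mul_mem _ (Subgroup.mul_mem _ han (cj_iff.mp (hDn k hk.1))) (Subgroup.inv_mem _ han)
      exact cj_iff.mpr (hle hy')
    refine ⟨y, sup_le_sup inf_le_left (cj_mono a inf_le_left) hy', ?_⟩
    rw [hH']
    show (D ⊔ K).map _ = (D ⊔ K).map _
    rw [Subgroup.map_sup, Subgroup.map_sup]
    exact congrArg₂ (· ⊔ ·) (haD.trans hyD.symm) he'
  -- the case of a conjugating element in `A`
  have step2 : ∀ H : Subgroup G, ¬ p ∣ H.index → T ≤ H → ∀ a ∈ A,
      ∃ y ∈ H ⊔ cj a H, cj a H = cj y H := by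
    intro H hH hTH a haA
    set D := H ⊓ A
    obtain ⟨y, hy, he⟩ := hA (H.subgroupOf A) (contains_sylow_iff.mpr (not_dvd_relIndex A hH)) ⟨a, haA⟩
    change y ∈ H.subgroupOf A ⊔ cj (⟨a, haA⟩ : A) (H.subgroupOf A) at hy
    change cj (⟨a, haA⟩ : A) (H.subgroupOf A) = cj y (H.subgroupOf A) at he
    have hmap : (H.subgroupOf A).map A.subtype = D := Subgroup.map_comap_eq .. |>.trans (by
      rw [A.range_subtype, inf_comm])
    have hy' : (y : G) ∈ D ⊔ cj a D := by
      have := Subgroup.mem_map_of_mem A.subtype hy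
      rwa [Subgroup.map_sup, map_cj, hmap] at this
    have he' : cj a D = cj (y : G) D := by
      have := congrArg (Subgroup.map A.subtype) he
      rwa [map_cj, map_cj, hmap] at this
    set X := H ⊔ cj a H
    have hyX : (y : G) ∈ X := sup_le_sup inf_le_left (cj_mono a inf_le_left) hy'
    set b := (y : G)⁻¹ * a
    have hbD : cj b D = D := by rw [cj_mul, he', ← cj_mul, inv_mul_cancel, cj_one]
    have hbA : b ∈ A := A.mul_mem (A.inv_mem y.2) haA
    obtain ⟨d, hd, hde⟩ := exists_conj_in hTp (le_inf hTH hTA)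
      (fun hh' => hTd (hh'.trans (Dvd.intro _ (Subgroup.relIndex_mul_relIndex T D A
        (le_inf hTH hTA) inf_le_right)))) (hbD ▸ cj_mono b (le_inf hTH hTA))
    set c := d⁻¹ * b
    obtain ⟨w, hw, hwe⟩ := step3 H hH hTH c (A.mul_mem (A.inv_mem hd.2) hbA)
      (by rw [cj_mul, hbD, cj_self (D.inv_mem hd)]) (cj_eq_cj.mp hde)
    have hdX : d ∈ X := le_sup_left (a := H) hd.1
    have hcX : cj c H ≤ X := by
      rw [cj_mul, cj_mul]
      exact cj_le_of_mem (X.inv_mem hdX) (cj_le_of_mem (X.inv_mem hyX) le_sup_right)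
    refine ⟨y * d * w, X.mul_mem (X.mul_mem hyX hdX) (sup_le le_sup_left hcX hw), ?_⟩
    rw [cj_mul ((y : G) * d), ← hwe, ← cj_mul]
    simp only [c, b, mul_assoc, mul_inv_cancel_left]
  have step1 : ∀ H : Subgroup G, ¬ p ∣ H.index → T ≤ H → Cfsg.IsPronormal H := by
    intro H hH hTH g
    have hKq : ∃ P : Sylow p (G ⧸ A), (P : Subgroup (G ⧸ A)) ≤ H.map (QuotientGroup.mk' A) :=
      contains_sylow_iff.mpr fun h => hH (h.trans (Subgroup.index_map_dvd _ (QuotientGroup.mk'_surjective A)))
    obtain ⟨x', hx', he⟩ := hQ _ hKq (QuotientGroup.mk' A g)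
    change x' ∈ H.map (QuotientGroup.mk' A) ⊔ cj (QuotientGroup.mk' A g) (H.map (QuotientGroup.mk' A)) at hx'
    rw [← map_cj, ← Subgroup.map_sup] at hx'
    obtain ⟨x, hx, rfl⟩ := hx'
    have hn := cj_eq_cj.mp (Eq.symm he)
    rw [← map_inv, ← map_mul, ← h2 H (contains_sylow_iff.mpr hH)] at hn
    obtain ⟨n, hn, hne⟩ := hn
    set a := x⁻¹ * g * n⁻¹
    have haA : a ∈ A := by
      rw [← QuotientGroup.eq_one_iff]
      show QuotientGroup.mk' A (x⁻¹ * g * n⁻¹) = 1
      rw [map_mul, ← hne, map_inv, mul_inv_cancel]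
    obtain ⟨y, hy, hye⟩ := step2 H hH hTH a haA
    set X := H ⊔ cj g H
    have hga : cj g H = cj x (cj a H) := by
      rw [← cj_mul, show x * a = g * n⁻¹ by simp [a, mul_assoc], cj_mul, cj_iff.mpr (Subgroup.inv_mem _ hn)]
    have haX : cj a H ≤ X := by
      have : cj a H = cj x⁻¹ (cj g H) := by rw [hga, ← cj_mul, inv_mul_cancel, cj_one]
      rw [this]
      exact cj_le_of_mem (X.inv_mem hx) le_sup_right
    refine ⟨x * y, X.mul_mem hx (sup_le le_sup_left haX hy), ?_⟩
    show cj g H = cj (x * y) H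
    rw [hga, hye, ← cj_mul]
  intro H hHs
  have hH := contains_sylow_iff.mp hHs
  obtain ⟨c, hc, hcT⟩ := exists_conj_le A T hT hH
  have hle : T ≤ cj c⁻¹ H := by
    have := cj_mono c⁻¹ hcT
    rwa [← cj_mul, inv_mul_cancel, cj_one] at this
  have h := pronormal_map (φ := (MulAut.conj c).toMonoidHom) (MulEquiv.surjective _)
    (step1 (cj c⁻¹ H) (by
      rw [show (cj c⁻¹ H).index = H.index from
        Subgroup.index_map_of_bijective (f := (MulAut.conj c⁻¹).toMonoidHom) (MulAut.conj c⁻¹).bijective H]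
      exact hH) hle)
  rwa [show (cj c⁻¹ H).map (MulAut.conj c).toMonoidHom = H by
    show cj c (cj c⁻¹ H) = H
    rw [← cj_mul, mul_inv_cancel, cj_one]] at h

end Main

/-- Self-normalizing Sylow subgroups give self-normalizing pronormal overgroups. -/
theorem of_self_normalizing
    (h : ∀ P : Sylow p G, Subgroup.normalizer ((P : Subgroup G) : Set G) = P) (K : Subgroup G)
    (hK : ∃ P : Sylow p G, (P : Subgroup G) ≤ K) :
    Subgroup.normalizer (K : Set G) = K ∧ Cfsg.IsPronormal K := by
  obtain ⟨P, hP⟩ := hK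
  have key : ∀ (X : Subgroup G) (g : G), (P : Subgroup G) ≤ X → cj g (P : Subgroup G) ≤ X →
      ∃ x ∈ X, x⁻¹ * g ∈ (P : Subgroup G) := by
    intro X g hX hg
    obtain ⟨x, hx, he⟩ := exists_conj_in P.2 hX
      (fun hh => P.not_dvd_index (hh.trans (Dvd.intro _ (Subgroup.relIndex_mul_index hX)))) hg
    exact ⟨x, hx, h P ▸ cj_eq_cj.mp he⟩
  refine ⟨le_antisymm (fun g hg => ?_) Subgroup.le_normalizer, fun g => ?_⟩
  · obtain ⟨x, hx, hxg⟩ := key K g hP ((cj_mono g hP).trans (cj_iff.mpr hg).le)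
    rw [show g = x * (x⁻¹ * g) by group]
    exact K.mul_mem hx (hP hxg)
  · obtain ⟨x, hx, hxg⟩ := key (K ⊔ cj g K) g (hP.trans le_sup_left) ((cj_mono g hP).trans le_sup_right)
    exact ⟨x, hx, (cj_eq_cj.mpr (Subgroup.le_normalizer (hP hxg))).symm⟩

end Cfsg.Agent.Lib.PGroups.Pronormal
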