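import Cfsg.Agent.Lib.Frobenius.Kernel
import Cfsg.Agent.Lib.PGroups.FrobExamples
import Cfsg.Agent.Lib.PGroups.Pronormal
import Mathlib

/-!
Frobenius complements are the groups with a nonzero integral function whose sums over all cosets
of subgroups of prime order vanish.
-/

set_option autoImplicit false
set_option linter.style.haveILetI false

namespace Cfsg.Agent.Lib.PGroups.NormZero

/-- A nonzero integral function killed by the norms of all elements of prime order. -/
def NZ (A : Type*) [Group A] : Prop :=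
  ∃ f : A → ℤ, f ≠ 0 ∧ ∀ c : A, (orderOf c).Prime → ∀ x y, ∑ i ∈ Finset.range (orderOf c), f (x * c ^ i * y) = 0

theorem NZ.of_mulEquiv {A B : Type*} [Group A] [Group B] (e : A ≃* B) (h : NZ A) : NZ B := by
  obtain ⟨f, hf, hs⟩ := h
  refine ⟨fun b => f (e.symm b), fun h0 => hf (funext fun a => by simpa using congrFun h0 (e a)), ?_⟩
  intro c hc x y
  have he : orderOf (e.symm c) = orderOf c := orderOf_injective e.symm.toMonoidHom e.symm.injective c
  have := hs (e.symm c) (he ▸ hc) (e.symm x) (e.symm y)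
  rw [he] at this
  simpa using this

/-! ## Lifting a representation modulo prime powers -/

theorem isUnit_of_both {R : Type*} [Monoid R] {a b : R} (h1 : IsUnit (a * b)) (h2 : IsUnit (b * a)) :
    IsUnit a := by
  obtain ⟨u, hu⟩ := h1
  obtain ⟨v, hv⟩ := h2
  have hl : (↑v⁻¹ * b) * a = 1 := by rw [mul_assoc, ← hv, Units.inv_mul]
  have hr : a * (b * ↑u⁻¹) = 1 := by rw [← mul_assoc, ← hu, Units.mul_inv]
  have e : ↑v⁻¹ * b = b * ↑u⁻¹ := left_inv_eq_right_inv hl hr
  exact ⟨⟨a, b * ↑u⁻¹, hr, e ▸ hl⟩, rfl⟩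

theorem pow_p_sub_one {R : Type*} [Ring R] (p : ℕ) {X : R} {j : ℕ} (hj : 1 ≤ j)
    (h : ∃ Y, X - 1 = (p : R) ^ j * Y) : ∃ Y, X ^ p - 1 = (p : R) ^ (j + 1) * Y := by
  obtain ⟨Y, hY⟩ := h
  obtain ⟨j, rfl⟩ : ∃ j', j = j' + 1 := ⟨j - 1, by omega⟩
  have hX : X = 1 + (p : R) * ((p : R) ^ j * Y) := by
    rw [← mul_assoc, ← pow_succ', ← hY]; abel
  have hZ : ∀ i : ℕ, ∃ Z, X ^ i = 1 + (p : R) * Z := by
    intro i
    induction i with
    | zero => exact ⟨0, by simp⟩
    | succ i ih =>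
      obtain ⟨Z, hZ⟩ := ih
      refine ⟨Z * X + (p : R) ^ j * Y, ?_⟩
      rw [pow_succ, hZ, add_mul, one_mul, mul_add, mul_assoc]
      nth_rewrite 1 [hX]
      abel
  choose Z hZ using hZ
  refine ⟨(1 + ∑ i ∈ Finset.range p, Z i) * Y, ?_⟩
  rw [← geom_sum_mul, hY]
  have e : ∑ i ∈ Finset.range p, X ^ i = (p : R) * (1 + ∑ i ∈ Finset.range p, Z i) := by
    simp only [hZ, Finset.sum_add_distrib, Finset.sum_const, Finset.card_range, nsmul_eq_mul, mul_one,
      mul_add, Finset.mul_sum]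
  have hc : ∀ Q : R, Q * (p : R) ^ (j + 1) = (p : R) ^ (j + 1) * Q := fun Q =>
    ((Nat.cast_commute p Q).pow_left (j + 1)).eq.symm
  rw [e, mul_assoc, ← mul_assoc (1 + _), hc, pow_succ' (p : R) (j + 1), mul_assoc, mul_assoc]

variable {A : Type*} [Group A] [Finite A] {d : Type} [Fintype d] [DecidableEq d]

theorem exists_lift {p : ℕ} [Fact p.Prime] (hpA : ¬ p ∣ Nat.card A) (r : A →* Matrix d d (ZMod p))
    (hr : ∀ c : A, c ≠ 1 → IsUnit (r c - 1)) {k : ℕ} (hk : 1 ≤ k) :
    ∃ s : A →* Matrix d d (ZMod (p ^ k)), ∀ c : A, c ≠ 1 → ∀ W, (s c - 1) * W = 0 → W = 0 := by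
  classical
  haveI : NeZero (p ^ k) := ⟨pow_ne_zero k (Fact.out : p.Prime).ne_zero⟩
  let φ : ZMod (p ^ k) →+* ZMod p := ZMod.castHom (dvd_pow_self p (by omega)) (ZMod p)
  have hφs : Function.Surjective φ := ZMod.ringHom_surjective φ
  let Φ := φ.mapMatrix (m := d)
  have hΦs : Function.Surjective Φ := fun M =>
    ⟨fun i j => Function.surjInv hφs (M i j), by ext i j; exact Function.surjInv_eq hφs _⟩
  have hone : ∀ X, Φ X = 1 → X ^ (p ^ k) = 1 := by
    intro X hX
    have hdiv : ∀ a : ZMod (p ^ k), φ a = 0 → ∃ b, a = (p : ZMod (p ^ k)) * b := by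
      intro a ha
      rw [← ZMod.natCast_zmod_val a, map_natCast, ZMod.natCast_eq_zero_iff] at ha
      obtain ⟨b, hb⟩ := ha
      exact ⟨b, by rw [← ZMod.natCast_zmod_val a, hb, Nat.cast_mul]⟩
    choose b hb using hdiv
    have h1 : ∃ Y, X - 1 = (p : Matrix d d (ZMod (p ^ k))) ^ 1 * Y := by
      have h0 : ∀ i j, φ ((X - 1) i j) = 0 := fun i j => by
        have := congrFun (congrFun (show Φ (X - 1) = 0 by rw [map_sub, hX, map_one, sub_self]) i) j
        exact this
      refine ⟨Matrix.of fun i j => b _ (h0 i j), ?_⟩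
      ext i j
      rw [pow_one, ← Matrix.diagonal_natCast, Matrix.diagonal_mul, Matrix.of_apply]
      exact hb _ (h0 i j)
    have hind : ∀ n, ∃ Y, X ^ (p ^ n) - 1 = (p : Matrix d d (ZMod (p ^ k))) ^ (n + 1) * Y := by
      intro n
      induction n with
      | zero => simpa using h1
      | succ n ih =>
        rw [pow_succ, pow_mul]
        exact pow_p_sub_one p (by omega) ih
    obtain ⟨Y, hY⟩ := hind k
    have h0 : (p : Matrix d d (ZMod (p ^ k))) ^ (k + 1) = 0 := by
      have h1 : ((p ^ k : ℕ) : Matrix d d (ZMod (p ^ k))) = 0 := by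
        rw [← map_natCast (Matrix.scalar d (α := ZMod (p ^ k))), ZMod.natCast_self, map_zero]
      rw [Nat.cast_pow] at h1
      rw [pow_succ, h1, zero_mul]
    rw [h0, zero_mul, sub_eq_zero] at hY
    exact hY
  -- the fibre product
  let π : (Matrix d d (ZMod (p ^ k)))ˣ →* (Matrix d d (ZMod p))ˣ := Units.map Φ.toMonoidHom
  let L : Subgroup ((Matrix d d (ZMod (p ^ k)))ˣ × A) :=
    (π.comp (MonoidHom.fst _ _)).eqLocus (r.toHomUnits.comp (MonoidHom.snd _ _))
  let q : L →* A := (MonoidHom.snd _ _).comp L.subtype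
  haveI : Finite (Matrix d d (ZMod (p ^ k))) := inferInstanceAs (Finite (d → d → ZMod (p ^ k)))
  have hqs : Function.Surjective q := by
    intro a
    obtain ⟨M, hM⟩ := hΦs ((r.toHomUnits a : (Matrix d d (ZMod p))ˣ) : Matrix d d (ZMod p))
    obtain ⟨M', hM'⟩ := hΦs (((r.toHomUnits a)⁻¹ : (Matrix d d (ZMod p))ˣ) : Matrix d d (ZMod p))
    have hu : IsUnit M := by
      have h1 : IsUnit (M * M') := IsUnit.of_pow_eq_one (hone _ (by rw [map_mul, hM, hM', Units.mul_inv]))
        (pow_ne_zero k (Fact.out : p.Prime).ne_zero)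
      have h2 : IsUnit (M' * M) := IsUnit.of_pow_eq_one (hone _ (by rw [map_mul, hM, hM', Units.inv_mul]))
        (pow_ne_zero k (Fact.out : p.Prime).ne_zero)
      exact isUnit_of_both h1 h2
    exact ⟨⟨(hu.unit, a), Units.ext hM⟩, rfl⟩
  have hcop : (Nat.card q.ker).Coprime q.ker.index := by
    have hp' : IsPGroup p q.ker := by
      rintro ⟨⟨⟨u, a⟩, hua⟩, hk'⟩
      obtain rfl : a = 1 := hk'
      refine ⟨k, Subtype.ext (Subtype.ext (Prod.ext (Units.ext ?_) (one_pow _)))⟩
      show ((u : (Matrix d d (ZMod (p ^ k)))ˣ) ^ (p ^ k) : (Matrix d d (ZMod (p ^ k)))ˣ).val = 1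
      rw [Units.val_pow_eq_pow_val]
      refine hone _ ?_
      have h := congrArg Units.val (show π u = r.toHomUnits 1 from hua)
      rw [map_one] at h
      exact h
    obtain ⟨n, hn⟩ := hp'.exists_card_eq
    rw [hn, Subgroup.index_ker, MonoidHom.range_eq_top.mpr hqs, Subgroup.card_top]
    exact Nat.Coprime.pow_left n ((Fact.out : p.Prime).coprime_iff_not_dvd.mpr hpA)
  obtain ⟨C, hC⟩ := Subgroup.exists_right_complement'_of_coprime hcop
  have hbij : Function.Bijective (q.comp C.subtype) := by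
    refine ⟨(injective_iff_map_eq_one _).mpr fun x hx => ?_, fun a => ?_⟩
    · have : (x : L) ∈ q.ker ⊓ C := ⟨hx, x.2⟩
      rw [hC.disjoint.eq_bot, Subgroup.mem_bot] at this
      exact Subtype.ext this
    · obtain ⟨l, rfl⟩ := hqs a
      obtain ⟨⟨n, c⟩, hnc⟩ := hC.2 l
      refine ⟨c, ?_⟩
      show q (c : L) = _
      rw [← hnc, map_mul, show q n = 1 from n.2, one_mul]
  let e := MulEquiv.ofBijective _ hbij
  let σ : A →* L := C.subtype.comp e.symm.toMonoidHom
  have hσ : ∀ a, q (σ a) = a := fun a => e.apply_symm_apply a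
  let s : A →* Matrix d d (ZMod (p ^ k)) :=
    ((Units.coeHom _).comp (MonoidHom.fst _ A)).comp (L.subtype.comp σ)
  refine ⟨s, fun c hc W hW => ?_⟩
  have hs : Φ (s c) = r c := by
    have h := congrArg Units.val (show π (σ c).1.1 = r.toHomUnits (σ c).1.2 from (σ c).2)
    rw [show (σ c).1.2 = c from hσ c] at h
    exact h
  have hu : IsUnit (s c - 1) := by
    obtain ⟨u, hu⟩ := hr c hc
    obtain ⟨N, hN⟩ := hΦs ↑u⁻¹
    have hΦ : Φ (s c - 1) = u := by rw [map_sub, hs, map_one, hu]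
    have h1 : IsUnit ((s c - 1) * N) := IsUnit.of_pow_eq_one (hone _ (by rw [map_mul, hΦ, hN, Units.mul_inv]))
      (pow_ne_zero k (Fact.out : p.Prime).ne_zero)
    have h2 : IsUnit (N * (s c - 1)) := IsUnit.of_pow_eq_one (hone _ (by rw [map_mul, hΦ, hN, Units.inv_mul]))
      (pow_ne_zero k (Fact.out : p.Prime).ne_zero)
    exact isUnit_of_both h1 h2
  exact (hu.mul_right_eq_zero).mp hW

/-- A fixed-point-free modular representation gives a norm-zero function. -/
theorem nz_of_matrixRep [Nonempty d] {p : ℕ} [Fact p.Prime] (hpA : ¬ p ∣ Nat.card A)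
    (r : A →* Matrix d d (ZMod p)) (hr : ∀ c : A, c ≠ 1 → IsUnit (r c - 1)) : NZ A := by
  classical
  haveI := Fintype.ofFinite A
  let T : (A → ℤ) →ₗ[ℤ] (A × A × A → ℤ) :=
    { toFun := fun v j => if (orderOf j.1).Prime then
        ∑ i ∈ Finset.range (orderOf j.1), v (j.2.1 * j.1 ^ i * j.2.2) else 0
      map_add' := fun v w => funext fun j => by split_ifs with h <;> simp [h, Finset.sum_add_distrib]
      map_smul' := fun m v => funext fun j => by split_ifs with h <;> simp [h, Finset.mul_sum] }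
  by_contra hcon
  have hT : ∀ v, T v = 0 → v = 0 := by
    intro v hv
    by_contra hv0
    refine hcon ⟨v, hv0, fun c hc x y => ?_⟩
    have := congrFun hv (c, x, y)
    simpa [T, hc] using this
  let Tm := LinearMap.toMatrix' T
  let Gm := Tm.transpose * Tm
  have hTm : ∀ v, Tm.mulVec v = T v := fun v => LinearMap.toMatrix'_mulVec T v
  have hdet : Gm.det ≠ 0 := by
    intro h0
    obtain ⟨v, hv, hGv⟩ := Matrix.exists_mulVec_eq_zero_iff.mpr h0
    apply hv
    apply hT
    have h1 : dotProduct v (Gm.mulVec v) = 0 := by rw [hGv, dotProduct_zero]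
    rw [← Matrix.mulVec_mulVec, Matrix.dotProduct_mulVec, Matrix.vecMul_transpose, hTm] at h1
    exact dotProduct_self_eq_zero.mp h1
  obtain ⟨k, hk1, hk⟩ : ∃ k, 1 ≤ k ∧ ¬ ((p ^ k : ℕ) : ℤ) ∣ Gm.det := by
    refine ⟨Gm.det.natAbs + 1, by omega, fun h => ?_⟩
    have h1 := Int.natAbs_dvd_natAbs.mpr h
    rw [Int.natAbs_natCast] at h1
    have h2 := Nat.le_of_dvd (Int.natAbs_pos.mpr hdet) h1
    have h3 := Nat.lt_pow_self (Fact.out : p.Prime).one_lt (n := Gm.det.natAbs + 1)
    omega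
  haveI : NeZero (p ^ k) := ⟨pow_ne_zero k (Fact.out : p.Prime).ne_zero⟩
  obtain ⟨s, hs⟩ := exists_lift hpA r hr hk1
  obtain ⟨i₀⟩ := ‹Nonempty d›
  have hsum : ∀ c : A, c ≠ 1 → ∑ i ∈ Finset.range (orderOf c), s c ^ i = 0 := fun c hc => by
    refine hs c hc _ ?_
    rw [mul_geom_sum, ← map_pow, pow_orderOf_eq_one, map_one, sub_self]
  let v : A → ℤ := fun a => ((s a i₀ i₀).val : ℤ)
  have hv : ∀ a, ((v a : ℤ) : ZMod (p ^ k)) = s a i₀ i₀ := fun a => by simp [v]
  have hTv : ∀ j, ((p ^ k : ℕ) : ℤ) ∣ T v j := by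
    intro j
    rw [← ZMod.intCast_zmod_eq_zero_iff_dvd]
    show (((if (orderOf j.1).Prime then _ else 0 : ℤ)) : ZMod (p ^ k)) = 0
    split_ifs with h
    · have hne : j.1 ≠ 1 := fun e => by rw [e, orderOf_one] at h; exact Nat.not_prime_one h
      rw [Int.cast_sum]
      simp only [hv]
      have h0 : s j.2.1 * (∑ i ∈ Finset.range (orderOf j.1), s j.1 ^ i) * s j.2.2 = 0 := by
        rw [hsum j.1 hne, mul_zero, zero_mul]
      rw [Finset.mul_sum, Finset.sum_mul] at h0
      have h1 := congrFun (congrFun h0 i₀) i₀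
      rw [Matrix.sum_apply, Matrix.zero_apply] at h1
      simpa only [map_mul, map_pow] using h1
    · simp
  apply hk
  have hG : ∀ a, ((p ^ k : ℕ) : ℤ) ∣ Gm.mulVec v a := fun a => by
    rw [← Matrix.mulVec_mulVec, hTm]
    exact Finset.dvd_sum fun j _ => Dvd.dvd.mul_left (hTv j) _
  have h1 : ((p ^ k : ℕ) : ℤ) ∣ Gm.det * v 1 := by
    have e := congrFun (Matrix.mulVec_mulVec v Gm.adjugate Gm) 1
    rw [Matrix.adjugate_mul, Matrix.smul_mulVec, Matrix.one_mulVec, Pi.smul_apply, smul_eq_mul] at e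
    rw [← e]
    exact Finset.dvd_sum fun j _ => Dvd.dvd.mul_left (hG j) _
  haveI : Fact (1 < p ^ k) := ⟨Nat.one_lt_pow (by omega) (Fact.out : p.Prime).one_lt⟩
  have hv1 : v 1 = 1 := by
    show ((s 1 i₀ i₀).val : ℤ) = 1
    rw [map_one, Matrix.one_apply_eq, ZMod.val_one, Nat.cast_one]
  rwa [hv1, mul_one] at h1

omit [Fintype d] [DecidableEq d] in
theorem nz_of_linearAction {V : Type*} [AddCommGroup V] [Finite V] [Nontrivial V] {p : ℕ} [Fact p.Prime]
    [Module (ZMod p) V] (hpA : ¬ p ∣ Nat.card A) (ρ : A →* AddMonoid.End V)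
    (hfpf : ∀ c : A, c ≠ 1 → ∀ v : V, ρ c v = v → v = 0) : NZ A := by
  classical
  let b := Module.finBasis (ZMod p) V
  let R : A →* Module.End (ZMod p) V :=
    { toFun := fun a => AddMonoidHom.toZModLinearMap p (ρ a)
      map_one' := LinearMap.ext fun v => by simp; rfl
      map_mul' := fun a c => LinearMap.ext fun v => by simp; rfl }
  let r : A →* Matrix (Fin (Module.finrank (ZMod p) V)) (Fin (Module.finrank (ZMod p) V)) (ZMod p) :=
    (LinearMap.toMatrixAlgEquiv b).toAlgHom.toMonoidHom.comp R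
  haveI : Nonempty (Fin (Module.finrank (ZMod p) V)) := Fin.pos_iff_nonempty.mp Module.finrank_pos
  refine nz_of_matrixRep hpA r fun c hc => ?_
  have hu : IsUnit (R c - 1) := by
    rw [Module.End.isUnit_iff]
    refine Function.Injective.bijective_of_finite ?_
    rw [injective_iff_map_eq_zero]
    intro v hv
    rw [LinearMap.sub_apply, Module.End.one_apply, sub_eq_zero] at hv
    exact hfpf c hc v hv
  have := hu.map (LinearMap.toMatrixAlgEquiv b)
  rw [map_sub, map_one] at this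
  exact this

omit [Fintype d] [DecidableEq d] in
/-- A fixed-point-free action on a group of exponent `p`. -/
theorem nz_of_addAction {V : Type*} [AddCommGroup V] [Finite V] [Nontrivial V] {p : ℕ} [Fact p.Prime]
    (hV : ∀ v : V, p • v = 0) (hpA : ¬ p ∣ Nat.card A) (ρ : A →* AddMonoid.End V)
    (hfpf : ∀ c : A, c ≠ 1 → ∀ v : V, ρ c v = v → v = 0) : NZ A :=
  @nz_of_linearAction A _ _ V _ _ _ p _ (AddCommGroup.zmodModule hV) hpA ρ hfpf

omit [Fintype d] [DecidableEq d] [Finite A] in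
theorem nz_of_complement {L : Type*} [Group L] [Finite L] {H : Subgroup L}
    (hH : Cfsg.IsFrobeniusComplement H) : NZ H := by
  classical
  obtain ⟨K, hKn, hKset, hKH, hsup, hK0, hcomp, hKcard⟩ :=
    Cfsg.Agent.Lib.Frobenius.exists_frobeniusKernel hH
  haveI := hKn
  have hcop : (Nat.card H).Coprime (Nat.card K) := hKcard ▸ Cfsg.Agent.Lib.Frobenius.card_coprime_index hH
  have hfree : ∀ x, x ∉ K → ∀ n ∈ K, x * n = n * x → n = 1 := by
    intro x hx n hn hxn
    have hx' : x ∉ Cfsg.frobeniusKernel H := fun h => hx (by rw [← SetLike.mem_coe, hKset]; exact h)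
    rw [Cfsg.Agent.Lib.Frobenius.mem_frobeniusKernel_iff] at hx'
    push Not at hx'
    obtain ⟨hx1, g, hg⟩ := hx'
    have hne : g⁻¹ * x * g ≠ 1 := fun e => hx1 (by
      calc x = g * (g⁻¹ * x * g) * g⁻¹ := by group
        _ = 1 := by rw [e]; group)
    have := Cfsg.Agent.Lib.Frobenius.frobeniusKernel_fixedPointFree hH hKset _ hg hne (g⁻¹ * n * g)
      (by simpa using hKn.conj_mem n hn g⁻¹) (by
        calc g⁻¹ * x * g * (g⁻¹ * n * g) = g⁻¹ * (x * n) * g := by group
          _ = g⁻¹ * n * g * (g⁻¹ * x * g) := by rw [hxn]; group)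
    calc n = g * (g⁻¹ * n * g) * g⁻¹ := by group
      _ = 1 := by rw [this]; group
  obtain ⟨p, hp, hpK⟩ := Nat.exists_prime_and_dvd
    (show Nat.card K ≠ 1 from fun h => hK0 (Subgroup.card_eq_one.mp h))
  haveI := Fact.mk hp
  have P₀ : Sylow p K := Classical.arbitrary _
  set P := (P₀ : Subgroup K).map K.subtype
  set N := Subgroup.normalizer (P : Set L)
  have hKN : K ⊔ N = ⊤ := by rw [sup_comm]; exact Sylow.normalizer_sup_eq_top P₀
  have hKi : K.index = Nat.card H := hcomp.symm.index_eq_card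
  have hco : (Nat.card (K.subgroupOf N)).Coprime (K.subgroupOf N).index := by
    refine Nat.Coprime.coprime_dvd_left (m := Nat.card (K.subgroupOf N)) ?_ ?_ (k := Nat.card K)
    · exact Subgroup.card_dvd_of_injective
        (((N.subtype.comp (K.subgroupOf N).subtype).codRestrict K fun x => x.2))
        fun x y h => Subtype.ext (Subtype.ext (congrArg Subtype.val h :))
    · refine Nat.Coprime.coprime_dvd_right ?_ hcop.symm
      rw [← hKi]
      exact Subgroup.relIndex_dvd_index_of_normal K N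
  obtain ⟨C, hC⟩ := Subgroup.exists_right_complement'_of_coprime hco
  have hCK : ∀ c : C, ((c : N) : L) ∈ K → c = 1 := fun c hc => by
    have : (c : N) ∈ K.subgroupOf N ⊓ C := ⟨hc, c.2⟩
    rw [hC.disjoint.eq_bot, Subgroup.mem_bot] at this
    exact Subtype.ext this
  let η : C →* L ⧸ K := (QuotientGroup.mk' K).comp (N.subtype.comp C.subtype)
  let θ : H →* L ⧸ K := (QuotientGroup.mk' K).comp H.subtype
  have hη : Function.Bijective η := by
    refine ⟨(injective_iff_map_eq_one _).mpr fun c hc => hCK c ((QuotientGroup.eq_one_iff _).mp hc), fun x => ?_⟩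
    obtain ⟨l, rfl⟩ := QuotientGroup.mk'_surjective K x
    obtain ⟨k, hk, n, hn, rfl⟩ := Subgroup.mem_sup_of_normal_left.mp (hKN ▸ Subgroup.mem_top l)
    obtain ⟨⟨m, c⟩, hmc⟩ := hC.2 ⟨n, hn⟩
    refine ⟨c, ?_⟩
    have hk' : QuotientGroup.mk' K k = 1 := (QuotientGroup.eq_one_iff _).mpr hk
    have hm' : QuotientGroup.mk' K ((m : N) : L) = 1 := (QuotientGroup.eq_one_iff _).mpr m.2
    have e : ((m : N) : L) * ((c : N) : L) = n := congrArg Subtype.val hmc
    show QuotientGroup.mk' K ((c : N) : L) = _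
    rw [← e, map_mul, map_mul, hk', hm', one_mul, one_mul]
  have hθ : Function.Bijective θ := by
    refine ⟨(injective_iff_map_eq_one _).mpr fun h hh => ?_, fun x => ?_⟩
    · have : (h : L) ∈ K ⊓ H := ⟨(QuotientGroup.eq_one_iff _).mp hh, h.2⟩
      rw [hKH, Subgroup.mem_bot] at this
      exact Subtype.ext this
    · obtain ⟨l, rfl⟩ := QuotientGroup.mk'_surjective K x
      obtain ⟨k, hk, h, hh, rfl⟩ := Subgroup.mem_sup_of_normal_left.mp (hsup ▸ Subgroup.mem_top l)
      refine ⟨⟨h, hh⟩, ?_⟩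
      have hk' : QuotientGroup.mk' K k = 1 := (QuotientGroup.eq_one_iff _).mpr hk
      show QuotientGroup.mk' K h = _
      rw [map_mul, hk', one_mul]
  let e : C ≃* H := (MulEquiv.ofBijective η hη).trans (MulEquiv.ofBijective θ hθ).symm
  -- the module
  let V : Subgroup L :=
    { carrier := {x | x ∈ P ∧ (∀ y ∈ P, y * x = x * y) ∧ x ^ p = 1}
      one_mem' := ⟨P.one_mem, fun y _ => by simp, one_pow _⟩
      mul_mem' := fun {a b} ha hb => ⟨P.mul_mem ha.1 hb.1, fun y hy => by
        rw [← mul_assoc, ha.2.1 y hy, mul_assoc, hb.2.1 y hy, mul_assoc], by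
        rw [(show Commute a b from hb.2.1 a ha.1).mul_pow, ha.2.2, hb.2.2, one_mul]⟩
      inv_mem' := fun {a} ha => ⟨P.inv_mem ha.1, fun y hy =>
        (show Commute y a from ha.2.1 y hy).inv_right.eq, by rw [inv_pow, ha.2.2, inv_one]⟩ }
  have hPp : IsPGroup p P := P₀.2.map _
  haveI : Nontrivial V := by
    have hP1 : Nontrivial P := by
      rw [Subgroup.nontrivial_iff_ne_bot]
      intro h
      have h1 : Nat.card P = 1 := by rw [h, Subgroup.card_bot]
      rw [Nat.card_congr (Subgroup.equivMapOfInjective (P₀ : Subgroup K) K.subtype K.subtype_injective).toEquiv.symm,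
        P₀.card_eq_multiplicity] at h1
      have := Nat.Prime.factorization_pos_of_dvd hp Nat.card_pos.ne' hpK
      exact absurd h1 (Nat.one_lt_pow this.ne' hp.one_lt).ne'
    haveI := hPp.center_nontrivial
    have hd : p ∣ Nat.card (Subgroup.center P) := by
      obtain ⟨n, hn0, hn⟩ := (hPp.to_subgroup (Subgroup.center P)).nontrivial_iff_card.mp inferInstance
      exact hn ▸ dvd_pow_self p hn0.ne'
    obtain ⟨z, hz⟩ := exists_prime_orderOf_dvd_card' p hd
    refine ⟨⟨((z : P) : L), z.1.2, fun y hy => congrArg Subtype.val (Subgroup.mem_center_iff.mp z.2 ⟨y, hy⟩),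
      ?_⟩, 1, fun h => ?_⟩
    · have := congrArg (fun w : Subgroup.center P => ((w : P) : L)) (hz ▸ pow_orderOf_eq_one z)
      simpa using this
    · have h' : z = 1 := Subtype.ext (Subtype.ext (congrArg Subtype.val h :))
      rw [h', orderOf_one] at hz
      exact hp.one_lt.ne hz
  haveI : IsMulCommutative V := ⟨⟨fun a b => Subtype.ext (b.2.2.1 a a.2.1)⟩⟩
  letI : CommGroup V := { (inferInstance : Group V) with mul_comm := fun a b => IsMulCommutative.is_comm.comm a b }
  have hinv : ∀ n ∈ N, ∀ v ∈ V, n * v * n⁻¹ ∈ V := by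
    intro n hn v hv
    refine ⟨(Subgroup.mem_normalizer_iff.mp hn v).mp hv.1, fun y hy => ?_, by rw [conj_pow, hv.2.2, mul_one, mul_inv_cancel]⟩
    have hy' : n⁻¹ * y * n ∈ P := by simpa using (Subgroup.mem_normalizer_iff.mp (N.inv_mem hn) y).mp hy
    calc y * (n * v * n⁻¹) = n * ((n⁻¹ * y * n) * v) * n⁻¹ := by group
      _ = n * (v * (n⁻¹ * y * n)) * n⁻¹ := by rw [hv.2.1 _ hy']
      _ = _ := by group
  let ρ : C →* AddMonoid.End (Additive V) :=
    { toFun := fun c => AddMonoidHom.mk' (fun v => Additive.ofMul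
          (⟨((c : N) : L) * (v.toMul : V) * (((c : N) : L))⁻¹, hinv _ (c : N).2 _ v.toMul.2⟩ : V))
        (fun v w => congrArg Additive.ofMul (Subtype.ext (by
          show ((c : N) : L) * ((v.toMul : L) * w.toMul) * _ = _
          simp [mul_assoc])))
      map_one' := AddMonoidHom.ext fun v => congrArg Additive.ofMul (Subtype.ext (by
        show (1 : L) * v.toMul * (1 : L)⁻¹ = _
        simp; rfl))
      map_mul' := fun c c' => AddMonoidHom.ext fun v => congrArg Additive.ofMul (Subtype.ext (by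
        show ((c : N) : L) * ((c' : N) : L) * v.toMul * ((((c : N) : L) * ((c' : N) : L)))⁻¹ = _
        simp [mul_assoc]; rfl)) }
  refine NZ.of_mulEquiv e (nz_of_addAction (V := Additive V) (p := p) ?_ ?_ ρ ?_)
  · intro v
    exact congrArg Additive.ofMul (Subtype.ext (v.toMul.2.2.2) : v.toMul ^ p = 1)
  · rw [Nat.card_congr e.toEquiv]
    intro h
    exact hp.not_dvd_one (hcop.gcd_eq_one ▸ Nat.dvd_gcd h hpK)
  · intro c hc v hv
    have h : ((c : N) : L) * (v.toMul : L) * (((c : N) : L))⁻¹ = v.toMul :=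
      congrArg (fun w : Additive V => (w.toMul : L)) hv
    have hvK : (v.toMul : L) ∈ K := Subgroup.map_subtype_le _ v.toMul.2.1
    exact Additive.toMul.injective (Subtype.ext (hfree _ (fun hck => hc (hCK c hck)) _ hvK
      (mul_inv_eq_iff_eq_mul.mp h)))

omit [Fintype d] [DecidableEq d] in
/-- A norm-zero function makes the group a Frobenius complement. -/
theorem complement_of_nz [Nontrivial A] (h : NZ A) :
    ∃ (L : Type) (_ : Group L) (_ : Finite L) (C : Subgroup L),
      Cfsg.IsFrobeniusComplement C ∧ Nonempty (A ≃* C) := by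
  classical
  obtain ⟨f₀, hf₀, hs₀⟩ := h
  obtain ⟨a₀, ha₀⟩ := Function.ne_iff.mp hf₀
  obtain ⟨p, hpl, hp⟩ := Nat.exists_infinite_primes (Nat.card A + (f₀ a₀).natAbs + 1)
  haveI := Fact.mk hp
  let V : AddSubgroup (A → ZMod p) :=
    { carrier := {v | ∀ c : A, (orderOf c).Prime → ∀ x y, ∑ i ∈ Finset.range (orderOf c), v (x * c ^ i * y) = 0}
      zero_mem' := fun c _ x y => by simp
      add_mem' := fun {v w} hv hw c hc x y => by
        simp [Finset.sum_add_distrib, hv c hc x y, hw c hc x y]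
      neg_mem' := fun {v} hv c hc x y => by simp [Finset.sum_neg_distrib, hv c hc x y] }
  haveI : Finite V := Subtype.finite
  haveI : Nontrivial V := by
    refine ⟨⟨fun a => (f₀ a : ZMod p), fun c hc x y => by rw [← Int.cast_sum, hs₀ c hc x y, Int.cast_zero]⟩,
      0, fun h => ?_⟩
    have h1 : ((f₀ a₀ : ℤ) : ZMod p) = 0 := congrFun (congrArg Subtype.val h :) a₀
    rw [ZMod.intCast_zmod_eq_zero_iff_dvd] at h1
    have h2 := Int.natAbs_dvd_natAbs.mpr h1
    rw [Int.natAbs_natCast] at h2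
    have := Nat.le_of_dvd (Int.natAbs_pos.mpr ha₀) h2
    omega
  let ρ : A →* AddMonoid.End V :=
    { toFun := fun a => AddMonoidHom.mk' (fun v => (⟨fun x => v.1 (x * a), fun c hc x y => by
          simpa [mul_assoc] using v.2 c hc x (y * a)⟩ : V)) (fun v w => rfl)
      map_one' := AddMonoidHom.ext fun v => Subtype.ext (funext fun x => congrArg v.1 (mul_one x))
      map_mul' := fun a b => AddMonoidHom.ext fun v => Subtype.ext (funext fun x =>
        congrArg v.1 (mul_assoc x a b).symm) }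
  refine exists_frobeniusComplement_of_addAction ρ fun a ha v hv => ?_
  obtain ⟨q, hq, hqd⟩ := Nat.exists_prime_and_dvd (show orderOf a ≠ 1 from fun e => ha (orderOf_eq_one_iff.mp e))
  set c := a ^ (orderOf a / q)
  have hc : orderOf c = q := orderOf_pow_orderOf_div (orderOf_pos a).ne' hqd
  have hfa : ∀ x, v.1 (x * a) = v.1 x := fun x => congrFun (congrArg Subtype.val hv :) x
  have hfp : ∀ (n : ℕ) (x : A), v.1 (x * a ^ n) = v.1 x := by
    intro n
    induction n with
    | zero => intro x; rw [pow_zero, mul_one]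
    | succ n ih => intro x; rw [pow_succ, ← mul_assoc, hfa, ih]
  refine Subtype.ext (funext fun x => ?_)
  show v.1 x = 0
  have hsum := v.2 c (hc.symm ▸ hq) x 1
  rw [hc, Finset.sum_congr rfl (fun i _ => by rw [mul_one, ← pow_mul, hfp] : ∀ i ∈ Finset.range q,
    v.1 (x * c ^ i * 1) = v.1 x), Finset.sum_const, Finset.card_range, nsmul_eq_mul] at hsum
  refine (mul_eq_zero.mp hsum).resolve_left ?_
  show ¬ ((q : ZMod p) = 0)
  rw [ZMod.natCast_eq_zero_iff]
  intro hd
  have h1 := Nat.le_of_dvd hq.pos hd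
  have h2 : q ≤ Nat.card A := Nat.le_of_dvd Nat.card_pos (hqd.trans (orderOf_dvd_natCard a))
  omega

end Cfsg.Agent.Lib.PGroups.NormZero
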