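import Mathlib

/-!
Counting solutions of `x ^ d = 1` in semidirect products with abelian kernel, and in products.
-/

set_option autoImplicit false

namespace Cfsg.Agent.Lib.PGroups.OrderType

/-- an action by additive maps, with decidable axioms -/
structure Act (H V : Type) [Group H] [AddCommGroup V] where
  f : H → V → V
  f_one : ∀ v, f 1 v = v
  f_mul : ∀ g h v, f (g * h) v = f g (f h v)
  f_add : ∀ h v w, f h (v + w) = f h v + f h w

variable {H V W : Type} [Group H] [AddCommGroup V] [AddCommGroup W]

namespace Act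

def addAut (A : Act H V) (h : H) : V ≃+ V where
  toFun := A.f h
  invFun := A.f h⁻¹
  left_inv v := by rw [← A.f_mul, inv_mul_cancel, A.f_one]
  right_inv v := by rw [← A.f_mul, mul_inv_cancel, A.f_one]
  map_add' := A.f_add h

def hom (A : Act H V) : H →* MulAut (Multiplicative V) :=
  MonoidHom.mk' (fun h => AddEquiv.toMultiplicative (A.addAut h))
    (fun g h => MulEquiv.ext fun v => congrArg Multiplicative.ofAdd (A.f_mul g h v.toAdd))

/-- the semidirect product of the action -/
abbrev G (A : Act H V) : Type := Multiplicative V ⋊[A.hom] H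

/-- direct sum of two actions -/
def prod (A : Act H V) (B : Act H W) : Act H (V × W) where
  f h x := (A.f h x.1, B.f h x.2)
  f_one x := Prod.ext (A.f_one _) (B.f_one _)
  f_mul g h x := Prod.ext (A.f_mul _ _ _) (B.f_mul _ _ _)
  f_add h x y := Prod.ext (A.f_add _ _ _) (B.f_add _ _ _)

/-- the left component of the powers of `(v, h)` -/
def powLeft (A : Act H V) (h : H) (v : V) (d : ℕ) : V := (fun a => v + A.f h a)^[d] 0

theorem powLeft_prod (A : Act H V) (B : Act H W) (h : H) (x : V × W) (d : ℕ) :
    (A.prod B).powLeft h x d = (A.powLeft h x.1 d, B.powLeft h x.2 d) := by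
  induction d with
  | zero => rfl
  | succ d ih =>
    simp only [powLeft, Function.iterate_succ_apply'] at ih ⊢
    rw [ih]; rfl

theorem left_pow (A : Act H V) (x : A.G) (d : ℕ) :
    (x ^ d).left = Multiplicative.ofAdd (A.powLeft x.right x.left.toAdd d) := by
  induction d with
  | zero => simp [powLeft]
  | succ d ih =>
    rw [pow_succ', SemidirectProduct.mul_left, ih]
    simp only [powLeft, Function.iterate_succ_apply']
    rfl

theorem right_pow (A : Act H V) (x : A.G) (d : ℕ) : (x ^ d).right = x.right ^ d :=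
  map_pow (SemidirectProduct.rightHom : A.G →* H) x d

/-- number of vectors killed by the norm map of `h` -/
def ker (A : Act H V) [Fintype V] [DecidableEq V] (d : ℕ) (h : H) : ℕ :=
  (Finset.univ.filter fun v => A.powLeft h v d = 0).card

theorem ker_prod [Fintype V] [DecidableEq V] [Fintype W] [DecidableEq W] (A : Act H V) (B : Act H W)
    (d : ℕ) (h : H) : (A.prod B).ker d h = A.ker d h * B.ker d h := by
  rw [ker, ker, ker, ← Finset.card_product]
  congr 1
  ext ⟨v, w⟩
  simp [powLeft_prod]

instance finite_G (A : Act H V) [Finite H] [Finite V] : Finite A.G :=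
  Finite.of_equiv _ SemidirectProduct.equivProd.symm

theorem card_pow_eq_one (A : Act H V) [Fintype H] [DecidableEq H] [Fintype V] [DecidableEq V] (d : ℕ) :
    Nat.card {x : A.G // x ^ d = 1} =
      ∑ h ∈ Finset.univ.filter (fun h : H => h ^ d = 1), A.ker d h := by
  classical
  let e : {x : A.G // x ^ d = 1} ≃
      (h : {h : H // h ^ d = 1}) × {v : V // A.powLeft h.1 v d = 0} :=
    { toFun := fun x => ⟨⟨x.1.right, by rw [← right_pow, x.2]; rfl⟩, ⟨x.1.left.toAdd, by
        have h := left_pow A x.1 d
        rw [x.2] at h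
        exact Multiplicative.ofAdd.injective h.symm⟩⟩
      invFun := fun y => ⟨⟨Multiplicative.ofAdd y.2.1, y.1.1⟩, by
        refine SemidirectProduct.ext ?_ ?_
        · rw [left_pow]
          exact congrArg Multiplicative.ofAdd y.2.2
        · rw [right_pow]
          exact y.1.2⟩
      left_inv := fun x => rfl
      right_inv := fun y => rfl }
  rw [Nat.card_congr e, Nat.card_sigma]
  simp only [Nat.card_eq_fintype_card, Fintype.card_subtype]
  exact (Finset.sum_subtype (Finset.univ.filter fun h : H => h ^ d = 1) (by simp) (fun h => A.ker d h)).symm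

theorem isSolvable_G (A : Act H V) (hH : Group.IsSolvable H) : Group.IsSolvable A.G := by
  haveI : Group.IsSolvable (Multiplicative V) := Group.isSolvable_of_comm (fun a b => mul_comm a b)
  haveI := hH
  exact Group.isSolvable_of_ker_le_range (SemidirectProduct.inl) (SemidirectProduct.rightHom)
    (SemidirectProduct.range_inl_eq_ker_rightHom).ge

end Act

/-- multiplication by a unit-valued character -/
def scalar {H : Type} [Group H] (m : ℕ) (c : H → ZMod m) (h1 : c 1 = 1)
    (hm : ∀ g h, c (g * h) = c g * c h) : Act H (ZMod m) where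
  f h v := c h * v
  f_one v := by rw [h1, one_mul]
  f_mul g h v := by rw [hm, mul_assoc]
  f_add h v w := mul_add _ _ _

/-- `G` has `v (gcd n 84)` solutions of `x ^ n = 1` for every `n`. -/
def HasF (G : Type) [Group G] (v : ℕ → ℕ) : Prop :=
  ∀ n : ℕ, Nat.card {x : G // x ^ n = 1} = v (Nat.gcd n 84)

theorem hasF_of {G : Type} [Group G] [Finite G] (v : ℕ → ℕ)
    (h : ∀ d ∈ Nat.divisors 84, Nat.card {x : G // x ^ d = 1} = v d) (hc : v 84 = Nat.card G) :
    HasF G v := by
  have hexp : ∀ x : G, x ^ 84 = 1 := by
    intro x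
    have h84 := h 84 (Nat.mem_divisors_self _ (by norm_num))
    rw [hc] at h84
    have hb : Function.Bijective (Subtype.val : {x : G // x ^ 84 = 1} → G) :=
      (Nat.bijective_iff_injective_and_card _).mpr ⟨Subtype.val_injective, h84⟩
    obtain ⟨y, rfl⟩ := hb.2 x
    exact y.2
  intro n
  rw [← h _ (Nat.mem_divisors.mpr ⟨Nat.gcd_dvd_right _ _, by norm_num⟩)]
  exact Nat.card_congr (Equiv.subtypeEquivRight fun x =>
    ⟨fun hx => pow_gcd_eq_one.mpr ⟨hx, hexp x⟩, fun hx => (pow_gcd_eq_one.mp hx).1⟩)

theorem HasF.prod {G K : Type} [Group G] [Group K] {v w : ℕ → ℕ} (hG : HasF G v) (hK : HasF K w) :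
    HasF (G × K) (fun d => v d * w d) := by
  intro n
  show _ = v (Nat.gcd n 84) * w (Nat.gcd n 84)
  rw [← hG n, ← hK n, ← Nat.card_prod]
  exact Nat.card_congr
    { toFun := fun x => (⟨x.1.1, congrArg Prod.fst x.2⟩, ⟨x.1.2, congrArg Prod.snd x.2⟩)
      invFun := fun y => ⟨(y.1.1, y.2.1), Prod.ext y.1.2 y.2.2⟩
      left_inv := fun x => rfl
      right_inv := fun y => rfl }

theorem HasF.pi {G : Type} [Group G] {v : ℕ → ℕ} (hG : HasF G v) (k : ℕ) :
    HasF (Fin k → G) (fun d => v d ^ k) := by
  intro n
  show _ = v (Nat.gcd n 84) ^ k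
  rw [← hG n]
  conv_rhs => arg 2; rw [← Nat.card_fin k]
  rw [← Nat.card_fun]
  exact Nat.card_congr
    { toFun := fun x i => ⟨x.1 i, congrFun x.2 i⟩
      invFun := fun y => ⟨fun i => (y i).1, funext fun i => (y i).2⟩
      left_inv := fun x => rfl
      right_inv := fun y => rfl }

theorem isSolvable_prod {G K : Type} [Group G] [Group K] (hG : Group.IsSolvable G)
    (hK : Group.IsSolvable K) : Group.IsSolvable (G × K) := by
  haveI := hG
  haveI := hK
  infer_instance

theorem isSolvable_pi {G : Type} [Group G] (hG : Group.IsSolvable G) (k : ℕ) :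
    Group.IsSolvable (Fin k → G) := by
  haveI := hG
  induction k with
  | zero => exact Group.isSolvable_of_comm (fun a b => Subsingleton.elim _ _)
  | succ k ih =>
    haveI := ih
    let f : (Fin (k + 1) → G) →* G × (Fin k → G) :=
      MonoidHom.mk' (fun x => (x 0, fun i => x i.succ)) (fun _ _ => rfl)
    refine Group.isSolvable_of_isSolvable_injective (f := f) ?_
    intro x y h
    funext i
    refine Fin.cases ?_ (fun j => ?_) i
    · exact congrArg Prod.fst h
    · exact congrFun (congrArg Prod.snd h) j

end Cfsg.Agent.Lib.PGroups.OrderType
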