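import Cfsg.Agent.Lib.PGroups.AutAlternating
import Mathlib

/-!
Nonabelian Sylow subgroups and elements of order `p * q` in almost alternating groups.
-/

set_option autoImplicit false
set_option linter.style.haveILetI false
set_option linter.unusedSectionVars false

namespace Cfsg.Agent.Lib.PGroups.PrimeGraphAlternating

open Equiv Equiv.Perm

/-- Below degree `q ^ 2` the Sylow `q`-subgroups of the symmetric group are abelian. -/
theorem exists_abelian_sylow {q n : ℕ} [hq : Fact q.Prime] (hn : n < q ^ 2) :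
    ∃ S : Sylow q (Perm (Fin n)), ∀ x ∈ (S : Subgroup (Perm (Fin n))), ∀ y ∈ (S : Subgroup (Perm (Fin n))), x * y = y * x := by
  classical
  haveI : NeZero q := ⟨hq.out.ne_zero⟩
  let k := n / q
  let r := n % q
  have hk : k < q := Nat.div_lt_of_lt_mul (by rw [← sq]; exact hn)
  obtain ⟨e⟩ : Nonempty ((Fin k × ZMod q) ⊕ Fin r ≃ Fin n) := by
    rw [← Fintype.card_eq, Fintype.card_sum, Fintype.card_prod, Fintype.card_fin, Fintype.card_fin, ZMod.card,
      Fintype.card_fin]
    exact Nat.div_add_mod' n q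
  let f : Multiplicative (Fin k → ZMod q) →* Perm (Fin n) :=
    { toFun := fun v => e.permCongr (Equiv.sumCongr (Equiv.prodCongrRight fun i => Equiv.addRight (v.toAdd i)) (Equiv.refl (Fin r)))
      map_one' := Equiv.ext fun z => by
        obtain ⟨w, rfl⟩ := e.surjective z
        rcases w with ⟨i, c⟩ | c <;> simp [Equiv.permCongr_apply]
      map_mul' := fun a b => Equiv.ext fun z => by
        obtain ⟨w, rfl⟩ := e.surjective z
        rcases w with ⟨i, c⟩ | c <;> simp [Equiv.permCongr_apply, toAdd_mul, add_comm, add_left_comm] }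
  have hf : Function.Injective f := by
    intro a b h
    apply Multiplicative.toAdd.injective
    funext i
    have := congrArg (fun g : Perm (Fin n) => g (e (Sum.inl (i, 0)))) h
    simpa [f, Equiv.permCongr_apply] using this
  have hcard : Nat.card f.range = q ^ (Nat.card (Perm (Fin n))).factorization q := by
    rw [← Nat.card_congr (MonoidHom.ofInjective hf).toEquiv, Nat.card_congr Multiplicative.toAdd, Nat.card_fun,
      Nat.card_zmod, Nat.card_fin, Nat.card_perm, Nat.card_fin, Nat.factorization_def _ hq.out]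
    congr 1
    rw [show n = q * k + r from (Nat.div_add_mod n q).symm, padicValNat_factorial_mul_add k (Nat.mod_lt _ hq.out.pos),
      padicValNat_factorial_mul, padicValNat.eq_zero_of_not_dvd, zero_add]
    intro hd
    exact absurd ((hq.out.dvd_factorial).mp hd) (not_le.mpr hk)
  refine ⟨Sylow.ofCard f.range hcard, fun x hx y hy => ?_⟩
  obtain ⟨a, rfl⟩ := hx
  obtain ⟨b, rfl⟩ := hy
  rw [← map_mul, ← map_mul, mul_comm]

/-- A nonabelian Sylow subgroup for an odd prime needs degree at least its square. -/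
theorem sq_le {n q : ℕ} [hq : Fact q.Prime] (hn : 5 ≤ n) (hq2 : q ≠ 2)
    (G : Subgroup (MulAut (alternatingGroup (Fin n))))
    (h : ¬ ∀ Q : Sylow q G, IsMulCommutative (Q : Subgroup G)) : q ^ 2 ≤ n := by
  classical
  by_contra hlt
  apply h
  intro Q
  obtain ⟨S, hS⟩ := exists_abelian_sylow (q := q) (n := n) (not_le.mp hlt)
  let ι := (MulAut.conjNormal : Perm (Fin n) →* MulAut ↥(alternatingGroup (Fin n)))
  let Q' : Subgroup (Perm (Fin n)) := ((Q : Subgroup G).map G.subtype).comap ι
  have hQ' : IsPGroup q Q' := (Q.2.map G.subtype).comap_of_injective _ (AutAlternating.conjNormal_injective (by omega))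
  obtain ⟨T, hT⟩ := hQ'.exists_le_sylow
  obtain ⟨g, hg⟩ := MulAction.exists_smul_eq (Perm (Fin n)) S T
  have hTc : ∀ x ∈ (T : Subgroup (Perm (Fin n))), ∀ y ∈ (T : Subgroup (Perm (Fin n))), x * y = y * x := by
    intro x hx y hy
    rw [← hg, Sylow.coe_subgroup_smul, Subgroup.mem_pointwise_smul_iff_inv_smul_mem] at hx hy
    have := congrArg (MulAut.conj g • ·) (hS _ hx _ hy)
    simpa [smul_mul', smul_inv_smul, mul_assoc] using this
  have hlift : ∀ x : G, x ∈ (Q : Subgroup G) → ∃ σ ∈ Q', ι σ = (x : MulAut (alternatingGroup (Fin n))) := by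
    intro x hx
    obtain ⟨j, hj⟩ := Q.2 ⟨x, hx⟩
    have hj' : (x : MulAut (alternatingGroup (Fin n))) ^ q ^ j = 1 :=
      congrArg (fun y : (Q : Subgroup G) => ((y : G) : MulAut (alternatingGroup (Fin n)))) hj
    obtain ⟨σ, hσ⟩ := AutAlternating.of_odd hn (x : MulAut (alternatingGroup (Fin n)))
      (Odd.of_dvd_nat (hq.out.odd_of_ne_two hq2).pow (orderOf_dvd_of_pow_eq_one hj'))
    refine ⟨σ, ?_, hσ⟩
    show ι σ ∈ (Q : Subgroup G).map G.subtype
    rw [show ι σ = (x : MulAut (alternatingGroup (Fin n))) from hσ]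
    exact ⟨x, hx, rfl⟩
  refine ⟨⟨fun a b => Subtype.ext (Subtype.ext ?_)⟩⟩
  obtain ⟨σ, hσ, hσe⟩ := hlift a a.2
  obtain ⟨τ, hτ, hτe⟩ := hlift b b.2
  show (((a : G) : MulAut (alternatingGroup (Fin n))) * ((b : G) : MulAut (alternatingGroup (Fin n)))) = _
  rw [Subgroup.coe_mul, Subgroup.coe_mul, ← hσe, ← hτe, ← map_mul, ← map_mul, hTc σ (hT hσ) τ (hT hτ)]

/-- An element with prescribed order. -/
theorem exists_order {n : ℕ} (hn : 5 ≤ n) (G : Subgroup (MulAut (alternatingGroup (Fin n))))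
    (hG : (MulAut.conj : alternatingGroup (Fin n) →* MulAut (alternatingGroup (Fin n))).range ≤ G)
    (m : Multiset ℕ) (h2 : ∀ a ∈ m, 2 ≤ a) (hsum : m.sum ≤ n) (heven : Even (m.sum + Multiset.card m)) :
    ∃ g : G, orderOf g = m.lcm := by
  classical
  obtain ⟨σ, hσ⟩ := (Equiv.Perm.exists_with_cycleType_iff (Fin n)).mpr ⟨by simpa using hsum, h2⟩
  have hsA : σ ∈ alternatingGroup (Fin n) := by
    rw [Equiv.Perm.mem_alternatingGroup, sign_of_cycleType, hσ]
    exact heven.neg_one_pow
  have hinj : Function.Injective (MulAut.conj : alternatingGroup (Fin n) →* MulAut (alternatingGroup (Fin n))) := by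
    intro a b h
    apply Subtype.ext
    apply AutAlternating.conjNormal_injective (n := n) (by omega)
    refine MulEquiv.ext fun z => Subtype.ext ?_
    have := congrArg (fun φ : MulAut (alternatingGroup (Fin n)) => ((φ z : alternatingGroup (Fin n)) : Perm (Fin n))) h
    simpa [MulAut.conjNormal_apply] using this
  refine ⟨⟨MulAut.conj (⟨σ, hsA⟩ : alternatingGroup (Fin n)), hG ⟨_, rfl⟩⟩, ?_⟩
  rw [← Subgroup.orderOf_coe, orderOf_injective _ hinj, ← Subgroup.orderOf_coe, ← hσ, lcm_cycleType]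

theorem main {n : ℕ} (hn : 5 ≤ n) (G : Subgroup (MulAut (alternatingGroup (Fin n))))
    (hG : (MulAut.conj : alternatingGroup (Fin n) →* MulAut (alternatingGroup (Fin n))).range ≤ G)
    (p q : ℕ) [hp : Fact p.Prime] [hq : Fact q.Prime] (hpq : p ≠ q) (h : ∀ g : G, orderOf g ≠ p * q) :
    (∀ P : Sylow p G, IsMulCommutative (P : Subgroup G)) ∨ (∀ Q : Sylow q G, IsMulCommutative (Q : Subgroup G)) := by
  classical
  have hcop : ∀ a b : ℕ, a.Prime → b.Prime → a ≠ b → Nat.lcm a b = a * b := fun a b ha hb hab =>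
    Nat.Coprime.lcm_eq_mul ((Nat.coprime_primes ha hb).mpr hab)
  have hmain : ∀ (b : ℕ), b.Prime → b ≠ 2 → b ^ 2 ≤ n → ∃ g : G, orderOf g = 2 * b := by
    intro b hb hb2 hbn
    have h3 : 3 ≤ b := by have := hb.two_le; omega
    have hsq : b + 4 ≤ b ^ 2 := by nlinarith
    obtain ⟨c, hc⟩ := hb.odd_of_ne_two hb2
    obtain ⟨g, hg⟩ := exists_order hn G hG {b, 2, 2} (by simp; omega) (by simp; omega)
      ⟨c + 4, by simp; omega⟩
    refine ⟨g, hg.trans ?_⟩
    simp only [Multiset.insert_eq_cons, Multiset.lcm_cons, Multiset.lcm_singleton, normalize_eq]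
    rw [lcm_same, normalize_eq]
    exact (hcop b 2 hb Nat.prime_two hb2).trans (mul_comm _ _)
  by_contra hcon
  push Not at hcon
  obtain ⟨hP, hQ⟩ := hcon
  rcases eq_or_ne p 2 with rfl | hp2
  · obtain ⟨g, hg⟩ := hmain q hq.out (Ne.symm hpq) (sq_le hn (Ne.symm hpq) G (not_forall.mpr hQ))
    exact h g hg
  rcases eq_or_ne q 2 with rfl | hq2
  · obtain ⟨g, hg⟩ := hmain p hp.out hp2 (sq_le hn hp2 G (not_forall.mpr hP))
    exact h g (hg.trans (mul_comm _ _))
  have hp' := sq_le hn hp2 G (not_forall.mpr hP)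
  have hq' := sq_le hn hq2 G (not_forall.mpr hQ)
  obtain ⟨c, hc⟩ := hp.out.odd_of_ne_two hp2
  obtain ⟨d, hd⟩ := hq.out.odd_of_ne_two hq2
  have := hp.out.two_le
  have := hq.out.two_le
  have hle : p + q ≤ n := by
    rcases le_total p q with hle | hle <;> nlinarith
  obtain ⟨g, hg⟩ := exists_order hn G hG {p, q} (by simp; omega) (by simpa using hle) ⟨c + d + 2, by simp; omega⟩
  refine h g (hg.trans ?_)
  simp only [Multiset.insert_eq_cons, Multiset.lcm_cons, Multiset.lcm_singleton, normalize_eq]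
  exact hcop p q hp.out hq.out hpq

end Cfsg.Agent.Lib.PGroups.PrimeGraphAlternating
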