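import Cfsg.Agent.Lib.Frobenius.Kernel
import Cfsg.Agent.Lib.Frobenius.Action
import Cfsg.Agent.Lib.Frobenius.Complement
import Mathlib

/-!
A fixed-point-free quaternion group forces the order of the module to be an odd square.
-/

set_option autoImplicit false

namespace Cfsg.Agent.Lib.PGroups

universe u

/-- An abelian group of odd order with two anticommuting square roots of `-1` has square order. -/
theorem isSquare_card_of_quaternion {M : Type u} [AddCommGroup M] [Finite M]
    (hodd : Odd (Nat.card M)) (I J : M →+ M) (hI : ∀ x, I (I x) = -x) (hJ : ∀ x, J (J x) = -x)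
    (hIJ : ∀ x, I (J x) = -(J (I x))) : IsSquare (Nat.card M) := by
  induction hn : Nat.card M using Nat.strong_induction_on generalizing M with
  | _ n ih =>
    subst hn
    by_cases h1 : Nat.card M = 1
    · rw [h1]; exact ⟨1, rfl⟩
    obtain ⟨p, hp, hpd⟩ := Nat.exists_prime_and_dvd h1
    haveI := Fact.mk hp
    have hp2 : p ≠ 2 := fun h => (hodd.not_two_dvd_nat) (h ▸ hpd)
    obtain ⟨a, b, hab⟩ := ZMod.sq_add_sq p (-1)
    have habp : p ∣ a.val ^ 2 + b.val ^ 2 + 1 := by
      rw [← ZMod.natCast_eq_zero_iff]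
      push_cast
      rw [ZMod.natCast_zmod_val, ZMod.natCast_zmod_val, hab, neg_add_cancel]
    let P : M →+ M := p • AddMonoidHom.id M
    have hP : ∀ x, P x = p • x := fun x => rfl
    -- the image
    have hImg : ∀ F : M →+ M, ∀ x ∈ P.range, F x ∈ P.range := by
      rintro F _ ⟨y, rfl⟩
      exact ⟨F y, by rw [hP, hP, map_nsmul]⟩
    have hker : ∀ F : M →+ M, ∀ x ∈ P.ker, F x ∈ P.ker := fun F x hx => by
      rw [AddMonoidHom.mem_ker, hP] at hx ⊢
      rw [← map_nsmul, hx, map_zero]
    have hcard : Nat.card M = Nat.card P.ker * Nat.card P.range := by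
      rw [mul_comm, ← AddSubgroup.index_ker, P.ker.index_mul_card]
    have hkpos : 1 < Nat.card P.ker := by
      obtain ⟨x, hx⟩ := exists_prime_addOrderOf_dvd_card' p hpd
      rw [Finite.one_lt_card_iff_nontrivial]
      refine ⟨⟨0, ⟨x, ?_⟩, fun h => ?_⟩⟩
      · rw [AddMonoidHom.mem_ker, hP, ← hx, addOrderOf_nsmul_eq_zero]
      · have hx0 : x = 0 := (congrArg Subtype.val h).symm
        rw [hx0, addOrderOf_zero] at hx
        exact hp.one_lt.ne hx
    have hrlt : Nat.card P.range < Nat.card M := by
      rw [hcard]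
      exact lt_mul_of_one_lt_left Nat.card_pos hkpos
    have hrsq : IsSquare (Nat.card P.range) := by
      refine ih _ hrlt (hodd.of_dvd_nat (AddSubgroup.card_addSubgroup_dvd_card _))
        ((I.comp P.range.subtype).codRestrict P.range fun x => hImg I x x.2)
        ((J.comp P.range.subtype).codRestrict P.range fun x => hImg J x x.2)
        (fun x => Subtype.ext (hI x)) (fun x => Subtype.ext (hJ x))
        (fun x => Subtype.ext (hIJ x)) rfl
    -- the `p`-torsion splits into two eigenspaces swapped by `K = I J`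
    let T : M →+ M := a.val • I + b.val • J
    have hT : ∀ x, T x = a.val • I x + b.val • J x := fun x => rfl
    have hTT : ∀ x ∈ P.ker, T (T x) = x := by
      intro x hx
      rw [AddMonoidHom.mem_ker, hP] at hx
      obtain ⟨c, hc⟩ := habp
      have h0 : (a.val ^ 2 + b.val ^ 2 + 1) • x = 0 := by rw [hc, mul_comm, mul_smul, hx, smul_zero]
      rw [add_smul, add_smul, one_smul] at h0
      rw [hT, hT, map_add, map_add, map_nsmul, map_nsmul, map_nsmul, map_nsmul, hI, hJ, hIJ]
      simp only [smul_add, smul_neg, ← mul_smul, mul_comm b.val a.val, ← pow_two]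
      calc -(a.val ^ 2 • x) + -((a.val * b.val) • J (I x)) +
            ((a.val * b.val) • J (I x) + -(b.val ^ 2 • x))
          = -(a.val ^ 2 • x + b.val ^ 2 • x) := by abel
        _ = x := neg_eq_iff_add_eq_zero.mpr h0
    let K : M →+ M := I.comp J
    have hTK : ∀ x, T (K x) = -(K (T x)) := by
      intro x
      show T (I (J x)) = -(I (J (T x)))
      rw [hT, hT]
      simp only [map_add, map_nsmul]
      have e1 : I (I (J x)) = -(J x) := hI _
      have e2 : J (I (J x)) = I x := by
        rw [hIJ, map_neg, hJ, neg_neg]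
      have e3 : I (J (I x)) = J x := by
        rw [hIJ, hI, map_neg, neg_neg]
      have e4 : I (J (J x)) = -(I x) := by rw [hJ, map_neg]
      rw [e1, e2, e3, e4]
      simp only [smul_neg]
      abel
    have hKinj : Function.Injective K := fun x y h => by
      have h' := congrArg (fun z => J (I z)) h
      simpa [K, hI, hJ, map_neg] using h'
    let Pl : Set M := {x | x ∈ P.ker ∧ T x = x}
    let Mi : Set M := {x | x ∈ P.ker ∧ T x = -x}
    have hle1 : Nat.card Pl ≤ Nat.card Mi :=
      Nat.card_le_card_of_injective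
        (fun x => ⟨K x.1, hker K _ x.2.1, by rw [hTK, x.2.2]⟩)
        (fun x y h => Subtype.ext (hKinj (congrArg Subtype.val h)))
    have hle2 : Nat.card Mi ≤ Nat.card Pl :=
      Nat.card_le_card_of_injective
        (fun x => ⟨K x.1, hker K _ x.2.1, by rw [hTK, x.2.2, map_neg, neg_neg]⟩)
        (fun x y h => Subtype.ext (hKinj (congrArg Subtype.val h)))
    obtain ⟨h', hh⟩ : ∃ h : ℕ, p = 2 * h + 1 := (hp.odd_of_ne_two hp2)
    have hkey : ∀ x ∈ P.ker, (h' + 1) • (x + x) = x := fun x hx => by
      rw [AddMonoidHom.mem_ker, hP, hh] at hx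
      rw [← two_nsmul, ← mul_smul, show (h' + 1) * 2 = (2 * h' + 1) + 1 by ring, add_smul, one_smul,
        hx, zero_add]
    have hker_eq : Nat.card P.ker = Nat.card Pl * Nat.card Mi := by
      rw [← Nat.card_prod]
      refine Nat.card_congr
        { toFun := fun x => (⟨x + T x, add_mem x.2 (hker T _ x.2), by
              rw [map_add, hTT _ x.2, add_comm]⟩,
            ⟨x - T x, sub_mem x.2 (hker T _ x.2), by rw [map_sub, hTT _ x.2, neg_sub]⟩)
          invFun := fun y => ⟨(h' + 1) • (y.1.1 + y.2.1),
            nsmul_mem (add_mem y.1.2.1 y.2.2.1) _⟩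
          left_inv := fun x => Subtype.ext ?_
          right_inv := fun y => Prod.ext (Subtype.ext ?_) (Subtype.ext ?_) }
      · show (h' + 1) • ((x : M) + T x + ((x : M) - T x)) = x
        rw [show (x : M) + T x + ((x : M) - T x) = (x : M) + x by abel]
        exact hkey _ x.2
      · show (h' + 1) • (y.1.1 + y.2.1) + T ((h' + 1) • (y.1.1 + y.2.1)) = y.1.1
        rw [map_nsmul, map_add, y.1.2.2, y.2.2.2, ← smul_add,
          show y.1.1 + y.2.1 + (y.1.1 + -y.2.1) = y.1.1 + y.1.1 by abel]
        exact hkey _ y.1.2.1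
      · show (h' + 1) • (y.1.1 + y.2.1) - T ((h' + 1) • (y.1.1 + y.2.1)) = y.2.1
        rw [map_nsmul, map_add, y.1.2.2, y.2.2.2, ← smul_sub,
          show y.1.1 + y.2.1 - (y.1.1 + -y.2.1) = y.2.1 + y.2.1 by abel]
        exact hkey _ y.2.2.1
    rw [hcard]
    exact IsSquare.mul ⟨Nat.card Pl, by rw [hker_eq, le_antisymm hle1 hle2]⟩ hrsq

/-- If a Frobenius complement contains the generators of a quaternion group then its kernel has odd
square order. -/
theorem frobeniusKernel_square {L : Type u} [Group L] [Finite L] {H : Subgroup L}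
    (hF : Cfsg.IsFrobeniusComplement H) (i j : H) (hii : i * i = j * j) (hz : i * i ≠ 1)
    (hz2 : i * i * (i * i) = 1) (hij : i * j = i * i * (j * i)) :
    Odd (Nat.card (Cfsg.frobeniusKernel H)) ∧ IsSquare (Nat.card (Cfsg.frobeniusKernel H)) := by
  obtain ⟨K, hKn, hKs, hKH, -, hKb, -, -⟩ := Frobenius.exists_frobeniusKernel hF
  have hcard : Nat.card (Cfsg.frobeniusKernel H) = Nat.card K := by rw [← hKs]; rfl
  rw [hcard]
  haveI := hKn
  haveI : Nontrivial K := (Subgroup.nontrivial_iff_ne_bot K).mpr hKb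
  let φ : H →* MulAut K := MulAut.conjNormal.comp H.subtype
  have hfpf : ∀ h : H, h ≠ 1 → ∀ g : K, φ h g = g → g = 1 := by
    intro h hh g hg
    have h1 : (h : L) * g * (h : L)⁻¹ = g := by
      have := congrArg Subtype.val hg
      simpa [φ] using this
    refine Subtype.ext (Frobenius.frobeniusKernel_fixedPointFree hF hKs h h.2
      (fun e => hh (Subtype.ext e)) g g.2 ?_)
    exact mul_inv_eq_iff_eq_mul.mp h1
  have hz' : orderOf (i * i) = 2 := orderOf_eq_prime (by rw [pow_two, hz2]) hz
  have h2H : 2 ∣ Nat.card H := hz' ▸ orderOf_dvd_natCard _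
  have hodd : Odd (Nat.card K) := by
    rw [← Nat.not_even_iff_odd, even_iff_two_dvd]
    intro hd
    have := Nat.dvd_gcd h2H hd
    rw [Frobenius.card_coprime φ hfpf] at this
    norm_num at this
  refine ⟨hodd, ?_⟩
  haveI := Frobenius.isMulCommutative_of_two_dvd φ hfpf h2H
  letI : CommGroup K := { (inferInstance : Group K) with mul_comm := fun x y => mul_comm' x y }
  have hinvz : ∀ g, φ (i * i) g = g⁻¹ := by
    have hfix : MonoidHom.FixedPointFree (φ (i * i)) := hfpf _ hz
    have hinvol : Function.Involutive (φ (i * i)) := fun x => by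
      rw [← MulAut.mul_apply, ← map_mul, hz2, map_one, MulAut.one_apply]
    exact fun g => congrFun (hfix.coe_eq_inv_of_involutive hinvol) g
  have key := isSquare_card_of_quaternion (M := Additive K) hodd
    (MonoidHom.toAdditive (φ i).toMonoidHom) (MonoidHom.toAdditive (φ j).toMonoidHom) ?_ ?_ ?_
  · exact key
  · intro x
    show Additive.ofMul (φ i (φ i (Additive.toMul x))) = Additive.ofMul (Additive.toMul x)⁻¹
    rw [← MulAut.mul_apply, ← map_mul, hinvz]
  · intro x
    show Additive.ofMul (φ j (φ j (Additive.toMul x))) = Additive.ofMul (Additive.toMul x)⁻¹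
    rw [← MulAut.mul_apply, ← map_mul, ← hii, hinvz]
  · intro x
    show Additive.ofMul (φ i (φ j (Additive.toMul x))) =
      Additive.ofMul (φ j (φ i (Additive.toMul x)))⁻¹
    rw [← MulAut.mul_apply, ← map_mul, hij, map_mul, MulAut.mul_apply, hinvz, map_mul,
      MulAut.mul_apply]

end Cfsg.Agent.Lib.PGroups
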