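import Cfsg.Prelude.Def_CaseTheorems
import Cfsg.Agent.Lib.PGroups.Pronormal
import Cfsg.Agent.Lib.Cores.Frattini
import Mathlib

/-!
Two normal nonabelian subgroups with small centres in a 2-group of sectional rank at most four.
-/

set_option autoImplicit false
set_option linter.style.haveILetI false

namespace Cfsg.Agent.Lib.PGroups.RankFourPair

open Cfsg.Agent.Lib.PGroups.Pronormal (cj cj_mul cj_one cj_iff)

open scoped commutatorElement

variable {S : Type*} [Group S]

/-- A large quotient of exponent two bounds the sectional rank from below. -/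
theorem card_le_of_section {k : ℕ} (hr : Cfsg.SectionalPRankLE 2 k S) (H : Subgroup S)
    {E : Type*} [Group E] (φ : H →* E) (hφ : Function.Surjective φ) (hE : ∀ e : E, e ^ 2 = 1) :
    Nat.card E ≤ 2 ^ k := by
  let e := QuotientGroup.quotientKerEquivOfSurjective φ hφ
  have hsq : ∀ a : H ⧸ φ.ker, a ^ 2 = 1 := fun a => e.injective (by rw [map_pow, hE, map_one])
  have hc : ∀ a b : H ⧸ φ.ker, a * b = b * a := fun a b => by
    have hi : ∀ x : H ⧸ φ.ker, x⁻¹ = x := fun x =>
      inv_eq_of_mul_eq_one_right (by rw [← pow_two, hsq])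
    calc a * b = (a * b)⁻¹ := (hi _).symm
      _ = b * a := by rw [mul_inv_rev, hi, hi]
  rw [← Nat.card_congr e.toEquiv, ← Subgroup.card_top]
  exact hr H φ.ker ⊤ ⟨⟨fun a b => Subtype.ext (hc a b)⟩⟩ fun a _ => hsq a

variable [Finite S]

theorem frattini_sq {P : Type*} [Group P] [Finite P] (hP : IsPGroup 2 P) (x : P) : x ^ 2 ∈ frattini P :=
  haveI : Fact (Nat.Prime 2) := ⟨Nat.prime_two⟩
  Cfsg.Agent.Lib.Cores.pow_mem_frattini hP x

/-- A nonabelian 2-group has Frattini index at least four. -/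
theorem four_le_index_frattini {P : Type*} [Group P] [Finite P]
    (hna : ¬ IsMulCommutative P) : 4 ≤ (frattini P).index ∨ (frattini P).index = 3 := by
  by_contra hcon
  push Not at hcon
  have h0 := Subgroup.index_ne_zero_of_finite (H := frattini P)
  have hle : (frattini P).index = 1 ∨ (frattini P).index = 2 := by omega
  apply hna
  obtain ⟨x, hx⟩ : ∃ x : P, frattini P ⊔ Subgroup.zpowers x = ⊤ := by
    rcases hle with h | h
    · exact ⟨1, by rw [Subgroup.index_eq_one.mp h, top_sup_eq]⟩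
    · obtain ⟨x, hx⟩ : ∃ x, x ∉ frattini P := by
        by_contra! hall
        rw [(Subgroup.eq_top_iff' _).mpr hall, Subgroup.index_top] at h
        omega
      refine ⟨x, (Subgroup.eq_top_iff' _).mpr fun y => ?_⟩
      by_cases hy : y ∈ frattini P
      · exact Subgroup.mem_sup_left hy
      · rw [show y = (y * x⁻¹) * x by group]
        exact Subgroup.mul_mem_sup ((Subgroup.mul_mem_iff_of_index_two h).mpr
          (iff_of_false hy fun h' => hx (by simpa using Subgroup.inv_mem _ h'))) (Subgroup.mem_zpowers x)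
  have hz : Subgroup.zpowers x = ⊤ := frattini_nongenerating (by rw [sup_comm]; exact hx)
  refine ⟨⟨fun a b => ?_⟩⟩
  obtain ⟨i, rfl⟩ := (hz ▸ Subgroup.mem_top a : a ∈ Subgroup.zpowers x)
  obtain ⟨j, rfl⟩ := (hz ▸ Subgroup.mem_top b : b ∈ Subgroup.zpowers x)
  exact zpow_mul_comm x i j

theorem four_le_index_frattini' {P : Type*} [Group P] [Finite P] (hP : IsPGroup 2 P)
    (hna : ¬ IsMulCommutative P) : 4 ≤ (frattini P).index := by
  haveI : Fact (Nat.Prime 2) := ⟨Nat.prime_two⟩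
  rcases four_le_index_frattini hna with h | h
  · exact h
  · obtain ⟨n, hn⟩ := IsPGroup.index hP (frattini P)
    rcases n with _ | n
    · omega
    · rw [h, pow_succ] at hn; omega

/-- A nontrivial normalised subgroup has a nontrivial element centralised by the normalising group. -/
theorem exists_fixed (h2 : IsPGroup 2 S) {K N : Subgroup S} (hn : ∀ k ∈ K, ∀ x ∈ N, k * x * k⁻¹ ∈ N)
    (hN : N ≠ ⊥) : ∃ x ∈ N, x ≠ 1 ∧ ∀ k ∈ K, k * x = x * k := by
  haveI : Fact (Nat.Prime 2) := ⟨Nat.prime_two⟩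
  letI : MulAction K N :=
    { smul := fun k x => ⟨k * x * (k : S)⁻¹, hn k k.2 x x.2⟩
      one_smul := fun x => Subtype.ext (show (1 : S) * x * (1 : S)⁻¹ = x by simp)
      mul_smul := fun k l x => Subtype.ext (show ((k : S) * l) * x * ((k : S) * l)⁻¹ =
        (k : S) * ((l : S) * x * (l : S)⁻¹) * (k : S)⁻¹ by simp [mul_assoc]) }
  obtain ⟨x, hx, hx1⟩ := (h2.to_subgroup K).exists_fixed_point_of_prime_dvd_card_of_fixed_point N
    (by
      haveI : Nontrivial N := (Subgroup.nontrivial_iff_ne_bot N).mpr hN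
      obtain ⟨n, hn0, hn⟩ := (h2.to_subgroup N).nontrivial_iff_card.mp inferInstance
      exact hn ▸ dvd_pow_self 2 hn0.ne')
    (a := (1 : N)) (fun k => Subtype.ext (show (k : S) * 1 * (k : S)⁻¹ = 1 by simp))
  exact ⟨x, x.2, fun h => hx1 (Subtype.ext h.symm), fun k hk => mul_inv_eq_iff_eq_mul.mp
    (congrArg Subtype.val (hx ⟨k, hk⟩))⟩

theorem center_unique {P : Subgroup S} (hZ : Nat.card (Subgroup.center P) = 2) {x y : S}
    (hx : x ∈ (Subgroup.center P).map P.subtype) (hy : y ∈ (Subgroup.center P).map P.subtype)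
    (hx1 : x ≠ 1) (hy1 : y ≠ 1) : x = y := by
  obtain ⟨a, ha, rfl⟩ := hx
  obtain ⟨b, hb, rfl⟩ := hy
  obtain ⟨u, -, hu⟩ := (Nat.card_eq_two_iff' (1 : Subgroup.center P)).mp hZ
  have h1 := hu ⟨a, ha⟩ fun h => hx1 (by rw [show a = 1 from congrArg Subtype.val h]; rfl)
  have h2 := hu ⟨b, hb⟩ fun h => hy1 (by rw [show b = 1 from congrArg Subtype.val h]; rfl)
  rw [show a = b from congrArg Subtype.val (h1.trans h2.symm)]

theorem center_map_eq_zpowers {P : Subgroup S} (hZ : Nat.card (Subgroup.center P) = 2) {x : S}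
    (hx : x ∈ (Subgroup.center P).map P.subtype) (hx1 : x ≠ 1) :
    (Subgroup.center P).map P.subtype = Subgroup.zpowers x := by
  refine le_antisymm (fun y hy => ?_) (Subgroup.zpowers_le.mpr hx)
  by_cases hy1 : y = 1
  · rw [hy1]; exact one_mem _
  · rw [center_unique hZ hy hx hy1 hx1]; exact Subgroup.mem_zpowers x

/-- The hypotheses on a subgroup normalised by `K`. -/
structure Good (K P : Subgroup S) : Prop where
  le : P ≤ K
  normal : ∀ k ∈ K, ∀ x ∈ P, k * x * k⁻¹ ∈ P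
  nonabelian : ¬ IsMulCommutative P
  card_center : Nat.card (Subgroup.center P) = 2

variable {K P Q : Subgroup S}

theorem Good.commute_inf (h2 : IsPGroup 2 S) (hP : Good K P) (hQ : Good K Q)
    (hne : (Subgroup.center P).map P.subtype ≠ (Subgroup.center Q).map Q.subtype) :
    P ⊓ Q = ⊥ ∧ ∀ x ∈ P, ∀ y ∈ Q, x * y = y * x := by
  have hinf : P ⊓ Q = ⊥ := by
    by_contra h0
    obtain ⟨x, hx, hx1, hxc⟩ := exists_fixed h2 (K := K) (N := P ⊓ Q)
      (fun k hk x hx => ⟨hP.normal k hk x hx.1, hQ.normal k hk x hx.2⟩) h0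
    apply hne
    have hmem : ∀ R : Subgroup S, R ≤ K → ∀ h : x ∈ R, x ∈ (Subgroup.center R).map R.subtype :=
      fun R hR h => ⟨⟨x, h⟩, Subgroup.mem_center_iff.mpr fun r => Subtype.ext (hxc r (hR r.2)), rfl⟩
    rw [center_map_eq_zpowers hP.card_center (hmem P hP.le hx.1) hx1,
      center_map_eq_zpowers hQ.card_center (hmem Q hQ.le hx.2) hx1]
  refine ⟨hinf, fun x hx y hy => ?_⟩
  have : x * y * x⁻¹ * y⁻¹ ∈ P ⊓ Q := by
    refine ⟨?_, Q.mul_mem (hQ.normal x (hP.le hx) y hy) (Q.inv_mem hy)⟩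
    rw [show x * y * x⁻¹ * y⁻¹ = x * (y * x⁻¹ * y⁻¹) by group]
    exact P.mul_mem hx (hP.normal y (hQ.le hy) _ (P.inv_mem hx))
  rw [hinf, Subgroup.mem_bot] at this
  calc x * y = x * y * x⁻¹ * y⁻¹ * (y * x) := by group
    _ = _ := by rw [this, one_mul]

/-- The product map of two commuting subgroups. -/
def prodHom (hc : ∀ x ∈ P, ∀ y ∈ Q, x * y = y * x) : P × Q →* S :=
  MonoidHom.noncommCoprod P.subtype Q.subtype fun x y => hc x x.2 y y.2

theorem prodHom_apply (hc : ∀ x ∈ P, ∀ y ∈ Q, x * y = y * x) (v : P × Q) :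
    prodHom hc v = v.1 * v.2 := rfl

theorem prodHom_injective (hc : ∀ x ∈ P, ∀ y ∈ Q, x * y = y * x) (hi : P ⊓ Q = ⊥) :
    Function.Injective (prodHom hc) := by
  rw [injective_iff_map_eq_one]
  rintro ⟨x, y⟩ h
  rw [prodHom_apply] at h
  have hxy : (x : S) = (y : S)⁻¹ := eq_inv_of_mul_eq_one_left h
  have hx : (x : S) ∈ P ⊓ Q := ⟨x.2, hxy ▸ Q.inv_mem y.2⟩
  rw [hi, Subgroup.mem_bot] at hx
  rw [hx, one_mul] at h
  exact Prod.ext (Subtype.ext hx) (Subtype.ext h)

theorem mem_sup_iff (hc : ∀ x ∈ P, ∀ y ∈ Q, x * y = y * x) {g : S} :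
    g ∈ P ⊔ Q ↔ g ∈ (prodHom hc).range := by
  have e : (prodHom hc).range = P ⊔ Q := by
    refine le_antisymm ?_ (sup_le (fun x hx => ⟨(⟨x, hx⟩, 1), by simp [prodHom_apply]⟩)
      fun y hy => ⟨(1, ⟨y, hy⟩), by simp [prodHom_apply]⟩)
    rintro _ ⟨⟨x, y⟩, rfl⟩
    exact Subgroup.mul_mem_sup x.2 y.2
  rw [e]

theorem Good.center_le_frattini (h2 : IsPGroup 2 S) (hP : Good K P) :
    Subgroup.center P ≤ frattini P := by
  haveI : Fact (Nat.Prime 2) := ⟨Nat.prime_two⟩
  intro c hc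
  by_cases hc1 : c = 1
  · rw [hc1]; exact one_mem _
  have hcomm : commutator P ≤ frattini P := by
    rw [commutator_def, Subgroup.commutator_le]
    intro a _ b _
    have hp := h2.to_subgroup P
    have e2 : ⁅a, b⁆ = a ^ 2 * (a⁻¹ * b) ^ 2 * (b ^ 2)⁻¹ := by
      rw [commutatorElement_def, pow_two, pow_two, pow_two]; group
    rw [e2]
    exact mul_mem (mul_mem (frattini_sq hp a) (frattini_sq hp _)) (inv_mem (frattini_sq hp b))
  obtain ⟨x, hx, hx1, hxc⟩ := exists_fixed (h2.to_subgroup P) (K := (⊤ : Subgroup P)) (N := commutator P)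
    (fun k _ x hx => (inferInstance : (commutator P).Normal).conj_mem x hx k) (by
      intro h
      apply hP.nonabelian
      refine ⟨⟨fun a b => commutatorElement_eq_one_iff_mul_comm.mp ?_⟩⟩
      rw [← Subgroup.mem_bot, ← h, commutator_def]
      exact Subgroup.commutator_mem_commutator (Subgroup.mem_top a) (Subgroup.mem_top b))
  obtain ⟨u, -, hu⟩ := (Nat.card_eq_two_iff' (1 : Subgroup.center P)).mp hP.card_center
  have hxZ : x ∈ Subgroup.center P := Subgroup.mem_center_iff.mpr fun k => hxc k (Subgroup.mem_top k)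
  have e1 := hu ⟨c, hc⟩ fun h => hc1 (congrArg Subtype.val h)
  have e2 := hu ⟨x, hxZ⟩ fun h => hx1 (congrArg Subtype.val h)
  rw [show c = x from congrArg Subtype.val (e1.trans e2.symm)]
  exact hcomm hx

theorem Good.centralizer_le (h2 : IsPGroup 2 S) (hr : Cfsg.SectionalPRankLE 2 4 S) (hP : Good K P)
    (hQ : Good K Q)
    (hne : (Subgroup.center P).map P.subtype ≠ (Subgroup.center Q).map Q.subtype) :
    ∀ g ∈ K, (∀ x ∈ P, g * x = x * g) → (∀ y ∈ Q, g * y = y * g) → g ∈ P ⊔ Q := by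
  classical
  haveI : Fact (Nat.Prime 2) := ⟨Nat.prime_two⟩
  obtain ⟨hinf, hc⟩ := hP.commute_inf h2 hQ hne
  intro g hgK hgP hgQ
  by_contra hg
  -- push the element down until its square lands in the product
  obtain ⟨c, hcn, hcsq, hcP, hcQ⟩ : ∃ c, c ∉ P ⊔ Q ∧ c ^ 2 ∈ P ⊔ Q ∧
      (∀ x ∈ P, c * x = x * c) ∧ ∀ y ∈ Q, c * y = y * c := by
    obtain ⟨n, hn⟩ := h2 g
    induction n generalizing g with
    | zero => rw [pow_zero, pow_one] at hn; exact absurd (hn ▸ one_mem _) hg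
    | succ n ih =>
      by_cases hsq : g ^ 2 ∈ P ⊔ Q
      · exact ⟨g, hg, hsq, hgP, hgQ⟩
      · refine ih (g ^ 2) (K.pow_mem hgK 2) (fun x hx => (Commute.pow_left (hgP x hx) 2).eq)
          (fun y hy => (Commute.pow_left (hgQ y hy) 2).eq) hsq ?_
        rw [← pow_mul, ← pow_succ']; exact hn
  set Ψ := prodHom hc
  have hΨ := prodHom_injective hc hinf
  set D := ((frattini P).prod (frattini Q)).map Ψ
  set H := (P ⊔ Q) ⊔ Subgroup.zpowers c
  have hcc : ∀ v : P × Q, Commute c (Ψ v) := fun v => (Commute.mul_right (hcP _ v.1.2) (hcQ _ v.2.2))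
  have hmem : ∀ h ∈ H, ∃ (v : P × Q) (i : ℤ), h = Ψ v * c ^ i := by
    intro h hh
    let W : Subgroup S :=
      { carrier := {h | ∃ (v : P × Q) (i : ℤ), h = Ψ v * c ^ i}
        one_mem' := ⟨1, 0, by simp⟩
        mul_mem' := by
          rintro a b ⟨v, i, rfl⟩ ⟨w, j, rfl⟩
          refine ⟨v * w, i + j, ?_⟩
          rw [map_mul, zpow_add, mul_assoc, ← mul_assoc (c ^ i), ((hcc w).zpow_left i).eq]
          group
        inv_mem' := by
          rintro a ⟨v, i, rfl⟩
          refine ⟨v⁻¹, -i, ?_⟩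
          rw [mul_inv_rev, map_inv, ← zpow_neg, (((hcc v).zpow_left (-i)).inv_right).eq] }
    refine (sup_le ?_ (Subgroup.zpowers_le.mpr ⟨1, 1, by simp⟩) : H ≤ W) hh
    intro u hu
    obtain ⟨v, rfl⟩ := (mem_sup_iff hc).mp hu
    exact ⟨v, 0, by simp [Ψ]⟩
  have hDle : D ≤ P ⊔ Q := by
    rintro _ ⟨v, -, rfl⟩
    exact (mem_sup_iff hc).mpr ⟨v, rfl⟩
  have hc2 : c ^ 2 ∈ D := by
    obtain ⟨⟨x, y⟩, hxy⟩ := (mem_sup_iff hc).mp hcsq
    refine ⟨(x, y), ⟨hP.center_le_frattini h2 (Subgroup.mem_center_iff.mpr fun a => Subtype.ext ?_),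
      hQ.center_le_frattini h2 (Subgroup.mem_center_iff.mpr fun b => Subtype.ext ?_)⟩, hxy⟩
    · show (a : S) * x = x * a
      have h1 := (Commute.pow_left (hcP a a.2) 2).eq
      rw [← hxy, prodHom_apply, mul_assoc, ← hc a a.2 y y.2, ← mul_assoc, ← mul_assoc] at h1
      exact (mul_right_cancel h1).symm
    · show (b : S) * y = y * b
      have h1 := (Commute.pow_left (hcQ b b.2) 2).eq
      rw [← hxy, prodHom_apply, ← mul_assoc, ← hc x x.2 b b.2, mul_assoc, mul_assoc] at h1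
      exact (mul_left_cancel h1).symm
  set D' := D.subgroupOf H
  have hsq : ∀ h : H, h ^ 2 ∈ D' := by
    intro h
    obtain ⟨v, i, hv⟩ := hmem h h.2
    rw [Subgroup.mem_subgroupOf, SubmonoidClass.coe_pow, hv,
      Commute.mul_pow ((hcc v).zpow_left i).symm, ← map_pow]
    refine D.mul_mem ⟨v ^ 2, ⟨frattini_sq (h2.to_subgroup P) _, frattini_sq (h2.to_subgroup Q) _⟩, rfl⟩ ?_
    rw [← zpow_natCast, ← zpow_mul, mul_comm, zpow_mul, zpow_natCast]
    exact D.zpow_mem hc2 i
  haveI : D'.Normal := ⟨fun n hn k => by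
    have e : k * n * k⁻¹ = (k * n) ^ 2 * (n⁻¹ * (k ^ 2)⁻¹) := by rw [pow_two, pow_two]; group
    rw [e]
    exact mul_mem (hsq _) (mul_mem (inv_mem hn) (inv_mem (hsq k)))⟩
  have hE := card_le_of_section hr H (QuotientGroup.mk' D') (QuotientGroup.mk'_surjective D')
    fun e => by
      obtain ⟨h, rfl⟩ := QuotientGroup.mk'_surjective D' e
      rw [← map_pow]
      exact (QuotientGroup.eq_one_iff _).mpr (hsq h)
  change D.relIndex H ≤ 2 ^ 4 at hE
  have h1 : D.relIndex (P ⊔ Q) = (frattini P).index * (frattini Q).index := by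
    have e1 : Nat.card D = Nat.card (frattini P) * Nat.card (frattini Q) := by
      rw [← Nat.card_congr (Subgroup.equivMapOfInjective _ Ψ hΨ).toEquiv,
        Nat.card_congr (Subgroup.prodEquiv _ _).toEquiv, Nat.card_prod]
    have e2 : Nat.card (P ⊔ Q : Subgroup S) = Nat.card P * Nat.card Q := by
      rw [show (P ⊔ Q : Subgroup S) = Ψ.range from Subgroup.ext fun u => mem_sup_iff hc,
        ← Nat.card_congr (MonoidHom.ofInjective hΨ).toEquiv, Nat.card_prod]
    have e3 := Subgroup.card_mul_index (D.subgroupOf (P ⊔ Q))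
    rw [Nat.card_congr (Subgroup.subgroupOfEquivOfLe hDle).toEquiv, e1, e2,
      ← Subgroup.card_mul_index (frattini P), ← Subgroup.card_mul_index (frattini Q)] at e3
    refine Nat.eq_of_mul_eq_mul_left (Nat.mul_pos (Nat.card_pos (α := frattini P)) (Nat.card_pos (α := frattini Q))) ?_
    show _ * (D.subgroupOf (P ⊔ Q)).index = _
    rw [e3]; ring
  have hne1 : (P ⊔ Q).relIndex H ≠ 1 := fun h =>
    hcn (Subgroup.relIndex_eq_one.mp h (Subgroup.mem_sup_right (Subgroup.mem_zpowers c)))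
  have hne0 : (P ⊔ Q).relIndex H ≠ 0 := Subgroup.index_ne_zero_of_finite (H := (P ⊔ Q).subgroupOf H)
  have h2' : 2 ≤ (P ⊔ Q).relIndex H := by omega
  have h3 := Subgroup.relIndex_mul_relIndex D (P ⊔ Q) H hDle le_sup_left
  have h4 := four_le_index_frattini' (h2.to_subgroup P) hP.nonabelian
  have h5 := four_le_index_frattini' (h2.to_subgroup Q) hQ.nonabelian
  have h6 := Nat.mul_le_mul h4 h5
  have h7 := Nat.mul_le_mul h6 h2'
  rw [← h1, h3] at h7
  omega

theorem Good.rank_le_two (h2 : IsPGroup 2 S) (hr : Cfsg.SectionalPRankLE 2 4 S) (hP : Good K P)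
    (hQ : Good K Q)
    (hne : (Subgroup.center P).map P.subtype ≠ (Subgroup.center Q).map Q.subtype) :
    Cfsg.SectionalPRankLE 2 2 P := by
  classical
  obtain ⟨hinf, hc⟩ := hP.commute_inf h2 hQ hne
  intro H N _ A hA hAp
  set Ψ := prodHom hc
  have hΨ := prodHom_injective hc hinf
  set A' := A.comap (QuotientGroup.mk' N)
  let f : A' →* A := ((QuotientGroup.mk' N).comp A'.subtype).codRestrict A fun a => a.2
  have hf : Function.Surjective f := fun a => by
    obtain ⟨x, hx⟩ := QuotientGroup.mk'_surjective N a.1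
    exact ⟨⟨x, show QuotientGroup.mk' N x ∈ A by rw [hx]; exact a.2⟩, Subtype.ext hx⟩
  let ι : A' × Q →* P × Q := (H.subtype.comp A'.subtype).prodMap (MonoidHom.id Q)
  have hι : Function.Injective (Ψ.comp ι) := by
    refine hΨ.comp ?_
    rintro ⟨a, q⟩ ⟨a', q'⟩ h
    exact Prod.ext (Subtype.ext (Subtype.ext (congrArg Prod.fst h))) (congrArg Prod.snd h :)
  let e := MonoidHom.ofInjective hι
  let φ : (Ψ.comp ι).range →* A × (Q ⧸ frattini Q) :=
    (f.prodMap (QuotientGroup.mk' (frattini Q))).comp e.symm.toMonoidHom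
  have hφ : Function.Surjective φ := by
    rintro ⟨a, q⟩
    obtain ⟨x, hx⟩ := hf a
    obtain ⟨y, hy⟩ := QuotientGroup.mk'_surjective _ q
    refine ⟨e (x, y), ?_⟩
    show (f.prodMap (QuotientGroup.mk' (frattini Q))) (e.symm (e (x, y))) = _
    rw [MulEquiv.symm_apply_apply]
    exact Prod.ext hx hy
  have hE := card_le_of_section hr _ φ hφ fun v => Prod.ext (Subtype.ext (hAp _ v.1.2)) (by
    obtain ⟨y, hy⟩ := QuotientGroup.mk'_surjective (frattini Q) v.2
    show v.2 ^ 2 = 1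
    rw [← hy, ← map_pow]
    exact (QuotientGroup.eq_one_iff _).mpr (frattini_sq (h2.to_subgroup Q) y))
  rw [Nat.card_prod, ← Subgroup.index_eq_card] at hE
  have h5 := four_le_index_frattini' (h2.to_subgroup Q) hQ.nonabelian
  nlinarith [Nat.zero_le (Nat.card A)]

/-- The centre of a conjugate. -/
theorem center_map_cj (g : S) (P : Subgroup S) :
    (Subgroup.center (cj g P)).map (cj g P).subtype = cj g ((Subgroup.center P).map P.subtype) := by
  have key : ∀ R : Subgroup S, (Subgroup.center R).map R.subtype = R ⊓ Subgroup.centralizer (R : Set S) :=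
    fun R => by
      ext x
      constructor
      · rintro ⟨a, ha, rfl⟩
        exact ⟨a.2, fun r hr => congrArg Subtype.val (Subgroup.mem_center_iff.mp ha ⟨r, hr⟩)⟩
      · rintro ⟨hx, hxc⟩
        exact ⟨⟨x, hx⟩, Subgroup.mem_center_iff.mpr fun r => Subtype.ext (hxc r r.2), rfl⟩
  rw [key, key]
  show _ = (P ⊓ _).map _
  rw [Subgroup.map_inf _ _ _ (MulEquiv.injective _)]
  congr 1
  ext x
  constructor
  · intro hx
    refine ⟨g⁻¹ * x * g, fun r hr => ?_, by simp [MulAut.conj_apply, mul_assoc]⟩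
    have h := hx _ ⟨r, hr, rfl⟩
    simp only [MulEquiv.coe_toMonoidHom, MulAut.conj_apply] at h
    calc r * (g⁻¹ * x * g) = g⁻¹ * (g * r * g⁻¹ * x) * g := by group
      _ = g⁻¹ * (x * (g * r * g⁻¹)) * g := by rw [h]
      _ = _ := by group
  · rintro ⟨y, hy, rfl⟩ _ ⟨r, hr, rfl⟩
    rw [← map_mul, ← map_mul, hy r hr]

end Cfsg.Agent.Lib.PGroups.RankFourPair
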