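import Mathlib

/-!
Every `p`-element of `GL(p, q)`, `p` exactly dividing `q - 1`, lies in at least two Sylow `p`-subgroups.
-/

set_option autoImplicit false
set_option linter.style.haveILetI false
set_option linter.unusedSectionVars false

namespace Cfsg.Agent.Lib.PGroups.RedundantSylow

open scoped Pointwise
open Matrix

variable {F : Type*} [Field F] {p : ℕ} [hp : Fact p.Prime]

instance neZeroP : NeZero p := ⟨hp.out.ne_zero⟩

/-- Monomial matrices along a translation. -/
def mono (t : Fin p → F) (i : Fin p) : Matrix (Fin p) (Fin p) F :=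
  Matrix.of fun a b => if b = a + i then t a else 0

theorem mono_apply (t : Fin p → F) (i a b : Fin p) : mono t i a b = if b = a + i then t a else 0 := rfl

theorem mono_mul (t s : Fin p → F) (i j : Fin p) :
    mono t i * mono s j = mono (fun a => t a * s (a + i)) (i + j) := by
  ext a b
  rw [Matrix.mul_apply, Finset.sum_eq_single (a + i)]
  · simp only [mono_apply, if_true, add_assoc]
    split_ifs <;> simp
  · intro c _ hc; rw [mono_apply, if_neg hc, zero_mul]
  · simp

theorem mono_one : mono (fun _ : Fin p => (1 : F)) 0 = 1 := by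
  ext a b
  rw [mono_apply, add_zero, Matrix.one_apply]
  simp [eq_comm]

theorem mono_mul_apply (t : Fin p → F) (i a b : Fin p) (g : Matrix (Fin p) (Fin p) F) :
    (mono t i * g) a b = t a * g (a + i) b := by
  rw [Matrix.mul_apply, Finset.sum_eq_single (a + i)]
  · rw [mono_apply, if_pos rfl]
  · intro c _ hc; rw [mono_apply, if_neg hc, zero_mul]
  · simp

theorem mul_diag_apply (s : Fin p → F) (a b : Fin p) (g : Matrix (Fin p) (Fin p) F) :
    (g * mono s 0) a b = g a b * s b := by
  rw [Matrix.mul_apply, Finset.sum_eq_single b]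
  · rw [mono_apply, if_pos (add_zero b).symm]
  · intro c _ hc
    rw [mono_apply, if_neg (fun e => hc (by rw [add_zero] at e; exact e.symm)), mul_zero]
  · simp

/-- The monomial `p`-group. -/
def Q (F : Type*) [Field F] (p : ℕ) [Fact p.Prime] : Subgroup (GL (Fin p) F) where
  carrier := {g | ∃ (t : Fin p → F) (i : Fin p), (∀ a, t a ^ p = 1) ∧ (g : Matrix (Fin p) (Fin p) F) = mono t i}
  one_mem' := ⟨fun _ => 1, 0, fun _ => one_pow p, by rw [mono_one]; rfl⟩
  mul_mem' := by
    rintro g h ⟨t, i, ht, hg⟩ ⟨s, j, hs, hh⟩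
    exact ⟨fun a => t a * s (a + i), i + j, fun a => by rw [mul_pow, ht, hs, one_mul],
      by rw [Units.val_mul, hg, hh, mono_mul]⟩
  inv_mem' := by
    rintro g ⟨t, i, ht, hg⟩
    refine ⟨fun a => (t (a - i))⁻¹, -i, fun a => by rw [inv_pow, ht, inv_one], ?_⟩
    refine Units.inv_eq_of_mul_eq_one_right ?_
    rw [hg, mono_mul, add_neg_cancel, ← mono_one]
    congr 1
    funext a
    rw [add_sub_cancel_right, mul_inv_cancel₀]
    intro h0
    have := ht a
    rw [h0, zero_pow (Fact.out : p.Prime).ne_zero] at this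
    exact zero_ne_one this

theorem mem_Q {g : GL (Fin p) F} :
    g ∈ Q F p ↔ ∃ (t : Fin p → F) (i : Fin p), (∀ a, t a ^ p = 1) ∧ (g : Matrix (Fin p) (Fin p) F) = mono t i := Iff.rfl

theorem ne_zero_of_pow {t : F} (h : t ^ p = 1) : t ≠ 0 := by
  rintro rfl
  rw [zero_pow hp.out.ne_zero] at h
  exact zero_ne_one h

variable [Fintype F]

theorem exists_zeta (h1 : p ∣ Fintype.card F - 1) : ∃ z : F, z ^ p = 1 ∧ z ≠ 1 := by
  classical
  have h : p ∣ Nat.card Fˣ := by rw [Nat.card_units, Nat.card_eq_fintype_card]; exact h1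
  obtain ⟨u, hu⟩ := exists_prime_orderOf_dvd_card' p h
  refine ⟨u, ?_, ?_⟩
  · rw [← Units.val_pow_eq_pow_val, ← hu, pow_orderOf_eq_one, Units.val_one]
  · intro h'
    rw [Units.val_eq_one] at h'
    rw [h', orderOf_one] at hu
    exact hp.out.one_lt.ne hu

theorem card_roots (h1 : p ∣ Fintype.card F - 1) : Nat.card {z : F // z ^ p = 1} = p := by
  classical
  obtain ⟨z, hz, hz1⟩ := exists_zeta h1
  apply le_antisymm
  · rw [Nat.card_eq_fintype_card, Fintype.card_subtype]
    refine le_trans (Finset.card_le_card (fun x hx => ?_)) ((Multiset.toFinset_card_le _).trans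
      (Polynomial.card_nthRoots p (1 : F)))
    rw [Multiset.mem_toFinset, Polynomial.mem_nthRoots hp.out.pos]
    exact (Finset.mem_filter.mp hx).2
  · have hf : Function.Injective fun l : Fin p => (⟨z ^ (l : ℕ), by rw [← pow_mul, mul_comm, pow_mul, hz, one_pow]⟩ : {z : F // z ^ p = 1}) := by
      intro a b hab
      have h := congrArg Subtype.val hab
      have ho : orderOf z = p := orderOf_eq_prime hz hz1
      exact Fin.ext (pow_injOn_Iio_orderOf (by rw [ho]; exact a.2) (by rw [ho]; exact b.2) h)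
    have := Nat.card_le_card_of_injective _ hf
    rwa [Nat.card_fin] at this

theorem card_Q (h1 : p ∣ Fintype.card F - 1) : Nat.card (Q F p) = p ^ (p + 1) := by
  classical
  let f : (Fin p → {z : F // z ^ p = 1}) × Fin p → Q F p := fun x =>
    ⟨⟨mono (fun a => (x.1 a).1) x.2, mono (fun a => ((x.1 (a - x.2)).1)⁻¹) (-x.2), by
      rw [mono_mul, add_neg_cancel, ← mono_one]
      congr 1; funext a
      rw [add_sub_cancel_right, mul_inv_cancel₀ (ne_zero_of_pow (x.1 a).2)], by
      rw [mono_mul, neg_add_cancel, ← mono_one]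
      congr 1; funext a
      rw [← sub_eq_add_neg, inv_mul_cancel₀ (ne_zero_of_pow (x.1 (a - x.2)).2)]⟩,
      ⟨fun a => (x.1 a).1, x.2, fun a => (x.1 a).2, rfl⟩⟩
  have hf : Function.Bijective f := by
    constructor
    · rintro ⟨t, i⟩ ⟨s, j⟩ h
      have h' : mono (fun a => (t a).1) i = mono (fun a => (s a).1) j :=
        congrArg (fun g : Q F p => ((g : GL (Fin p) F) : Matrix (Fin p) (Fin p) F)) h
      have hij : i = j := by
        have := congrFun (congrFun h' 0) i
        rw [mono_apply, mono_apply, zero_add, zero_add, if_pos rfl] at this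
        by_contra hne
        rw [if_neg hne] at this
        exact ne_zero_of_pow (t 0).2 this
      subst hij
      refine Prod.ext (funext fun a => Subtype.ext ?_) rfl
      have := congrFun (congrFun h' a) (a + i)
      rwa [mono_apply, mono_apply, if_pos rfl, if_pos rfl] at this
    · rintro ⟨g, t, i, ht, hg⟩
      exact ⟨(fun a => ⟨t a, ht a⟩, i), Subtype.ext (Units.ext hg.symm)⟩
  rw [← Nat.card_eq_of_bijective f hf, Nat.card_prod, Nat.card_fun, card_roots h1, Nat.card_fin, ← pow_succ]

theorem factorization_card (hp2 : p ≠ 2) (h1 : p ∣ Fintype.card F - 1) (h2 : ¬ p ^ 2 ∣ Fintype.card F - 1) :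
    (Nat.card (GL (Fin p) F)).factorization p = p + 1 := by
  set q := Fintype.card F
  have hq : 1 < q := Fintype.one_lt_card
  have hpq : ¬ p ∣ q := fun h => by
    have h3 := Nat.dvd_sub h h1
    rw [show q - (q - 1) = 1 by omega] at h3
    exact hp.out.one_lt.ne' (Nat.dvd_one.mp h3)
  have hv1 : padicValNat p (q - 1) = 1 := by
    have hne : q - 1 ≠ 0 := by omega
    apply le_antisymm
    · by_contra hlt
      exact h2 ((pow_dvd_pow p (by omega)).trans (pow_padicValNat_dvd (n := q - 1)))
    · exact one_le_padicValNat_of_dvd hne h1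
  have hterm : ∀ i : Fin p, (q ^ p - q ^ (i : ℕ)).factorization p = if i = 0 then 2 else 1 := by
    intro i
    have e : q ^ p - q ^ (i : ℕ) = q ^ (i : ℕ) * (q ^ (p - (i : ℕ)) - 1) := by
      rw [Nat.mul_sub, mul_one, ← pow_add, Nat.add_sub_cancel' i.2.le]
    have hj : p - (i : ℕ) ≠ 0 := by have := i.2; omega
    have hne : q ^ (p - (i : ℕ)) - 1 ≠ 0 := by
      have := Nat.one_lt_pow hj hq; omega
    rw [e, Nat.factorization_def _ hp.out, padicValNat.mul (pow_ne_zero _ (by omega)) hne,
      padicValNat.eq_zero_of_not_dvd (fun h => hpq (hp.out.dvd_of_dvd_pow h)), zero_add]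
    have := padicValNat.pow_sub_pow (p := p) (hp.out.odd_of_ne_two hp2) (y := 1) hq h1 hpq hj
    rw [one_pow, hv1] at this
    rw [this]
    split_ifs with h
    · subst h; simp
    · rw [padicValNat.eq_zero_of_not_dvd]
      intro hd
      have h4 := Nat.le_of_dvd (Nat.pos_of_ne_zero hj) hd
      have := hp.out.pos
      exact h (Fin.ext (by rw [Fin.val_zero]; omega))
  rw [Matrix.card_GL_field, Nat.factorization_prod (fun i _ => ?_), Finsupp.finsetSum_apply,
    Finset.sum_congr rfl fun i _ => hterm i, ← Finset.add_sum_erase _ _ (Finset.mem_univ (0 : Fin p)),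
    if_pos rfl, Finset.sum_congr rfl fun i hi => if_neg (Finset.ne_of_mem_erase hi), Finset.sum_const,
    Finset.card_erase_of_mem (Finset.mem_univ _), Finset.card_univ, Fintype.card_fin, smul_eq_mul, mul_one]
  · have := hp.out.two_le; omega
  · exact (Nat.sub_pos_of_lt (Nat.pow_lt_pow_right hq i.2)).ne'

/-- Lying in two Sylow `p`-subgroups. -/
def Twice {G : Type*} [Group G] (p : ℕ) (x : G) : Prop :=
  ∃ P₁ P₂ : Sylow p G, P₁ ≠ P₂ ∧ x ∈ (P₁ : Subgroup G) ∧ x ∈ (P₂ : Subgroup G)

theorem Twice.conj {G : Type*} [Group G] {x : G} (g : G) (h : Twice p x) : Twice p (g * x * g⁻¹) := by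
  obtain ⟨P₁, P₂, hne, h₁, h₂⟩ := h
  refine ⟨g • P₁, g • P₂, fun e => hne (smul_left_cancel g e), ?_, ?_⟩
  · rw [Sylow.coe_subgroup_smul]; exact Subgroup.smul_mem_pointwise_smul x (MulAut.conj g) _ h₁
  · rw [Sylow.coe_subgroup_smul]; exact Subgroup.smul_mem_pointwise_smul x (MulAut.conj g) _ h₂

/-- Criterion: a conjugate of the monomial group differs from it. -/
theorem twice_of_move (S : Sylow p (GL (Fin p) F)) (hS : (S : Subgroup (GL (Fin p) F)) = Q F p)
    {x g : GL (Fin p) F} (hx : x ∈ Q F p) (hgx : g⁻¹ * x * g ∈ Q F p) (s : Fin p → F) (hs : ∀ a, s a ^ p = 1)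
    (hno : ∀ (t : Fin p → F) (j : Fin p), (g : Matrix (Fin p) (Fin p) F) * mono s 0 ≠ mono t j * (g : Matrix _ _ F)) :
    Twice p x := by
  refine ⟨S, g • S, fun e => ?_, hS ▸ hx, ?_⟩
  · obtain ⟨d, hd⟩ : ∃ d : GL (Fin p) F, (d : Matrix (Fin p) (Fin p) F) = mono s 0 := by
      refine ⟨⟨mono s 0, mono (fun a => (s a)⁻¹) 0, ?_, ?_⟩, rfl⟩ <;>
      · rw [mono_mul, add_zero, ← mono_one]; congr 1; funext a
        simp [ne_zero_of_pow (hs a)]
    have hdQ : d ∈ Q F p := mem_Q.mpr ⟨s, 0, hs, hd⟩
    have h : g * d * g⁻¹ ∈ Q F p := by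
      rw [← hS, e, Sylow.coe_subgroup_smul]
      exact Subgroup.smul_mem_pointwise_smul d (MulAut.conj g) _ (hS.symm ▸ hdQ)
    obtain ⟨t, j, -, htj⟩ := mem_Q.mp h
    apply hno t j
    rw [← hd, ← htj, ← Units.val_mul, ← Units.val_mul, inv_mul_cancel_right]
  · rw [Sylow.coe_subgroup_smul, Subgroup.mem_pointwise_smul_iff_inv_smul_mem, MulAut.smul_def,
      MulAut.conj_inv_apply, hS]
    exact hgx

theorem three_le (hp2 : p ≠ 2) : 3 ≤ p := by
  have := hp.out.two_le; omega

/-- A distinct diagonal element. -/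
theorem twice_diag_distinct (hp2 : p ≠ 2) (h1 : p ∣ Fintype.card F - 1) (S : Sylow p (GL (Fin p) F))
    (hS : (S : Subgroup (GL (Fin p) F)) = Q F p) {x : GL (Fin p) F} (d : Fin p → F) (hd : ∀ a, d a ^ p = 1)
    (hinj : Function.Injective d) (hx : (x : Matrix (Fin p) (Fin p) F) = mono d 0) : Twice p x := by
  classical
  let V : Matrix (Fin p) (Fin p) F := (Matrix.vandermonde d)ᵀ
  have hV : IsUnit V := by
    rw [Matrix.isUnit_iff_isUnit_det, isUnit_iff_ne_zero, Matrix.det_transpose]
    exact Matrix.det_vandermonde_ne_zero_iff.mpr hinj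
  obtain ⟨g, hg⟩ := hV
  have hVa : ∀ a k, (g : Matrix (Fin p) (Fin p) F) a k = d k ^ (a : ℕ) := fun a k => by rw [hg]; rfl
  have hshift : ∀ (a : Fin p) (k : Fin p), d k ^ (((a + 1 : Fin p)) : ℕ) = d k ^ (a : ℕ) * d k := by
    intro a k
    rw [← pow_succ, Fin.val_add, pow_eq_pow_mod ((a : ℕ) + 1) (hd k)]
    congr 1
    rw [Fin.val_one', Nat.add_mod_mod]
  have hσ : mono (fun _ : Fin p => (1 : F)) 1 * (g : Matrix (Fin p) (Fin p) F) =
      (g : Matrix (Fin p) (Fin p) F) * mono d 0 := by
    ext a k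
    rw [mono_mul_apply, mul_diag_apply, one_mul, hVa, hVa, hshift]
  have hy : g * x * g⁻¹ ∈ Q F p := by
    refine mem_Q.mpr ⟨fun _ => 1, 1, fun _ => one_pow p, ?_⟩
    rw [Units.val_mul, Units.val_mul, hx, ← hσ, mul_assoc, ← Units.val_mul, mul_inv_cancel, Units.val_one, mul_one]
  have hxQ : x ∈ Q F p := mem_Q.mpr ⟨d, 0, hd, hx⟩
  obtain ⟨z, hz, hz1⟩ := exists_zeta h1
  have key : Twice p (g * x * g⁻¹) := by
    refine twice_of_move (g := g) S hS hy (by rwa [show g⁻¹ * (g * x * g⁻¹) * g = x by group])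
      (fun a => if a = 0 then z else 1) (fun a => by split_ifs <;> simp [hz]) fun t j h => ?_
    have key : ∀ k, (if k = 0 then z else 1) = t 0 * d k ^ (j : ℕ) := by
      intro k
      have := congrFun (congrFun h 0) k
      rwa [mul_diag_apply, mono_mul_apply, hVa, hVa, zero_add, Fin.val_zero, pow_zero, one_mul] at this
    have h3 := three_le hp2
    have e1 : (⟨1, by omega⟩ : Fin p) ≠ 0 := fun e => by simpa using congrArg Fin.val e
    have e2 : (⟨2, by omega⟩ : Fin p) ≠ 0 := fun e => by simpa using congrArg Fin.val e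
    have k1 := key ⟨1, by omega⟩
    have k2 := key ⟨2, by omega⟩
    rw [if_neg e1] at k1
    rw [if_neg e2] at k2
    have ht0 : t 0 ≠ 0 := fun e => by rw [e, zero_mul] at k1; exact one_ne_zero k1
    have hjj := mul_left_cancel₀ ht0 (k1.symm.trans k2)
    have hj0 : (j : ℕ) = 0 := by
      by_contra hj
      have hne : d ⟨1, by omega⟩ ≠ d ⟨2, by omega⟩ := fun e => by simpa using congrArg Fin.val (hinj e)
      have hr : (d ⟨1, by omega⟩ / d ⟨2, by omega⟩) ^ (j : ℕ) = 1 := by
        rw [div_pow, hjj, div_self (pow_ne_zero _ (ne_zero_of_pow (hd _)))]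
      have ho : orderOf (d (⟨1, by omega⟩ : Fin p) / d ⟨2, by omega⟩) = p :=
        orderOf_eq_prime (by rw [div_pow, hd, hd, div_one]) fun e => hne ((div_eq_one_iff_eq (ne_zero_of_pow (hd _))).mp e)
      have hdvd := orderOf_dvd_of_pow_eq_one hr
      rw [ho] at hdvd
      exact absurd (Nat.le_of_dvd (Nat.pos_of_ne_zero hj) hdvd) (not_le.mpr j.2)
    rw [hj0, pow_zero, mul_one] at k1
    have k0 := key 0
    rw [if_pos rfl, hj0, pow_zero, mul_one, ← k1] at k0
    exact hz1 k0
  have := key.conj g⁻¹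
  rwa [show g⁻¹ * (g * x * g⁻¹) * g⁻¹⁻¹ = x by group] at this

theorem nsmul_bij {i : Fin p} (hi : i ≠ 0) : Function.Bijective fun l : Fin p => (l : ℕ) • i := by
  rw [Finite.injective_iff_bijective.symm]
  intro a b h
  have ho : addOrderOf i = p := by
    rcases (Nat.dvd_prime hp.out).mp (by simpa using addOrderOf_dvd_natCard i) with h' | h'
    · exact absurd (AddMonoid.addOrderOf_eq_one_iff.mp h') hi
    · exact h'
  exact Fin.ext (nsmul_injOn_Iio_addOrderOf (by rw [ho]; exact a.2) (by rw [ho]; exact b.2) h)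

/-- All elements of the monomial group. -/
theorem twice_of_mem (hp2 : p ≠ 2) (h1 : p ∣ Fintype.card F - 1) (S : Sylow p (GL (Fin p) F))
    (hS : (S : Subgroup (GL (Fin p) F)) = Q F p) {x : GL (Fin p) F} (hx : x ∈ Q F p) : Twice p x := by
  classical
  obtain ⟨t, i, ht, hxt⟩ := mem_Q.mp hx
  have h3 := three_le hp2
  obtain ⟨z, hz, hz1⟩ := exists_zeta h1
  by_cases hi : i = 0
  · subst hi
    by_cases hinj : Function.Injective t
    · exact twice_diag_distinct hp2 h1 S hS t ht hinj hxt
    rw [Function.not_injective_iff] at hinj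
    obtain ⟨k, l, hkl, hne⟩ := hinj
    obtain ⟨g, hg⟩ : ∃ g : GL (Fin p) F, (g : Matrix (Fin p) (Fin p) F) = Matrix.transvection k l 1 := by
      refine ⟨⟨Matrix.transvection k l 1, Matrix.transvection k l (-1), ?_, ?_⟩, rfl⟩ <;>
      · rw [Matrix.transvection_mul_transvection_same _ _ hne]; simp
    have hga : ∀ a b, (g : Matrix (Fin p) (Fin p) F) a b =
        (if a = b then 1 else 0) + (if k = a ∧ l = b then 1 else 0) := by
      intro a b
      rw [hg, Matrix.transvection, Matrix.add_apply, Matrix.one_apply]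
      simp [Matrix.single_apply]
    have hcomm : (g : Matrix (Fin p) (Fin p) F) * mono t 0 = mono t 0 * (g : Matrix (Fin p) (Fin p) F) := by
      ext a b
      rw [mul_diag_apply, mono_mul_apply, add_zero, hga]
      by_cases hab : a = b
      · subst hab; rw [mul_comm]
      · rw [if_neg hab, zero_add]
        by_cases h : k = a ∧ l = b
        · obtain ⟨rfl, rfl⟩ := h; rw [if_pos ⟨rfl, rfl⟩, one_mul, mul_one, hkl]
        · rw [if_neg h, zero_mul, mul_zero]
    refine twice_of_move (g := g) S hS hx ?_ (fun a => if a = k then z else 1)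
      (fun a => by split_ifs <;> simp [hz]) fun s j h => ?_
    · have : x * g = g * x := Units.ext (by rw [Units.val_mul, Units.val_mul, hxt, hcomm])
      rw [mul_assoc, this, inv_mul_cancel_left]
      exact hx
    · have a1 := congrFun (congrFun h k) k
      have a2 := congrFun (congrFun h k) l
      rw [mul_diag_apply, mono_mul_apply, hga, hga] at a1 a2
      simp only [if_pos rfl, if_neg hne, if_neg (Ne.symm hne), and_self, and_true, true_and, if_true,
        if_false, add_zero, zero_add, one_mul] at a1 a2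
      by_cases hj : k + j = k
      · simp only [hj, if_pos rfl, if_neg hne, if_neg (Ne.symm hne), and_true, true_and, if_true, if_false,
          add_zero, zero_add, mul_one] at a1 a2
        exact hz1 (a1.trans a2.symm)
      · simp only [if_neg hj, Ne.symm hj, false_and, if_false, add_zero, mul_zero] at a1
        exact ne_zero_of_pow hz a1
  -- a translation part
  have hbij := nsmul_bij hi
  have hpow : ∀ n : ℕ, (mono t i) ^ n = mono (fun a => ∏ e ∈ Finset.range n, t (a + e • i)) (n • i) := by
    intro n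
    induction n with
    | zero => rw [pow_zero, zero_nsmul, ← mono_one]; simp
    | succ n ih =>
      rw [pow_succ, ih, mono_mul, succ_nsmul]
      congr 1
      funext a
      rw [Finset.prod_range_succ]
  let c := ∏ a, t a
  have hfull : ∀ a, ∏ e ∈ Finset.range p, t (a + e • i) = c := by
    intro a
    rw [← Fin.prod_univ_eq_prod_range (fun e => t (a + e • i)) p]
    exact Fintype.prod_bijective (fun e : Fin p => a + (e : ℕ) • i)
      ((AddGroup.addLeft_bijective a).comp hbij) _ _ fun e => rfl
  have hp0 : p • i = 0 := by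
    have := card_nsmul_eq_zero (x := i)
    simpa using this
  have hxp : (mono t i) ^ p = c • (1 : Matrix (Fin p) (Fin p) F) := by
    rw [hpow, hp0]
    ext a b
    rw [mono_apply, hfull, add_zero, Matrix.smul_apply, Matrix.one_apply, smul_eq_mul, mul_ite, mul_one, mul_zero]
    simp [eq_comm]
  by_cases hc : c = 1
  · -- conjugate to a diagonal element
    obtain ⟨d, hdb⟩ : ∃ d : Fin p → {z : F // z ^ p = 1}, Function.Bijective d := by
      have e := Nat.card_fin p |>.trans (card_roots h1).symm
      exact ⟨_, ((Finite.equivFinOfCardEq (card_roots h1)).symm).bijective⟩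
    let D : Fin p → F := fun k => (d k).1
    have hD : ∀ a, D a ^ p = 1 := fun a => (d a).2
    have hDinj : Function.Injective D := Subtype.val_injective.comp hdb.1
    let e := Equiv.ofBijective _ hbij
    let u : Fin p → F := fun a => (∏ j ∈ Finset.range ((e.symm a : Fin p) : ℕ), t (j • i))⁻¹
    let V : Matrix (Fin p) (Fin p) F := Matrix.diagonal u * ((Matrix.vandermonde D)ᵀ).submatrix e.symm id
    have hV : IsUnit V := by
      rw [Matrix.isUnit_iff_isUnit_det, isUnit_iff_ne_zero, Matrix.det_mul, Matrix.det_diagonal, Matrix.det_permute,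
        Matrix.det_transpose]
      refine mul_ne_zero (Finset.prod_ne_zero_iff.mpr fun a _ => inv_ne_zero (Finset.prod_ne_zero_iff.mpr fun j _ => ne_zero_of_pow (ht _))) (mul_ne_zero ?_ (Matrix.det_vandermonde_ne_zero_iff.mpr hDinj))
      rcases Int.units_eq_one_or (Equiv.Perm.sign e.symm) with h | h <;> simp [h]
    obtain ⟨g, hg⟩ := hV
    have hVe : ∀ l k, (g : Matrix (Fin p) (Fin p) F) (e l) k = (∏ j ∈ Finset.range (l : ℕ), t (j • i))⁻¹ * D k ^ (l : ℕ) := by
      intro l k
      rw [hg]
      show (Matrix.diagonal u * ((Matrix.vandermonde D)ᵀ).submatrix e.symm id) (e l) k = _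
      rw [Matrix.diagonal_mul, Matrix.submatrix_apply, Matrix.transpose_apply, Matrix.vandermonde_apply]
      simp only [u, Equiv.symm_apply_apply, id]
    have hcomm : mono t i * (g : Matrix (Fin p) (Fin p) F) = (g : Matrix (Fin p) (Fin p) F) * mono D 0 := by
      ext a k
      obtain ⟨l, rfl⟩ := e.surjective a
      rw [mono_mul_apply, mul_diag_apply, hVe]
      have he : e l = (l : ℕ) • i := rfl
      by_cases hl : (l : ℕ) + 1 < p
      · have h1' : e l + i = e ⟨(l : ℕ) + 1, hl⟩ := by show (l : ℕ) • i + i = ((l : ℕ) + 1) • i; rw [succ_nsmul]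
        rw [h1', hVe, he, Finset.prod_range_succ, _root_.mul_inv_rev, pow_succ,
          ← mul_assoc, ← mul_assoc, mul_inv_cancel_left₀ (ne_zero_of_pow (ht _))]
      · have hl' : (l : ℕ) + 1 = p := by have := l.2; omega
        have h1' : e l + i = e 0 := by
          show (l : ℕ) • i + i = ((0 : Fin p) : ℕ) • i
          rw [← succ_nsmul, hl', hp0, Fin.val_zero, zero_nsmul]
        have hprod : (∏ j ∈ Finset.range (l : ℕ), t (j • i)) * t ((l : ℕ) • i) = 1 := by
          rw [← Finset.prod_range_succ (fun j => t (j • i)), hl', ← hc, ← hfull 0]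
          simp
        rw [h1', hVe, Fin.val_zero, pow_zero, Finset.range_zero, Finset.prod_empty, inv_one, mul_one, mul_one, he,
          inv_eq_of_mul_eq_one_right hprod, mul_assoc, ← pow_succ, hl', hD, mul_one]
    obtain ⟨d', hd'⟩ : ∃ d' : GL (Fin p) F, (d' : Matrix (Fin p) (Fin p) F) = mono D 0 := by
      refine ⟨⟨mono D 0, mono (fun a => (D a)⁻¹) 0, ?_, ?_⟩, rfl⟩ <;>
      · rw [mono_mul, add_zero, ← mono_one]; congr 1; funext a
        simp [ne_zero_of_pow (hD a)]
    have := (twice_diag_distinct hp2 h1 S hS D hD hDinj hd').conj g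
    rwa [show g * d' * g⁻¹ = x by
      rw [mul_inv_eq_iff_eq_mul]; exact Units.ext (by rw [Units.val_mul, Units.val_mul, hd', hxt, hcomm])] at this
  · -- `x - 1` commutes and moves the monomial group
    let A : Matrix (Fin p) (Fin p) F := mono t i - 1
    have hA : IsUnit A := by
      rw [Matrix.isUnit_iff_isUnit_det, isUnit_iff_ne_zero]
      intro h0
      obtain ⟨v, hv0, hv⟩ := Matrix.exists_mulVec_eq_zero_iff.mpr h0
      rw [Matrix.sub_mulVec, Matrix.one_mulVec, sub_eq_zero] at hv
      have hn : ∀ n : ℕ, ((mono t i) ^ n) *ᵥ v = v := by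
        intro n
        induction n with
        | zero => simp
        | succ n ih => rw [pow_succ, ← Matrix.mulVec_mulVec, hv, ih]
      have h4 := hn p
      rw [hxp, Matrix.smul_mulVec, Matrix.one_mulVec] at h4
      have h5 : (c - 1) • v = 0 := by rw [sub_smul, h4, one_smul, sub_self]
      rcases smul_eq_zero.mp h5 with h6 | h6
      · exact hc (sub_eq_zero.mp h6)
      · exact hv0 h6
    obtain ⟨g, hg⟩ := hA
    have hga : ∀ a b, (g : Matrix (Fin p) (Fin p) F) a b = (if b = a + i then t a else 0) - (if a = b then 1 else 0) := by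
      intro a b; rw [hg]; show (mono t i - 1) a b = _; rw [Matrix.sub_apply, mono_apply, Matrix.one_apply]
    refine twice_of_move (g := g) S hS hx ?_ (fun a => if a = 0 then z else 1)
      (fun a => by split_ifs <;> simp [hz]) fun s j h => ?_
    · have : x * g = g * x := Units.ext (by rw [Units.val_mul, Units.val_mul, hxt, hg, mul_sub, sub_mul, mul_one, one_mul])
      rw [mul_assoc, this, inv_mul_cancel_left]
      exact hx
    · have hi0 : ∀ a : Fin p, a ≠ a + i := fun a e => hi (by simpa using e)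
      have hz0 : ∀ a, (if a = (0 : Fin p) then z else 1) ≠ 0 := fun a => by
        split_ifs
        · exact ne_zero_of_pow hz
        · exact one_ne_zero
      have a1 := congrFun (congrFun h 0) 0
      have a2 := congrFun (congrFun h 0) i
      rw [mul_diag_apply, mono_mul_apply, hga, hga] at a1 a2
      simp only [zero_add, if_neg (Ne.symm hi), if_neg hi, if_true, zero_sub, sub_zero] at a1 a2
      by_cases hj : j = 0
      · subst hj
        simp only [zero_add, if_neg (Ne.symm hi), if_neg hi, if_true, zero_sub, sub_zero, mul_neg, mul_one,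
          neg_mul, one_mul, neg_inj] at a1 a2
        rw [← a1, mul_comm z] at a2
        exact hz1 (mul_left_cancel₀ (ne_zero_of_pow (ht 0)) (by rw [mul_one]; exact a2.symm))
      · by_cases hj2 : j + i = 0
        · -- then column `i` vanishes
          have h5 : i ≠ j + i := fun e => hj (by simpa using e.symm)
          have h6 : j ≠ i := by
            rintro rfl
            have h2 : (2 : ℕ) • j = 0 := by rw [two_nsmul]; exact hj2
            have := congrArg Fin.val (hbij.1 (a₁ := ⟨2, by omega⟩) (a₂ := 0) (by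
              show (2 : ℕ) • j = ((0 : Fin p) : ℕ) • j
              rw [h2, Fin.val_zero, zero_nsmul]))
            simp at this
          simp only [if_neg h5, if_neg h6, sub_zero, mul_zero, mul_eq_zero] at a2
          rcases a2 with h7 | h7
          · exact ne_zero_of_pow (ht 0) h7
          · exact one_ne_zero h7
        · simp only [if_neg (Ne.symm hj2), if_neg hj, sub_zero, mul_zero, neg_mul, one_mul, neg_eq_zero] at a1
          exact ne_zero_of_pow hz a1

theorem main (hp2 : p ≠ 2) (h1 : p ∣ Fintype.card F - 1) (h2 : ¬ p ^ 2 ∣ Fintype.card F - 1) :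
    ∃ P₀ : Sylow p (GL (Fin p) F), ∀ x : GL (Fin p) F, (∃ k : ℕ, orderOf x = p ^ k) →
      ∃ P : Sylow p (GL (Fin p) F), P ≠ P₀ ∧ x ∈ P := by
  classical
  let S : Sylow p (GL (Fin p) F) := Sylow.ofCard (Q F p) (by rw [card_Q h1, factorization_card hp2 h1 h2])
  refine ⟨S, fun x hx => ?_⟩
  obtain ⟨k, hk⟩ := hx
  by_cases hxQ : x ∈ Q F p
  · obtain ⟨P₁, P₂, hne, h₁, h₂⟩ := twice_of_mem hp2 h1 S rfl hxQ
    by_cases h : P₁ = S
    · exact ⟨P₂, fun e => hne (h.trans e.symm), h₂⟩
    · exact ⟨P₁, h, h₁⟩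
  · have hz : IsPGroup p (Subgroup.zpowers x) := IsPGroup.of_card (n := k) (by rw [Nat.card_zpowers, hk])
    obtain ⟨P, hP⟩ := hz.exists_le_sylow
    exact ⟨P, fun e => hxQ (show x ∈ (S : Subgroup (GL (Fin p) F)) from e ▸ hP (Subgroup.mem_zpowers x)), hP (Subgroup.mem_zpowers x)⟩

end Cfsg.Agent.Lib.PGroups.RedundantSylow
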