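import Mathlib

/-!
Subgroups with normal Sylow subgroup and cyclic quotient.
-/

set_option autoImplicit false

namespace Cfsg.Agent.Lib.PGroups.RestrictedBase

variable {G : Type*} [Group G] [Finite G] {p : ℕ} [hp : Fact p.Prime]

/-- The hypotheses hold for an abelian subgroup that is cyclic over a p-subgroup. -/
theorem hyps_of_closure (K : Subgroup G) (hK : IsPGroup p K) (y : G)
    (hn : y ∈ Subgroup.normalizer (K : Set G)) (hy : ∀ T : Subgroup G, IsPGroup p T → T ≤ K ⊔ Subgroup.zpowers y →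
      (T.subgroupOf (K ⊔ Subgroup.zpowers y)).index.Coprime p → (K ⊔ Subgroup.zpowers y : Subgroup G) ≤ Subgroup.normalizer (T : Set G)) :
    (∀ S : Sylow p ↥(K ⊔ Subgroup.zpowers y), (S : Subgroup ↥(K ⊔ Subgroup.zpowers y)).Normal) ∧
    ∀ (S : Sylow p ↥(K ⊔ Subgroup.zpowers y)) [(S : Subgroup ↥(K ⊔ Subgroup.zpowers y)).Normal],
      IsCyclic (↥(K ⊔ Subgroup.zpowers y) ⧸ (S : Subgroup ↥(K ⊔ Subgroup.zpowers y))) := by
  set H := K ⊔ Subgroup.zpowers y with hH
  refine ⟨fun S => ?_, fun S _ => ?_⟩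
  · have hT := hy ((S : Subgroup H).map H.subtype) (S.isPGroup'.map _) (Subgroup.map_subtype_le _) (by
      rw [Subgroup.subgroupOf, Subgroup.comap_map_eq_self_of_injective H.subtype_injective]
      exact (hp.out.coprime_iff_not_dvd.mpr S.not_dvd_index).symm)
    have e : ((S : Subgroup H).map H.subtype).subgroupOf H = (S : Subgroup H) :=
      Subgroup.comap_map_eq_self_of_injective H.subtype_injective _
    rw [← e]
    exact (Subgroup.normal_subgroupOf_iff_le_normalizer (Subgroup.map_subtype_le _)).mpr hT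
  · haveI hKn : (K.subgroupOf H).Normal := (Subgroup.normal_subgroupOf_iff_le_normalizer le_sup_left).mpr
      (sup_le Subgroup.le_normalizer (Subgroup.zpowers_le.mpr hn))
    have hKS : K.subgroupOf H ≤ (S : Subgroup H) := by
      obtain ⟨S', hS'⟩ := (hK.comap_subtype (K := H)).exists_le_sylow
      obtain ⟨g, rfl⟩ := MulAction.exists_smul_eq H S S'
      rwa [Sylow.smul_eq_of_normal] at hS'
    have hymem : y ∈ H := le_sup_right (a := K) (Subgroup.mem_zpowers y)
    refine isCyclic_iff_exists_zpowers_eq_top.mpr ⟨QuotientGroup.mk ⟨y, hymem⟩, (Subgroup.eq_top_iff' _).mpr fun q => ?_⟩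
    obtain ⟨⟨h, hh⟩, rfl⟩ := QuotientGroup.mk_surjective q
    have hh' := hh
    rw [hH, ← SetLike.mem_coe, Subgroup.coe_mul_of_right_le_normalizer_left K _ (Subgroup.zpowers_le.mpr hn)] at hh'
    obtain ⟨k, hk, w, hw, rfl⟩ := hh'
    obtain ⟨i, rfl⟩ := Subgroup.mem_zpowers_iff.mp hw
    refine Subgroup.mem_zpowers_iff.mpr ⟨i, ?_⟩
    rw [← QuotientGroup.mk_zpow, QuotientGroup.eq]
    apply hKS
    show (((⟨y, hymem⟩ : H) ^ i : H) : G)⁻¹ * (k * y ^ i) ∈ K
    rw [Subgroup.coe_zpow, ← mul_assoc]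
    exact Subgroup.mem_normalizer_iff''.mp (Subgroup.zpow_mem _ hn i) k |>.mp hk

theorem hyps_of_commute (K : Subgroup G) (hK : IsPGroup p K) (hKc : ∀ a ∈ K, ∀ b ∈ K, a * b = b * a) (y : G)
    (hy : ∀ a ∈ K, y * a = a * y) :
    (∀ S : Sylow p ↥(K ⊔ Subgroup.zpowers y), (S : Subgroup ↥(K ⊔ Subgroup.zpowers y)).Normal) ∧
    (∀ (S : Sylow p ↥(K ⊔ Subgroup.zpowers y)) [(S : Subgroup ↥(K ⊔ Subgroup.zpowers y)).Normal],
      IsCyclic (↥(K ⊔ Subgroup.zpowers y) ⧸ (S : Subgroup ↥(K ⊔ Subgroup.zpowers y)))) ∧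
    ∀ a b : ↥(K ⊔ Subgroup.zpowers y), a * b = b * a := by
  set H := K ⊔ Subgroup.zpowers y
  have hcen : ∀ h ∈ H, ∀ h' ∈ H, h * h' = h' * h := by
    have h1 : H ≤ Subgroup.centralizer (H : Set G) := by
      have hKC : K ≤ Subgroup.centralizer (H : Set G) := by
        rw [Subgroup.le_centralizer_iff]
        exact sup_le (fun a ha => Subgroup.mem_centralizer_iff.mpr fun b hb => hKc b hb a ha)
          (Subgroup.zpowers_le.mpr (Subgroup.mem_centralizer_iff.mpr fun b hb => (hy b hb).symm))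
      refine sup_le hKC (Subgroup.zpowers_le.mpr ?_)
      have hyC : (H : Subgroup G) ≤ Subgroup.centralizer ({y} : Set G) :=
        sup_le (fun a ha => Subgroup.mem_centralizer_singleton_iff.mpr (hy a ha).symm)
          (Subgroup.zpowers_le.mpr (Subgroup.mem_centralizer_singleton_iff.mpr rfl))
      exact Subgroup.mem_centralizer_iff.mpr fun b hb => Subgroup.mem_centralizer_singleton_iff.mp (hyC hb)
    exact fun h hh h' hh' => (Subgroup.mem_centralizer_iff.mp (h1 hh) h' hh').symm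
  obtain ⟨h1, h2⟩ := hyps_of_closure K hK y
    (Subgroup.centralizer_le_normalizer _ (Subgroup.mem_centralizer_iff.mpr fun a ha => (hy a ha).symm))
    (fun T _ hT _ h hh => Subgroup.centralizer_le_normalizer _
      (Subgroup.mem_centralizer_iff.mpr fun a ha => hcen _ (hT ha) _ hh))
  exact ⟨h1, fun S hS => h2 S, fun a b => Subtype.ext (hcen _ a.2 _ b.2)⟩

omit [Finite G] hp in
/-- A cyclic subgroup times a commuting cyclic subgroup of coprime order is cyclic. -/
theorem isCyclic_of_coprime [Finite G] (S : Subgroup G) (c : G) (hS : IsCyclic S) (hc : ∀ s ∈ S, c * s = s * c)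
    (hcop : (Nat.card S).Coprime (orderOf c)) (hcard : Nat.card G = Nat.card S * orderOf c) : IsCyclic G := by
  obtain ⟨s, hs⟩ := Subgroup.isCyclic_iff_exists_zpowers_eq_top S |>.mp hS
  refine isCyclic_of_orderOf_eq_card (s * c) ?_
  rw [Commute.orderOf_mul_eq_mul_orderOf_of_coprime, hcard, ← hs, Nat.card_zpowers]
  · exact (hc s (hs.le (Subgroup.mem_zpowers s))).symm
  · rwa [← Nat.card_zpowers, hs]

theorem centralizes_of_pgroup_aut (S : Subgroup G) (hA : IsPGroup p (MulAut S)) (c : G)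
    (hc : c ∈ Subgroup.normalizer (S : Set G)) (hco : ¬ p ∣ orderOf c) : ∀ s ∈ S, c * s = s * c := by
  intro s hs
  let φ := S.normalizerMonoidHom
  obtain ⟨k, hk⟩ := IsPGroup.iff_orderOf.mp hA (φ ⟨c, hc⟩)
  have hd : orderOf (φ ⟨c, hc⟩) ∣ orderOf c := by
    rw [← Subgroup.orderOf_mk c hc]; exact orderOf_map_dvd φ _
  have h1 : φ ⟨c, hc⟩ = 1 := by
    rw [← orderOf_eq_one_iff, hk]
    rcases Nat.eq_zero_or_pos k with rfl | hk0
    · rfl
    · exact absurd ((dvd_pow_self p hk0.ne').trans (hk ▸ hd)) hco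
  have h2 := congrArg (fun f : MulAut S => ((f ⟨s, hs⟩ : S) : G)) h1
  exact mul_inv_eq_iff_eq_mul.mp h2

theorem exists_generator_complement {H : Type*} [Group H] [Finite H] (S : Sylow p H) [(S : Subgroup H).Normal]
    [IsCyclic (H ⧸ (S : Subgroup H))] :
    ∃ c : H, ¬ p ∣ orderOf c ∧ (Nat.card (S : Subgroup H)).Coprime (orderOf c) ∧
      Nat.card H = Nat.card (S : Subgroup H) * orderOf c ∧ (S : Subgroup H) ⊔ Subgroup.zpowers c = ⊤ ∧
      ((S : Subgroup H) ⊓ Subgroup.zpowers c = ⊥) := by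
  have hcop : (Nat.card (S : Subgroup H)).Coprime (S : Subgroup H).index := by
    obtain ⟨k, hk⟩ := S.isPGroup'.exists_card_eq
    rw [hk]
    exact Nat.Coprime.pow_left _ (hp.out.coprime_iff_not_dvd.mpr S.not_dvd_index)
  obtain ⟨C, hC⟩ := Subgroup.exists_right_complement'_of_coprime hcop
  have hCc : IsCyclic C := by
    refine isCyclic_of_injective ((QuotientGroup.mk' (S : Subgroup H)).comp C.subtype)
      ((injective_iff_map_eq_one _).mpr fun a ha => ?_)
    have h1 : (a : H) ∈ (S : Subgroup H) ⊓ C := ⟨(QuotientGroup.eq_one_iff _).mp ha, a.2⟩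
    rw [hC.disjoint.eq_bot] at h1
    exact Subtype.ext h1
  obtain ⟨c, hc⟩ := Subgroup.isCyclic_iff_exists_zpowers_eq_top C |>.mp hCc
  have hcard : orderOf c = (S : Subgroup H).index := by
    rw [← Nat.card_zpowers, hc, hC.symm.index_eq_card]
  refine ⟨c, hcard ▸ S.not_dvd_index, hcard ▸ hcop, ?_, hc ▸ hC.sup_eq_top, hc ▸ hC.disjoint.eq_bot⟩
  rw [hcard, Subgroup.card_mul_index]

end Cfsg.Agent.Lib.PGroups.RestrictedBase
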