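import Cfsg.Agent.Lib.PGroups.RestrictedBase
import Cfsg.Agent.Lib.Classification.CyclicNormalAbelian
import Cfsg.Agent.Lib.Solvable.Nilpotent
import Mathlib

/-!
Groups all of whose p-by-cyclic subgroups are cyclic or dihedral, p odd.
-/

set_option autoImplicit false

namespace Cfsg.Agent.Lib.PGroups.RestrictedOdd

variable {G : Type*} [Group G] [Finite G] {p : ℕ} [hp : Fact p.Prime]

def Restricted (p : ℕ) (G : Type*) [Group G] : Prop :=
  ∀ H : Subgroup G, (∀ S : Sylow p ↥H, (S : Subgroup ↥H).Normal) →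
    (∀ (S : Sylow p ↥H) [(S : Subgroup ↥H).Normal], IsCyclic (↥H ⧸ (S : Subgroup ↥H))) →
    IsCyclic H ∨ (∃ n : ℕ, Nonempty (H ≃* DihedralGroup (p ^ n)))

theorem hyps_coprime (K : Subgroup G) (hK : IsPGroup p K) (s : G)
    (hn : s ∈ Subgroup.normalizer (K : Set G)) (hs : ¬ p ∣ orderOf s) :
    (∀ S : Sylow p ↥(K ⊔ Subgroup.zpowers s), (S : Subgroup ↥(K ⊔ Subgroup.zpowers s)).Normal) ∧
    ∀ (S : Sylow p ↥(K ⊔ Subgroup.zpowers s)) [(S : Subgroup ↥(K ⊔ Subgroup.zpowers s)).Normal],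
      IsCyclic (↥(K ⊔ Subgroup.zpowers s) ⧸ (S : Subgroup ↥(K ⊔ Subgroup.zpowers s))) := by
  refine RestrictedBase.hyps_of_closure K hK s hn fun T hT hTle hcop => ?_
  set H := K ⊔ Subgroup.zpowers s with hH
  haveI hKn : (K.subgroupOf H).Normal := (Subgroup.normal_subgroupOf_iff_le_normalizer le_sup_left).mpr
    (sup_le Subgroup.le_normalizer (Subgroup.zpowers_le.mpr hn))
  -- `T` contains `K`
  have hTS : IsPGroup p (T.subgroupOf H) := hT.comap_subtype
  let S : Sylow p H := hTS.toSylow (fun hd => hp.out.one_lt.ne' (Nat.dvd_one.mp (hcop ▸ Nat.dvd_gcd hd dvd_rfl)))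
  have hKT : K.subgroupOf H ≤ T.subgroupOf H := by
    obtain ⟨S', hS'⟩ := (hK.comap_subtype (K := H)).exists_le_sylow
    obtain ⟨g, hg⟩ := MulAction.exists_smul_eq H S' S
    intro x hx
    have h1 : g * x * g⁻¹ ∈ K.subgroupOf H := hKn.conj_mem x hx g
    have h2 : g⁻¹ * x * g ∈ K.subgroupOf H := by simpa using hKn.conj_mem x hx g⁻¹
    show x ∈ (S : Subgroup H)
    rw [← hg]
    exact ⟨g⁻¹ * x * g, hS' h2, by
      show MulAut.conj g (g⁻¹ * x * g) = x
      rw [MulAut.conj_apply]; group⟩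
  have hsH : s ∈ H := le_sup_right (a := K) (Subgroup.mem_zpowers s)
  have hgen : Subgroup.zpowers (QuotientGroup.mk ⟨s, hsH⟩ : H ⧸ K.subgroupOf H) = ⊤ := by
    refine (Subgroup.eq_top_iff' _).mpr fun q => ?_
    obtain ⟨⟨a, ha⟩, rfl⟩ := QuotientGroup.mk_surjective q
    have ha' := ha
    rw [hH, ← SetLike.mem_coe, Subgroup.coe_mul_of_right_le_normalizer_left K _ (Subgroup.zpowers_le.mpr hn)] at ha'
    obtain ⟨k, hk, w, hw, rfl⟩ := ha'
    obtain ⟨i, rfl⟩ := Subgroup.mem_zpowers_iff.mp hw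
    refine Subgroup.mem_zpowers_iff.mpr ⟨i, ?_⟩
    rw [← QuotientGroup.mk_zpow, QuotientGroup.eq]
    show (((⟨s, hsH⟩ : H) ^ i : H) : G)⁻¹ * (k * s ^ i) ∈ K
    rw [Subgroup.coe_zpow, ← mul_assoc]
    exact Subgroup.mem_normalizer_iff''.mp (Subgroup.zpow_mem _ hn i) k |>.mp hk
  have hrel : (K.subgroupOf H).index ∣ orderOf s := by
    rw [Subgroup.index_eq_card, ← Subgroup.card_top, ← hgen, Nat.card_zpowers, ← Subgroup.orderOf_mk s hsH]
    exact orderOf_map_dvd (QuotientGroup.mk' (K.subgroupOf H)) _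
  have h1 : (K.subgroupOf H).relIndex (T.subgroupOf H) = 1 := by
    obtain ⟨k, hk⟩ := hTS.exists_card_eq
    obtain ⟨i, -, hi⟩ := (Nat.dvd_prime_pow hp.out).mp (hk ▸ Subgroup.relIndex_dvd_card (K.subgroupOf H) (T.subgroupOf H))
    rw [hi]
    rcases Nat.eq_zero_or_pos i with rfl | hi0
    · exact pow_zero p
    · refine absurd ?_ hs
      refine (dvd_pow_self p hi0.ne').trans (hi ▸ dvd_trans ?_ hrel)
      rw [← Subgroup.relIndex_mul_index hKT]
      exact Dvd.intro _ rfl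
  have hTK : T ≤ K := by
    intro t ht
    have := (Subgroup.relIndex_eq_one.mp h1) (show (⟨t, hTle ht⟩ : H) ∈ T.subgroupOf H from ht)
    exact this
  have hKT' : K ≤ T := fun k hk => hKT (show (⟨k, Subgroup.mem_sup_left hk⟩ : H) ∈ K.subgroupOf H from hk)
  rw [le_antisymm hTK hKT']
  exact sup_le Subgroup.le_normalizer (Subgroup.zpowers_le.mpr hn)

/-- The `p`-part and the `p'`-part of an element. -/
theorem split_pPart (x : G) (N : Subgroup G) (hx : x ∈ N) :
    ∃ u s : G, u * s = s * u ∧ (∃ a, orderOf u = p ^ a) ∧ ¬ p ∣ orderOf s ∧ x = u * s ∧ u ∈ N ∧ s ∈ N := by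
  obtain ⟨a, m, hm, hxo⟩ := Nat.exists_eq_pow_mul_and_not_dvd (orderOf_pos x).ne' p hp.out.ne_one
  have hcop : (p ^ a).Coprime m := Nat.Coprime.pow_left a (hp.out.coprime_iff_not_dvd.mpr hm)
  have hb := Nat.gcd_eq_gcd_ab (p ^ a) m
  rw [hcop.gcd_eq_one, Nat.cast_one] at hb
  refine ⟨x ^ ((m : ℤ) * Nat.gcdB (p ^ a) m), x ^ (((p ^ a : ℕ) : ℤ) * Nat.gcdA (p ^ a) m),
    ((Commute.refl x).zpow_zpow _ _).eq, ?_, ?_, ?_, Subgroup.zpow_mem _ hx _, Subgroup.zpow_mem _ hx _⟩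
  · obtain ⟨i, -, hi⟩ := (Nat.dvd_prime_pow hp.out).mp (orderOf_dvd_of_pow_eq_one (n := p ^ a)
      (x := x ^ ((m : ℤ) * Nat.gcdB (p ^ a) m)) (by
        rw [← zpow_natCast, ← zpow_mul, mul_comm, ← mul_assoc, ← Nat.cast_mul, ← hxo, zpow_mul,
          zpow_natCast, pow_orderOf_eq_one, one_zpow]))
    exact ⟨i, hi⟩
  · refine fun hd => hm (hd.trans (orderOf_dvd_of_pow_eq_one ?_))
    rw [← zpow_natCast, ← zpow_mul, mul_comm, ← mul_assoc, ← Nat.cast_mul, mul_comm m, ← hxo, zpow_mul,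
      zpow_natCast, pow_orderOf_eq_one, one_zpow]
  · rw [← zpow_add, add_comm, ← hb, zpow_one]

theorem commute_of_pElement (u q : G) (Q : Subgroup G) (hQz : Subgroup.zpowers q = Q) (hQc : Nat.card Q = p)
    (hu : ∃ a, orderOf u = p ^ a) (hun : u ∈ Subgroup.normalizer (Q : Set G)) : u * q = q * u := by
  obtain ⟨a, ha⟩ := hu
  have hQp : IsPGroup p Q := IsPGroup.of_card (n := 1) (by rw [pow_one]; exact hQc)
  set U := Q ⊔ Subgroup.zpowers u
  have hUp : IsPGroup p U := hQp.to_sup_of_normal_left' (IsPGroup.of_card (n := a) (by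
    rw [Nat.card_zpowers]; exact ha)) (Subgroup.zpowers_le.mpr hun)
  haveI : (Q.subgroupOf U).Normal := (Subgroup.normal_subgroupOf_iff_le_normalizer le_sup_left).mpr
    (sup_le Subgroup.le_normalizer (Subgroup.zpowers_le.mpr hun))
  haveI := hUp.isNilpotent
  have hne : Q.subgroupOf U ≠ ⊥ := fun e => by
    have h := Nat.card_congr (Subgroup.subgroupOfEquivOfLe (le_sup_left : Q ≤ U)).toEquiv
    rw [e, Subgroup.card_bot, hQc] at h
    exact hp.out.ne_one h.symm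
  obtain ⟨z, hz, hz1⟩ := (Subgroup.bot_or_exists_ne_one _).resolve_left (Solvable.inf_center_ne_bot hne)
  have hzQ : (z : G) ∈ Q := hz.1
  have hz1' : (z : G) ≠ 1 := fun e => hz1 (Subtype.ext e)
  have hzQ' : Subgroup.zpowers (z : G) = Q := Subgroup.eq_of_le_of_card_ge (Subgroup.zpowers_le.mpr hzQ) (by
    rw [hQc, Nat.card_zpowers, ← Subgroup.orderOf_mk (z : G) hzQ]
    have hd := orderOf_dvd_natCard (⟨(z : G), hzQ⟩ : Q)
    rw [hQc] at hd
    exact le_of_eq ((hp.out.eq_one_or_self_of_dvd _ hd).resolve_left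
      (fun e => hz1' (congrArg Subtype.val (orderOf_eq_one_iff.mp e)))).symm)
  have hzu : u * (z : G) = z * u :=
    congrArg Subtype.val (Subgroup.mem_center_iff.mp hz.2 ⟨u, Subgroup.mem_sup_right (Subgroup.mem_zpowers u)⟩)
  obtain ⟨i, hi⟩ := Subgroup.mem_zpowers_iff.mp (hzQ'.ge (hQz.le (Subgroup.mem_zpowers q)))
  rw [← hi]
  exact ((show Commute u (z : G) from hzu).zpow_right i).eq

theorem inverts_of_restricted (hp2 : p ≠ 2) (h : Restricted p G) (K : Subgroup G) (hK : IsPGroup p K) (s : G)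
    (hn : s ∈ Subgroup.normalizer (K : Set G)) (hs : ¬ p ∣ orderOf s) (hnc : ∃ k ∈ K, s * k ≠ k * s) :
    s ^ 2 = 1 ∧ ∀ k ∈ K, s * k * s⁻¹ = k⁻¹ := by
  obtain ⟨h1, h2⟩ := hyps_coprime K hK s hn hs
  have hsH : s ∈ K ⊔ Subgroup.zpowers s := Subgroup.mem_sup_right (Subgroup.mem_zpowers s)
  obtain ⟨k₀, hk₀, hne⟩ := hnc
  rcases h _ h1 h2 with hc | ⟨n, ⟨e⟩⟩
  · exact absurd (congrArg Subtype.val (hc.isMulCommutative.is_comm.comm
      (⟨s, hsH⟩ : ↥(K ⊔ Subgroup.zpowers s)) ⟨k₀, Subgroup.mem_sup_left hk₀⟩)) hne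
  have hrot : ∀ x : ↥(K ⊔ Subgroup.zpowers s), (x : G) ∈ K → ∃ i, e x = DihedralGroup.r i := by
    intro x hx
    cases hex : e x with
    | r i => exact ⟨i, rfl⟩
    | sr i =>
      exfalso
      obtain ⟨k, hk⟩ := IsPGroup.iff_orderOf.mp hK ⟨x, hx⟩
      rw [Subgroup.orderOf_mk, Subgroup.orderOf_coe, ← MulEquiv.orderOf_eq e, hex, DihedralGroup.orderOf_sr] at hk
      exact hp2 ((Nat.prime_dvd_prime_iff_eq hp.out Nat.prime_two).mp (by
        rcases Nat.eq_zero_or_pos k with rfl | hk0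
        · norm_num at hk
        · rw [hk]; exact dvd_pow_self p hk0.ne'))
  cases hes : e ⟨s, hsH⟩ with
  | r i =>
    exfalso
    obtain ⟨j, hj⟩ := hrot ⟨k₀, Subgroup.mem_sup_left hk₀⟩ hk₀
    refine hne (congrArg Subtype.val (e.injective (a₁ := ⟨s, hsH⟩ * ⟨k₀, Subgroup.mem_sup_left hk₀⟩)
      (a₂ := ⟨k₀, Subgroup.mem_sup_left hk₀⟩ * ⟨s, hsH⟩) ?_))
    rw [map_mul, map_mul, hes, hj, DihedralGroup.r_mul_r, DihedralGroup.r_mul_r, add_comm]
  | sr i =>
    refine ⟨?_, fun k hk => ?_⟩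
    · have := congrArg Subtype.val (e.injective (a₁ := (⟨s, hsH⟩ : ↥(K ⊔ Subgroup.zpowers s)) ^ 2) (a₂ := 1)
        (by rw [map_pow, map_one, hes, sq, DihedralGroup.sr_mul_sr, sub_self]; rfl))
      exact this
    · obtain ⟨j, hj⟩ := hrot ⟨k, Subgroup.mem_sup_left hk⟩ hk
      exact congrArg Subtype.val (e.injective
        (a₁ := (⟨s, hsH⟩ : ↥(K ⊔ Subgroup.zpowers s)) * ⟨k, Subgroup.mem_sup_left hk⟩ * (⟨s, hsH⟩)⁻¹)
        (a₂ := (⟨k, Subgroup.mem_sup_left hk⟩)⁻¹) (by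
          rw [map_mul, map_mul, map_inv, map_inv, hes, hj, DihedralGroup.inv_sr, DihedralGroup.inv_r,
            DihedralGroup.sr_mul_r, DihedralGroup.sr_mul_sr]
          congr 1; ring))

theorem isCyclic_sylow (hp2 : p ≠ 2) (h : Restricted p G) (P : Sylow p G) : IsCyclic P := by
  obtain ⟨h1, h2⟩ := hyps_coprime (P : Subgroup G) P.isPGroup' 1 (one_mem _)
    (by rw [orderOf_one]; exact hp.out.not_dvd_one)
  rw [Subgroup.zpowers_one_eq_bot, sup_bot_eq] at h1 h2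
  rcases h _ h1 h2 with hc | ⟨n, ⟨e⟩⟩
  · exact hc
  · obtain ⟨k, hk⟩ := P.isPGroup'.exists_card_eq
    rw [Nat.card_congr e.toEquiv, DihedralGroup.nat_card] at hk
    have h2 : 2 ∣ p ^ k := ⟨p ^ n, hk.symm⟩
    exact absurd ((Nat.prime_dvd_prime_iff_eq Nat.prime_two hp.out).mp (Nat.prime_two.dvd_of_dvd_pow h2)).symm hp2

theorem eq_one_of_inv_eq (hp2 : p ≠ 2) {K : Subgroup G} (hK : IsPGroup p K) {k : G} (hk : k ∈ K) (h : k⁻¹ = k) : k = 1 := by
  obtain ⟨j, hj⟩ := IsPGroup.iff_orderOf.mp hK ⟨k, hk⟩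
  rw [Subgroup.orderOf_mk] at hj
  have h2 : orderOf k ∣ 2 := orderOf_dvd_of_pow_eq_one (by rw [sq]; nth_rw 1 [← h]; exact inv_mul_cancel k)
  have hcop : (p ^ j).Coprime 2 := Nat.Coprime.pow_left j ((Nat.coprime_primes hp.out Nat.prime_two).mpr hp2)
  rw [hj] at h2
  have h1 : p ^ j = 1 := Nat.dvd_one.mp (hcop.gcd_eq_one ▸ Nat.dvd_gcd dvd_rfl h2)
  exact orderOf_eq_one_iff.mp (hj.trans h1)

theorem forward (hp2 : p ≠ 2) (P : Sylow p G) (h : Restricted p G) :
    IsCyclic P ∧ (Subgroup.normalizer ((P : Subgroup G) : Set G) = Subgroup.centralizer ((P : Subgroup G) : Set G) ∨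
      ((Subgroup.centralizer ((P : Subgroup G) : Set G)).relIndex (Subgroup.normalizer ((P : Subgroup G) : Set G)) = 2 ∧
        ∀ Q : Subgroup G, Q ≤ P → Nat.card Q = p →
          IsMulCommutative ↥(Subgroup.centralizer (Q : Set G)) ∧
          ∀ x : G, x ∈ Subgroup.normalizer (Q : Set G) → x ∉ Subgroup.centralizer (Q : Set G) →
            orderOf x = 2 ∧ ∀ c : G, c ∈ Subgroup.centralizer (Q : Set G) → x * c * x⁻¹ = c⁻¹)) := by
  have hPc := isCyclic_sylow hp2 h P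
  refine ⟨hPc, ?_⟩
  set N := Subgroup.normalizer ((P : Subgroup G) : Set G)
  set C := Subgroup.centralizer ((P : Subgroup G) : Set G) with hC
  have hPC : (P : Subgroup G) ≤ C := fun a ha => Subgroup.mem_centralizer_iff.mpr fun b hb =>
    congrArg Subtype.val (hPc.isMulCommutative.is_comm.comm (⟨b, hb⟩ : (P : Subgroup G)) ⟨a, ha⟩)
  have hdich : ∀ x ∈ N, x ∈ C ∨ ∀ a ∈ (P : Subgroup G), x * a * x⁻¹ = a⁻¹ := by
    intro x hx
    obtain ⟨u, s, hus, hu, hs, rfl, hun, hsn⟩ := split_pPart (p := p) x N hx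
    have huP : u ∈ (P : Subgroup G) := by
      have hle : (P : Subgroup G) ⊔ Subgroup.zpowers u = P := by
        refine (P.is_maximal' ?_ le_sup_left)
        exact P.isPGroup'.to_sup_of_normal_left' (IsPGroup.of_card (n := Classical.choose hu) (by
          rw [Nat.card_zpowers]; exact Classical.choose_spec hu)) (Subgroup.zpowers_le.mpr hun)
      rw [← hle]; exact Subgroup.mem_sup_right (Subgroup.mem_zpowers u)
    by_cases hc : ∀ a ∈ (P : Subgroup G), s * a = a * s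
    · exact Or.inl (mul_mem (hPC huP) (Subgroup.mem_centralizer_iff.mpr fun a ha => (hc a ha).symm))
    · push Not at hc
      obtain ⟨-, hinv⟩ := inverts_of_restricted hp2 h (P : Subgroup G) P.isPGroup' s hsn hs hc
      refine Or.inr fun a ha => ?_
      calc u * s * a * (u * s)⁻¹ = u * (s * a * s⁻¹) * u⁻¹ := by group
        _ = u * a⁻¹ * u⁻¹ := by rw [hinv a ha]
        _ = a⁻¹ := by rw [← Subgroup.mem_centralizer_iff.mp (hPC huP) _ (inv_mem ha), mul_inv_cancel_right]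
  have hCN : C ≤ N := Subgroup.centralizer_le_normalizer _
  by_cases hall : N ≤ C
  · exact Or.inl (le_antisymm hall hCN)
  right
  obtain ⟨y, hyN, hyC⟩ := Set.not_subset.mp hall
  have hy := (hdich y hyN).resolve_left hyC
  refine ⟨?_, fun Q hQP hQc => ?_⟩
  · rw [Subgroup.relIndex, Subgroup.index_eq_two_iff]
    refine ⟨⟨y, hyN⟩, fun b => ?_⟩
    simp only [Subgroup.mem_subgroupOf, Subgroup.coe_mul]
    rcases hdich b b.2 with hb | hb
    · exact Or.inr ⟨hb, fun h => hyC (by simpa using mul_mem (inv_mem hb) h)⟩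
    · refine Or.inl ⟨Subgroup.mem_centralizer_iff.mpr fun a ha => ?_, fun h => hyC ?_⟩
      · symm; rw [← mul_inv_eq_iff_eq_mul]
        calc (b : G) * y * a * ((b : G) * y)⁻¹ = b * (y * a * y⁻¹) * (b : G)⁻¹ := by group
          _ = a := by rw [hy a ha, hb _ (inv_mem ha), inv_inv]
      · refine Subgroup.mem_centralizer_iff.mpr fun a ha => ?_
        have e : (b : G) * a * (b : G)⁻¹ = a := mul_inv_eq_iff_eq_mul.mpr (Subgroup.mem_centralizer_iff.mp h a ha).symm
        rw [hb a ha] at e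
        rw [eq_one_of_inv_eq hp2 P.isPGroup' ha e, one_mul, mul_one]
  have hQp : IsPGroup p Q := P.isPGroup'.to_le hQP
  obtain ⟨q, hq, hq1⟩ := (Subgroup.bot_or_exists_ne_one Q).resolve_left fun e => by
    rw [e, Subgroup.card_bot] at hQc; exact hp.out.ne_one hQc.symm
  have hQz : Subgroup.zpowers q = Q := Subgroup.eq_of_le_of_card_ge (Subgroup.zpowers_le.mpr hq) (by
    rw [hQc, Nat.card_zpowers]
    refine le_of_eq ((orderOf_eq_prime ?_ hq1)).symm
    rw [← orderOf_dvd_iff_pow_eq_one, ← hQc, ← Subgroup.orderOf_mk q hq]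
    exact orderOf_dvd_natCard _)
  have hgen : ∀ x ∈ Subgroup.normalizer (Q : Set G), x ∉ Subgroup.centralizer (Q : Set G) → x ^ 2 = 1 := by
    intro x hx hxC
    obtain ⟨u, s, hus, hu, hs, rfl, hun, hsn⟩ := split_pPart (p := p) x _ hx
    have huq : u * q = q * u := commute_of_pElement u q Q hQz hQc hu hun
    have hnc : s * q ≠ q * s := fun e => hxC (by
      rw [← hQz, Subgroup.mem_centralizer_iff]
      intro b hb
      obtain ⟨i, rfl⟩ := Subgroup.mem_zpowers_iff.mp hb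
      exact (((show Commute u q from huq).mul_left e).zpow_right i).eq.symm)
    let U := Q ⊔ Subgroup.zpowers u
    have huU : Subgroup.zpowers u ≤ Subgroup.normalizer (Q : Set G) := Subgroup.zpowers_le.mpr hun
    have hUp : IsPGroup p U := hQp.to_sup_of_normal_left' (IsPGroup.of_card (n := Classical.choose hu) (by
      rw [Nat.card_zpowers]; exact Classical.choose_spec hu)) huU
    have hsU : s ∈ Subgroup.normalizer (U : Set G) := by
      have h1 : ∀ t : G, t ∈ Subgroup.normalizer (Q : Set G) → t * u = u * t → ∀ a ∈ U, t * a * t⁻¹ ∈ U := by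
        intro t ht htu a ha
        have hle : U ≤ U.comap (MulAut.conj t).toMonoidHom := sup_le
          (fun b hb => show t * b * t⁻¹ ∈ U from Subgroup.mem_sup_left ((Subgroup.mem_normalizer_iff.mp ht b).mp hb))
          (Subgroup.zpowers_le.mpr (show t * u * t⁻¹ ∈ U by
            rw [htu, mul_inv_cancel_right]; exact Subgroup.mem_sup_right (Subgroup.mem_zpowers u)))
        exact hle ha
      refine Subgroup.mem_normalizer_fintype (fun a ha => h1 s hsn hus.symm a ha)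
    obtain ⟨hs2, hinv⟩ := inverts_of_restricted hp2 h U hUp s hsU hs ⟨q, Subgroup.mem_sup_left hq, hnc⟩
    have e := hinv u (Subgroup.mem_sup_right (Subgroup.mem_zpowers u))
    rw [← hus, mul_inv_cancel_right] at e
    rw [eq_one_of_inv_eq hp2 hUp (Subgroup.mem_sup_right (Subgroup.mem_zpowers u)) e.symm, one_mul]
    exact hs2
  have hyQ : y ∈ Subgroup.normalizer (Q : Set G) ∧ y ∉ Subgroup.centralizer (Q : Set G) := by
    refine ⟨Subgroup.mem_normalizer_fintype fun a ha => ?_, fun hc => hq1 (eq_one_of_inv_eq hp2 hQp hq ?_)⟩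
    · rw [SetLike.mem_coe] at ha ⊢
      rw [hy a (hQP ha)]; exact inv_mem ha
    · rw [← hy q (hQP hq), ← Subgroup.mem_centralizer_iff.mp hc q hq, mul_inv_cancel_right]
  have hCQn : Subgroup.centralizer (Q : Set G) ≤ Subgroup.normalizer (Q : Set G) := Subgroup.centralizer_le_normalizer _
  have hinvC : ∀ x ∈ Subgroup.normalizer (Q : Set G), x ∉ Subgroup.centralizer (Q : Set G) →
      ∀ c ∈ Subgroup.centralizer (Q : Set G), x * c * x⁻¹ = c⁻¹ := by
    intro x hx hxC c hc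
    have h1 := hgen (x * c) (mul_mem hx (hCQn hc)) (fun h => hxC (by simpa using mul_mem h (inv_mem hc)))
    have h2 := hgen x hx hxC
    rw [sq] at h1 h2
    rw [inv_eq_of_mul_eq_one_right h2]
    refine (inv_eq_of_mul_eq_one_left ?_).symm
    rw [← h1]; group
  refine ⟨⟨⟨fun a b => Subtype.ext ?_⟩⟩, fun x hx hxC => ⟨orderOf_eq_prime (hgen x hx hxC) (fun e => hxC (e ▸ one_mem _)), hinvC x hx hxC⟩⟩
  have ha := hinvC y hyQ.1 hyQ.2 a a.2
  have hb := hinvC y hyQ.1 hyQ.2 b b.2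
  have hab := hinvC y hyQ.1 hyQ.2 (a * b) (mul_mem a.2 b.2)
  have : ((a : G) * b)⁻¹ = (a : G)⁻¹ * (b : G)⁻¹ := by
    rw [← hab, ← ha, ← hb]; group
  rw [mul_inv_rev] at this
  have := congrArg (·⁻¹) this
  simpa using this

/-- A `p'`-element fixing the subgroup of order `p` of a cyclic `p`-group centralizes the group. -/
theorem centralizes_of_fixes_omega (S : Subgroup G) (a : G) (k : ℕ) (ha : Subgroup.zpowers a = S)
    (hk : orderOf a = p ^ (k + 1)) (c : G) (hc : c ∈ Subgroup.normalizer (S : Set G)) (hcp : ¬ p ∣ orderOf c)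
    (hfix : c * a ^ p ^ k = a ^ p ^ k * c) : c * a = a * c := by
  obtain ⟨r, hr⟩ : ∃ r : ℤ, a ^ r = c * a * c⁻¹ := Subgroup.mem_zpowers_iff.mp (by
    rw [ha]; exact (Subgroup.mem_normalizer_iff.mp hc a).mp (ha.le (Subgroup.mem_zpowers a)))
  have hiter : ∀ i : ℕ, c ^ i * a * (c ^ i)⁻¹ = a ^ (r ^ i) := by
    intro i
    induction i with
    | zero => simp
    | succ i ih =>
      calc c ^ (i + 1) * a * (c ^ (i + 1))⁻¹ = c * (c ^ i * a * (c ^ i)⁻¹) * c⁻¹ := by rw [pow_succ']; group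
        _ = a ^ (r ^ (i + 1)) := by rw [ih, ← conj_zpow, ← hr, ← zpow_mul, pow_succ']
  have h1 : (p : ℤ) ∣ r - 1 := by
    have e : a ^ (r * (p ^ k : ℕ)) = a ^ ((p ^ k : ℕ) : ℤ) := by
      rw [zpow_mul, hr, conj_zpow, zpow_natCast, hfix, mul_inv_cancel_right]
    rw [← mul_inv_eq_one, ← zpow_sub, ← orderOf_dvd_iff_zpow_eq_one, hk, pow_succ, Nat.cast_mul] at e
    rw [show r * ((p ^ k : ℕ) : ℤ) - ((p ^ k : ℕ) : ℤ) = ((p ^ k : ℕ) : ℤ) * (r - 1) by ring] at e
    exact (mul_dvd_mul_iff_left (by exact_mod_cast (pow_pos hp.out.pos k).ne')).mp e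
  have h2 : ((p ^ (k + 1) : ℕ) : ℤ) ∣ r ^ p ^ k - 1 := by
    have := dvd_sub_pow_of_dvd_sub h1 k
    rwa [one_pow, ← Nat.cast_pow] at this
  have h3 : c ^ p ^ k * a = a * c ^ p ^ k := by
    rw [← mul_inv_eq_iff_eq_mul, hiter]
    conv_rhs => rw [← zpow_one a]
    rw [← mul_inv_eq_one, ← zpow_sub, ← orderOf_dvd_iff_zpow_eq_one, hk]
    exact h2
  obtain ⟨j, hj⟩ := exists_pow_eq_self_of_coprime (x := c) (n := p ^ k)
    (Nat.Coprime.pow_left k (hp.out.coprime_iff_not_dvd.mpr hcp))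
  rw [← hj]
  exact ((show Commute (c ^ p ^ k) a from h3).pow_left j).eq

theorem backward (hp2 : p ≠ 2) (P : Sylow p G) (hPc : IsCyclic P)
    (hcase : Subgroup.normalizer ((P : Subgroup G) : Set G) = Subgroup.centralizer ((P : Subgroup G) : Set G) ∨
      ((Subgroup.centralizer ((P : Subgroup G) : Set G)).relIndex (Subgroup.normalizer ((P : Subgroup G) : Set G)) = 2 ∧
        ∀ Q : Subgroup G, Q ≤ P → Nat.card Q = p →
          IsMulCommutative ↥(Subgroup.centralizer (Q : Set G)) ∧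
          ∀ x : G, x ∈ Subgroup.normalizer (Q : Set G) → x ∉ Subgroup.centralizer (Q : Set G) →
            orderOf x = 2 ∧ ∀ c : G, c ∈ Subgroup.centralizer (Q : Set G) → x * c * x⁻¹ = c⁻¹))
    (H : Subgroup G) (hHS : ∀ S : Sylow p ↥H, (S : Subgroup ↥H).Normal)
    (hHQ : ∀ (S : Sylow p ↥H) [(S : Subgroup ↥H).Normal], IsCyclic (↥H ⧸ (S : Subgroup ↥H))) :
    IsCyclic H ∨ (∃ n : ℕ, Nonempty (H ≃* DihedralGroup (p ^ n))) := by
  obtain ⟨S⟩ : Nonempty (Sylow p H) := inferInstance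
  haveI := hHS S
  haveI := hHQ S
  obtain ⟨c, hcp, hcop, hcard, htop, hint⟩ := RestrictedBase.exists_generator_complement S
  obtain ⟨T, hT⟩ := ((S.isPGroup').map H.subtype).exists_le_sylow
  obtain ⟨g, rfl⟩ := MulAction.exists_smul_eq G P T
  have hconj : ∀ x : H, x ∈ (S : Subgroup H) → g⁻¹ * x * g ∈ (P : Subgroup G) := fun x hx => by
    obtain ⟨q, hq, hqe⟩ := hT (Subgroup.mem_map_of_mem H.subtype hx)
    have : g * q * g⁻¹ = (x : G) := hqe
    rw [← this, show g⁻¹ * (g * q * g⁻¹) * g = q by group]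
    exact hq
  haveI := hPc
  let ι : (S : Subgroup H) →* (P : Subgroup G) := MonoidHom.mk' (fun x => ⟨g⁻¹ * ((x : H) : G) * g, hconj x x.2⟩)
    (fun a b => Subtype.ext (by
      show g⁻¹ * (((a : H) : G) * ((b : H) : G)) * g = (g⁻¹ * ((a : H) : G) * g) * (g⁻¹ * ((b : H) : G) * g)
      group))
  have hScyc : IsCyclic (S : Subgroup H) := isCyclic_of_injective ι fun a b hab => by
    have := congrArg (fun t : (P : Subgroup G) => (t : G)) hab
    exact Subtype.ext (Subtype.ext (mul_left_cancel (mul_right_cancel this)))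
  by_cases hcen : ∀ x ∈ (S : Subgroup H), c * x = x * c
  · exact Or.inl (RestrictedBase.isCyclic_of_coprime _ c hScyc hcen hcop hcard)
  right
  obtain ⟨a, ha⟩ := Subgroup.isCyclic_iff_exists_zpowers_eq_top _ |>.mp hScyc
  have haS : a ∈ (S : Subgroup H) := ha.le (Subgroup.mem_zpowers a)
  have hca : c * a ≠ a * c := fun e => hcen fun x hx => by
    obtain ⟨i, rfl⟩ := Subgroup.mem_zpowers_iff.mp (ha.ge hx)
    exact ((show Commute c a from e).zpow_right i).eq
  obtain ⟨k, hk⟩ := IsPGroup.iff_orderOf.mp S.isPGroup' ⟨a, haS⟩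
  rw [Subgroup.orderOf_mk] at hk
  obtain ⟨k, rfl⟩ : ∃ j, k = j + 1 := ⟨k - 1, by
    rcases Nat.eq_zero_or_pos k with rfl | h
    · rw [pow_zero, orderOf_eq_one_iff] at hk; exact absurd (by simp [hk]) hca
    · omega⟩
  set a' := g⁻¹ * (a : G) * g with ha'
  set c' := g⁻¹ * (c : G) * g with hc'
  have hco : orderOf c' = orderOf c := by
    rw [← Subgroup.orderOf_coe c, hc']
    conv_rhs => rw [← MulEquiv.orderOf_eq (MulAut.conj g⁻¹), MulAut.conj_apply, inv_inv]
  have hao : orderOf a' = p ^ (k + 1) := by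
    rw [← hk, ← Subgroup.orderOf_coe a, ha']
    conv_rhs => rw [← MulEquiv.orderOf_eq (MulAut.conj g⁻¹), MulAut.conj_apply, inv_inv]
  have hinvc : ∀ i : ℕ, c * a ^ i * c⁻¹ ∈ Subgroup.zpowers a := fun i => by
    rw [ha]; exact (inferInstance : (S : Subgroup H).Normal).conj_mem _ (pow_mem haS i) c
  have hcn : c' ∈ Subgroup.normalizer (Subgroup.zpowers a' : Set G) := by
    refine Subgroup.mem_normalizer_fintype fun x hx => ?_
    obtain ⟨i, rfl⟩ := mem_powers_iff_mem_zpowers.mpr hx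
    obtain ⟨j, hj⟩ := Subgroup.mem_zpowers_iff.mp (hinvc i)
    refine Subgroup.mem_zpowers_iff.mpr ⟨j, ?_⟩
    have e : (a : G) ^ j = (c : G) * (a : G) ^ i * (c : G)⁻¹ := by
      rw [← Subgroup.coe_zpow, hj]; rfl
    show (g⁻¹ * (a : G) * g) ^ j = (g⁻¹ * (c : G) * g) * (g⁻¹ * (a : G) * g) ^ i * (g⁻¹ * (c : G) * g)⁻¹
    rw [show g⁻¹ * (a : G) * g = g⁻¹ * (a : G) * (g⁻¹)⁻¹ by rw [inv_inv], conj_zpow, conj_pow, inv_inv, e]
    group
  have hc'a : c' * a' ≠ a' * c' := fun e => hca (Subtype.ext (by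
    have := congrArg (fun t => g * t * g⁻¹) e
    simpa [hc', ha', mul_assoc] using this))
  set q := a' ^ p ^ k with hq
  have hqo : orderOf q = p := by
    rw [hq, orderOf_pow, hao, Nat.gcd_eq_right (pow_dvd_pow p (Nat.le_succ k)), pow_succ,
      Nat.mul_div_cancel_left _ (pow_pos hp.out.pos k)]
  have ha'P : a' ∈ (P : Subgroup G) := hconj a haS
  set Q := Subgroup.zpowers q with hQ
  have hQP : Q ≤ P := Subgroup.zpowers_le.mpr (pow_mem ha'P _)
  have hQc : Nat.card Q = p := by rw [Nat.card_zpowers, hqo]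
  have hcQ : c' ∈ Subgroup.normalizer (Q : Set G) := by
    refine Subgroup.mem_normalizer_fintype fun x hx => ?_
    obtain ⟨i, rfl⟩ := mem_powers_iff_mem_zpowers.mpr hx
    obtain ⟨j, hj⟩ := Subgroup.mem_zpowers_iff.mp ((Subgroup.mem_normalizer_iff.mp hcn a').mp (Subgroup.mem_zpowers a'))
    refine Subgroup.mem_zpowers_iff.mpr ⟨j * i, ?_⟩
    show (a' ^ p ^ k) ^ (j * (i : ℤ)) = c' * (a' ^ p ^ k) ^ i * c'⁻¹
    rw [← conj_pow, ← conj_pow, ← hj, zpow_mul, zpow_natCast, ← zpow_natCast a', ← zpow_mul, mul_comm,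
      zpow_mul, zpow_natCast]
  have hnQ : c' ∉ Subgroup.centralizer (Q : Set G) := fun h => hc'a
    (centralizes_of_fixes_omega _ a' k rfl hao c' hcn (by rw [hco]; exact hcp)
      (Subgroup.mem_centralizer_iff.mp h q (Subgroup.mem_zpowers q)).symm)
  have hPab : ∀ x ∈ (P : Subgroup G), ∀ y ∈ (P : Subgroup G), x * y = y * x := fun x hx y hy =>
    congrArg Subtype.val (hPc.isMulCommutative.is_comm.comm (⟨x, hx⟩ : (P : Subgroup G)) ⟨y, hy⟩)
  have hPCQ : (P : Subgroup G) ≤ Subgroup.centralizer (Q : Set G) := fun x hx =>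
    Subgroup.mem_centralizer_iff.mpr fun y hy => hPab y (hQP hy) x hx
  rcases hcase with hNC | ⟨-, h2⟩
  · exfalso
    apply hnQ
    set CQ := Subgroup.centralizer (Q : Set G) with hCQ
    have hc'CQ : ∀ x ∈ CQ, c' * x * c'⁻¹ ∈ CQ := fun x hx => Subgroup.mem_centralizer_iff.mpr fun y hy => by
      have hy' : c'⁻¹ * y * c' ∈ Q := (Subgroup.mem_normalizer_iff''.mp hcQ y).mp hy
      have := Subgroup.mem_centralizer_iff.mp hx _ hy'
      calc y * (c' * x * c'⁻¹) = c' * ((c'⁻¹ * y * c') * x) * c'⁻¹ := by group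
        _ = c' * (x * (c'⁻¹ * y * c')) * c'⁻¹ := by rw [this]
        _ = _ := by group
    let P₁ : Sylow p CQ := P.subtype hPCQ
    let P₂ : Sylow p CQ := (c' • P).subtype (fun x hx => by
      obtain ⟨y, hy, rfl⟩ := hx
      exact hc'CQ y (hPCQ hy))
    obtain ⟨d, hd⟩ := MulAction.exists_smul_eq CQ P₂ P₁
    have hn : (d : G) * c' ∈ Subgroup.normalizer ((P : Subgroup G) : Set G) := by
      refine Subgroup.mem_normalizer_fintype fun x hx => ?_
      have hmem : (⟨c' * x * c'⁻¹, hc'CQ x (hPCQ hx)⟩ : CQ) ∈ (P₂ : Subgroup CQ) := ⟨x, hx, rfl⟩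
      have h1 : d * ⟨c' * x * c'⁻¹, hc'CQ x (hPCQ hx)⟩ * d⁻¹ ∈ (P₁ : Subgroup CQ) := by
        rw [← hd]; exact ⟨_, hmem, rfl⟩
      have h2 : (d : G) * (c' * x * c'⁻¹) * (d : G)⁻¹ ∈ (P : Subgroup G) := h1
      show (d : G) * c' * x * ((d : G) * c')⁻¹ ∈ (P : Subgroup G)
      rw [show (d : G) * c' * x * ((d : G) * c')⁻¹ = (d : G) * (c' * x * c'⁻¹) * (d : G)⁻¹ by group]
      exact h2
    rw [hNC] at hn
    have : (d : G) * c' ∈ CQ := Subgroup.mem_centralizer_iff.mpr fun y hy => Subgroup.mem_centralizer_iff.mp hn y (hQP hy)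
    have h3 := mul_mem (inv_mem d.2) this
    rwa [inv_mul_cancel_left] at h3
  · obtain ⟨-, hinv⟩ := h2 Q hQP hQc
    obtain ⟨hord, hinv⟩ := hinv c' hcQ hnQ
    have hconj' := hinv a' (hPCQ ha'P)
    refine ⟨k + 1, ?_⟩
    haveI : NeZero (p ^ (k + 1)) := ⟨pow_ne_zero _ hp.out.ne_zero⟩
    rw [hco] at hord
    refine Classification.mulEquiv_dihedralGroup_of_generators (c := a) (g := c) hk (Subtype.ext ?_)
      (orderOf_dvd_iff_pow_eq_one.mp (dvd_of_eq hord)) (fun h => ?_) ?_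
    · have := congrArg (fun t => g * t * g⁻¹) hconj'
      simpa [hc', ha', mul_assoc] using this
    · have : c ∈ (S : Subgroup H) ⊓ Subgroup.zpowers c := ⟨ha.le h, Subgroup.mem_zpowers c⟩
      rw [hint, Subgroup.mem_bot] at this
      rw [this, orderOf_one] at hord
      exact absurd hord (by norm_num)
    · rw [hcard, hord, ← ha, Nat.card_zpowers, hk, mul_comm]

end Cfsg.Agent.Lib.PGroups.RestrictedOdd
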