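import Mathlib
import Cfsg.Agent.Lib.Cores.Frattini

/-!
Properties of the normal Sylow subgroup of a minimal non-nilpotent group.
-/

set_option autoImplicit false

namespace Cfsg.Agent.Lib.PGroups.SchmidtSylow

open scoped commutatorElement

/-- The properties we use of the normal Sylow subgroup of a minimal non-nilpotent group. -/
structure Good (p : ℕ) (P : Type*) [Group P] : Prop where
  comm : ∀ a b : P, ⁅a, b⁆ ∈ Subgroup.center P
  pow : ∀ a : P, a ^ p ∈ Subgroup.center P
  radical : ∀ Z₀ : Subgroup P, (∃ a b : P, ⁅a, b⁆ ∉ Z₀) → ∀ v : P, (∀ w, ⁅v, w⁆ ∈ Z₀) →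
    v ∈ Subgroup.center P
  three : p = 3 → (Subgroup.center P).index ≠ 9
  two : p = 2 → (Subgroup.center P).index = 4 → ∀ M : Subgroup P, Subgroup.center P ≤ M →
    M.index = 2 → IsCyclic M

theorem Good.of_equiv {p : ℕ} {P P' : Type*} [Group P] [Group P'] (h : Good p P) (e : P' ≃* P) :
    Good p P' := by
  have hc : ∀ x : P', x ∈ Subgroup.center P' ↔ e x ∈ Subgroup.center P := by
    intro x
    simp only [Subgroup.mem_center_iff]
    constructor
    · intro hx y
      obtain ⟨y, rfl⟩ := e.surjective y
      rw [← map_mul, hx y, map_mul]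
    · intro hx y
      apply e.injective
      rw [map_mul, hx (e y), map_mul]
  have hm : (Subgroup.center P').map e.toMonoidHom = Subgroup.center P := by
    ext x
    constructor
    · rintro ⟨y, hy, rfl⟩
      exact (hc y).mp hy
    · intro hx
      refine ⟨e.symm x, (hc _).mpr ?_, e.apply_symm_apply x⟩
      rwa [e.apply_symm_apply]
  have hi : (Subgroup.center P').index = (Subgroup.center P).index := by
    rw [← hm]
    exact (Subgroup.index_map_equiv _ e).symm
  refine ⟨fun a b => (hc _).mpr ?_, fun a => (hc _).mpr ?_, ?_, fun hp => hi ▸ h.three hp, ?_⟩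
  · rw [map_commutatorElement]; exact h.comm _ _
  · rw [map_pow]; exact h.pow _
  · rintro Z₀ ⟨a, b, hab⟩ v hv
    refine (hc v).mpr (h.radical (Z₀.map e.toMonoidHom) ⟨e a, e b, ?_⟩ (e v) fun w => ?_)
    · rw [← map_commutatorElement]
      rintro ⟨y, hy, hy'⟩
      exact hab (e.injective hy' ▸ hy)
    · obtain ⟨w, rfl⟩ := e.surjective w
      rw [← map_commutatorElement]
      exact ⟨_, hv w, rfl⟩
  · intro hp hindex M hM hM2
    haveI := h.two hp (hi ▸ hindex) (M.map e.toMonoidHom) (hm ▸ Subgroup.map_mono hM)
      ((Subgroup.index_map_equiv _ e).trans hM2)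
    exact isCyclic_of_surjective (M.equivMapOfInjective e.toMonoidHom e.injective).symm.toMonoidHom
      (M.equivMapOfInjective e.toMonoidHom e.injective).symm.surjective

section
variable {P : Type*} [Group P] [Finite P] {p q : ℕ} [hp : Fact p.Prime] [hq : Fact q.Prime]

open Subgroup

/-- A `q`-automorphism of a `p`-group fixing every proper invariant subgroup pointwise. -/
theorem good_of_aut (hP : IsPGroup p P) (hpq : p ≠ q) (α : MulAut P) (hαq : α ^ q = 1) (hα1 : α ≠ 1)
    (hfix : ∀ R : Subgroup P, R ≠ ⊤ → (∀ r ∈ R, α r ∈ R) → ∀ r ∈ R, α r = r) : Good p P := by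
  haveI := hP.isNilpotent
  have : Nontrivial P := by
    by_contra h
    rw [not_nontrivial_iff_subsingleton] at h
    exact hα1 (MulEquiv.ext fun x => Subsingleton.elim _ _)
  -- `[P, α]` is everything
  let R0 : Subgroup P := closure (Set.range fun v : P => v⁻¹ * α v)
  have hR0 : R0 = ⊤ := by
    by_contra hne
    have hinv : ∀ r ∈ R0, α r ∈ R0 := by
      intro r hr
      have : α r ∈ R0.map α.toMonoidHom := ⟨r, hr, rfl⟩
      rw [MonoidHom.map_closure] at this
      refine closure_mono ?_ this
      rintro _ ⟨_, ⟨v, rfl⟩, rfl⟩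
      exact ⟨α v, by simp⟩
    have hf := hfix R0 hne hinv
    refine hα1 (MulEquiv.ext fun v => ?_)
    set c := v⁻¹ * α v with hc
    have hcm : c ∈ R0 := subset_closure ⟨v, rfl⟩
    have hac : α c = c := hf c hcm
    have hn : ∀ n : ℕ, (α ^ n) v = v * c ^ n := by
      intro n
      induction n with
      | zero => simp
      | succ n ih =>
        rw [pow_succ', MulAut.mul_apply, ih, map_mul, map_pow, hac, pow_succ', ← mul_assoc, hc]
        group
    have h := hn q
    rw [hαq, MulAut.one_apply, left_eq_mul] at h
    have : c = 1 := by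
      obtain ⟨k, hk⟩ := hP c
      exact orderOf_eq_one_iff.mp (Nat.eq_one_of_dvd_coprimes
        ((Nat.coprime_primes hp.out hq.out).mpr hpq |>.pow_left k)
        (orderOf_dvd_of_pow_eq_one hk) (orderOf_dvd_of_pow_eq_one h))
    rw [MulAut.one_apply]
    calc α v = v * c := by rw [hc]; group
      _ = v := by rw [this, mul_one]
  -- the commutator subgroup is proper
  have hΦ : frattini P ≠ ⊤ := fun e => by
    obtain ⟨M, hM, -⟩ := (eq_top_or_exists_le_coatom (⊥ : Subgroup P)).resolve_left bot_ne_top
    exact hM.1 (top_le_iff.mp (e ▸ frattini_le_coatom hM))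
  have hDtop : commutator P ≠ ⊤ := fun e =>
    hΦ (top_le_iff.mp (e ▸ Cores.commutator_le_frattini))
  have hDfix : ∀ a b : P, α ⁅a, b⁆ = ⁅a, b⁆ := fun a b => hfix _ hDtop (fun r hr => by
    have := (inferInstance : (commutator P).Characteristic).fixed α
    rw [← this] at hr; exact hr) _ (commutator_mem_commutator (mem_top a) (mem_top b))
  -- fixed elements are central
  have hcen : ∀ v : P, α v = v → v ∈ center P := by
    intro v hv
    have hle : R0 ≤ centralizer ({v} : Set P) := by
      refine (closure_le _).mpr ?_
      rintro _ ⟨w, rfl⟩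
      rw [SetLike.mem_coe, mem_centralizer_singleton_iff]
      have h := hDfix v w
      rw [map_commutatorElement, hv, commutatorElement_def, commutatorElement_def] at h
      have h2 : α w * v⁻¹ * (α w)⁻¹ = w * v⁻¹ * w⁻¹ := by
        apply mul_left_cancel (a := v)
        calc v * (α w * v⁻¹ * (α w)⁻¹) = v * α w * v⁻¹ * (α w)⁻¹ := by group
          _ = v * w * v⁻¹ * w⁻¹ := h
          _ = v * (w * v⁻¹ * w⁻¹) := by group
      have h3 : v⁻¹ * ((α w)⁻¹ * w) = (α w)⁻¹ * w * v⁻¹ := by
        calc v⁻¹ * ((α w)⁻¹ * w) = (α w)⁻¹ * (α w * v⁻¹ * (α w)⁻¹) * w := by group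
          _ = (α w)⁻¹ * (w * v⁻¹ * w⁻¹) * w := by rw [h2]
          _ = (α w)⁻¹ * w * v⁻¹ := by group
      have h4 := congrArg (·⁻¹) h3
      simp only [mul_inv_rev, inv_inv] at h4
      exact h4
    rw [hR0] at hle
    exact mem_center_iff.mpr fun w => mem_centralizer_singleton_iff.mp (hle (mem_top w))
  have hprop : ∀ R : Subgroup P, R ≠ ⊤ → (∀ r ∈ R, α r ∈ R) → R ≤ center P :=
    fun R hR hinv r hr => hcen r (hfix R hR hinv r hr)
  have hDc : ∀ a b : P, ⁅a, b⁆ ∈ center P := fun a b => hcen _ (hDfix a b)
  have hpow : ∀ a : P, a ^ p ∈ center P := fun a => by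
    refine hprop _ hΦ (fun r hr => ?_) (Cores.pow_mem_frattini hP a)
    have := (inferInstance : (frattini P).Characteristic).fixed α
    rw [← this] at hr; exact hr
  have hfixc : center P ≠ ⊤ → ∀ z ∈ center P, α z = z := fun hne => hfix _ hne fun r hr => by
    have := (inferInstance : (center P).Characteristic).fixed α
    rw [← this] at hr; exact hr
  refine ⟨hDc, hpow, ?_, ?_, ?_⟩
  · rintro Z₀ ⟨a, b, hab⟩ v hv
    by_contra hvc
    have hne : center P ≠ ⊤ := fun e => hvc (e ▸ mem_top v)
    let R : Subgroup P :=
      { carrier := {v | ∀ w, ⁅v, w⁆ ∈ Z₀}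
        one_mem' := fun w => by simp
        mul_mem' := fun {x y} hx hy w => by
          have : ⁅x * y, w⁆ = ⁅y, w⁆ * ⁅x, w⁆ := by
            have e := mem_center_iff.mp (hDc y w) x
            calc ⁅x * y, w⁆ = (x * ⁅y, w⁆) * x⁻¹ * ⁅x, w⁆ := by simp only [commutatorElement_def]; group
              _ = ⁅y, w⁆ * ⁅x, w⁆ := by rw [e]; group
          rw [this]
          exact mul_mem (hy w) (hx w)
        inv_mem' := fun {x} hx w => by
          have e := mem_center_iff.mp (inv_mem (hDc x w)) x⁻¹
          have : ⁅x⁻¹, w⁆ = ⁅x, w⁆⁻¹ := by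
            calc ⁅x⁻¹, w⁆ = (x⁻¹ * ⁅x, w⁆⁻¹) * x := by simp only [commutatorElement_def]; group
              _ = ⁅x, w⁆⁻¹ := by rw [e]; group
          rw [this]
          exact inv_mem (hx w) }
    refine hvc (hprop R ?_ ?_ hv)
    · intro e
      exact hab ((show a ∈ R from e ▸ mem_top a) b)
    · intro r hr w
      have h1 := hr (α.symm w)
      rw [← hDfix, map_commutatorElement, MulEquiv.apply_symm_apply] at h1
      exact h1
  all_goals
    rintro rfl hindex
    have hne : center P ≠ ⊤ := fun e => by rw [e, index_top] at hindex; omega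
    have hline : ∀ v, α v ∈ center P ⊔ zpowers v → v ∈ center P := by
      intro v hv
      have hle : ∀ r ∈ center P ⊔ zpowers v, α r ∈ center P ⊔ zpowers v := by
        intro r hr
        obtain ⟨z, hz, y, hy, rfl⟩ := mem_sup_of_normal_left.mp hr
        obtain ⟨i, rfl⟩ := mem_zpowers_iff.mp hy
        rw [map_mul, map_zpow, hfixc hne z hz]
        exact mul_mem (mem_sup_left hz) (zpow_mem hv i)
      refine hprop _ ?_ hle (mem_sup_right (mem_zpowers v))
      intro e
      have hc : ∀ y, Commute v y := by
        intro y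
        obtain ⟨z, hz, w, hw, rfl⟩ := mem_sup_of_normal_left.mp (e ▸ mem_top y)
        obtain ⟨i, rfl⟩ := mem_zpowers_iff.mp hw
        exact Commute.mul_right (mem_center_iff.mp hz v) ((Commute.refl v).zpow_right i)
      refine hne (eq_top_iff.mpr (e.ge.trans (sup_le le_rfl (zpowers_le.mpr ?_))))
      exact mem_center_iff.mpr fun y => (hc y).symm.eq
    have hnf : ∀ v, v⁻¹ * α v ∈ center P → v ∈ center P := fun v h => hline v (by
      have := mul_mem (mem_sup_right (S := center P) (mem_zpowers v))
        (mem_sup_left (T := zpowers v) h)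
      rwa [mul_inv_cancel_left] at this)
    have hmod : (center P).index ≡ 1 [MOD q] := by
      let e : MulAut (P ⧸ center P) := QuotientGroup.congr (center P) (center P) α
        (characteristic_iff_map_eq.mp inferInstance α)
      have he : ∀ v : P, e (v : P ⧸ center P) = ((α v : P) : P ⧸ center P) := fun v => rfl
      let σ : Equiv.Perm (P ⧸ center P) := e.toEquiv
      have hσn : ∀ (n : ℕ) (v : P), (σ ^ n) (v : P ⧸ center P) = (((α ^ n) v : P) : P ⧸ center P) := by
        intro n v
        induction n with
        | zero => rfl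
        | succ n ih => rw [pow_succ', Equiv.Perm.mul_apply, ih, pow_succ']; rfl
      have hσ : σ ^ q = 1 := Equiv.ext fun x => by
        induction x using QuotientGroup.induction_on with
        | _ v => rw [hσn, hαq]; rfl
      have hG : IsPGroup q (zpowers σ) := fun g => ⟨1, Subtype.ext (by
        obtain ⟨i, hi⟩ := mem_zpowers_iff.mp g.2
        rw [coe_pow, pow_one, ← hi, ← zpow_natCast, ← zpow_mul, mul_comm, zpow_mul, zpow_natCast, hσ,
          one_zpow]
        rfl)⟩
      have h := hG.card_modEq_card_fixedPoints (P ⧸ center P)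
      have hfx : MulAction.fixedPoints (zpowers σ) (P ⧸ center P) = {1} := by
        ext x
        induction x using QuotientGroup.induction_on with
        | _ v =>
          constructor
          · intro hx
            have h1 : e (v : P ⧸ center P) = v := hx ⟨σ, mem_zpowers σ⟩
            rw [he, eq_comm, QuotientGroup.eq] at h1
            exact (QuotientGroup.eq_one_iff v).mpr (hnf v h1)
          · rintro hx g
            rw [Set.mem_singleton_iff] at hx
            rw [hx]
            obtain ⟨n, hn⟩ := mem_powers_iff_mem_zpowers.mpr g.2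
            show (g : Equiv.Perm (P ⧸ center P)) 1 = 1
            rw [← hn]
            show (σ ^ n) ((1 : P) : P ⧸ center P) = 1
            rw [hσn, map_one]
            rfl
      rwa [hfx, Nat.card_coe_set_eq, Set.ncard_singleton, ← Subgroup.index_eq_card] at h
    rw [hindex] at hmod
    have hqd := (Nat.modEq_iff_dvd' (by norm_num)).mp hmod.symm
  -- index `9` does not occur
  · have hq2 : q = 2 := by
      have h8 : q ∣ 2 ^ 3 := by simpa using hqd
      exact (Nat.prime_dvd_prime_iff_eq hq.out Nat.prime_two).mp (hq.out.dvd_of_dvd_pow h8)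
    subst hq2
    refine hne (eq_top_iff.mpr fun v _ => hline v ?_)
    have haa : α (α v) = v := by
      rw [← MulAut.mul_apply, ← sq, hαq, MulAut.one_apply]
    have h1 : v * α v ∈ center P := by
      refine hnf _ ?_
      have : (v * α v)⁻¹ * α (v * α v) = ⁅(α v)⁻¹, v⁻¹⁆ := by
        rw [map_mul, haa, commutatorElement_def]; group
      rw [this]
      exact hDc _ _
    have : α v = v⁻¹ * (v * α v) := by group
    rw [this]
    exact mul_mem (mem_sup_right (inv_mem (mem_zpowers v))) (mem_sup_left h1)
  -- index `4`
  · intro M hM hM2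
    have hq3 : q = 3 := by
      exact (Nat.prime_dvd_prime_iff_eq hq.out Nat.prime_three).mp (by simpa using hqd)
    subst hq3
    have ha3 : ∀ v, α (α (α v)) = v := fun v => by
      have : (α ^ 3) v = v := by rw [hαq]; rfl
      simpa [pow_succ, MulAut.mul_apply] using this
    obtain ⟨v, hv⟩ : ∃ v, v ∉ center P := by
      by_contra h
      push Not at h
      exact hne (eq_top_iff.mpr fun x _ => h x)
    -- the four cosets
    have hcoset : ∀ v, v ∉ center P → ∀ u, u ∈ center P ∨ v⁻¹ * u ∈ center P ∨
        (α v)⁻¹ * u ∈ center P ∨ (α (α v))⁻¹ * u ∈ center P := by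
      intro v hv u
      have hαc : ∀ x, α x ∈ center P → x ∈ center P := fun x hx => by
        have h := hfixc hne _ hx
        rwa [α.injective h] at hx
      by_contra h
      push Not at h
      obtain ⟨h0, h1, h2, h3⟩ := h
      let f : Fin 5 → P ⧸ center P := ![((1 : P) : P ⧸ center P), (v : P ⧸ center P),
        ((α v : P) : P ⧸ center P), ((α (α v) : P) : P ⧸ center P), (u : P ⧸ center P)]
      have hf : Function.Injective f := by
        have d01 : ((v : P) : P ⧸ center P) ≠ ((1 : P) : P ⧸ center P) := fun e => hv (by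
          simpa using (QuotientGroup.eq.mp e.symm))
        have d02 : ((α v : P) : P ⧸ center P) ≠ ((1 : P) : P ⧸ center P) := fun e => hv (hαc _ (by
          simpa using (QuotientGroup.eq.mp e.symm)))
        have d03 : ((α (α v) : P) : P ⧸ center P) ≠ ((1 : P) : P ⧸ center P) := fun e =>
          hv (hαc _ (hαc _ (by simpa using (QuotientGroup.eq.mp e.symm))))
        have d12 : ((v : P) : P ⧸ center P) ≠ ((α v : P) : P ⧸ center P) := fun e =>
          hv (hnf _ (QuotientGroup.eq.mp e))
        have d23 : ((α v : P) : P ⧸ center P) ≠ ((α (α v) : P) : P ⧸ center P) := fun e =>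
          hv (hαc _ (hnf _ (QuotientGroup.eq.mp e)))
        have d13 : ((α (α v) : P) : P ⧸ center P) ≠ ((v : P) : P ⧸ center P) := fun e =>
          hv (hαc _ (hαc _ (hnf _ (by rw [ha3]; exact QuotientGroup.eq.mp e))))
        have d4 : (u : P ⧸ center P) ≠ ((1 : P) : P ⧸ center P) := fun e => h0 (by
          simpa using (QuotientGroup.eq.mp e.symm))
        have d5 : (u : P ⧸ center P) ≠ ((v : P) : P ⧸ center P) := fun e => h1 (QuotientGroup.eq.mp e.symm)
        have d6 : (u : P ⧸ center P) ≠ ((α v : P) : P ⧸ center P) := fun e => h2 (QuotientGroup.eq.mp e.symm)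
        have d7 : (u : P ⧸ center P) ≠ ((α (α v) : P) : P ⧸ center P) := fun e =>
          h3 (QuotientGroup.eq.mp e.symm)
        intro i j hij
        fin_cases i <;> fin_cases j <;> first
          | rfl
          | exact absurd hij d01 | exact absurd hij.symm d01 | exact absurd hij d02
          | exact absurd hij.symm d02 | exact absurd hij d03 | exact absurd hij.symm d03
          | exact absurd hij d12 | exact absurd hij.symm d12 | exact absurd hij d23
          | exact absurd hij.symm d23 | exact absurd hij d13 | exact absurd hij.symm d13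
          | exact absurd hij d4 | exact absurd hij.symm d4 | exact absurd hij d5
          | exact absurd hij.symm d5 | exact absurd hij d6 | exact absurd hij.symm d6
          | exact absurd hij d7 | exact absurd hij.symm d7
      have hle := Nat.card_le_card_of_injective f hf
      rw [← Subgroup.index_eq_card, hindex, Nat.card_fin] at hle
      omega
    set a := v⁻¹ * α v with ha
    set b := α a with hb
    set c := α b with hc
    have habc : a * b * c = 1 := by
      rw [hc, hb, ha]
      simp only [map_mul, map_inv, ha3]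
      group
    have haZ : a ∉ center P := fun h => hv (hnf v h)
    have hsq : ∀ x, x * x ∈ center P := fun x => by simpa [sq] using hpow x
    have hb2 : b * b = a * a := by rw [hb, ← map_mul, hfixc hne _ (hsq a)]
    have hc2 : c * c = a * a := by
      rw [hc, ← map_mul, hfixc hne _ (hsq b), hb2]
    -- `P` is generated by `a` and `b`
    have hab : closure ({a, b} : Set P) = ⊤ := by
      rw [eq_top_iff, ← hR0]
      refine (closure_le _).mpr ?_
      rintro _ ⟨u, rfl⟩
      have ham : a ∈ closure ({a, b} : Set P) := subset_closure (by simp)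
      have hbm : b ∈ closure ({a, b} : Set P) := subset_closure (by simp)
      have hcm : c ∈ closure ({a, b} : Set P) := by
        rw [eq_inv_of_mul_eq_one_right habc]
        exact inv_mem (mul_mem ham hbm)
      have key : ∀ w z : P, z ∈ center P → w⁻¹ * u = z → u⁻¹ * α u = w⁻¹ * α w := by
        intro w z hz e
        obtain rfl : u = w * z := by rw [← e]; group
        rw [map_mul, hfixc hne z hz, mul_inv_rev]
        have hzc := mem_center_iff.mp (inv_mem hz) (w⁻¹ * α w)
        calc z⁻¹ * w⁻¹ * (α w * z) = z⁻¹ * (w⁻¹ * α w) * z := by group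
          _ = w⁻¹ * α w := by rw [← hzc]; group
      show u⁻¹ * α u ∈ closure ({a, b} : Set P)
      rcases hcoset v hv u with h | h | h | h
      · rw [hfixc hne u h, inv_mul_cancel]
        exact one_mem _
      · rwa [key v _ h rfl]
      · rw [key _ _ h rfl]
        simpa [hb, ha, map_mul, map_inv] using hbm
      · rw [key _ _ h rfl]
        simpa [hc, hb, ha, map_mul, map_inv] using hcm
    -- the commutator is a power of `a`
    have he : ⁅b, a⁆ ∈ zpowers a := by
      have h1 : b * a = ⁅b, a⁆ * (a * b) := by rw [commutatorElement_def]; group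
      have hec := mem_center_iff.mp (hDc b a)
      have h2 : c = (a * b)⁻¹ := eq_inv_of_mul_eq_one_right habc
      have h3 : (a * b) * (a * b) = (a * a)⁻¹ := by
        have h4 := congrArg (·⁻¹) hc2
        simp only [h2, mul_inv_rev, inv_inv] at h4
        simpa [mul_inv_rev, mul_assoc] using h4
      have h5 : (a * b) * (a * b) = ⁅b, a⁆ * ((a * a) * (b * b)) := by
        calc (a * b) * (a * b) = a * (b * a) * b := by group
          _ = a * (⁅b, a⁆ * (a * b)) * b := by rw [h1]
          _ = (a * ⁅b, a⁆) * (a * b * b) := by group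
          _ = ⁅b, a⁆ * ((a * a) * (b * b)) := by rw [hec]; group
      have h6 : ⁅b, a⁆ = (a * a)⁻¹ * ((a * a) * (b * b))⁻¹ := by
        rw [← h3, h5]; group
      rw [h6, hb2]
      have := mem_zpowers a
      exact mul_mem (inv_mem (mul_mem this this)) (inv_mem (mul_mem (mul_mem this this) (mul_mem this this)))
    haveI hnA : (zpowers a).Normal := by
      rw [← normalizer_eq_top_iff, eq_top_iff, ← hab, closure_le]
      have hb' : b * a * b⁻¹ ∈ zpowers a := by
        have : b * a * b⁻¹ = ⁅b, a⁆ * a := by rw [commutatorElement_def]; group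
        rw [this]
        exact mul_mem he (mem_zpowers a)
      rintro x (rfl | rfl)
      · exact le_normalizer (mem_zpowers _)
      · refine mem_normalizer_iff_map_conj_eq.mpr ?_
        refine eq_of_le_of_card_ge ?_ (le_of_eq (Nat.card_congr
          ((zpowers a).equivMapOfInjective _ (MulEquiv.injective _)).toEquiv))
        rw [MonoidHom.map_zpowers, zpowers_le]
        simpa using hb'
    have hZa : center P ≤ zpowers a := by
      intro z hz
      have hz' : z ∈ zpowers a ⊔ zpowers b := (closure_le (zpowers a ⊔ zpowers b)).mpr (by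
        rintro x (rfl | rfl)
        · exact mem_sup_left (mem_zpowers _)
        · exact mem_sup_right (mem_zpowers _)) (hab ▸ mem_top z)
      obtain ⟨y, hy, w, hw, rfl⟩ := mem_sup_of_normal_left.mp hz'
      obtain ⟨i, rfl⟩ := mem_zpowers_iff.mp hw
      have hbb : ∀ j : ℤ, (b * b) ^ j ∈ zpowers a := fun j => zpow_mem (hb2 ▸ mul_mem (mem_zpowers a) (mem_zpowers a)) j
      rcases Int.even_or_odd i with ⟨j, rfl⟩ | ⟨j, rfl⟩
      · refine mul_mem hy ?_
        rw [zpow_add, ← (Commute.refl b).mul_zpow]
        exact hbb j
      · exfalso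
        obtain ⟨k, rfl⟩ := mem_zpowers_iff.mp hy
        have hbin : b ∈ center P ⊔ zpowers a := by
          have e : b = (b * b) ^ (-j) * (a ^ k)⁻¹ * (a ^ k * b ^ (2 * j + 1)) := by
            rw [(Commute.refl b).mul_zpow]; group
          rw [e]
          exact mul_mem (mul_mem (mem_sup_right (hbb _)) (mem_sup_right (inv_mem (zpow_mem (mem_zpowers a) k))))
            (mem_sup_left hz)
        exact haZ (hline a hbin)
    -- a conjugate of `zpowers a` is `M`
    obtain ⟨m, hm, hmZ⟩ : ∃ m ∈ M, m ∉ center P := by
      by_contra h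
      push Not at h
      rw [le_antisymm h hM, hindex] at hM2
      omega
    obtain ⟨i, hi⟩ : ∃ i : ℕ, (α ^ i) a ∈ M := by
      rcases hcoset a haZ m with h | h | h | h
      · exact absurd h hmZ
      all_goals
        have h' := mul_mem hm (inv_mem (hM h))
        rw [mul_inv_rev, inv_inv, mul_inv_cancel_left] at h'
      · exact ⟨0, by simpa using h'⟩
      · exact ⟨1, by simpa using h'⟩
      · exact ⟨2, by simpa [pow_succ] using h'⟩
    let K := (zpowers a).map (α ^ i).toMonoidHom
    have hKM : K ≤ M := by
      rw [show K = zpowers ((α ^ i) a) from MonoidHom.map_zpowers _ a]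
      exact zpowers_le.mpr hi
    have hidx : (zpowers a).index = 2 := by
      have hd : (zpowers a).index ∣ 4 := hindex ▸ index_dvd_of_le hZa
      have hn1 : (zpowers a).index ≠ 1 := fun e => by
        have ht := index_eq_one.mp e
        refine haZ (mem_center_iff.mpr fun x => ?_)
        obtain ⟨j, rfl⟩ := mem_zpowers_iff.mp (ht ▸ mem_top x)
        exact ((Commute.refl a).zpow_left j).eq
      have hn4 : (zpowers a).index ≠ 4 := fun e => by
        have h1 := Subgroup.relIndex_mul_index hZa
        rw [hindex, e] at h1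
        have h2 : (center P).relIndex (zpowers a) = 1 := by omega
        exact haZ (relIndex_eq_one.mp h2 (mem_zpowers a))
      have hle : (zpowers a).index ≤ 4 := Nat.le_of_dvd (by norm_num) hd
      interval_cases h : (zpowers a).index <;> omega
    have hKidx : K.index = 2 := (index_map_equiv _ (α ^ i)).trans hidx
    have hKeq : K = M := by
      refine le_antisymm hKM (relIndex_eq_one.mp ?_)
      have h1 := relIndex_mul_index hKM
      rw [hKidx, hM2] at h1
      omega
    rw [← hKeq]
    exact isCyclic_of_surjective ((zpowers a).equivMapOfInjective _ (α ^ i).injective).toMonoidHom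
      ((zpowers a).equivMapOfInjective _ (α ^ i).injective).surjective

end

end Cfsg.Agent.Lib.PGroups.SchmidtSylow
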