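import Mathlib
import Cfsg.Agent.Lib.PGroups.SchmidtSylow
import Cfsg.Agent.Lib.PLength.Basic
import Cfsg.Agent.Lib.Blocks.PSolvable
import Cfsg.Agent.Lib.BlockHeights.PConstrainedCores
import Cfsg.Agent.Lib.Characters.PSolvableTI
import Cfsg.Agent.Lib.Coprime.Action
import Cfsg.Agent.Lib.Coprime.Basic
import Cfsg.Agent.S1324

/-!
A `p`-solvable group whose Sylow `p`-subgroup is of the type of a normal Sylow subgroup of a minimal
non-nilpotent group has `p`-length at most one.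
-/

set_option autoImplicit false

namespace Cfsg.Agent.Lib.PGroups.SchmidtPLength

open Cfsg.Agent.Lib
open Cfsg.Agent.Lib.PGroups.SchmidtSylow
open scoped commutatorElement
open Subgroup

theorem mul_comm' {H : Type*} [Group H] [IsMulCommutative H] (a b : H) : a * b = b * a :=
  IsMulCommutative.is_comm.comm a b

universe u
variable {G : Type u} [Group G] [Finite G] {p : ℕ} [hp : Fact p.Prime]

omit [Finite G] in
theorem zpow_congr {e : G} (he : e ^ p = 1) {a b : ℤ} (h : (a : ZMod p) = b) : e ^ a = e ^ b := by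
  obtain ⟨c, hc⟩ := (ZMod.intCast_eq_intCast_iff_dvd_sub a b p).mp h
  rw [show b = a + (p : ℤ) * c by omega, zpow_add, zpow_mul, zpow_natCast, he, one_zpow, mul_one]

omit [Finite G] hp in
/-- The group generated by `w` and a normalized subgroup. -/
theorem mem_sup_zpowers {N : Subgroup G} {w : G} (hw : w ∈ normalizer (N : Set G)) {x : G}
    (hx : x ∈ N ⊔ zpowers w) : ∃ n ∈ N, ∃ i : ℤ, x = n * w ^ i := by
  obtain ⟨n, hn, y, hy, e⟩ := Coprime.exists_mul_of_mem_sup (zpowers_le.mpr hw) hx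
  obtain ⟨i, rfl⟩ := mem_zpowers_iff.mp hy
  exact ⟨n, hn, i, e⟩

/-- The elements fixing `W` and acting trivially on `U / W`. -/
def Stab (U W : Subgroup G) (g : G) : Prop :=
  (∀ w ∈ W, g * w = w * g) ∧ ∀ u ∈ U, g * u * g⁻¹ * u⁻¹ ∈ W

omit [Finite G] hp in
theorem Stab.mul {U W : Subgroup G} {g h : G} (hg : Stab U W g) (hh : Stab U W h) :
    Stab U W (g * h) := by
  refine ⟨fun w hw => by rw [mul_assoc, hh.1 w hw, ← mul_assoc, hg.1 w hw, mul_assoc], fun u hu => ?_⟩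
  have e : g * (h * u * h⁻¹ * u⁻¹) * g⁻¹ = h * u * h⁻¹ * u⁻¹ := by
    rw [hg.1 _ (hh.2 u hu), mul_inv_cancel_right]
  have : g * h * u * (g * h)⁻¹ * u⁻¹ = (h * u * h⁻¹ * u⁻¹) * (g * u * g⁻¹ * u⁻¹) := by
    calc g * h * u * (g * h)⁻¹ * u⁻¹ = g * (h * u * h⁻¹ * u⁻¹) * g⁻¹ * (g * u * g⁻¹ * u⁻¹) := by group
      _ = _ := by rw [e]
  rw [this]
  exact mul_mem (hh.2 u hu) (hg.2 u hu)

omit [Finite G] hp in
theorem Stab.one (U W : Subgroup G) : Stab U W 1 := ⟨fun w _ => by simp, fun u _ => by simp⟩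

omit [Finite G] hp in
theorem Stab.inv {U W : Subgroup G} {g : G} (hg : Stab U W g) : Stab U W g⁻¹ := by
  have hi : ∀ w ∈ W, g⁻¹ * w = w * g⁻¹ := fun w hw => (Commute.inv_left (hg.1 w hw)).eq
  refine ⟨hi, fun u hu => ?_⟩
  have : g⁻¹ * u * g⁻¹⁻¹ * u⁻¹ = (g * u * g⁻¹ * u⁻¹)⁻¹ := by
    calc g⁻¹ * u * g⁻¹⁻¹ * u⁻¹ = g⁻¹ * (g * u * g⁻¹ * u⁻¹)⁻¹ * g := by group
      _ = _ := by rw [hi _ (inv_mem (hg.2 u hu)), inv_mul_cancel_right]
  rw [this]
  exact inv_mem (hg.2 u hu)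

omit [Finite G] hp in
theorem Stab.pow {U W : Subgroup G} {g : G} (hg : Stab U W g) : ∀ n : ℕ, Stab U W (g ^ n)
  | 0 => by rw [pow_zero]; exact Stab.one U W
  | n + 1 => by rw [pow_succ]; exact (Stab.pow hg n).mul hg

omit [Finite G] hp in
theorem Stab.conj {U W : Subgroup G} {g k : G} (hg : Stab U W g) (hU : k ∈ normalizer (U : Set G))
    (hW : k ∈ normalizer (W : Set G)) : Stab U W (k * g * k⁻¹) := by
  refine ⟨fun w hw => ?_, fun u hu => ?_⟩
  · have h := hg.1 _ ((mem_normalizer_iff''.mp hW w).mp hw)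
    calc k * g * k⁻¹ * w = k * (g * (k⁻¹ * w * k)) * k⁻¹ := by group
      _ = w * (k * g * k⁻¹) := by rw [h]; group
  · have h := (mem_normalizer_iff.mp hW _).mp (hg.2 _ ((mem_normalizer_iff''.mp hU u).mp hu))
    have : k * g * k⁻¹ * u * (k * g * k⁻¹)⁻¹ * u⁻¹ =
        k * (g * (k⁻¹ * u * k) * g⁻¹ * (k⁻¹ * u * k)⁻¹) * k⁻¹ := by group
    rw [this]; exact h

/-- Stabilizing a chain of `O_p(G)` cannot be done by elements whose image has order prime to `p`. -/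
theorem stab_false {U W : Subgroup G} [U.Normal] (hUp : IsPGroup p U)
    (hC : centralizer (U : Set G) ≤ U) (hWU : W ≤ U)
    (hUW : U ≤ centralizer (W : Set G)) {g : G} (hg : Stab U W g)
    (hord : (orderOf (QuotientGroup.mk' U g)).Coprime p) : QuotientGroup.mk' U g = 1 := by
  obtain ⟨a, m, hm, hgm⟩ := Nat.exists_eq_pow_mul_and_not_dvd (orderOf_pos g).ne' p hp.out.ne_one
  set g' := g ^ (p ^ a) with hg'
  have hg'U : g' ∈ U := by
    refine hC ?_
    have hcop : (Nat.card (zpowers g')).Coprime (Nat.card W) := by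
      obtain ⟨j, hj⟩ := (hUp.to_le hWU).exists_card_eq
      rw [Nat.card_zpowers, hj, hg', orderOf_pow, hgm, Nat.gcd_mul_right_left,
        Nat.mul_div_cancel_left _ (pow_pos hp.out.pos a)]
      exact Nat.Coprime.pow_right j ((hp.out.coprime_iff_not_dvd.mpr hm).symm)
    have hst : ∀ b ∈ zpowers g', Stab U W b := by
      intro b hb
      obtain ⟨n, rfl⟩ := mem_powers_iff_mem_zpowers.mpr hb
      exact (hg.pow _).pow _
    refine Coprime.le_centralizer_of_stabilizes (A := zpowers g') (K := U) (N := W) ?_ ?_ hcop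
      (fun b hb u hu => (hst b hb).2 u hu) ?_ (mem_zpowers g')
    · refine zpowers_le.mpr (centralizer_le_normalizer _ ?_)
      exact mem_centralizer_iff.mpr fun w hw => ((hst g' (mem_zpowers g')).1 w hw).symm
    · exact hUW.trans (centralizer_le_normalizer _)
    · intro b hb
      exact mem_centralizer_iff.mpr fun w hw => ((hst b hb).1 w hw).symm
  have h1 : (QuotientGroup.mk' U g) ^ (p ^ a) = 1 := by
    rw [← map_pow]; exact (QuotientGroup.eq_one_iff _).mpr hg'U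
  exact orderOf_eq_one_iff.mp (Nat.eq_one_of_dvd_coprimes (hord.pow_right a) dvd_rfl
    (orderOf_dvd_of_pow_eq_one h1))

omit [Finite G] hp in
theorem conj_zpow_eq (g a : G) (n : ℤ) : g * a ^ n * g⁻¹ = (g * a * g⁻¹) ^ n :=
  map_zpow (MulAut.conj g) a n

omit [Finite G] hp in
/-- Powers of a transvection. -/
theorem transvection_zpow {e e' x : G} (hee : e * e' = e' * e) (hxe : x * e = e * x) {m : ℤ}
    (hxe' : x * e' * x⁻¹ = e ^ m * e') (n i j : ℤ) :
    MulAut.conj (x ^ n) (e ^ i * e' ^ j) = e ^ (i + n * m * j) * e' ^ j := by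
  have step : ∀ i j : ℤ, MulAut.conj x (e ^ i * e' ^ j) = e ^ (i + m * j) * e' ^ j := by
    intro i j
    have hc : Commute (e ^ m) e' := (Commute.zpow_left hee m)
    rw [map_mul, map_zpow, map_zpow, MulAut.conj_apply, MulAut.conj_apply,
      show x * e * x⁻¹ = e by rw [hxe, mul_inv_cancel_right], hxe', hc.mul_zpow, ← zpow_mul, ← mul_assoc,
      ← zpow_add]
  induction n using Int.induction_on generalizing i j with
  | zero => simp
  | succ n ih =>
    rw [zpow_add_one, map_mul MulAut.conj, MulAut.mul_apply, step, ih]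
    congr 2
    ring
  | pred n ih =>
    apply (MulAut.conj x).injective
    rw [step, ← MulAut.mul_apply, ← map_mul MulAut.conj, ← zpow_one_add, add_sub_cancel, ih]
    congr 2
    ring

omit [Finite G] in
/-- Two opposite transvections generate an element which, modulo anything abelian, is a non-trivial
power of one of them and which acts trivially. -/
theorem matrix_false (hp2 : p ≠ 2) (hp3 : p ≠ 3) {e e' x x' : G} (he : e ^ p = 1) (he' : e' ^ p = 1)
    (hee : e * e' = e' * e) (hxe : x * e = e * x) (hxe' : x' * e' = e' * x')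
    {m m' : ℤ} (hm : x * e' * x⁻¹ = e ^ m * e') (hm' : x' * e * x'⁻¹ = e' ^ m' * e)
    (hm0 : (m : ZMod p) ≠ 0) (hm0' : (m' : ZMod p) ≠ 0) :
    ∃ h : G, h * e = e * h ∧ h * e' = e' * h ∧ (∀ z, x * z = z * x → x' * z = z * x' → h * z = z * h) ∧
      ∀ {H : Type u} [Group H] (φ : G →* H), φ x' = φ x → ∃ n : ℤ, φ h = φ x ^ n ∧ (n : ZMod p) ≠ 0 := by
  obtain ⟨h2, hh2⟩ : ∃ h2 : ℤ, 2 * h2 = (p : ℤ) + 1 := by
    obtain ⟨k, hk⟩ := hp.out.odd_of_ne_two hp2
    exact ⟨(k : ℤ) + 1, by omega⟩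
  have hhz : (2 : ZMod p) * (h2 : ZMod p) = 1 := by
    have := congrArg (Int.cast : ℤ → ZMod p) hh2
    push_cast at this
    simpa using this
  obtain ⟨a, ha⟩ := ZMod.intCast_surjective ((m : ZMod p)⁻¹)
  obtain ⟨b, hb⟩ := ZMod.intCast_surjective ((m' : ZMod p)⁻¹)
  have ham : (a : ZMod p) * m = 1 := by rw [ha, inv_mul_cancel₀ hm0]
  have hbm : (b : ZMod p) * m' = 1 := by rw [hb, inv_mul_cancel₀ hm0']
  have hX : ∀ n i j : ℤ, MulAut.conj (x ^ (a * n)) (e ^ i * e' ^ j) = e ^ (i + n * j) * e' ^ j := by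
    intro n i j
    rw [transvection_zpow hee hxe hm]
    congr 1
    refine zpow_congr he ?_
    push_cast
    linear_combination ((n : ZMod p) * j) * ham
  have hY : ∀ n i j : ℤ, MulAut.conj (x' ^ (b * n)) (e ^ i * e' ^ j) = e ^ i * e' ^ (j + n * i) := by
    intro n i j
    have hc : ∀ i j : ℤ, e ^ i * e' ^ j = e' ^ j * e ^ i := fun i j =>
      ((Commute.zpow_zpow hee i j)).eq
    rw [hc, transvection_zpow hee.symm hxe' hm', hc i]
    congr 1
    refine zpow_congr he' ?_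
    push_cast
    linear_combination ((n : ZMod p) * i) * hbm
  set d := x ^ (a * 2) * x' ^ (b * -h2) * x ^ (a * 2) * x ^ (a * -1) * x' ^ (b * 1) * x ^ (a * -1) with hd
  have key : ∀ i j : ℤ, MulAut.conj (d * x ^ (a * 1)) (e ^ i * e' ^ j) =
      MulAut.conj (x ^ (a * 4) * d) (e ^ i * e' ^ j) := by
    intro i j
    simp only [hd, map_mul MulAut.conj, MulAut.mul_apply, hX, hY]
    congr 1 <;> [refine zpow_congr he ?_; refine zpow_congr he' ?_]
    · push_cast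
      ring_nf
      linear_combination (4 * ((i : ZMod p) - j)) * hhz
    · push_cast
      ring_nf
      linear_combination (-(j : ZMod p)) * hhz
  refine ⟨(d * x ^ (a * 1))⁻¹ * (x ^ (a * 4) * d), ?_, ?_, ?_, ?_⟩
  · have h := key 1 0
    rw [zpow_one, zpow_zero, mul_one e] at h
    have : MulAut.conj ((d * x ^ (a * 1))⁻¹ * (x ^ (a * 4) * d)) e = e := by
      rw [map_mul, MulAut.mul_apply, ← h, map_inv, MulAut.inv_apply_self]
    rw [MulAut.conj_apply] at this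
    exact mul_inv_eq_iff_eq_mul.mp this
  · have h := key 0 1
    rw [zpow_one, zpow_zero, one_mul e'] at h
    have : MulAut.conj ((d * x ^ (a * 1))⁻¹ * (x ^ (a * 4) * d)) e' = e' := by
      rw [map_mul, MulAut.mul_apply, ← h, map_inv, MulAut.inv_apply_self]
    rw [MulAut.conj_apply] at this
    exact mul_inv_eq_iff_eq_mul.mp this
  · intro z hz hz'
    have h1 : ∀ n : ℤ, Commute (x ^ n) z := fun n => Commute.zpow_left hz n
    have h2' : ∀ n : ℤ, Commute (x' ^ n) z := fun n => Commute.zpow_left hz' n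
    have hdz : Commute d z :=
      (((((h1 _).mul_left (h2' _)).mul_left (h1 _)).mul_left (h1 _)).mul_left (h2' _)).mul_left (h1 _)
    exact ((hdz.mul_left (h1 _)).inv_left.mul_left ((h1 _).mul_left hdz)).eq
  · intro H _ φ hφ
    refine ⟨-a + a * 4, ?_, ?_⟩
    · have hpow : ∀ n : ℤ, φ (x ^ n) = φ x ^ n := fun n => map_zpow φ x n
      have hpow' : ∀ n : ℤ, φ (x' ^ n) = φ x ^ n := fun n => by rw [map_zpow, hφ]
      simp only [hd, map_mul, map_inv, hpow, hpow', ← zpow_add, ← zpow_neg]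
      congr 1
      ring
    · have h3 : (3 : ZMod p) ≠ 0 := by
        intro h
        have : ((3 : ℕ) : ZMod p) = 0 := by exact_mod_cast h
        rw [ZMod.natCast_eq_zero_iff] at this
        exact hp3 ((Nat.prime_dvd_prime_iff_eq hp.out Nat.prime_three).mp this)
      intro h
      push_cast at h
      have h' : (a : ZMod p) * 3 = 0 := by linear_combination h
      rcases mul_eq_zero.mp h' with h'' | h''
      · rw [h'', zero_mul] at ham; exact zero_ne_one ham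
      · exact h3 h''

theorem card_sup_zpowers_prime {N : Subgroup G} {w : G} (hw : w ∈ normalizer (N : Set G))
    (hwN : w ∉ N) (hwp : w ^ p ∈ N) : Nat.card (N ⊔ zpowers w : Subgroup G) = Nat.card N * p := by
  let f : N × Fin p → (N ⊔ zpowers w : Subgroup G) := fun q =>
    ⟨(q.1 : G) * w ^ (q.2 : ℕ), mul_mem (mem_sup_left q.1.2) (mem_sup_right (pow_mem (mem_zpowers w) _))⟩
  have hbij : Function.Bijective f := by
    constructor
    · rintro ⟨n, i⟩ ⟨n', i'⟩ h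
      have h' : (n : G) * w ^ (i : ℕ) = (n' : G) * w ^ (i' : ℕ) := congrArg Subtype.val h
      have hk : w ^ ((i : ℤ) - (i' : ℤ)) ∈ N := by
        have : w ^ ((i : ℤ) - (i' : ℤ)) = (n : G)⁻¹ * n' := by
          rw [zpow_sub, zpow_natCast, zpow_natCast, mul_inv_eq_iff_eq_mul]
          rw [mul_assoc, ← h', inv_mul_cancel_left]
        rw [this]; exact mul_mem (inv_mem n.2) n'.2
      by_cases hii : i = i'
      · subst hii
        exact Prod.ext (Subtype.ext (mul_right_cancel h')) rfl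
      · exfalso
        refine hwN ?_
        have hndvd : ¬ (p : ℤ) ∣ ((i : ℤ) - i') := fun hd => hii (Fin.ext (by
          have := Int.eq_zero_of_abs_lt_dvd hd (by rw [abs_lt]; constructor <;> omega)
          omega))
        obtain ⟨u, v, huv⟩ := ((Nat.prime_iff_prime_int.mp hp.out).coprime_iff_not_dvd.mpr hndvd)
        have e : w = (w ^ p) ^ u * (w ^ ((i : ℤ) - i')) ^ v := by
          rw [← zpow_natCast, ← zpow_mul, ← zpow_mul, ← zpow_add,
            show (p : ℤ) * u + ((i : ℤ) - i') * v = 1 by linarith, zpow_one]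
        rw [e]
        exact mul_mem (zpow_mem hwp u) (zpow_mem hk v)
    · rintro ⟨x, hx⟩
      obtain ⟨n, hn, i, rfl⟩ := mem_sup_zpowers hw hx
      have hp0 : (p : ℤ) ≠ 0 := by exact_mod_cast hp.out.ne_zero
      refine ⟨(⟨n * (w ^ p) ^ (i / p), mul_mem hn (zpow_mem hwp _)⟩, ⟨(i % p).toNat, ?_⟩), Subtype.ext ?_⟩
      · have := Int.emod_lt_of_pos i (by exact_mod_cast hp.out.pos : (0 : ℤ) < p)
        have := Int.emod_nonneg i hp0
        omega
      · show n * (w ^ p) ^ (i / p) * w ^ ((i % p).toNat) = n * w ^ i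
        rw [← zpow_natCast w ((i % p).toNat), Int.toNat_of_nonneg (Int.emod_nonneg i hp0), ← zpow_natCast,
          ← zpow_mul, mul_assoc, ← zpow_add, Int.mul_ediv_add_emod]
  rw [← Nat.card_congr (Equiv.ofBijective f hbij), Nat.card_prod, Nat.card_fin]

omit [Finite G] hp in
/-- The `p`-th power of the quotient of two transvections with the same centre stabilizes a chain. -/
theorem stab_pow_div {U Zc Zk : Subgroup G} (hUab : ∀ a ∈ U, ∀ b ∈ U, a * b = b * a) (hZcU : Zc ≤ U)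
    (hZkU : Zk ≤ U) {x x' e e' : G} (hx : ∀ z ∈ Zc, x * z = z * x) (hx' : ∀ z ∈ Zk, x' * z = z * x')
    (he : e ∈ Zc ⊓ Zk) (he' : e' ∈ Zk) (he'p : e' ^ p = 1)
    (hxU : ∀ u ∈ U, x * u * x⁻¹ * u⁻¹ ∈ zpowers e) (hx'U : ∀ u ∈ U, x' * u * x'⁻¹ * u⁻¹ ∈ zpowers e') :
    Stab U (Zc ⊓ Zk) ((x' * x⁻¹) ^ p) := by
  set g := x' * x⁻¹ with hg
  have hS : Stab U (zpowers e) x := ⟨fun w hw => hx w (zpowers_le.mpr (mem_inf.mp he).1 hw), hxU⟩
  have hfix : ∀ c ∈ Zc ⊓ Zk, g * c = c * g := fun c hc => by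
    have h1 : x⁻¹ * c = c * x⁻¹ := (Commute.inv_left (hx c hc.1)).eq
    rw [hg, mul_assoc, h1, ← mul_assoc, hx' c hc.2, mul_assoc]
  -- one step
  have step : ∀ u ∈ U, ∃ a ∈ Zc ⊓ Zk, ∃ b ∈ zpowers e', g * u * g⁻¹ = a * b * u := by
    intro u hu
    refine ⟨x⁻¹ * u * x⁻¹⁻¹ * u⁻¹, zpowers_le.mpr he (hS.inv.2 u hu), x' * u * x'⁻¹ * u⁻¹, hx'U u hu, ?_⟩
    have e0 := hx' _ ((zpowers_le.mpr (mem_inf.mp he).2) (hS.inv.2 u hu))
    calc g * u * g⁻¹ = x' * (x⁻¹ * u * x⁻¹⁻¹ * u⁻¹) * u * x'⁻¹ := by rw [hg]; group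
      _ = (x⁻¹ * u * x⁻¹⁻¹ * u⁻¹) * x' * u * x'⁻¹ := by rw [e0]
      _ = _ := by group
  have he'U : zpowers e' ≤ U := zpowers_le.mpr (hZkU he')
  have hgb : ∀ b ∈ zpowers e', ∃ a ∈ Zc ⊓ Zk, g * b * g⁻¹ = a * b := by
    intro b hb
    refine ⟨x⁻¹ * b * x⁻¹⁻¹ * b⁻¹, zpowers_le.mpr he (hS.inv.2 b (he'U hb)), ?_⟩
    have e0 := hx' _ ((zpowers_le.mpr (mem_inf.mp he).2) (hS.inv.2 b (he'U hb)))
    have e1 := hx' b (zpowers_le.mpr he' hb)
    calc g * b * g⁻¹ = x' * (x⁻¹ * b * x⁻¹⁻¹ * b⁻¹) * b * x'⁻¹ := by rw [hg]; group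
      _ = (x⁻¹ * b * x⁻¹⁻¹ * b⁻¹) * (x' * b) * x'⁻¹ := by rw [e0]; group
      _ = _ := by rw [e1]; group
  have hn : ∀ u ∈ U, ∀ b ∈ zpowers e', ∀ a ∈ Zc ⊓ Zk, g * u * g⁻¹ = a * b * u → ∀ n : ℕ,
      ∃ c ∈ Zc ⊓ Zk, g ^ n * u * (g ^ n)⁻¹ = c * b ^ n * u := by
    intro u hu b hb a ha e n
    induction n with
    | zero => exact ⟨1, one_mem _, by simp⟩
    | succ n ih =>
      obtain ⟨c, hc, hc'⟩ := ih
      obtain ⟨a', ha', hab⟩ := hgb b hb
      refine ⟨c * a' ^ n * a, mul_mem (mul_mem hc (pow_mem ha' n)) ha, ?_⟩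
      have hbU := he'U hb
      have haU : a ∈ U := hZcU (mem_inf.mp ha).1
      have ha'U : a' ∈ U := hZcU (mem_inf.mp ha').1
      have h1 : (a' * b) ^ n = a' ^ n * b ^ n := Commute.mul_pow (hUab a' ha'U b hbU) n
      calc g ^ (n + 1) * u * (g ^ (n + 1))⁻¹ = g * (g ^ n * u * (g ^ n)⁻¹) * g⁻¹ := by
            rw [pow_succ']; group
        _ = (g * c) * g⁻¹ * (g * b ^ n * g⁻¹) * (g * u * g⁻¹) := by rw [hc']; group
        _ = c * (g * b ^ n * g⁻¹) * (g * u * g⁻¹) := by rw [hfix c hc]; group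
        _ = c * (a' * b) ^ n * (a * b * u) := by rw [← conj_pow, hab, e]
        _ = c * a' ^ n * (b ^ n * a) * b * u := by rw [h1]; group
        _ = c * a' ^ n * a * b ^ (n + 1) * u := by
            rw [hUab _ (pow_mem hbU n) _ haU, pow_succ]; group
  refine ⟨fun c hc => (Commute.pow_left (hfix c hc) p).eq, fun u hu => ?_⟩
  obtain ⟨a, ha, b, hb, e⟩ := step u hu
  obtain ⟨c, hc, hc'⟩ := hn u hu b hb a ha e p
  obtain ⟨i, rfl⟩ := mem_zpowers_iff.mp hb
  rw [hc', ← zpow_natCast, ← zpow_mul, mul_comm, zpow_mul, zpow_natCast, he'p, one_zpow, mul_one,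
    mul_inv_cancel_right]
  exact hc

/-- A subgroup of index `p` above `U` whose image has a non-trivial coprime centralizer. -/
theorem exists_setup {Q U : Subgroup G} [U.Normal] (hQp : IsPGroup p Q) (hUQ : U ≤ Q) (hQU : ¬ Q ≤ U)
    (hab : ∀ a ∈ Q, ∀ b ∈ Q, ⁅a, b⁆ ∈ U) (hpow : ∀ a ∈ Q, a ^ p ∈ U)
    (hK : centralizer (Cfsg.pPrimeCore p (G ⧸ U) : Set (G ⧸ U)) ≤ Cfsg.pPrimeCore p (G ⧸ U)) :
    ∃ (M : Subgroup G) (x k : G), U ≤ M ∧ M ≤ Q ∧ x ∈ Q ∧ (∀ q ∈ Q, ∃ i : ℤ, q * x ^ i ∈ M) ∧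
      QuotientGroup.mk' U k ∈ Cfsg.pPrimeCore p (G ⧸ U) ∧
      (∀ m ∈ M, Commute (QuotientGroup.mk' U k) (QuotientGroup.mk' U m)) ∧
      ¬ Commute (QuotientGroup.mk' U k) (QuotientGroup.mk' U x) := by
  set π := QuotientGroup.mk' U with hπ
  set A := Q.map π with hA
  set X := Cfsg.pPrimeCore p (G ⧸ U) with hX
  have hAe : Cfsg.IsElementaryAbelian p A := by
    refine ⟨⟨⟨?_⟩⟩, ?_⟩
    · rintro ⟨_, a, ha, rfl⟩ ⟨_, b, hb, rfl⟩
      apply Subtype.ext
      show π a * π b = π b * π a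
      have h1 : π ⁅a, b⁆ = 1 := (QuotientGroup.eq_one_iff _).mpr (hab a ha b hb)
      rw [map_commutatorElement] at h1
      exact (commutatorElement_eq_one_iff_mul_comm.mp h1)
    · rintro _ ⟨a, ha, rfl⟩
      rw [← map_pow]
      exact (QuotientGroup.eq_one_iff _).mpr (hpow a ha)
  have hXp : ¬ p ∣ Nat.card X := fun hd => by
    have := (Cores.pPrimeCore_coprime p (G ⧸ U)).coprime_dvd_left hd
    rw [Nat.coprime_self] at this
    exact hp.out.ne_one this
  have hnc : ∀ a ∈ A, a ≠ 1 → ∃ k ∈ X, ¬ Commute k a := by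
    intro a ha ha1
    by_contra h
    push Not at h
    have haX : a ∈ X := hK (mem_centralizer_iff.mpr fun k hk => (h k hk).eq)
    have h1 : orderOf a ∣ Nat.card X := by
      rw [← orderOf_mk a haX]; exact orderOf_dvd_natCard _
    have h2 : orderOf a ∣ p := orderOf_dvd_of_pow_eq_one (hAe.2 a ha)
    rcases (Nat.dvd_prime hp.out).mp h2 with h3 | h3
    · exact ha1 (orderOf_eq_one_iff.mp h3)
    · exact hXp (h3 ▸ h1)
  obtain ⟨q0, hq0, hq0U⟩ := Set.not_subset.mp hQU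
  have ha0 : π q0 ∈ A := ⟨q0, hq0, rfl⟩
  have ha01 : π q0 ≠ 1 := fun h => hq0U ((QuotientGroup.eq_one_iff q0).mp h)
  -- a hyperplane
  obtain ⟨B, hBA, hBi, a, ha, haB, k, hk, hkB, hka⟩ : ∃ B : Subgroup (G ⧸ U), B ≤ A ∧ B.relIndex A = p ∧
      ∃ a ∈ A, a ∉ B ∧ ∃ k ∈ X, (∀ b ∈ B, Commute k b) ∧ ¬ Commute k a := by
    obtain ⟨n, hn⟩ := IsPGroup.iff_card.mp (show IsPGroup p A from hQp.map π)
    have hn0 : n ≠ 0 := fun h => by
      rw [h, pow_zero, card_eq_one] at hn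
      rw [hn, mem_bot] at ha0
      exact ha01 ha0
    by_cases hn1 : n = 1
    · obtain ⟨k, hk, hka⟩ := hnc _ ha0 ha01
      exact ⟨⊥, bot_le, by rw [relIndex_bot_left, hn, hn1, pow_one], _, ha0,
        by simpa using ha01, k, hk, fun b hb => by rw [mem_bot.mp hb]; exact Commute.one_right k, hka⟩
    · have h := Cfsg.Agent.S1324.result p A X hAe
        (hn ▸ Nat.pow_le_pow_right hp.out.pos (by omega)) hXp
        (by rw [normalizer_eq_top]; exact le_top)
      obtain ⟨⟨B, hBA, hBi⟩, k, hk, hka⟩ : ∃ (B : {B : Subgroup (G ⧸ U) // B ≤ A ∧ B.relIndex A ≤ p}),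
          ∃ k, k ∈ X ⊓ centralizer ((B : Subgroup (G ⧸ U)) : Set (G ⧸ U)) ∧ ¬ Commute k (π q0) := by
        by_contra hne
        push Not at hne
        have hle : X ≤ centralizer ({π q0} : Set (G ⧸ U)) := by
          rw [h]
          exact iSup_le fun B k hk => mem_centralizer_singleton_iff.mpr (hne B k hk).eq
        obtain ⟨k, hk, hka⟩ := hnc _ ha0 ha01
        exact hka (mem_centralizer_singleton_iff.mp (hle hk))
      have hqB : π q0 ∉ B := fun hb => hka (mem_centralizer_iff.mp hk.2 _ hb).symm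
      refine ⟨B, hBA, ?_, _, ha0, hqB, k, hk.1, fun b hb => (mem_centralizer_iff.mp hk.2 b hb).symm, hka⟩
      have hne1 : B.relIndex A ≠ 1 := fun e => hqB (relIndex_eq_one.mp e ha0)
      have hd : B.relIndex A ∣ p ^ n := hn ▸ relIndex_dvd_card B A
      obtain ⟨j, -, hj⟩ := (Nat.dvd_prime_pow hp.out).mp hd
      rcases Nat.lt_or_ge j 2 with hj2 | hj2
      · interval_cases j
        · exact absurd (by simpa using hj) hne1
        · simpa using hj
      · exfalso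
        have h2 := Nat.pow_le_pow_right hp.out.pos hj2
        have h4 := hp.out.two_le
        rw [hj] at hBi
        nlinarith
  obtain ⟨x, hx, rfl⟩ := ha
  obtain ⟨k, rfl⟩ := QuotientGroup.mk'_surjective U k
  refine ⟨Q ⊓ B.comap π, x, k, le_inf hUQ fun u hu => ?_, inf_le_left, hx, fun q hq => ?_, hk,
    fun m hm => hkB _ hm.2, hka⟩
  · show π u ∈ B
    rw [show π u = 1 from (QuotientGroup.eq_one_iff u).mpr hu]
    exact one_mem B
  · haveI := hAe.1
    have hxn : π x ∈ normalizer (B : Set (G ⧸ U)) := centralizer_le_normalizer _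
      (mem_centralizer_iff.mpr fun b hb => congrArg Subtype.val
        (mul_comm' (⟨b, hBA hb⟩ : A) ⟨π x, ⟨x, hx, rfl⟩⟩))
    have hsup : B ⊔ zpowers (π x) = A := by
      have hle : B ⊔ zpowers (π x) ≤ A := sup_le hBA (zpowers_le.mpr ⟨x, hx, rfl⟩)
      refine le_antisymm hle (relIndex_eq_one.mp ?_)
      have h1 := relIndex_mul_relIndex B _ A le_sup_left hle
      rw [hBi] at h1
      rcases (Nat.dvd_prime hp.out).mp (Dvd.intro_left _ h1) with h2 | h2
      · exact h2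
      · exfalso
        rw [h2] at h1
        have h3 : B.relIndex (B ⊔ zpowers (π x)) = 1 :=
          Nat.eq_of_mul_eq_mul_right hp.out.pos (by rw [h1, one_mul])
        exact haB (relIndex_eq_one.mp h3 (mem_sup_right (mem_zpowers _)))
    obtain ⟨b, hb, i, hi⟩ := mem_sup_zpowers (x := π q) hxn (by rw [hsup]; exact ⟨q, hq, rfl⟩)
    refine ⟨-i, mem_inf.mpr ⟨mul_mem hq (zpow_mem hx _), ?_⟩⟩
    show π (q * x ^ (-i)) ∈ B
    rw [map_mul, hi, map_zpow, mul_assoc, ← zpow_add, add_neg_cancel, zpow_zero, mul_one]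
    exact hb

/-- In a `p`-solvable group without `p'`-core a Sylow subgroup of Schmidt type is normal. -/
theorem sylow_le_pCore (hG : Cfsg.IsPSolvable p G) (hcore : Cfsg.pPrimeCore p G = ⊥) (S : Sylow p G)
    (hgood : Good p ↥(S : Subgroup G)) : (S : Subgroup G) ≤ Cfsg.pCore p G := by
  by_contra hQU
  set Q : Subgroup G := (S : Subgroup G) with hQ
  set U := Cfsg.pCore p G with hU
  haveI hUn : U.Normal := Cfsg.pCore_normal p G
  have hUp : IsPGroup p U := Cores.pCore_isPGroup p G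
  have hUQ : U ≤ Q := Cores.pCore_le_sylow S
  have hC : centralizer (U : Set G) ≤ U := Blocks.centralizer_pCore_le_of_isPSolvable p hG hcore
  set Zc := (center ↥Q).map Q.subtype with hZc
  have hZmem : ∀ z, z ∈ Zc ↔ z ∈ Q ∧ ∀ q ∈ Q, q * z = z * q := by
    intro z
    constructor
    · rintro ⟨z, hz, rfl⟩
      exact ⟨z.2, fun q hq => congrArg Subtype.val (mem_center_iff.mp hz ⟨q, hq⟩)⟩
    · rintro ⟨hz, h⟩
      exact ⟨⟨z, hz⟩, mem_center_iff.mpr fun q => Subtype.ext (h q q.2), rfl⟩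
  have hZU : Zc ≤ U := fun z hz => hC (mem_centralizer_iff.mpr fun u hu => ((hZmem z).mp hz).2 u (hUQ hu))
  have hZQ : ∀ z ∈ Zc, ∀ q ∈ Q, q * z = z * q := fun z hz => ((hZmem z).mp hz).2
  have hcm : ∀ a ∈ Q, ∀ b ∈ Q, ⁅a, b⁆ ∈ Zc := fun a ha b hb =>
    ⟨_, hgood.comm ⟨a, ha⟩ ⟨b, hb⟩, map_commutatorElement _ _ _⟩
  have hpw : ∀ a ∈ Q, a ^ p ∈ Zc := fun a ha => ⟨_, hgood.pow ⟨a, ha⟩, by simp⟩
  have hrad : ∀ Z₀ : Subgroup G, (∃ a ∈ Q, ∃ b ∈ Q, ⁅a, b⁆ ∉ Z₀) → ∀ v ∈ Q,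
      (∀ w ∈ Q, ⁅v, w⁆ ∈ Z₀) → v ∈ Zc := by
    rintro Z₀ ⟨a, ha, b, hb, hab⟩ v hv h
    refine ⟨_, hgood.radical (Z₀.comap Q.subtype) ⟨⟨a, ha⟩, ⟨b, hb⟩, ?_⟩ ⟨v, hv⟩ fun w => ?_, rfl⟩
    · rw [mem_comap, map_commutatorElement]; exact hab
    · rw [mem_comap, map_commutatorElement]; exact h w w.2
  -- commutators are bilinear
  have hmulr : ∀ v ∈ Q, ∀ a ∈ Q, ∀ b ∈ Q, ⁅v, a * b⁆ = ⁅v, a⁆ * ⁅v, b⁆ := by
    intro v hv a ha b hb
    have e := hZQ _ (hcm v hv b hb) a ha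
    calc ⁅v, a * b⁆ = ⁅v, a⁆ * (a * ⁅v, b⁆) * a⁻¹ := by simp only [commutatorElement_def]; group
      _ = _ := by rw [e]; group
  have hmull : ∀ a ∈ Q, ∀ b ∈ Q, ∀ w ∈ Q, ⁅a * b, w⁆ = ⁅a, w⁆ * ⁅b, w⁆ := by
    intro a ha b hb w hw
    have e := hZQ _ (hcm b hb w hw) a ha
    have e2 := hZQ _ (hcm b hb w hw) _ (commutatorElement_def a w ▸
      mul_mem (mul_mem (mul_mem ha hw) (inv_mem ha)) (inv_mem hw) : ⁅a, w⁆ ∈ Q)
    calc ⁅a * b, w⁆ = (a * ⁅b, w⁆) * a⁻¹ * ⁅a, w⁆ := by simp only [commutatorElement_def]; group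
      _ = ⁅b, w⁆ * ⁅a, w⁆ := by rw [e]; group
      _ = _ := e2.symm
  have hzr : ∀ v ∈ Q, ∀ a ∈ Q, ∀ i : ℤ, ⁅v, a ^ i⁆ = ⁅v, a⁆ ^ i := fun v hv a ha i =>
    map_zpow (MonoidHom.mk' (fun w : ↥Q => ⁅v, (w : G)⁆) fun a b => hmulr v hv a a.2 b b.2) ⟨a, ha⟩ i
  have hzl : ∀ a ∈ Q, ∀ w ∈ Q, ∀ i : ℤ, ⁅a ^ i, w⁆ = ⁅a, w⁆ ^ i := fun a ha w hw i =>
    map_zpow (MonoidHom.mk' (fun v : ↥Q => ⁅(v : G), w⁆) fun a b => hmull a a.2 b b.2 w hw) ⟨a, ha⟩ i
  -- the image of `G`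
  set π := QuotientGroup.mk' U with hπ
  have hps : Cfsg.IsPSolvable p (G ⧸ U) := BlockHeights.isPSolvable_quot U hG
  set X := Cfsg.pPrimeCore p (G ⧸ U) with hX
  haveI hXn : X.Normal := inferInstance
  have hK : centralizer (X : Set (G ⧸ U)) ≤ X :=
    Characters.centralizer_pPrimeCore_le_of_pCore_eq_bot p hps (Cores.pCore_quotient_pCore p G)
  obtain ⟨M, x, k, hUM, hMQ, hxQ, hQgen, hkX, hkM, hkx⟩ := exists_setup S.2 hUQ hQU
    (fun a ha b hb => hZU (hcm a ha b hb)) (fun a ha => hZU (hpw a ha)) hK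
  have hfull : ∀ Z₀ : Subgroup G, ∀ v ∈ Q, (∀ m ∈ M, ⁅v, m⁆ ∈ Z₀) → ⁅v, x⁆ ∈ Z₀ →
      ∀ w ∈ Q, ⁅v, w⁆ ∈ Z₀ := by
    intro Z₀ v hv hM hx w hw
    obtain ⟨i, hi⟩ := hQgen w hw
    have e : w = (w * x ^ i) * x ^ (-i) := by group
    rw [e, hmulr v hv _ (hMQ hi) _ (zpow_mem hxQ _), hzr v hv x hxQ]
    exact mul_mem (hM _ hi) (zpow_mem hx _)
  -- `k` normalizes `M`
  have hkU : k ∈ normalizer (U : Set G) := by rw [normalizer_eq_top]; trivial
  have hkU' : k⁻¹ ∈ normalizer (U : Set G) := inv_mem hkU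
  have hkM' : k ∈ normalizer (M : Set G) := by
    have h : ∀ k' : G, (∀ m ∈ M, Commute (π k') (π m)) → ∀ m ∈ M, k' * m * k'⁻¹ ∈ M := by
      intro k' h m hm
      have h1 : π (m⁻¹ * (k' * m * k'⁻¹)) = 1 := by
        rw [map_mul, map_mul, map_mul, map_inv, map_inv, (h m hm).eq]; group
      have := mul_mem hm (hUM ((QuotientGroup.eq_one_iff _).mp h1))
      rwa [mul_inv_cancel_left] at this
    rw [mem_normalizer_iff]
    intro m
    refine ⟨h k hkM m, fun hm => ?_⟩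
    have := h k⁻¹ (fun m hm => by rw [map_inv]; exact (hkM m hm).inv_left) _ hm
    simpa [mul_assoc] using this
  set x' := k * x * k⁻¹ with hx'
  set g := x' * x⁻¹ with hg
  have hgX : π g ∈ X := by
    have : π g = π k * (π x * (π k)⁻¹ * (π x)⁻¹) := by
      rw [hg, hx', map_mul, map_mul, map_mul, map_inv, map_inv]; group
    rw [this]
    exact mul_mem hkX (hXn.conj_mem _ (inv_mem hkX) _)
  have hg1 : π g ≠ 1 := fun h => hkx (by
    rw [hg, map_mul, map_inv, mul_inv_eq_one, hx', map_mul, map_mul, map_inv, mul_inv_eq_iff_eq_mul] at h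
    exact h)
  have hgord : (orderOf (π g)).Coprime p :=
    (Cores.pPrimeCore_coprime p (G ⧸ U)).coprime_dvd_left (by
      rw [← orderOf_mk (π g) hgX]; exact orderOf_dvd_natCard _)
  have hfin : ∀ W : Subgroup G, W ≤ Zc → ∀ n : ℕ, (orderOf (π g)).Coprime n → Stab U W (g ^ n) →
      False := by
    intro W hW n hn hst
    have h := stab_false hUp hC (hW.trans hZU) (fun u hu => mem_centralizer_iff.mpr fun w hw =>
      (hZQ w (hW hw) u (hUQ hu)).symm) hst (by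
        rw [map_pow, hn.orderOf_pow]; exact hgord)
    rw [map_pow] at h
    exact hg1 (orderOf_eq_one_iff.mp (Nat.eq_one_of_dvd_coprimes hn dvd_rfl (orderOf_dvd_of_pow_eq_one h)))
  have hfinW : ∀ W : Subgroup G, W ≤ Zc → k ∈ normalizer (W : Set G) →
      (∀ u ∈ U, x * u * x⁻¹ * u⁻¹ ∈ W) → False := by
    intro W hW hkW hxW
    have hst : Stab U W x := ⟨fun w hw => hZQ w (hW hw) x hxQ, hxW⟩
    refine hfin W hW 1 (Nat.coprime_one_right _) ?_
    rw [pow_one]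
    exact (hst.conj hkU hkW).mul hst.inv
  -- the commutator subgroup of `U` and `M`
  set W₁ := ⁅U, M⁆ with hW₁
  have hW₁Z : W₁ ≤ Zc := commutator_le.mpr fun u hu m hm => hcm u (hUQ hu) m (hMQ hm)
  have hkW₁ : k ∈ normalizer (W₁ : Set G) := by
    rw [mem_normalizer_iff_map_conj_eq, hW₁, map_commutator,
      mem_normalizer_iff_map_conj_eq.mp hkU, mem_normalizer_iff_map_conj_eq.mp hkM']
  obtain ⟨u1, hu1, hu1W⟩ : ∃ u ∈ U, ⁅x, u⁆ ∉ W₁ := by
    by_contra h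
    push Not at h
    exact hfinW W₁ hW₁Z hkW₁ h
  -- the centralizer of `M` in `U`
  set W₂ := U ⊓ centralizer (M : Set G) with hW₂
  have hkW₂ : k ∈ normalizer (W₂ : Set G) := by
    have h : ∀ k' ∈ normalizer (U : Set G), k' ∈ normalizer (M : Set G) → ∀ w ∈ W₂, k' * w * k'⁻¹ ∈ W₂ := by
      intro k' hU' hM' w hw
      refine mem_inf.mpr ⟨(mem_normalizer_iff.mp hU' w).mp hw.1, mem_centralizer_iff.mpr fun m hm => ?_⟩
      have e := mem_centralizer_iff.mp hw.2 _ ((mem_normalizer_iff''.mp hM' m).mp hm)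
      calc m * (k' * w * k'⁻¹) = k' * (k'⁻¹ * m * k' * w) * k'⁻¹ := by group
        _ = _ := by rw [e]; group
    rw [mem_normalizer_iff]
    intro w
    refine ⟨h k hkU hkM' w, fun hw => ?_⟩
    have := h k⁻¹ hkU' (inv_mem hkM') _ hw
    simpa [mul_assoc] using this
  obtain ⟨u0, hu0, hu0Z⟩ : ∃ u ∈ W₂, u ∉ Zc := by
    by_contra h
    push Not at h
    refine hfinW W₂ h hkW₂ fun u hu => ?_
    have hz := hcm x hxQ u (hUQ hu)
    rw [commutatorElement_def] at hz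
    exact mem_inf.mpr ⟨hZU hz, mem_centralizer_iff.mpr fun m hm => hZQ _ hz m (hMQ hm)⟩
  obtain ⟨hu0U, hu0M⟩ := mem_inf.mp hu0
  have hu0Q := hUQ hu0U
  have hu0m : ∀ m ∈ M, ⁅u0, m⁆ = 1 := fun m hm =>
    commutatorElement_eq_one_iff_mul_comm.mpr (mem_centralizer_iff.mp hu0M m hm).symm
  have hxu1 : ∃ a ∈ Q, ∃ b ∈ Q, ⁅a, b⁆ ∉ W₁ := ⟨x, hxQ, u1, hUQ hu1, hu1W⟩
  set e := ⁅u0, x⁆ with he
  have heZ : e ∈ Zc := hcm u0 hu0Q x hxQ
  have he1 : e ≠ 1 := fun h => hu0Z (hrad W₁ hxu1 u0 hu0Q (hfull W₁ u0 hu0Q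
    (fun m hm => by rw [hu0m m hm]; exact one_mem _) (by rw [← he, h]; exact one_mem _)))
  have hep : e ^ p = 1 := by
    rw [← zpow_natCast, he, ← hzr u0 hu0Q x hxQ, zpow_natCast, commutatorElement_eq_one_iff_mul_comm]
    exact hZQ _ (hpw x hxQ) u0 hu0Q
  have hD : ∀ a ∈ Q, ∀ b ∈ Q, ⁅a, b⁆ ∈ W₁ ⊔ zpowers e := by
    by_contra h
    push Not at h
    exact hu0Z (hrad _ h u0 hu0Q (hfull _ u0 hu0Q (fun m hm => by rw [hu0m m hm]; exact one_mem _)
      (mem_sup_right (mem_zpowers e))))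
  have hUgen : ∀ u ∈ U, ∃ z ∈ Zc, ∃ i : ℤ, u = z * u0 ^ i := by
    intro u hu
    obtain ⟨w, hw, i, hwi⟩ := mem_sup_zpowers (N := W₁) (w := e) (centralizer_le_normalizer _
      (mem_centralizer_iff.mpr fun w hw => hZQ e heZ w ((hZmem w).mp (hW₁Z hw)).1))
      (hD u (hUQ hu) x hxQ)
    refine ⟨u * u0 ^ (-i), ?_, i, by group⟩
    have hv : u * u0 ^ (-i) ∈ U := mul_mem hu (zpow_mem hu0U _)
    refine hrad W₁ hxu1 _ (hUQ hv) (hfull W₁ _ (hUQ hv) (fun m hm => commutator_mem_commutator hv hm) ?_)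
    rw [hmull u (hUQ hu) _ (zpow_mem hu0Q _) x hxQ, hzl u0 hu0Q x hxQ, ← he, hwi, mul_assoc, ← zpow_add,
      add_neg_cancel, zpow_zero, mul_one]
    exact hw
  -- hence `M = U` is abelian of index `p`
  have hMU : M ≤ U := by
    intro m hm
    refine hC (mem_centralizer_iff.mpr fun u hu => ?_)
    obtain ⟨z, hz, i, rfl⟩ := hUgen u hu
    have h1 : Commute m z := hZQ z hz m (hMQ hm)
    have h2 : Commute m u0 := mem_centralizer_iff.mp hu0M m hm
    exact (h1.mul_right (h2.zpow_right i)).eq.symm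
  obtain rfl : M = U := le_antisymm hMU hUM
  have hUab : ∀ a ∈ U, ∀ b ∈ U, a * b = b * a := by
    intro a ha b hb
    obtain ⟨z, hz, i, rfl⟩ := hUgen b hb
    have h1 : Commute a z := hZQ z hz a (hUQ ha)
    have h2 : Commute a u0 := mem_centralizer_iff.mp hu0M a ha
    exact (h1.mul_right (h2.zpow_right i)).eq
  have hW₁bot : W₁ = ⊥ := le_bot_iff.mp (commutator_le.mpr fun a ha b hb =>
    mem_bot.mpr (commutatorElement_eq_one_iff_mul_comm.mpr (hUab a ha b hb)))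
  have hDe : ∀ a ∈ Q, ∀ b ∈ Q, ⁅a, b⁆ ∈ zpowers e := fun a ha b hb => by
    have := hD a ha b hb
    rwa [hW₁bot, bot_sup_eq] at this
  have hxU : x ∉ U := fun h => hkx (hkM x h)
  have hcardU : ∀ w ∈ U, w ∉ Zc → Nat.card (Zc ⊔ zpowers w : Subgroup G) = Nat.card Zc * p := fun w hw hwZ =>
    card_sup_zpowers_prime (centralizer_le_normalizer _ (mem_centralizer_iff.mpr fun z hz =>
      hUab z (hZU hz) w hw)) hwZ (hpw w (hUQ hw))
  have hU0 : Zc ⊔ zpowers u0 = U := by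
    refine le_antisymm (sup_le hZU (zpowers_le.mpr hu0U)) fun u hu => ?_
    obtain ⟨z, hz, i, rfl⟩ := hUgen u hu
    exact mul_mem (mem_sup_left hz) (mem_sup_right (zpow_mem (mem_zpowers u0) i))
  have hcU : Nat.card U = Nat.card Zc * p := by rw [← hcardU u0 hu0U hu0Z, hU0]
  have hQ0 : U ⊔ zpowers x = Q := by
    refine le_antisymm (sup_le hUQ (zpowers_le.mpr hxQ)) fun q hq => ?_
    obtain ⟨i, hi⟩ := hQgen q hq
    have := mul_mem (mem_sup_left (T := zpowers x) hi) (mem_sup_right (zpow_mem (mem_zpowers x) (-i)))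
    simpa [mul_assoc, ← zpow_add] using this
  have hcQ : Nat.card Q = Nat.card Zc * p * p := by
    rw [← hcU, ← card_sup_zpowers_prime (p := p) (by rw [normalizer_eq_top]; trivial) hxU
      (hZU (hpw x hxQ)), hQ0]
  have hcZ : Nat.card Zc = Nat.card (center ↥Q) :=
    (Nat.card_congr ((center ↥Q).equivMapOfInjective _ Q.subtype_injective).toEquiv).symm
  have hidx : (center ↥Q).index = p * p := by
    refine Nat.eq_of_mul_eq_mul_left (Nat.card_pos (α := center ↥Q)) ?_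
    rw [card_mul_index, hcQ, hcZ, mul_assoc]
  by_cases hp3 : p = 3
  · exact hgood.three hp3 (by rw [hidx, hp3])
  by_cases hp2 : p = 2
  · have hUi : (U.subgroupOf Q).index = p := by
      refine Nat.eq_of_mul_eq_mul_left (Nat.card_pos (α := U.subgroupOf Q)) ?_
      rw [card_mul_index, hcQ, Nat.card_congr (subgroupOfEquivOfLe hUQ).toEquiv, hcU]
    haveI := hgood.two hp2 (by rw [hidx, hp2]) (U.subgroupOf Q)
      (fun z hz => hZU ⟨z, hz, rfl⟩) (by rw [hUi, hp2])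
    haveI : IsCyclic U := isCyclic_of_surjective (subgroupOfEquivOfLe hUQ).toMonoidHom
      (subgroupOfEquivOfLe hUQ).surjective
    obtain ⟨j, hj⟩ := hUp.exists_card_eq
    have hcard : Nat.card (MulAut U) = (p ^ j).totient := by
      rw [← hj]; exact IsCyclic.card_mulAut U
    refine hfin ⊥ bot_le (Nat.card (MulAut U)) ?_ ⟨fun w hw => by rw [mem_bot.mp hw, one_mul, mul_one],
      fun u hu => ?_⟩
    · rcases j with _ | j
      · rw [hcard]; simp
      · rw [hcard, Nat.totient_prime_pow hp.out (Nat.succ_pos j), hp2]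
        exact Nat.Coprime.mul_right (Nat.Coprime.pow_right _ (hp2 ▸ hgord)) (by norm_num)
    · rw [mem_bot, mul_inv_eq_one]
      have h : MulAut.conjNormal (g ^ Nat.card (MulAut U)) = (1 : MulAut U) := by
        rw [map_pow, pow_card_eq_one']
      have h' : ((MulAut.conjNormal (g ^ Nat.card (MulAut U)) (⟨u, hu⟩ : U) : U) : G) = u := by
        rw [h]; rfl
      rwa [MulAut.conjNormal_apply] at h'
  -- `p ≥ 5`
  set Zk := Zc.map (MulAut.conj k).toMonoidHom with hZk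
  set e' := k * e * k⁻¹ with he'
  have he'p : e' ^ p = 1 := by rw [he', conj_pow, hep, mul_one, mul_inv_cancel]
  have hconjU : ∀ u ∈ U, k⁻¹ * u * k ∈ U := fun u hu => (mem_normalizer_iff''.mp hkU u).mp hu
  have hZkmem : ∀ z, z ∈ Zk ↔ k⁻¹ * z * k ∈ Zc := by
    intro z
    constructor
    · rintro ⟨w, hw, rfl⟩
      simpa [MulAut.conj_apply, mul_assoc] using hw
    · intro hz
      exact ⟨_, hz, by simp [MulAut.conj_apply, mul_assoc]⟩
  have hZkU : Zk ≤ U := fun z hz => by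
    have := (mem_normalizer_iff.mp hkU _).mp (hZU ((hZkmem z).mp hz))
    simpa [mul_assoc] using this
  have he'Zk : e' ∈ Zk := ⟨e, heZ, rfl⟩
  have hx'Zk : ∀ z ∈ Zk, x' * z = z * x' := by
    intro z hz
    have h := hZQ _ ((hZkmem z).mp hz) x hxQ
    calc x' * z = k * (x * (k⁻¹ * z * k)) * k⁻¹ := by rw [hx']; group
      _ = z * x' := by rw [h, hx']; group
  have hxZ : ∀ z ∈ Zc, x * z = z * x := fun z hz => hZQ z hz x hxQ
  have hxe : ∀ u ∈ U, x * u * x⁻¹ * u⁻¹ ∈ zpowers e := fun u hu => by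
    rw [← commutatorElement_def]; exact hDe x hxQ u (hUQ hu)
  have hx'e : ∀ u ∈ U, x' * u * x'⁻¹ * u⁻¹ ∈ zpowers e' := by
    intro u hu
    obtain ⟨i, hi⟩ := mem_zpowers_iff.mp (hxe _ (hconjU u hu))
    refine mem_zpowers_iff.mpr ⟨i, ?_⟩
    rw [he', ← conj_zpow_eq, hi, hx']
    group
  by_cases heK : e ∈ Zk
  · exact hfin (Zc ⊓ Zk) inf_le_left p hgord (stab_pow_div hUab hZU hZkU hxZ hx'Zk ⟨heZ, heK⟩ he'Zk
      he'p hxe hx'e)
  by_cases he'Z : e' ∈ Zc
  · have h := stab_pow_div hUab hZkU hZU hx'Zk hxZ ⟨he'Zk, he'Z⟩ heZ hep hx'e hxe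
    have h2 : g ^ p = ((x * x'⁻¹) ^ p)⁻¹ := by rw [← inv_pow, mul_inv_rev, inv_inv]
    refine hfin (Zk ⊓ Zc) inf_le_right p hgord ?_
    rw [h2]
    exact h.inv
  -- the generic case
  have he'U : e' ∈ U := hZkU he'Zk
  have heU : e ∈ U := hZU heZ
  have hUe' : Zc ⊔ zpowers e' = U :=
    Coprime.eq_of_le_of_card_le (sup_le hZU (zpowers_le.mpr he'U)) (by rw [hcardU e' he'U he'Z, hcU])
  have hcZk : Nat.card Zk = Nat.card Zc :=
    (Nat.card_congr (Zc.equivMapOfInjective _ (MulAut.conj k).injective).toEquiv).symm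
  have hUe : Zk ⊔ zpowers e = U :=
    Coprime.eq_of_le_of_card_le (sup_le hZkU (zpowers_le.mpr heU)) (by
      rw [card_sup_zpowers_prime (p := p) (centralizer_le_normalizer _ (mem_centralizer_iff.mpr fun z hz =>
        hUab z (hZkU hz) e heU)) heK (by rw [hep]; exact one_mem _), hcZk, hcU])
  have hfixU : ∀ h : G, h * e = e * h → h * e' = e' * h → (∀ z ∈ Zc ⊓ Zk, h * z = z * h) → h ∈ U := by
    intro h h1 h2 h3
    refine hC (mem_centralizer_iff.mpr fun u hu => ?_)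
    obtain ⟨z, hz, i, rfl⟩ := mem_sup_zpowers (centralizer_le_normalizer _
      (mem_centralizer_iff.mpr fun z hz => hUab z (hZU hz) e' he'U)) (hUe'.ge hu)
    obtain ⟨s, hs, j, hsj⟩ := mem_sup_zpowers (centralizer_le_normalizer _
      (mem_centralizer_iff.mpr fun z hz => hUab z (hZkU hz) e heU)) (hUe.ge (hZU hz))
    have hsZ : s ∈ Zc ⊓ Zk := mem_inf.mpr ⟨by
      have : s = z * (e ^ j)⁻¹ := eq_mul_inv_of_mul_eq hsj.symm
      rw [this]; exact mul_mem hz (inv_mem (zpow_mem heZ j)), hs⟩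
    rw [hsj]
    exact (((show Commute h s from h3 s hsZ).mul_right ((show Commute h e from h1).zpow_right j)).mul_right
      ((show Commute h e' from h2).zpow_right i)).eq.symm
  obtain ⟨m, hm⟩ := mem_zpowers_iff.mp (hxe e' he'U)
  obtain ⟨m', hm'⟩ := mem_zpowers_iff.mp (hx'e e heU)
  have hm0 : (m : ZMod p) ≠ 0 := fun h0 => hxU (hfixU x (hxZ e heZ) (by
    rw [zpow_congr hep (b := 0) (by simpa using h0), zpow_zero, eq_comm, mul_inv_eq_one,
      mul_inv_eq_iff_eq_mul] at hm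
    exact hm) (fun z hz => hxZ z hz.1))
  have hm0' : (m' : ZMod p) ≠ 0 := fun h0 => by
    have hx'U : x' ∈ U := hfixU x' (by
      rw [zpow_congr he'p (b := 0) (by simpa using h0), zpow_zero, eq_comm, mul_inv_eq_one,
        mul_inv_eq_iff_eq_mul] at hm'
      exact hm') (hx'Zk e' he'Zk) (fun z hz => hx'Zk z hz.2)
    apply hxU
    have := hconjU _ hx'U
    simpa [hx', mul_assoc] using this
  obtain ⟨h, hhe, hhe', hhz, hhφ⟩ := matrix_false hp2 hp3 hep he'p (hUab e heU e' he'U) (hxZ e heZ)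
    (hx'Zk e' he'Zk) (m := m) (m' := m') (by rw [hm]; group) (by rw [hm']; group) hm0 hm0'
  have hhU : h ∈ U := hfixU h hhe hhe' fun z hz => hhz z (hxZ z hz.1) (hx'Zk z hz.2)
  let φ : G →* (G ⧸ U) ⧸ X := (QuotientGroup.mk' X).comp π
  have hφ : φ x' = φ x := by
    show ((π x' : G ⧸ U) : (G ⧸ U) ⧸ X) = ((π x : G ⧸ U) : (G ⧸ U) ⧸ X)
    refine (QuotientGroup.eq.mpr ?_).symm
    have : (π x)⁻¹ * π x' = (π x)⁻¹ * π g * π x := by
      rw [mul_assoc, ← map_mul π g, hg, inv_mul_cancel_right]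
    rw [this]
    simpa using hXn.conj_mem _ hgX (π x)⁻¹
  obtain ⟨n, hn, hn0⟩ := hhφ φ hφ
  have hφp : φ x ^ p = 1 := by
    rw [← map_pow]
    show ((π (x ^ p) : G ⧸ U) : (G ⧸ U) ⧸ X) = 1
    rw [show π (x ^ p) = 1 from (QuotientGroup.eq_one_iff _).mpr (hZU (hpw x hxQ))]
    rfl
  have hφ1 : φ x ≠ 1 := fun e1 => by
    have hxX : π x ∈ X := (QuotientGroup.eq_one_iff (π x)).mp e1
    have h1 : orderOf (π x) ∣ p := orderOf_dvd_of_pow_eq_one (by
      rw [← map_pow]; exact (QuotientGroup.eq_one_iff _).mpr (hZU (hpw x hxQ)))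
    have h2 : orderOf (π x) ∣ Nat.card X := by
      rw [← orderOf_mk (π x) hxX]; exact orderOf_dvd_natCard _
    refine hxU ((QuotientGroup.eq_one_iff x).mp (orderOf_eq_one_iff.mp (Nat.eq_one_of_dvd_coprimes
      (Cores.pPrimeCore_coprime p (G ⧸ U)) h2 h1)))
  have hφh : φ h = 1 := by
    show ((π h : G ⧸ U) : (G ⧸ U) ⧸ X) = 1
    rw [show π h = 1 from (QuotientGroup.eq_one_iff _).mpr hhU]
    rfl
  rw [hφh] at hn
  have hd := orderOf_dvd_iff_zpow_eq_one.mpr hn.symm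
  rw [orderOf_eq_prime hφp hφ1] at hd
  exact hn0 ((ZMod.intCast_zmod_eq_zero_iff_dvd n p).mpr hd)

end Cfsg.Agent.Lib.PGroups.SchmidtPLength
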