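import Cfsg.Agent.S3975
import Cfsg.Agent.Lib.Cores.Frattini
import Cfsg.Agent.Lib.OddLocal.Coprime
import Mathlib

/-!
Counting the subgroups of given prime power order modulo `p ^ 2`: Hall's enumeration principle.
-/

set_option autoImplicit false
set_option linter.style.haveILetI false
set_option linter.unusedSectionVars false

namespace Cfsg.Agent.Lib.PGroups.SubgroupCount

universe u

variable {G : Type u} [Group G]

/-- The number of subgroups of order `n`. -/
noncomputable def cnt (G : Type u) [Group G] (n : ℕ) : ℕ := Nat.card {H : Subgroup G // Nat.card H = n}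

theorem cnt_modEq_one [Finite G] {p k : ℕ} (hp : p.Prime) (h : p ^ k ∣ Nat.card G) :
    cnt G (p ^ k) ≡ 1 [MOD p] :=
  Cfsg.Agent.S3975.result p k hp h

theorem cnt_subgroup (M : Subgroup G) (n : ℕ) :
    cnt M n = Nat.card {H : Subgroup G // H ≤ M ∧ Nat.card H = n} :=
  Nat.card_congr
    { toFun := fun H => ⟨H.1.map M.subtype, Subgroup.map_subtype_le _, by
        rw [Subgroup.card_map_of_injective M.subtype_injective]; exact H.2⟩
      invFun := fun H => ⟨H.1.subgroupOf M, by
        rw [Nat.card_congr (Subgroup.subgroupOfEquivOfLe H.2.1).toEquiv]; exact H.2.2⟩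
      left_inv := fun H => Subtype.ext (Subgroup.comap_map_eq_self_of_injective M.subtype_injective _)
      right_inv := fun H => Subtype.ext (Subgroup.map_subgroupOf_eq_of_le H.2.1) }

/-- Subgroups over a normal subgroup, by index. -/
theorem card_quotient (N : Subgroup G) [N.Normal] (i : ℕ) :
    Nat.card {K : Subgroup (G ⧸ N) // K.index = i} = Nat.card {H : Subgroup G // N ≤ H ∧ H.index = i} := by
  have hs := QuotientGroup.mk'_surjective N
  exact Nat.card_congr
    { toFun := fun K => ⟨K.1.comap (QuotientGroup.mk' N), QuotientGroup.le_comap_mk' N _, by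
        rw [Subgroup.index_comap_of_surjective _ hs]; exact K.2⟩
      invFun := fun H => ⟨H.1.map (QuotientGroup.mk' N), by
        rw [Subgroup.index_map_eq _ hs (by rw [QuotientGroup.ker_mk']; exact H.2.1)]; exact H.2.2⟩
      left_inv := fun K => Subtype.ext (Subgroup.map_comap_eq_self_of_surjective hs _)
      right_inv := fun H => Subtype.ext (Subgroup.comap_map_eq_self (by
        rw [QuotientGroup.ker_mk']; exact H.2.1)) }

theorem index_card [Finite G] {p c i : ℕ} (hp : p.Prime) (hG : Nat.card G = p ^ c) (hi : i ≤ c) (H : Subgroup G) :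
    H.index = p ^ i ↔ Nat.card H = p ^ (c - i) := by
  have h := H.card_mul_index
  rw [hG, ← pow_sub_mul_pow p hi] at h
  constructor
  · intro h'; rw [h'] at h; exact Nat.eq_of_mul_eq_mul_right (pow_pos hp.pos _) h
  · intro h'; rw [h'] at h; exact Nat.eq_of_mul_eq_mul_left (pow_pos hp.pos _) h

theorem card_eq_cnt [Finite G] {p c i : ℕ} (hp : p.Prime) (hG : Nat.card G = p ^ c) (hi : i ≤ c) :
    Nat.card {H : Subgroup G // H.index = p ^ i} = cnt G (p ^ (c - i)) :=
  Nat.card_congr (Equiv.subtypeEquivRight fun H => index_card hp hG hi H)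

/-- A group of order `p ^ 2` and exponent `p` has `p + 1` subgroups of order `p`. -/
theorem cnt_prime_sq [Finite G] {p : ℕ} [Fact p.Prime] (hG : Nat.card G = p ^ 2) (hexp : ∀ g : G, g ^ p = 1) :
    cnt G p = p + 1 := by
  classical
  haveI := Fintype.ofFinite G
  have hp : p.Prime := Fact.out
  let T := {g : G // g ≠ 1}
  let X := {H : Subgroup G // Nat.card H = p}
  let f : T → X := fun g => ⟨Subgroup.zpowers g.1, by
    rw [Nat.card_zpowers]; exact orderOf_eq_prime (hexp _) g.2⟩
  have hfib : ∀ H : X, Nat.card {g : T // f g = H} = p - 1 := by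
    intro H
    rw [show p - 1 = Nat.card {h : H.1 // h ≠ 1} by
      rw [Nat.card_eq_fintype_card, Fintype.card_subtype_compl, ← Nat.card_eq_fintype_card, H.2,
        Fintype.card_subtype_eq]]
    refine Nat.card_congr
      { toFun := fun g => ⟨⟨g.1.1, congrArg Subtype.val g.2 ▸ Subgroup.mem_zpowers g.1.1⟩, fun h => g.1.2 (congrArg Subtype.val h)⟩
        invFun := fun h => ⟨⟨h.1.1, fun e => h.2 (Subtype.ext e)⟩, Subtype.ext ?_⟩
        left_inv := fun g => rfl
        right_inv := fun h => rfl }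
    refine Subgroup.eq_of_le_of_card_ge (Subgroup.zpowers_le.mpr h.1.2) ?_
    rw [H.2, Nat.card_zpowers, orderOf_eq_prime (hexp _) fun e => h.2 (Subtype.ext e)]
  have hT : Nat.card T = p ^ 2 - 1 := by
    rw [Nat.card_eq_fintype_card, Fintype.card_subtype_compl, ← Nat.card_eq_fintype_card, hG,
      Fintype.card_subtype_eq]
  haveI := Fintype.ofFinite X
  rw [Nat.card_congr (Equiv.sigmaFiberEquiv f).symm, Nat.card_sigma,
    Finset.sum_congr rfl (fun H _ => hfib H), Finset.sum_const, smul_eq_mul, Finset.card_univ,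
    ← Nat.card_eq_fintype_card] at hT
  have e : p ^ 2 - 1 = (p + 1) * (p - 1) := by
    rw [← one_pow 2, Nat.sq_sub_sq, one_pow]
  rw [e] at hT
  exact Nat.eq_of_mul_eq_mul_right (by have := hp.two_le; omega) hT

/-- Index `p` subgroups of an elementary abelian group. -/
theorem cnt_max [Finite G] {p c : ℕ} [Fact p.Prime] (hG : Nat.card G = p ^ c) (hc : 2 ≤ c)
    (hexp : ∀ g : G, g ^ p = 1) (hcomm : ∀ a b : G, a * b = b * a) :
    (cnt G (p ^ (c - 1)) : ZMod (p ^ 2)) = 1 + p := by
  classical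
  have hp : p.Prime := Fact.out
  obtain ⟨M₀, hM₀⟩ := Sylow.exists_subgroup_card_pow_prime p (n := c - 1) (G := G)
    (hG ▸ pow_dvd_pow p (by omega))
  have hnorm : ∀ H : Subgroup G, H.Normal := fun H => ⟨fun x hx g => by
    rw [hcomm g x, mul_inv_cancel_right]; exact hx⟩
  haveI := Fintype.ofFinite G
  let X := {H : Subgroup G // Nat.card H = p ^ (c - 1)}
  let X' := {H : X // H.1 ≠ M₀}
  let L := {K : Subgroup G // K ≤ M₀ ∧ Nat.card K = p ^ (c - 2)}
  have hinf : ∀ H : X', Nat.card ↥(H.1.1 ⊓ M₀) = p ^ (c - 2) := by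
    intro H
    have hidx : M₀.index = p := by
      have h := M₀.card_mul_index
      rw [hM₀, hG] at h
      refine Nat.eq_of_mul_eq_mul_left (pow_pos hp.pos (c - 1)) (h.trans ?_)
      rw [← pow_succ]; congr 1; omega
    haveI := hnorm M₀
    have hd : M₀.relIndex H.1.1 ∣ p := hidx ▸ Subgroup.relIndex_dvd_index_of_normal M₀ H.1.1
    rcases (Nat.dvd_prime hp).mp hd with h | h
    · exact absurd (Subgroup.eq_of_le_of_card_ge (Subgroup.relIndex_eq_one.mp h)
        (by rw [hM₀, H.1.2])) H.2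
    · have h2 := ((H.1.1 ⊓ M₀).subgroupOf H.1.1).card_mul_index
      rw [Nat.card_congr (Subgroup.subgroupOfEquivOfLe inf_le_left).toEquiv, H.1.2] at h2
      have : ((H.1.1 ⊓ M₀).subgroupOf H.1.1).index = p := by
        rw [← Subgroup.relIndex, Subgroup.inf_relIndex_left, h]
      rw [this] at h2
      refine Nat.eq_of_mul_eq_mul_right hp.pos (h2.trans ?_)
      rw [← pow_succ]; congr 1; omega
  let f : X' → L := fun H => ⟨H.1.1 ⊓ M₀, inf_le_right, hinf H⟩
  have hfib : ∀ K : L, Nat.card {H : X' // f H = K} = p := by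
    intro K
    haveI := hnorm K.1
    have hK : K.1.index = p ^ 2 := by
      rw [index_card hp hG hc]; exact K.2.2
    have hQ : Nat.card (G ⧸ K.1) = p ^ 2 := by rw [← Subgroup.index_eq_card, hK]
    have hexpQ : ∀ g : G ⧸ K.1, g ^ p = 1 := fun g => by
      obtain ⟨g, rfl⟩ := QuotientGroup.mk'_surjective K.1 g
      rw [← map_pow, hexp, map_one]
    have h1 : Nat.card {H : Subgroup G // K.1 ≤ H ∧ H.index = p} = p + 1 := by
      rw [← card_quotient K.1 p, ← cnt_prime_sq hQ hexpQ]
      have := card_eq_cnt hp hQ (show 1 ≤ 2 by norm_num)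
      simpa only [pow_one, show (2 : ℕ) - 1 = 1 by rfl] using this
    have hM₀i : M₀.index = p := by
      rw [← pow_one p, index_card hp hG (by omega)]; exact hM₀
    haveI := Fintype.ofFinite {H : Subgroup G // K.1 ≤ H ∧ H.index = p}
    rw [show p = Nat.card {H : {H : Subgroup G // K.1 ≤ H ∧ H.index = p} // H.1 ≠ M₀} by
      rw [Nat.card_eq_fintype_card, Fintype.card_subtype_compl, ← Nat.card_eq_fintype_card, h1,
        show Fintype.card {H : {H : Subgroup G // K.1 ≤ H ∧ H.index = p} // H.1 = M₀} = 1 from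
          Fintype.card_eq_one_iff.mpr ⟨⟨⟨M₀, K.2.1, hM₀i⟩, rfl⟩, fun H => Subtype.ext (Subtype.ext H.2)⟩,
        Nat.add_sub_cancel]]
    have hiff : ∀ H : Subgroup G, H.index = p ↔ Nat.card H = p ^ (c - 1) := fun H => by
      rw [← index_card hp hG (show 1 ≤ c by omega), pow_one]
    exact Nat.card_congr
      { toFun := fun H => ⟨⟨H.1.1.1, (congrArg Subtype.val H.2 : H.1.1.1 ⊓ M₀ = K.1) ▸ inf_le_left,
          (hiff _).mpr H.1.1.2⟩, H.1.2⟩
        invFun := fun H => ⟨⟨⟨H.1.1, (hiff _).mp H.1.2.2⟩, H.2⟩, Subtype.ext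
          (Subgroup.eq_of_le_of_card_ge (le_inf H.1.2.1 K.2.1)
            (by rw [K.2.2]; exact (hinf ⟨⟨H.1.1, (hiff _).mp H.1.2.2⟩, H.2⟩).le)).symm⟩
        left_inv := fun H => rfl
        right_inv := fun H => rfl }
  have hX' : Nat.card X' = cnt M₀ (p ^ (c - 2)) * p := by
    haveI := Fintype.ofFinite L
    rw [Nat.card_congr (Equiv.sigmaFiberEquiv f).symm, Nat.card_sigma,
      Finset.sum_congr rfl (fun H _ => hfib H), Finset.sum_const, smul_eq_mul, Finset.card_univ,
      ← Nat.card_eq_fintype_card, cnt_subgroup]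
  have hX : cnt G (p ^ (c - 1)) = cnt M₀ (p ^ (c - 2)) * p + 1 := by
    have e := Nat.card_congr (Equiv.sumCompl fun H : X => H.1 = M₀)
    rw [Nat.card_sum] at e
    have e1 : Nat.card {H : X // H.1 = M₀} = 1 := Nat.card_eq_one_iff_unique.mpr
      ⟨⟨fun a b => Subtype.ext (Subtype.ext (a.2.trans b.2.symm))⟩, ⟨⟨⟨M₀, hM₀⟩, rfl⟩⟩⟩
    rw [e1] at e
    show Nat.card X = _
    rw [← e, ← hX', add_comm]
  obtain ⟨t, ht⟩ : ∃ t, cnt M₀ (p ^ (c - 2)) = p * t + 1 := by
    have h := cnt_modEq_one (G := M₀) hp (k := c - 2) (hM₀ ▸ pow_dvd_pow p (by omega))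
    rw [Nat.ModEq, Nat.mod_eq_of_lt hp.one_lt] at h
    exact ⟨cnt M₀ (p ^ (c - 2)) / p, by conv_lhs => rw [← Nat.div_add_mod (cnt M₀ (p ^ (c - 2))) p, h]⟩
  have h0 : ((p : ZMod (p ^ 2))) ^ 2 = 0 := by exact_mod_cast ZMod.natCast_self (p ^ 2)
  rw [hX, ht]; push_cast; linear_combination (t : ZMod (p ^ 2)) * h0

theorem mul_prime_eq {p n : ℕ} (hp : p.Prime) (h : n ≡ 1 [MOD p]) : (p : ZMod (p ^ 2)) * n = p := by
  rw [Nat.ModEq, Nat.mod_eq_of_lt hp.one_lt] at h
  have h0 : ((p : ZMod (p ^ 2))) ^ 2 = 0 := by exact_mod_cast ZMod.natCast_self (p ^ 2)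
  conv_lhs => rw [← Nat.div_add_mod n p, h]
  push_cast
  linear_combination ((n / p : ℕ) : ZMod (p ^ 2)) * h0

theorem cnt_of_isCyclic [Finite G] [IsCyclic G] {n : ℕ} (hn : n ∣ Nat.card G) :
    cnt G n = 1 := by
  classical
  haveI := Fintype.ofFinite G
  have hn0 : 0 < n := Nat.pos_of_dvd_of_pos hn Nat.card_pos
  have hset : ∀ H : Subgroup G, Nat.card H = n → (H : Set G) = {x | x ^ n = 1} := by
    intro H hH
    refine Set.eq_of_subset_of_ncard_le (fun x hx => ?_) ?_ (Set.toFinite _)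
    · show x ^ n = 1
      have := pow_card_eq_one' (x := (⟨x, hx⟩ : H))
      rw [hH] at this
      exact congrArg Subtype.val this
    · rw [show (H : Set G).ncard = n by rw [← hH]; exact (Nat.card_coe_set_eq _).symm]
      refine le_trans (le_of_eq ?_) (IsCyclic.card_pow_eq_one_le (α := G) hn0)
      rw [← Set.ncard_coe_finset]; congr 1; ext; simp
  refine Nat.card_eq_one_iff_unique.mpr
    ⟨⟨fun a b => Subtype.ext (SetLike.coe_injective ((hset _ a.2).trans (hset _ b.2).symm))⟩, ?_⟩
  obtain ⟨g, hg⟩ := IsCyclic.exists_generator (α := G)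
  have hgo : orderOf g = Nat.card G := orderOf_eq_card_of_forall_mem_zpowers hg
  refine ⟨⟨Subgroup.zpowers (g ^ (Nat.card G / n)), ?_⟩⟩
  rw [Nat.card_zpowers, orderOf_pow, hgo, Nat.gcd_eq_right (Nat.div_dvd_of_dvd hn),
    Nat.div_div_self hn Nat.card_pos.ne']

theorem frattini_index {p m : ℕ} [Fact p.Prime] [Finite G] (hG : Nat.card G = p ^ m) :
    ∀ K : Subgroup G, frattini G ≤ K →
      K.Normal ∧ (∀ [K.Normal], ∀ g : G ⧸ K, g ^ p = 1) ∧ (∀ [K.Normal], ∀ a b : G ⧸ K, a * b = b * a) := by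
  intro K hK
  have hP : IsPGroup p G := IsPGroup.of_card hG
  haveI := hP.isNilpotent
  have hc : commutator G ≤ K := Cores.commutator_le_frattini.trans hK
  refine ⟨⟨fun x hx g => ?_⟩, ?_, ?_⟩
  · have h1 : g * x * g⁻¹ * x⁻¹ ∈ K := hc (Subgroup.commutator_mem_commutator (Subgroup.mem_top g) (Subgroup.mem_top x))
    simpa using K.mul_mem h1 hx
  · intro _ g
    obtain ⟨g, rfl⟩ := QuotientGroup.mk'_surjective K g
    rw [← map_pow, QuotientGroup.mk'_apply, QuotientGroup.eq_one_iff]
    exact hK (Cores.pow_mem_frattini hP g)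
  · intro _ a b
    exact ((Subgroup.Normal.quotient_commutative_iff_commutator_le (N := K)).mpr hc).is_comm.comm a b

/-- A noncyclic group has Frattini index at least `p ^ 2`. -/
theorem two_le_index {p m : ℕ} [Fact p.Prime] [Finite G] (hG : Nat.card G = p ^ m) (hnc : ¬ IsCyclic G) :
    ∃ c, 2 ≤ c ∧ (frattini G).index = p ^ c := by
  have hp : p.Prime := Fact.out
  obtain ⟨c, -, hc⟩ := (Nat.dvd_prime_pow hp).mp (hG ▸ (frattini G).index_dvd_card)
  refine ⟨c, ?_, hc⟩
  by_contra hlt
  apply hnc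
  haveI : IsCyclic (G ⧸ frattini G) := by
    rcases Nat.lt_or_ge c 1 with h | h
    · rw [show c = 0 by omega, pow_zero, Subgroup.index_eq_card] at hc
      haveI := (Nat.card_eq_one_iff_unique.mp hc).1
      exact isCyclic_of_subsingleton
    · rw [show c = 1 by omega, pow_one, Subgroup.index_eq_card] at hc
      exact isCyclic_of_prime_card hc
  obtain ⟨g, hg⟩ := IsCyclic.exists_generator (α := G ⧸ frattini G)
  obtain ⟨x, rfl⟩ := QuotientGroup.mk'_surjective (frattini G) g
  have : Subgroup.zpowers x ⊔ frattini G = ⊤ := by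
    refine eq_top_iff.mpr fun y _ => ?_
    obtain ⟨i, hi⟩ := hg (QuotientGroup.mk' _ y)
    have h2 : (x ^ i)⁻¹ * y ∈ frattini G := by
      rw [← QuotientGroup.eq]; simpa using hi
    have := Subgroup.mul_mem_sup (Subgroup.zpow_mem_zpowers x i) h2
    rwa [mul_inv_cancel_left] at this
  exact isCyclic_iff_exists_zpowers_eq_top.mpr ⟨x, frattini_nongenerating this⟩

/-- Hall's enumeration principle modulo `p ^ 2`. -/
theorem enumeration {p m : ℕ} [Fact p.Prime] [Finite G] (hG : Nat.card G = p ^ m) (k : ℕ) (hk : k < m)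
    [Fintype {M : Subgroup G // M.index = p}]
    [Fintype {N : Subgroup G // frattini G ≤ N ∧ N.index = p ^ 2}] :
    (cnt G (p ^ k) : ZMod (p ^ 2)) = ∑ M : {M : Subgroup G // M.index = p}, (cnt M.1 (p ^ k) : ZMod (p ^ 2)) -
      p * ∑ N : {N : Subgroup G // frattini G ≤ N ∧ N.index = p ^ 2}, (cnt N.1 (p ^ k) : ZMod (p ^ 2)) := by
  classical
  have hp : p.Prime := Fact.out
  let Hs := {H : Subgroup G // Nat.card H = p ^ k}
  haveI := Fintype.ofFinite Hs
  have hsum : ∀ {ι : Type u} [Fintype ι] (f : ι → Subgroup G),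
      (∑ i, (cnt (f i) (p ^ k) : ZMod (p ^ 2))) = ∑ H : Hs, (Nat.card {i // H.1 ≤ f i} : ZMod (p ^ 2)) := by
    intro ι _ f
    rw [← Nat.cast_sum, ← Nat.cast_sum]
    congr 1
    rw [← Nat.card_sigma (β := fun H : Hs => {i // H.1 ≤ f i}),
      Finset.sum_congr rfl (fun i _ => cnt_subgroup (f i) (p ^ k)),
      ← Nat.card_sigma (β := fun i => {H : Subgroup G // H ≤ f i ∧ Nat.card H = p ^ k})]
    exact Nat.card_congr
      { toFun := fun x => ⟨⟨x.2.1, x.2.2.2⟩, ⟨x.1, x.2.2.1⟩⟩
        invFun := fun x => ⟨x.2.1, ⟨x.1.1, x.2.2, x.1.2⟩⟩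
        left_inv := fun x => rfl
        right_inv := fun x => rfl }
  rw [hsum (fun M : {M : Subgroup G // M.index = p} => M.1),
    hsum (fun N : {N : Subgroup G // frattini G ≤ N ∧ N.index = p ^ 2} => N.1), Finset.mul_sum,
    ← Finset.sum_sub_distrib]
  rw [show (cnt G (p ^ k) : ZMod (p ^ 2)) = ∑ _H : Hs, (1 : ZMod (p ^ 2)) by
    rw [Finset.sum_const, Finset.card_univ, nsmul_eq_mul, mul_one, cnt, Nat.card_eq_fintype_card]]
  refine Finset.sum_congr rfl fun H _ => ?_
  let K := H.1 ⊔ frattini G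
  obtain ⟨hKn, hKe, hKc⟩ := frattini_index hG K le_sup_right
  haveI := hKn
  have hKtop : K ≠ ⊤ := fun h => by
    have := frattini_nongenerating (show H.1 ⊔ frattini G = ⊤ from h)
    have h2 := H.2
    rw [this, Subgroup.card_top, hG] at h2
    exact hk.ne (Nat.pow_right_injective hp.two_le h2).symm
  obtain ⟨c, -, hc⟩ := (Nat.dvd_prime_pow hp).mp (hG ▸ K.index_dvd_card)
  have hc0 : 1 ≤ c := Nat.pos_of_ne_zero fun h => hKtop (Subgroup.index_eq_one.mp (by rw [hc, h, pow_zero]))
  have hQ : Nat.card (G ⧸ K) = p ^ c := by rw [← Subgroup.index_eq_card, hc]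
  have hPhi : ∀ M : Subgroup G, M.index = p → frattini G ≤ M := fun M h =>
    frattini_le_coatom (Cores.isCoatom_of_prime_index (h.symm ▸ hp))
  have e1 : Nat.card {M : {M : Subgroup G // M.index = p} // H.1 ≤ M.1} = cnt (G ⧸ K) (p ^ (c - 1)) := by
    rw [← card_eq_cnt hp hQ hc0, pow_one, card_quotient K p]
    exact Nat.card_congr
      { toFun := fun M => ⟨M.1.1, sup_le M.2 (hPhi _ M.1.2), M.1.2⟩
        invFun := fun M => ⟨⟨M.1, M.2.2⟩, le_sup_left.trans M.2.1⟩
        left_inv := fun M => rfl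
        right_inv := fun M => rfl }
  have e2 : Nat.card {N : {N : Subgroup G // frattini G ≤ N ∧ N.index = p ^ 2} // H.1 ≤ N.1} =
      Nat.card {L : Subgroup (G ⧸ K) // L.index = p ^ 2} := by
    rw [card_quotient K (p ^ 2)]
    exact Nat.card_congr
      { toFun := fun N => ⟨N.1.1, sup_le N.2 N.1.2.1, N.1.2.2⟩
        invFun := fun N => ⟨⟨N.1, le_sup_right.trans N.2.1, N.2.2⟩, le_sup_left.trans N.2.1⟩
        left_inv := fun N => rfl
        right_inv := fun N => rfl }
  rw [e1, e2]
  rcases Nat.lt_or_ge c 2 with h | h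
  · have hc1 : c = 1 := by omega
    subst hc1
    have h1 : cnt (G ⧸ K) (p ^ 0) = 1 := by
      refine Nat.card_eq_one_iff_unique.mpr ⟨⟨fun a b => Subtype.ext ?_⟩, ⟨⟨⊥, by simp⟩⟩⟩
      rw [Subgroup.eq_bot_of_card_eq a.1 (a.2.trans (pow_zero p)),
        Subgroup.eq_bot_of_card_eq b.1 (b.2.trans (pow_zero p))]
    have h2 : Nat.card {L : Subgroup (G ⧸ K) // L.index = p ^ 2} = 0 := by
      haveI : IsEmpty {L : Subgroup (G ⧸ K) // L.index = p ^ 2} := ⟨fun L => by
        have h3 := L.2 ▸ L.1.index_dvd_card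
        rw [hQ] at h3
        exact absurd ((Nat.pow_dvd_pow_iff_le_right hp.one_lt).mp h3) (by norm_num)⟩
      exact Nat.card_of_isEmpty
    rw [h1, h2]; simp
  · rw [cnt_max hQ h hKe hKc, card_eq_cnt hp hQ h,
      mul_prime_eq hp (cnt_modEq_one hp (hQ ▸ pow_dvd_pow p (by omega)))]
    ring

/-- With a cyclic subgroup of index `p`, `p` odd, there are exactly `p` of them. -/
theorem card_cyclic_max {p m : ℕ} [Fact p.Prime] [Finite G] (hp2 : p ≠ 2) (hm : 3 ≤ m)
    (hG : Nat.card G = p ^ m) (hnc : ¬ IsCyclic G) {C : Subgroup G} (hC : IsCyclic C) (hCi : C.index = p) :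
    Nat.card {M : Subgroup G // M.index = p ∧ IsCyclic M} = p := by
  classical
  haveI := Fintype.ofFinite G
  have hp : p.Prime := Fact.out
  have hP : IsPGroup p G := IsPGroup.of_card hG
  haveI := hP.isNilpotent
  obtain ⟨a, ha⟩ := (Subgroup.isCyclic_iff_exists_zpowers_eq_top C).mp hC
  have hCcard : Nat.card C = p ^ (m - 1) := (index_card hp hG (by omega) C).mp (by rw [pow_one, hCi])
  have hao : orderOf a = p ^ (m - 1) := by rw [← Nat.card_zpowers, ha, hCcard]
  haveI hCn : C.Normal := (Cores.prime_index_of_isCoatom (Cores.isCoatom_of_prime_index (hCi.symm ▸ hp))).1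
  let z := a ^ p ^ (m - 2)
  have hzo : orderOf z = p := by
    show orderOf (a ^ p ^ (m - 2)) = p
    rw [orderOf_pow, hao, Nat.gcd_eq_right (pow_dvd_pow p (by omega)), Nat.pow_div (by omega) hp.pos,
      show m - 1 - (m - 2) = 1 by omega, pow_one]
  have hzp : z ^ p = 1 := hzo ▸ pow_orderOf_eq_one z
  -- commutators with the generator
  have hcom : ∀ b : G, ∃ i : ℕ, b * a * b⁻¹ = z ^ i * a := by
    intro b
    obtain ⟨r, hr⟩ : ∃ r : ℕ, b * a * b⁻¹ = a ^ r := by
      have : b * a * b⁻¹ ∈ Subgroup.zpowers a := by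
        rw [ha]; exact hCn.conj_mem a (ha ▸ Subgroup.mem_zpowers a) b
      rw [← mem_powers_iff_mem_zpowers, Submonoid.mem_powers_iff] at this
      obtain ⟨r, hr⟩ := this
      exact ⟨r, hr.symm⟩
    have hiter : ∀ j : ℕ, b ^ j * a * (b ^ j)⁻¹ = a ^ r ^ j := by
      intro j
      induction j with
      | zero => simp
      | succ j ih =>
        rw [pow_succ', mul_inv_rev, show b * b ^ j * a * ((b ^ j)⁻¹ * b⁻¹) = b * (b ^ j * a * (b ^ j)⁻¹) * b⁻¹ by group,
          ih, ← conj_pow, hr, ← pow_mul, pow_succ']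
    have hbp : b ^ p * a * (b ^ p)⁻¹ = a := by
      have h1 : b ^ p ∈ Subgroup.zpowers a := by rw [ha]; exact hCi ▸ Subgroup.pow_index_mem C b
      obtain ⟨l, hl⟩ := h1
      rw [← hl, mul_inv_eq_iff_eq_mul]
      exact ((Commute.refl a).zpow_left l).eq
    rw [hiter] at hbp
    have hcast : ((r : ZMod (p ^ (m - 1)))) ^ p = 1 := by
      have : r ^ p ≡ 1 [MOD p ^ (m - 1)] := by
        rw [← hao, ← pow_eq_pow_iff_modEq, hbp, pow_one]
      have := (ZMod.natCast_eq_natCast_iff _ _ _).mpr this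
      simpa using this
    haveI : NeZero (p ^ (m - 1)) := ⟨pow_ne_zero _ hp.ne_zero⟩
    let e : ZMod (p ^ (m - 1)) := (p : ZMod (p ^ (m - 1))) ^ (m - 2)
    have hee : e * e = 0 := by
      show ((p : ZMod (p ^ (m - 1))) ^ (m - 2)) * (p : ZMod (p ^ (m - 1))) ^ (m - 2) = 0
      rw [← pow_add, ← Nat.cast_pow, ZMod.natCast_eq_zero_iff]
      exact pow_dvd_pow p (by omega)
    have hpe : (p : ZMod (p ^ (m - 1))) * e = 0 := by
      show (p : ZMod (p ^ (m - 1))) * (p : ZMod (p ^ (m - 1))) ^ (m - 2) = 0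
      rw [← pow_succ', ← Nat.cast_pow, ZMod.natCast_eq_zero_iff]
      exact pow_dvd_pow p (by omega)
    have hpow : ∀ (j n : ℕ), (1 + (j : ZMod (p ^ (m - 1))) * e) ^ n = 1 + (n : ZMod (p ^ (m - 1))) * j * e := by
      intro j n
      induction n with
      | zero => simp
      | succ n ih => rw [pow_succ, ih]; push_cast; linear_combination ((n : ZMod (p ^ (m - 1))) * j * j) * hee
    haveI := ZMod.isCyclic_units_of_prime_pow p hp hp2 (m - 1)
    let f : Fin p → (ZMod (p ^ (m - 1)))ˣ := fun j => Units.ofPowEqOne (1 + (j : ℕ) * e) p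
      (by rw [hpow]; linear_combination ((j : ℕ) : ZMod (p ^ (m - 1))) * hpe) hp.ne_zero
    have hf : Function.Injective f := by
      intro i j hij
      have h1 : 1 + (i : ℕ) * e = 1 + (j : ℕ) * e := congrArg Units.val hij
      have h2 : ((i : ℕ) * p ^ (m - 2) : ℕ) = ((j : ℕ) * p ^ (m - 2) : ℕ) := by
        have := add_left_cancel h1
        have h3 : (((i : ℕ) * p ^ (m - 2) : ℕ) : ZMod (p ^ (m - 1))) = (((j : ℕ) * p ^ (m - 2) : ℕ)) := by
          push_cast; exact this
        rw [ZMod.natCast_eq_natCast_iff', Nat.mod_eq_of_lt, Nat.mod_eq_of_lt] at h3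
        · exact h3
        all_goals
          rw [show p ^ (m - 1) = p * p ^ (m - 2) by rw [← pow_succ']; congr 1; omega]
          exact Nat.mul_lt_mul_of_pos_right (Fin.is_lt _) (pow_pos hp.pos _)
      exact Fin.ext (Nat.eq_of_mul_eq_mul_right (pow_pos hp.pos _) h2)
    have hle := IsCyclic.card_pow_eq_one_le (α := (ZMod (p ^ (m - 1)))ˣ) hp.pos
    have himg : (Finset.univ.image f) = Finset.univ.filter fun x : (ZMod (p ^ (m - 1)))ˣ => x ^ p = 1 := by
      refine Finset.eq_of_subset_of_card_le (fun x hx => ?_) ?_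
      · obtain ⟨j, -, rfl⟩ := Finset.mem_image.mp hx
        exact Finset.mem_filter.mpr ⟨Finset.mem_univ _, Units.ext (by
          show (1 + ((j : ℕ) : ZMod (p ^ (m - 1))) * e) ^ p = 1
          rw [hpow]; linear_combination ((j : ℕ) : ZMod (p ^ (m - 1))) * hpe)⟩
      · rw [Finset.card_image_of_injective _ hf, Finset.card_univ, Fintype.card_fin]; exact hle
    have hmem : Units.ofPowEqOne (r : ZMod (p ^ (m - 1))) p hcast hp.ne_zero ∈
        Finset.univ.filter (fun x : (ZMod (p ^ (m - 1)))ˣ => x ^ p = 1) :=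
      Finset.mem_filter.mpr ⟨Finset.mem_univ _, Units.ext hcast⟩
    rw [← himg] at hmem
    obtain ⟨j, -, hj⟩ := Finset.mem_image.mp hmem
    have hj' : 1 + ((j : ℕ) : ZMod (p ^ (m - 1))) * e = (r : ZMod (p ^ (m - 1))) := congrArg Units.val hj
    refine ⟨j, ?_⟩
    show b * a * b⁻¹ = (a ^ p ^ (m - 2)) ^ (j : ℕ) * a
    rw [hr, ← pow_mul, ← pow_succ, pow_eq_pow_iff_modEq, hao, ← ZMod.natCast_eq_natCast_iff]
    push_cast
    rw [← hj']
    ring
  -- commutators are powers of `z`
  have hzC : z ∈ Subgroup.center G := by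
    refine Subgroup.mem_center_iff.mpr fun b => ?_
    obtain ⟨i, hi⟩ := hcom b
    have hza : Commute (z ^ i) a := ((Commute.refl a).pow_left _).pow_left _
    have h : b * z * b⁻¹ = z := by
      show b * a ^ p ^ (m - 2) * b⁻¹ = _
      rw [← conj_pow, hi, hza.mul_pow, ← pow_mul, mul_comm i, pow_mul]
      have : (z ^ p ^ (m - 2)) = 1 := by
        rw [show p ^ (m - 2) = p * p ^ (m - 3) by rw [← pow_succ']; congr 1; omega, pow_mul, hzp, one_pow]
      rw [this, one_pow, one_mul]
    calc b * z = b * z * b⁻¹ * b := by group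
      _ = z * b := by rw [h]
  let D := Subgroup.zpowers z
  haveI hDn : D.Normal := by
    refine ⟨fun x hx g => ?_⟩
    obtain ⟨i, rfl⟩ := hx
    rw [Subgroup.mem_center_iff.mp (Subgroup.zpow_mem _ hzC i) g, mul_inv_cancel_right]
    exact Subgroup.zpow_mem_zpowers _ _
  have hcomm : ∀ x y : G, x * y * x⁻¹ * y⁻¹ ∈ D := by
    have key : ∀ x y : G ⧸ D, x * y = y * x := by
      obtain ⟨b, hb⟩ : ∃ b, b ∉ C := by
        by_contra! h
        rw [(Subgroup.eq_top_iff' C).mpr h, Subgroup.index_top] at hCi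
        exact hp.one_lt.ne hCi
      have htop : Subgroup.closure ({(a : G ⧸ D), (b : G ⧸ D)} : Set (G ⧸ D)) = ⊤ := by
        have h0 : Subgroup.closure ({a, b} : Set G) = ⊤ := by
          refine (Cores.isCoatom_of_prime_index (hCi.symm ▸ hp)).2 _ (lt_of_le_of_ne ?_ fun e => hb ?_)
          · rw [← ha]; exact Subgroup.zpowers_le.mpr (Subgroup.subset_closure (by simp))
          · rw [e]; exact Subgroup.subset_closure (by simp)
        have := congrArg (Subgroup.map (QuotientGroup.mk' D)) h0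
        rw [MonoidHom.map_closure, Subgroup.map_top_of_surjective _ (QuotientGroup.mk'_surjective D)] at this
        simpa [Set.image_insert_eq] using this
      have hab : ((b : G ⧸ D)) * a = a * b := by
        obtain ⟨i, hi⟩ := hcom b
        rw [← QuotientGroup.mk_mul, ← QuotientGroup.mk_mul, show b * a = z ^ i * (a * b) by
          rw [← mul_assoc, ← hi]; group, QuotientGroup.mk_mul,
          (QuotientGroup.eq_one_iff _).mpr (D.pow_mem (Subgroup.mem_zpowers z) i), one_mul]
      have hcen : (⊤ : Subgroup (G ⧸ D)) ≤ Subgroup.center (G ⧸ D) := by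
        rw [← htop, Subgroup.closure_le]
        intro u hu
        refine Subgroup.mem_center_iff.mpr fun v => ?_
        have : (⊤ : Subgroup (G ⧸ D)) ≤ Subgroup.centralizer {u} := by
          rw [← htop, Subgroup.closure_le]
          intro w hw
          rw [SetLike.mem_coe, Subgroup.mem_centralizer_singleton_iff]
          rcases hu with rfl | rfl <;> rcases hw with rfl | rfl
          · rfl
          · exact hab
          · exact hab.symm
          · rfl
        exact Subgroup.mem_centralizer_singleton_iff.mp (this (Subgroup.mem_top v))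
      exact fun x y => Subgroup.mem_center_iff.mp (hcen (Subgroup.mem_top y)) x
    intro x y
    rw [← QuotientGroup.eq_one_iff, QuotientGroup.mk_mul, QuotientGroup.mk_mul, QuotientGroup.mk_mul,
      QuotientGroup.mk_inv, QuotientGroup.mk_inv, key (x : G ⧸ D) y, mul_inv_cancel_right, mul_inv_cancel]
  have hDc : ∀ d ∈ D, d ∈ Subgroup.center G ∧ d ^ p = 1 := by
    rintro d ⟨i, rfl⟩
    refine ⟨Subgroup.zpow_mem _ hzC i, ?_⟩
    show (z ^ i) ^ p = 1
    rw [← zpow_natCast, ← zpow_mul, mul_comm, zpow_mul, zpow_natCast, hzp, one_zpow]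
  have hmulp : ∀ x y : G, (x * y) ^ p = x ^ p * y ^ p := by
    intro x y
    have hc := hDc _ (hcomm y x)
    rw [OddLocal.mul_pow_of_central_commutator (z := x) (x := y) (c := y * x * y⁻¹ * x⁻¹)
      (Subgroup.mem_center_iff.mp hc.1 x) (Subgroup.mem_center_iff.mp hc.1 y) (by group) p]
    obtain ⟨t, ht⟩ := hp.dvd_choose_self two_ne_zero (lt_of_le_of_ne hp.two_le (Ne.symm hp2))
    rw [ht, pow_mul, hc.2, one_pow, one_mul]
  have hmulpj : ∀ (j : ℕ) (x y : G), (x * y) ^ p ^ j = x ^ p ^ j * y ^ p ^ j := by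
    intro j
    induction j with
    | zero => intro x y; simp
    | succ j ih => intro x y; rw [pow_succ, pow_mul, ih, hmulp, ← pow_mul, ← pow_mul]
  let ψ : G →* G := { toFun := fun x => x ^ p ^ (m - 2), map_one' := one_pow _, map_mul' := hmulpj (m - 2) }
  have hψrange : ψ.range = D := by
    apply le_antisymm
    · rintro _ ⟨x, rfl⟩
      have h1 : x ^ p ∈ Subgroup.zpowers a := by rw [ha]; exact hCi ▸ Subgroup.pow_index_mem C x
      rw [← mem_powers_iff_mem_zpowers, Submonoid.mem_powers_iff] at h1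
      obtain ⟨i, hi⟩ := h1
      show x ^ p ^ (m - 2) ∈ D
      rw [show p ^ (m - 2) = p * p ^ (m - 3) by rw [← pow_succ']; congr 1; omega, pow_mul, ← hi, ← pow_mul]
      have hpi : p ∣ i := by
        by_contra hpi
        apply hnc
        refine isCyclic_of_orderOf_eq_card x ?_
        have h2 : orderOf (x ^ p) = p ^ (m - 1) := by
          rw [← hi, (Nat.Coprime.orderOf_pow (by rw [hao]; exact Nat.Coprime.pow_left _ ((hp.coprime_iff_not_dvd).mpr hpi))), hao]
        obtain ⟨j, -, hj⟩ := (Nat.dvd_prime_pow hp).mp (hG ▸ orderOf_dvd_natCard x)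
        have h3 := orderOf_pow_dvd (x := x) p
        rw [h2, hj] at h3
        have hj1 : 1 ≤ j := by
          have := (Nat.pow_dvd_pow_iff_le_right hp.one_lt).mp h3
          omega
        have h4 : orderOf (x ^ p) = p ^ (j - 1) := by
          rw [orderOf_pow, hj, Nat.gcd_eq_right (dvd_pow_self p (by omega)), Nat.div_eq_of_eq_mul_left hp.pos]
          rw [← pow_succ]; congr 1; omega
        have := Nat.pow_right_injective hp.two_le (h2.symm.trans h4)
        rw [hj, hG]; congr 1; omega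
      obtain ⟨i', rfl⟩ := hpi
      rw [show p * i' * p ^ (m - 3) = p ^ (m - 2) * i' by
        rw [show m - 2 = m - 3 + 1 by omega, pow_succ]; ring, pow_mul]
      exact D.pow_mem (Subgroup.mem_zpowers z) i'
    · exact Subgroup.zpowers_le.mpr ⟨a, rfl⟩
  have hker : Nat.card ψ.ker * p = p ^ m := by
    rw [← hG, ← ψ.ker.card_mul_index, Subgroup.index_ker, hψrange, Nat.card_zpowers, hzo]
  let T := {x : G // orderOf x = p ^ (m - 1)}
  have hTker : ∀ x : G, orderOf x = p ^ (m - 1) ↔ x ∉ ψ.ker := by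
    intro x
    rw [MonoidHom.mem_ker]
    show _ ↔ ¬ x ^ p ^ (m - 2) = 1
    constructor
    · intro h h'
      have := (Nat.pow_dvd_pow_iff_le_right hp.one_lt).mp (h ▸ orderOf_dvd_of_pow_eq_one h')
      omega
    · intro h
      have h1 : (x ^ p ^ (m - 2)) ^ p = 1 := (hDc _ (hψrange ▸ ⟨x, rfl⟩)).2
      obtain ⟨j, hj1, hj⟩ := (Nat.dvd_prime_pow hp).mp (orderOf_dvd_of_pow_eq_one
        (show x ^ p ^ (m - 1) = 1 by rw [show m - 1 = m - 2 + 1 by omega, pow_succ, pow_mul, h1]))
      rcases Nat.lt_or_ge j (m - 1) with hlt | hge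
      · exact absurd (orderOf_dvd_iff_pow_eq_one.mp (hj ▸ pow_dvd_pow p (by omega))) h
      · rw [hj, show j = m - 1 by omega]
  have hT : Nat.card T = p * Nat.totient (p ^ (m - 1)) := by
    rw [Nat.card_congr (Equiv.subtypeEquivRight hTker), Nat.card_eq_fintype_card,
      Fintype.card_subtype_compl, ← Nat.card_eq_fintype_card, ← Nat.card_eq_fintype_card, hG,
      Nat.totient_prime_pow hp (by omega)]
    have e : p ^ m = p ^ (m - 1 - 1) * (p * p) := by rw [← mul_assoc, ← pow_succ, ← pow_succ]; congr 1; omega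
    have e2 : Nat.card ψ.ker = p ^ (m - 1 - 1) * p :=
      Nat.eq_of_mul_eq_mul_right hp.pos (hker.trans (e.trans (mul_assoc _ _ _).symm))
    rw [e]
    show _ - Nat.card ψ.ker = _
    rw [e2, ← Nat.mul_sub]
    rw [show p * p - p = p * (p - 1) by rw [Nat.mul_sub, mul_one]]
    ring
  let X := {M : Subgroup G // M.index = p ∧ IsCyclic M}
  let f : T → X := fun x => ⟨Subgroup.zpowers x.1,
    by
      have := (index_card hp hG (show 1 ≤ m by omega) (Subgroup.zpowers x.1)).mpr (by rw [Nat.card_zpowers, x.2])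
      simpa using this,
    Subgroup.isCyclic_zpowers x.1⟩
  have hfib : ∀ M : X, Nat.card {x : T // f x = M} = Nat.totient (p ^ (m - 1)) := by
    intro M
    have hM : Nat.card M.1 = p ^ (m - 1) := (index_card hp hG (by omega) _).mp (by rw [pow_one]; exact M.2.1)
    haveI := M.2.2
    haveI := Fintype.ofFinite M.1
    rw [← IsCyclic.card_orderOf_eq_totient (α := M.1) (d := p ^ (m - 1)) (by rw [← Nat.card_eq_fintype_card, hM]),
      ← Fintype.card_subtype, ← Nat.card_eq_fintype_card]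
    exact Nat.card_congr
      { toFun := fun x => ⟨⟨x.1.1, congrArg Subtype.val x.2 ▸ Subgroup.mem_zpowers x.1.1⟩, by
          rw [← Subgroup.orderOf_coe]; exact x.1.2⟩
        invFun := fun x => ⟨⟨x.1.1, by rw [Subgroup.orderOf_coe]; exact x.2⟩, Subtype.ext
          (Subgroup.eq_of_le_of_card_ge (Subgroup.zpowers_le.mpr x.1.2)
            (by rw [Nat.card_zpowers, Subgroup.orderOf_coe, x.2, hM]))⟩
        left_inv := fun x => rfl
        right_inv := fun x => rfl }
  haveI := Fintype.ofFinite X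
  rw [Nat.card_congr (Equiv.sigmaFiberEquiv f).symm, Nat.card_sigma,
    Finset.sum_congr rfl (fun H _ => hfib H), Finset.sum_const, smul_eq_mul, Finset.card_univ,
    ← Nat.card_eq_fintype_card] at hT
  exact Nat.eq_of_mul_eq_mul_right (Nat.totient_pos.mpr (pow_pos hp.pos _)) hT

/-- The recursion step, given the number of exceptional maximal subgroups. -/
theorem recursion {p m k : ℕ} [Fact p.Prime] [Finite G] (hG : Nat.card G = p ^ m) (hnc : ¬ IsCyclic G)
    (hk : k < m) (P : Subgroup G → Prop)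
    (hgood : ∀ M : Subgroup G, M.index = p → ¬ P M → k + 1 < m → (cnt M (p ^ k) : ZMod (p ^ 2)) = 1 + p)
    (hbad : ∀ M : Subgroup G, M.index = p → P M → k + 1 < m → (cnt M (p ^ k) : ZMod (p ^ 2)) = 1)
    (hdvd : k + 1 < m → p ∣ Nat.card {M : Subgroup G // M.index = p ∧ P M}) :
    (cnt G (p ^ k) : ZMod (p ^ 2)) = 1 + p := by
  classical
  have hp : p.Prime := Fact.out
  obtain ⟨c, hc2, hc⟩ := two_le_index hG hnc
  obtain ⟨hn, he, hcm⟩ := frattini_index hG (frattini G) le_rfl
  have hQ : Nat.card (G ⧸ frattini G) = p ^ c := by rw [← Subgroup.index_eq_card, hc]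
  have hPhi : ∀ M : Subgroup G, M.index = p → frattini G ≤ M := fun M h =>
    frattini_le_coatom (Cores.isCoatom_of_prime_index (h.symm ▸ hp))
  have hnmax : (Nat.card {M : Subgroup G // M.index = p} : ZMod (p ^ 2)) = 1 + p := by
    rw [← cnt_max hQ hc2 he hcm, ← card_eq_cnt hp hQ (show 1 ≤ c by omega), pow_one, card_quotient]
    congr 1
    exact Nat.card_congr (Equiv.subtypeEquivRight fun M => ⟨fun h => ⟨hPhi M h, h⟩, fun h => h.2⟩)
  by_cases hk1 : k + 1 = m
  · rw [← hnmax, show k = m - 1 by omega, ← card_eq_cnt hp hG (show 1 ≤ m by omega), pow_one]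
  have hk2 : k + 1 < m := by omega
  haveI : Fintype {M : Subgroup G // M.index = p} := Fintype.ofFinite _
  haveI : Fintype {N : Subgroup G // frattini G ≤ N ∧ N.index = p ^ 2} := Fintype.ofFinite _
  rw [enumeration hG k hk]
  have hN : (p : ZMod (p ^ 2)) * ∑ N : {N : Subgroup G // frattini G ≤ N ∧ N.index = p ^ 2},
      (cnt N.1 (p ^ k) : ZMod (p ^ 2)) = p := by
    rw [Finset.mul_sum, Finset.sum_congr rfl fun N _ => mul_prime_eq hp (cnt_modEq_one hp (k := k) ?_)]
    · rw [Finset.sum_const, Finset.card_univ, nsmul_eq_mul, mul_comm, ← Nat.card_eq_fintype_card,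
        ← card_quotient, card_eq_cnt hp hQ hc2]
      exact mul_prime_eq hp (cnt_modEq_one hp (hQ ▸ pow_dvd_pow p (by omega)))
    · rw [(index_card hp hG (show 2 ≤ m by omega) N.1).mp N.2.2]
      exact pow_dvd_pow p (by omega)
  have hM : ∀ M : {M : Subgroup G // M.index = p},
      (cnt M.1 (p ^ k) : ZMod (p ^ 2)) = (1 + p) - if P M.1 then (p : ZMod (p ^ 2)) else 0 := by
    intro M
    split_ifs with h
    · rw [hbad M.1 M.2 h hk2]; ring
    · rw [hgood M.1 M.2 h hk2]; ring
  rw [hN, Finset.sum_congr rfl fun M _ => hM M, Finset.sum_sub_distrib, Finset.sum_const, Finset.card_univ,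
    ← Nat.card_eq_fintype_card, nsmul_eq_mul, hnmax]
  obtain ⟨t, ht⟩ := hdvd hk2
  have hbadsum : ∑ M : {M : Subgroup G // M.index = p}, (if P M.1 then (p : ZMod (p ^ 2)) else 0) =
      (p : ZMod (p ^ 2)) * (p * t) := by
    rw [← Finset.sum_filter, Finset.sum_const, nsmul_eq_mul, ← Fintype.card_subtype,
      ← Nat.card_eq_fintype_card,
      Nat.card_congr (Equiv.subtypeSubtypeEquivSubtypeInter (fun M : Subgroup G => M.index = p) P), ht]
    push_cast; ring
  have h0 : ((p : ZMod (p ^ 2))) ^ 2 = 0 := by exact_mod_cast ZMod.natCast_self (p ^ 2)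
  rw [hbadsum]
  linear_combination (1 - (t : ZMod (p ^ 2))) * h0

/-- Kulakoff's theorem, for odd primes. -/
theorem cnt_odd {p : ℕ} [Fact p.Prime] (hp2 : p ≠ 2) (m : ℕ) :
    ∀ (G : Type u) [Group G] [Finite G], Nat.card G = p ^ m → ¬ IsCyclic G → ∀ k, 1 ≤ k → k < m →
      (cnt G (p ^ k) : ZMod (p ^ 2)) = 1 + p := by
  classical
  induction m using Nat.strong_induction_on with
  | _ m ih =>
    intro G _ _ hG hnc k hk1 hk
    have hp : p.Prime := Fact.out
    have hcard : ∀ M : Subgroup G, M.index = p → Nat.card M = p ^ (m - 1) := fun M h =>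
      (index_card hp hG (by omega) M).mp (by rw [pow_one]; exact h)
    refine recursion hG hnc hk (fun M => IsCyclic M) (fun M hM hc hkm => ?_) (fun M hM hc hkm => ?_) (fun hkm => ?_)
    · exact ih (m - 1) (by omega) M (hcard M hM) hc k hk1 (by omega)
    · haveI := hc
      rw [cnt_of_isCyclic (by rw [hcard M hM]; exact pow_dvd_pow p (by omega)), Nat.cast_one]
    · by_cases hex : ∃ C : Subgroup G, C.index = p ∧ IsCyclic C
      · obtain ⟨C, hCi, hC⟩ := hex
        rw [card_cyclic_max hp2 (by omega) hG hnc hC hCi]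
      · haveI : IsEmpty {M : Subgroup G // M.index = p ∧ IsCyclic M} := ⟨fun M => hex ⟨M.1, M.2⟩⟩
        simp

end Cfsg.Agent.Lib.PGroups.SubgroupCount
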