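import Cfsg.Agent.Lib.PGroups.SubgroupCount
import Mathlib

/-!
The number of subgroups of order `p ^ a` of a group agrees modulo `p ^ 2` with that of a Sylow subgroup.
-/

set_option autoImplicit false
set_option linter.style.haveILetI false
set_option linter.unusedSectionVars false

namespace Cfsg.Agent.Lib.PGroups.SubgroupCount

universe u

/-- An invariant weight is divisible when it is so on each orbit. -/
theorem dvd_sum_orbits {A X : Type*} [Group A] [MulAction A X] [Fintype X] (n : ℕ) (f : X → ℕ)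
    (hf : ∀ (a : A) x, f (a • x) = f x) (h : ∀ x, n ∣ Nat.card (MulAction.orbit A x) * f x) :
    n ∣ ∑ x, f x := by
  classical
  rw [← (MulAction.selfEquivSigmaOrbits A X).symm.sum_comp f, Fintype.sum_sigma]
  refine Finset.dvd_sum fun ω _ => ?_
  rw [Finset.sum_congr rfl (fun (y : MulAction.orbit A (Quotient.out ω)) _ => show
    f ((MulAction.selfEquivSigmaOrbits A X).symm ⟨ω, y⟩) = f (Quotient.out ω) from ?_), Finset.sum_const,
    smul_eq_mul, Finset.card_univ, ← Nat.card_eq_fintype_card]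
  · exact h _
  · obtain ⟨a, ha⟩ := y.2
    show f (y : X) = _
    rw [← ha]; exact hf a _

variable {G : Type u} [Group G]

open scoped Pointwise

theorem mem_normalizer_iff_smul (H : Subgroup G) (g : G) :
    g ∈ Subgroup.normalizer (H : Set G) ↔ MulAut.conj g • H = H := by
  rw [Subgroup.mem_normalizer_iff]
  constructor
  · intro h
    ext x
    rw [Subgroup.mem_pointwise_smul_iff_inv_smul_mem, MulAut.smul_def, MulAut.conj_inv_apply, h]
    simp [mul_assoc]
  · intro h x
    nth_rewrite 2 [← h]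
    rw [Subgroup.mem_pointwise_smul_iff_inv_smul_mem, MulAut.smul_def, MulAut.conj_inv_apply]
    simp [mul_assoc]

/-- Fixed points of a `p`-group acting by conjugation on its subgroups. -/
theorem normal_count [Finite G] {p a : ℕ} [Fact p.Prime] (Q R : Subgroup G) (hQ : IsPGroup p Q)
    (hQR : Q ≤ Subgroup.normalizer (R : Set G)) :
    Nat.card {H : Subgroup G // (H ≤ R ∧ Nat.card H = p ^ a) ∧ Q ≤ Subgroup.normalizer (H : Set G)} ≡
      cnt R (p ^ a) [MOD p] := by
  rw [cnt_subgroup]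
  let X := {H : Subgroup G // H ≤ R ∧ Nat.card H = p ^ a}
  letI : MulAction Q X :=
    { smul := fun g H => ⟨MulAut.conj (g : G) • H.1, by
        refine ⟨?_, by rw [← Nat.card_congr (Subgroup.equivSMul _ H.1).toEquiv]; exact H.2.2⟩
        exact (Subgroup.pointwise_smul_le_pointwise_smul_iff.mpr H.2.1).trans
          (le_of_eq ((mem_normalizer_iff_smul R g).mp (hQR g.2)))⟩
      one_smul := fun H => Subtype.ext (show MulAut.conj ((1 : Q) : G) • H.1 = H.1 by
        rw [Subgroup.coe_one, map_one, one_smul])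
      mul_smul := fun g h H => Subtype.ext (show MulAut.conj ((g * h : Q) : G) • H.1 = _ by
        rw [Subgroup.coe_mul, map_mul, mul_smul]; rfl) }
  refine ((hQ.card_modEq_card_fixedPoints X).trans (show _ % p = _ % p from congrArg (· % p) ?_)).symm
  exact Nat.card_congr
    { toFun := fun H => ⟨H.1.1, H.1.2, fun g hg => (mem_normalizer_iff_smul _ g).mpr
        (congrArg Subtype.val (H.2 ⟨g, hg⟩))⟩
      invFun := fun H => ⟨⟨H.1, H.2.1⟩, fun g => Subtype.ext ((mem_normalizer_iff_smul _ _).mp (H.2.2 g.2))⟩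
      left_inv := fun H => rfl
      right_inv := fun H => rfl }

set_option maxHeartbeats 1600000 in
/-- `s(G) ≡ s(P)` modulo `p ^ 2`. -/
theorem cnt_sylow [Finite G] {p a : ℕ} [Fact p.Prime] (P : Sylow p G) (ha : p ^ (a + 1) ∣ Nat.card G) :
    (cnt G (p ^ a) : ZMod (p ^ 2)) = (cnt (P : Subgroup G) (p ^ a) : ZMod (p ^ 2)) := by
  classical
  have hp : p.Prime := Fact.out
  let P₀ : Subgroup G := P
  let Hs := {H : Subgroup G // Nat.card H = p ^ a}
  let B := {H : Hs // ¬ H.1 ≤ P₀}
  have hsplit : cnt G (p ^ a) = cnt P₀ (p ^ a) + Nat.card B := by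
    have e := Nat.card_congr (Equiv.sumCompl fun H : Hs => H.1 ≤ P₀)
    rw [Nat.card_sum] at e
    show Nat.card Hs = _
    rw [← e, cnt_subgroup]
    congr 1
    exact Nat.card_congr ((Equiv.subtypeSubtypeEquivSubtypeInter (fun H : Subgroup G => Nat.card H = p ^ a)
      (fun H => H ≤ P₀)).trans (Equiv.subtypeEquivRight fun H => and_comm))
  rw [hsplit, Nat.cast_add, add_eq_left, ZMod.natCast_eq_zero_iff]
  have hmapP : ∀ g : P₀, MulAut.conj (g : G) • P₀ = P₀ := fun g =>
    (mem_normalizer_iff_smul P₀ g).mp (Subgroup.le_normalizer g.2)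
  letI : MulAction P₀ B :=
    { smul := fun g H => ⟨⟨MulAut.conj (g : G) • H.1.1, by
          rw [← Nat.card_congr (Subgroup.equivSMul _ H.1.1).toEquiv]; exact H.1.2⟩, fun h => H.2 (by
          show H.1.1 ≤ P₀
          exact Subgroup.pointwise_smul_le_pointwise_smul_iff.mp (h.trans (hmapP g).ge))⟩
      one_smul := fun H => Subtype.ext (Subtype.ext (show MulAut.conj ((1 : P₀) : G) • H.1.1 = H.1.1 by
        rw [Subgroup.coe_one, map_one, one_smul]))
      mul_smul := fun g h H => Subtype.ext (Subtype.ext (show MulAut.conj ((g * h : P₀) : G) • H.1.1 = _ by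
        rw [Subgroup.coe_mul, map_mul, mul_smul]; rfl)) }
  have hsyl : ∀ Q : Subgroup G, IsPGroup p Q → P₀ ≤ Q → Q = P₀ := fun Q hQ hle => P.3 hQ hle
  have hstab : ∀ H : B, MulAction.stabilizer P₀ H = (Subgroup.normalizer (H.1.1 : Set G)).subgroupOf P₀ := by
    intro H
    ext g
    rw [MulAction.mem_stabilizer_iff, Subgroup.mem_subgroupOf, mem_normalizer_iff_smul]
    exact ⟨fun h => congrArg (fun K : B => K.1.1) h, fun h => Subtype.ext (Subtype.ext h)⟩
  have horb : ∀ H : B, Nat.card (MulAction.orbit P₀ H) =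
      (Subgroup.normalizer (H.1.1 : Set G)).relIndex P₀ := fun H => by
    rw [Nat.card_coe_set_eq, ← MulAction.index_stabilizer, hstab]; rfl
  have hHp : ∀ H : Hs, IsPGroup p H.1 := fun H => IsPGroup.of_card H.2
  obtain ⟨m, hmP⟩ := P.2.exists_card_eq
  have hm : Nat.card P₀ = p ^ m := hmP
  have hdiv : ∀ H : B, p ∣ (Subgroup.normalizer (H.1.1 : Set G)).relIndex P₀ := by
    intro H
    obtain ⟨j, -, hj⟩ := (Nat.dvd_prime_pow hp).mp (show (Subgroup.normalizer (H.1.1 : Set G)).relIndex P₀ ∣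
      p ^ m from hm ▸ Subgroup.relIndex_dvd_card _ _)
    rw [hj]
    refine dvd_pow_self p fun h0 => H.2 ?_
    rw [h0, pow_zero, Subgroup.relIndex_eq_one] at hj
    have := hsyl (P₀ ⊔ H.1.1) (P.2.to_sup_of_normal_right' (hHp H.1) hj) le_sup_left
    exact le_sup_right.trans this.le
  haveI : Fintype B := Fintype.ofFinite _
  let w : B → ℕ := fun H => if (Subgroup.normalizer (H.1.1 : Set G)).relIndex P₀ = p then 1 else 0
  let Bp := {H : B // (Subgroup.normalizer (H.1.1 : Set G)).relIndex P₀ = p}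
  have hinv : ∀ (g : P₀) (H : B), (Subgroup.normalizer ((g • H).1.1 : Set G)).relIndex P₀ =
      (Subgroup.normalizer (H.1.1 : Set G)).relIndex P₀ := fun g H => by
    rw [← horb, ← horb, MulAction.orbit_smul]
  have hbig : p ^ 2 ∣ ∑ H : B, (1 - w H) := by
    refine dvd_sum_orbits (A := P₀) _ _ (fun g H => by simp only [w, hinv]) fun H => ?_
    by_cases h : (Subgroup.normalizer (H.1.1 : Set G)).relIndex P₀ = p
    · simp [w, h]
    · simp only [w, if_neg h, Nat.sub_zero, mul_one, horb]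
      obtain ⟨j, -, hj⟩ := (Nat.dvd_prime_pow hp).mp (show (Subgroup.normalizer (H.1.1 : Set G)).relIndex P₀ ∣
        p ^ m from hm ▸ Subgroup.relIndex_dvd_card _ _)
      rw [hj] at h ⊢
      refine pow_dvd_pow p ?_
      have := hdiv H
      rw [hj] at this
      rcases j with _ | _ | j
      · simp at this; exact absurd this hp.one_lt.ne'
      · simp at h
      · omega
  -- orbits of size `p`
  have ham : a + 1 ≤ m := by
    have h1 := P.pow_dvd_card_of_pow_dvd_card ha
    exact (Nat.pow_dvd_pow_iff_le_right hp.one_lt).mp (hm ▸ h1)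
  let Y := {Q : Sylow p G // ((Q : Subgroup G) ⊓ P₀).relIndex P₀ = p}
  let t : Y → ℕ := fun Q => Nat.card {H : Subgroup G //
    ((H ≤ (Q.1 : Subgroup G) ∧ Nat.card H = p ^ a) ∧ (Q.1 : Subgroup G) ≤ Subgroup.normalizer (H : Set G)) ∧ ¬ H ≤ P₀}
  have ht : ∀ Q : Y, p ∣ t Q := by
    intro Q
    let Q₀ : Subgroup G := Q.1
    let R : Subgroup G := Q₀ ⊓ P₀
    have hQcard : Nat.card Q₀ = p ^ m := by rw [← hm]; exact (Q.1.card_eq_multiplicity).trans P.card_eq_multiplicity.symm
    have hR : Nat.card R * p = p ^ m := by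
      have h := (R.subgroupOf P₀).card_mul_index
      rw [Nat.card_congr (Subgroup.subgroupOfEquivOfLe (show R ≤ P₀ from inf_le_right)).toEquiv, hm] at h
      rwa [show (R.subgroupOf P₀).index = p from Q.2] at h
    have hRQ : Q₀ ≤ Subgroup.normalizer (R : Set G) := by
      haveI : Group.IsNilpotent Q₀ := Q.1.2.isNilpotent
      have hn : (R.subgroupOf Q₀).index = p := by
        have h := (R.subgroupOf Q₀).card_mul_index
        rw [Nat.card_congr (Subgroup.subgroupOfEquivOfLe (show R ≤ Q₀ from inf_le_left)).toEquiv, hQcard, ← hR] at h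
        exact Nat.eq_of_mul_eq_mul_left Nat.card_pos h
      haveI := (Cores.prime_index_of_isCoatom (Cores.isCoatom_of_prime_index (hn.symm ▸ hp))).1
      exact (Subgroup.normal_subgroupOf_iff_le_normalizer (show R ≤ Q₀ from inf_le_left)).mp inferInstance
    have h1 := normal_count (a := a) Q₀ Q₀ Q.1.2 Subgroup.le_normalizer
    have h2 := normal_count (a := a) Q₀ R Q.1.2 hRQ
    have hca : p ^ a ∣ Nat.card R := by
      obtain ⟨j, -, hj⟩ := (Nat.dvd_prime_pow hp).mp (show Nat.card R ∣ p ^ m from hR ▸ dvd_mul_right _ _)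
      rw [hj] at hR ⊢
      rw [← pow_succ] at hR
      exact pow_dvd_pow p (by have := Nat.pow_right_injective hp.two_le hR; omega)
    have e1 := h1.trans (cnt_modEq_one hp (hQcard ▸ pow_dvd_pow p (by omega)))
    have e2 := h2.trans (cnt_modEq_one hp hca)
    have hsum : Nat.card {H : Subgroup G // (H ≤ Q₀ ∧ Nat.card H = p ^ a) ∧ Q₀ ≤ Subgroup.normalizer (H : Set G)} =
        Nat.card {H : Subgroup G // (H ≤ R ∧ Nat.card H = p ^ a) ∧ Q₀ ≤ Subgroup.normalizer (H : Set G)} + t Q := by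
      rw [← Nat.card_congr (Equiv.sumCompl fun H : {H : Subgroup G // (H ≤ Q₀ ∧ Nat.card H = p ^ a) ∧
        Q₀ ≤ Subgroup.normalizer (H : Set G)} => H.1 ≤ P₀), Nat.card_sum]
      congr 1
      · exact Nat.card_congr
          { toFun := fun H => ⟨H.1.1, ⟨le_inf H.1.2.1.1 H.2, H.1.2.1.2⟩, H.1.2.2⟩
            invFun := fun H => ⟨⟨H.1, ⟨H.2.1.1.trans inf_le_left, H.2.1.2⟩, H.2.2⟩, H.2.1.1.trans inf_le_right⟩
            left_inv := fun H => rfl
            right_inv := fun H => rfl }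
      · exact Nat.card_congr
          { toFun := fun H => ⟨H.1.1, H.1.2, H.2⟩
            invFun := fun H => ⟨⟨H.1, H.2.1⟩, H.2.2⟩
            left_inv := fun H => rfl
            right_inv := fun H => rfl }
    rw [hsum] at e1
    have e3 := (Nat.ModEq.add_right (t Q) e2).symm.trans e1
    exact Nat.modEq_zero_iff_dvd.mp (Nat.ModEq.add_left_cancel' 1 (by simpa using e3))
  -- the Sylow subgroup generated by a subgroup and its stabiliser in `P`
  have hgen : ∀ H : B, (Subgroup.normalizer (H.1.1 : Set G)).relIndex P₀ = p →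
      ∃ Q : Y, H.1.1 ≤ (Q.1 : Subgroup G) ∧ (Q.1 : Subgroup G) ≤ Subgroup.normalizer (H.1.1 : Set G) ∧
        (Q.1 : Subgroup G) = Subgroup.normalizer (H.1.1 : Set G) ⊓ P₀ ⊔ H.1.1 := by
    intro H hH
    let R := Subgroup.normalizer (H.1.1 : Set G) ⊓ P₀
    have hRp : IsPGroup p R := P.2.to_le inf_le_right
    have hRH : IsPGroup p ↥(R ⊔ H.1.1) := hRp.to_sup_of_normal_right' (hHp H.1) inf_le_left
    have hR : Nat.card R * p = p ^ m := by
      have h := (R.subgroupOf P₀).card_mul_index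
      rw [Nat.card_congr (Subgroup.subgroupOfEquivOfLe (show R ≤ P₀ from inf_le_right)).toEquiv, hm] at h
      rwa [show (R.subgroupOf P₀).index = p by rw [← Subgroup.relIndex, Subgroup.inf_relIndex_right, hH]] at h
    obtain ⟨Q, hQ⟩ := hRH.exists_le_sylow
    have hQcard : Nat.card (Q : Subgroup G) = p ^ m := by
      rw [← hm]; exact (Q.card_eq_multiplicity).trans P.card_eq_multiplicity.symm
    have heq : R ⊔ H.1.1 = (Q : Subgroup G) := by
      refine Subgroup.eq_of_le_of_card_ge hQ ?_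
      obtain ⟨j, hj⟩ := hRH.exists_card_eq
      obtain ⟨i, hi⟩ := hRp.exists_card_eq
      have hlt : R < R ⊔ H.1.1 := lt_of_le_of_ne le_sup_left fun e =>
        H.2 ((le_sup_right.trans e.ge).trans inf_le_right)
      have h3 := Set.Finite.card_lt_card (Set.toFinite ((R ⊔ H.1.1 : Subgroup G) : Set G)) hlt
      simp only [SetLike.coe_sort_coe] at h3
      rw [hQcard]
      change Nat.card R < Nat.card ↥(R ⊔ H.1.1) at h3
      rw [hi, hj] at h3
      rw [hi, ← pow_succ] at hR
      have h4 := Nat.pow_right_injective hp.two_le hR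
      have h5 := (Nat.pow_lt_pow_iff_right hp.one_lt).mp h3
      rw [hj]
      exact Nat.pow_le_pow_right hp.pos (by omega)
    have hne : (Q : Subgroup G) ≠ P₀ := fun e => H.2 ((le_sup_right.trans heq.le).trans e.le)
    have hQY : ((Q : Subgroup G) ⊓ P₀).relIndex P₀ = p := by
      have hle : R ≤ (Q : Subgroup G) ⊓ P₀ := le_inf (le_sup_left.trans heq.le) inf_le_right
      have h := Subgroup.relIndex_mul_relIndex _ _ _ hle inf_le_right
      rw [show R.relIndex P₀ = p by rw [Subgroup.inf_relIndex_right, hH]] at h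
      rcases (Nat.dvd_prime hp).mp (Dvd.intro_left _ h) with h1 | h1
      · exact absurd (hsyl _ Q.2 ((Subgroup.relIndex_eq_one.mp h1).trans inf_le_left)) hne
      · exact h1
    refine ⟨⟨Q, hQY⟩, le_sup_right.trans heq.le, ?_, heq.symm⟩
    rw [← heq]
    exact sup_le inf_le_left Subgroup.le_normalizer
  have huniq : ∀ (H : B) (Q : Y), (Subgroup.normalizer (H.1.1 : Set G)).relIndex P₀ = p →
      H.1.1 ≤ (Q.1 : Subgroup G) → (Q.1 : Subgroup G) ≤ Subgroup.normalizer (H.1.1 : Set G) →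
      (Q.1 : Subgroup G) = Subgroup.normalizer (H.1.1 : Set G) ⊓ P₀ ⊔ H.1.1 := by
    intro H Q hH hHQ hQN
    obtain ⟨Q', h1, h2, h3⟩ := hgen H hH
    have hle : (Q.1 : Subgroup G) ⊓ P₀ = Subgroup.normalizer (H.1.1 : Set G) ⊓ P₀ := by
      refine Subgroup.eq_of_le_of_card_ge (inf_le_inf_right _ hQN) (le_of_eq ?_)
      have c1 := ((Subgroup.normalizer (H.1.1 : Set G) ⊓ P₀).subgroupOf P₀).card_mul_index
      have c2 := (((Q.1 : Subgroup G) ⊓ P₀).subgroupOf P₀).card_mul_index
      rw [Nat.card_congr (Subgroup.subgroupOfEquivOfLe inf_le_right).toEquiv, ← Subgroup.relIndex] at c1 c2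
      rw [Subgroup.inf_relIndex_right, hH] at c1
      rw [Q.2] at c2
      exact Nat.eq_of_mul_eq_mul_right hp.pos (c1.trans c2.symm)
    rw [← h3]
    have : (Q'.1 : Subgroup G) ≤ (Q.1 : Subgroup G) := by
      rw [h3, ← hle]; exact sup_le inf_le_left hHQ
    exact Q'.1.3 Q.1.2 this
  have hnorm : ∀ (Q : Y) (H : Subgroup G), H ≤ (Q.1 : Subgroup G) → (Q.1 : Subgroup G) ≤ Subgroup.normalizer (H : Set G) →
      ¬ H ≤ P₀ → Nat.card H = p ^ a → (Subgroup.normalizer (H : Set G)).relIndex P₀ = p := by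
    intro Q H hHQ hQN hHP hc
    have hle : (Q.1 : Subgroup G) ⊓ P₀ ≤ Subgroup.normalizer (H : Set G) ⊓ P₀ := inf_le_inf_right _ hQN
    have h := Subgroup.relIndex_mul_relIndex _ _ _ hle inf_le_right
    rw [Q.2] at h
    rcases (Nat.dvd_prime hp).mp (Dvd.intro_left _ h) with h1 | h1
    · have := hdiv ⟨⟨H, hc⟩, hHP⟩
      rw [← Subgroup.inf_relIndex_right, h1] at this
      exact absurd (Nat.le_of_dvd one_pos this) hp.one_lt.not_ge
    · rwa [Subgroup.inf_relIndex_right] at h1
  haveI : Fintype Y := Fintype.ofFinite _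
  have hBp : Nat.card Bp = ∑ Q : Y, t Q := by
    choose φ hφ1 hφ2 hφ3 using hgen
    refine Eq.trans ?_ (Nat.card_sigma (β := fun Q : Y => {H : Subgroup G //
      ((H ≤ (Q.1 : Subgroup G) ∧ Nat.card H = p ^ a) ∧ (Q.1 : Subgroup G) ≤ Subgroup.normalizer (H : Set G)) ∧ ¬ H ≤ P₀}))
    let Φ : Bp → (Σ Q : Y, {H : Subgroup G //
        ((H ≤ (Q.1 : Subgroup G) ∧ Nat.card H = p ^ a) ∧ (Q.1 : Subgroup G) ≤ Subgroup.normalizer (H : Set G)) ∧ ¬ H ≤ P₀}) :=
      fun H => ⟨φ H.1 H.2, ⟨H.1.1.1, ⟨⟨hφ1 H.1 H.2, H.1.1.2⟩, hφ2 H.1 H.2⟩, H.1.2⟩⟩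
    refine Nat.card_eq_of_bijective Φ ⟨fun H K e => ?_, ?_⟩
    · have e' : H.1.1.1 = K.1.1.1 := congrArg (fun x : (Σ Q : Y, {H : Subgroup G //
          ((H ≤ (Q.1 : Subgroup G) ∧ Nat.card H = p ^ a) ∧ (Q.1 : Subgroup G) ≤ Subgroup.normalizer (H : Set G)) ∧
            ¬ H ≤ P₀}) => x.2.1) e
      exact Subtype.ext (Subtype.ext (Subtype.ext e'))
    · rintro ⟨Q, H, ⟨⟨h1, h2⟩, h3⟩, h4⟩
      have hN := hnorm Q H h1 h3 h4 h2
      let H₀ : B := ⟨⟨H, h2⟩, h4⟩
      have hN₀ : (Subgroup.normalizer (H₀.1.1 : Set G)).relIndex P₀ = p := hN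
      have a1 := hφ3 H₀ hN₀
      have a2 := huniq H₀ Q hN₀ h1 h3
      have e : φ H₀ hN₀ = Q := by
        apply Subtype.ext
        apply Sylow.ext
        rw [a1, a2]
      exact ⟨⟨H₀, hN₀⟩, Sigma.subtype_ext e rfl⟩
  -- `P` acts on the neighbouring Sylow subgroups without fixed points
  have hsmall : p ^ 2 ∣ Nat.card Bp := by
    rw [hBp]
    have hYinv : ∀ (g : P₀) (Q : Sylow p G), ((Q : Subgroup G) ⊓ P₀).relIndex P₀ = p →
        (((g : G) • Q : Sylow p G) : Subgroup G) ⊓ P₀ = MulAut.conj (g : G) • ((Q : Subgroup G) ⊓ P₀) := by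
      intro g Q _
      rw [Sylow.coe_subgroup_smul, Subgroup.smul_inf, hmapP g]
    letI : MulAction P₀ Y :=
      { smul := fun g Q => ⟨(g : G) • Q.1, by
          rw [hYinv g Q.1 Q.2]
          have h := Subgroup.relIndex_pointwise_smul (MulAut.conj (g : G)) ((Q.1 : Subgroup G) ⊓ P₀) P₀
          rw [hmapP g, Q.2] at h
          exact h⟩
        one_smul := fun Q => Subtype.ext (one_smul G Q.1)
        mul_smul := fun g h Q => Subtype.ext (mul_smul (g : G) (h : G) Q.1) }
    refine dvd_sum_orbits (A := P₀) _ _ (fun g Q => ?_) fun Q => ?_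
    · have hs : ∀ K : Subgroup G, MulAut.conj (g : G) • K ≤ P₀ ↔ K ≤ P₀ := fun K =>
        ⟨fun h => Subgroup.pointwise_smul_le_pointwise_smul_iff.mp (h.trans (hmapP g).ge),
          fun h => (Subgroup.pointwise_smul_le_pointwise_smul_iff.mpr h).trans (hmapP g).le⟩
      have hnz : ∀ K : Subgroup G, Subgroup.normalizer ((MulAut.conj (g : G) • K : Subgroup G) : Set G) =
          MulAut.conj (g : G) • Subgroup.normalizer (K : Set G) := by
        intro K
        ext x
        rw [mem_normalizer_iff_smul, Subgroup.mem_pointwise_smul_iff_inv_smul_mem, MulAut.smul_def,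
          MulAut.conj_inv_apply, mem_normalizer_iff_smul, map_mul, map_mul, map_inv, mul_smul, mul_smul,
          inv_smul_eq_iff]
      refine (Nat.card_congr ((MulAction.toPerm (MulAut.conj (g : G)) : Equiv.Perm (Subgroup G)).subtypeEquiv
        fun K => ?_)).symm
      show _ ↔ ((MulAut.conj (g : G) • K ≤ MulAut.conj (g : G) • (Q.1 : Subgroup G) ∧
        Nat.card ↥(MulAut.conj (g : G) • K) = p ^ a) ∧ MulAut.conj (g : G) • (Q.1 : Subgroup G) ≤
          Subgroup.normalizer ((MulAut.conj (g : G) • K : Subgroup G) : Set G)) ∧ ¬ MulAut.conj (g : G) • K ≤ P₀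
      rw [hnz, Subgroup.pointwise_smul_le_pointwise_smul_iff, Subgroup.pointwise_smul_le_pointwise_smul_iff,
        hs, ← Nat.card_congr (Subgroup.equivSMul (MulAut.conj (g : G)) K).toEquiv]
    · have hnt : MulAction.orbit P₀ Q ≠ {Q} := by
        intro h
        have hfix : ∀ g : P₀, (g : G) • Q.1 = Q.1 := fun g =>
          congrArg Subtype.val (h ▸ MulAction.mem_orbit Q g : g • Q ∈ ({Q} : Set Y))
        have hle : P₀ ≤ Subgroup.normalizer ((Q.1 : Subgroup G) : Set G) := fun g hg => by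
          rw [mem_normalizer_iff_smul, ← Sylow.coe_subgroup_smul]
          exact congrArg _ (hfix ⟨g, hg⟩)
        have e := hsyl _ (P.2.to_sup_of_normal_right' Q.1.2 hle) le_sup_left
        have hPQ : P₀ = (Q.1 : Subgroup G) := Q.1.3 P.2 (le_sup_right.trans e.le)
        have h2 := Q.2
        rw [← hPQ, inf_idem, Subgroup.relIndex_self] at h2
        exact hp.one_lt.ne h2
      obtain ⟨j, hj⟩ := P.2.card_orbit Q
      have hj0 : j ≠ 0 := by
        rintro rfl
        rw [pow_zero] at hj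
        obtain ⟨⟨y⟩, -⟩ : Nonempty (MulAction.orbit P₀ Q) ∧ True := ⟨⟨⟨Q, MulAction.mem_orbit_self Q⟩⟩, trivial⟩
        haveI := (Nat.card_eq_one_iff_unique.mp hj).1
        exact hnt (Set.eq_singleton_iff_unique_mem.mpr ⟨MulAction.mem_orbit_self Q, fun z hz =>
          congrArg Subtype.val (Subsingleton.elim (⟨z, hz⟩ : MulAction.orbit P₀ Q) ⟨Q, MulAction.mem_orbit_self Q⟩)⟩)
      rw [hj, sq]
      exact Nat.mul_dvd_mul (dvd_pow_self p hj0) (ht Q)
  have hw : Nat.card Bp = ∑ H : B, w H := by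
    rw [Nat.card_eq_fintype_card, Fintype.card_subtype, Finset.sum_boole]; rfl
  have htot : Nat.card B = ∑ H : B, (1 - w H) + ∑ H : B, w H := by
    rw [← Finset.sum_add_distrib, Finset.sum_congr rfl (fun H _ => Nat.sub_add_cancel
      (show w H ≤ 1 by simp only [w]; split_ifs <;> omega)), Finset.sum_const, Finset.card_univ,
      smul_eq_mul, mul_one, Nat.card_eq_fintype_card]
  rw [htot, ← hw]
  exact dvd_add hbig hsmall

end Cfsg.Agent.Lib.PGroups.SubgroupCount
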