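import Cfsg.Agent.Lib.PGroups.SubgroupCount
import Cfsg.Agent.Lib.PGroups.IndexFour
import Cfsg.Agent.Lib.PGroups.MaxClassGen
import Cfsg.Agent.Lib.PGroups.CyclicMaximal

/-!
Kulakoff's theorem for the prime 2: a non-cyclic 2-group that is not of maximal class.
-/

set_option autoImplicit false
set_option linter.style.haveILetI false
set_option linter.unusedSectionVars false

namespace Cfsg.Agent.Lib.PGroups.SubgroupCount

open scoped commutatorElement

universe u

variable {G : Type u} [Group G] [Finite G]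

theorem card_maximal {m : ℕ} (hG : Nat.card G = 2 ^ m) (hm : 1 ≤ m) :
    Nat.card {M : Subgroup G // M.index = 2} = cnt G (2 ^ (m - 1)) := by
  have := card_eq_cnt (G := G) Nat.prime_two hG hm
  rwa [pow_one] at this

theorem cnt_coatoms {p m : ℕ} [Fact p.Prime] (hG : Nat.card G = p ^ m) (hnc : ¬ IsCyclic G) (hm : 2 ≤ m) :
    (cnt G (p ^ (m - 1)) : ZMod (p ^ 2)) = 1 + p :=
  recursion hG hnc (by omega) (fun _ => False) (fun M _ _ h => absurd h (by omega))
    (fun M _ h => h.elim) (fun h => absurd h (by omega))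

theorem index_two_card {m : ℕ} (hG : Nat.card G = 2 ^ m) (M : Subgroup G) (hM : M.index = 2) :
    Nat.card M = 2 ^ (m - 1) := by
  have hm : 1 ≤ m := by
    rcases Nat.eq_zero_or_pos m with rfl | h
    · have := M.index_dvd_card
      rw [hG, hM] at this
      norm_num at this
    · exact h
  exact (index_card Nat.prime_two hG hm M).mp (by rw [pow_one, hM])

theorem sq_mem_of_index_four {m : ℕ} (hG : Nat.card G = 2 ^ m) (hm : 3 ≤ m) (h4 : (commutator G).index = 4) :
    ∀ x : G, x ^ 2 ∈ commutator G := by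
  haveI : Fact (Nat.Prime 2) := ⟨Nat.prime_two⟩
  intro x
  rw [← QuotientGroup.eq_one_iff, QuotientGroup.mk_pow]
  have hc : Nat.card (G ⧸ commutator G) = 4 := h4
  by_contra hne
  set y : G ⧸ commutator G := (x : G ⧸ commutator G) with hy
  have hd : orderOf y ∣ 2 ^ 2 := by rw [show (2 : ℕ) ^ 2 = 4 from rfl, ← hc]; exact orderOf_dvd_natCard _
  obtain ⟨j, hj, hjo⟩ := (Nat.dvd_prime_pow Nat.prime_two).mp hd
  have hj2 : j = 2 := by
    by_contra h
    exact hne (orderOf_dvd_iff_pow_eq_one.mp (hjo ▸ (dvd_trans (pow_dvd_pow 2 (show j ≤ 1 by omega)) (by norm_num))))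
  haveI : IsCyclic (G ⧸ commutator G) := isCyclic_of_orderOf_eq_card y (by rw [hc, hjo, hj2]; rfl)
  rw [commutator_eq_bot_of_isCyclic (IsPGroup.of_card hG), Subgroup.index_bot, hG] at h4
  exact absurd ((Nat.pow_right_injective (le_refl 2)) (h4.trans (show (4 : ℕ) = 2 ^ 2 from rfl))) (by omega)

theorem not_index_four_of_cyclic {m : ℕ} (hG : Nat.card G = 2 ^ m) (hm : 3 ≤ m) [IsCyclic G] :
    (commutator G).index ≠ 4 := by
  intro h4
  have : commutator G = ⊥ := by
    rw [commutator_def, eq_bot_iff, Subgroup.commutator_le]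
    intro a _ b _
    rw [Subgroup.mem_bot, commutatorElement_eq_one_iff_mul_comm]
    exact IsMulCommutative.is_comm.comm a b
  rw [this, Subgroup.index_bot, hG] at h4
  exact absurd ((Nat.pow_right_injective (le_refl 2)) (h4.trans (show (4 : ℕ) = 2 ^ 2 from rfl))) (by omega)

/-- In a 2-group of maximal class the non-cyclic maximal subgroups are of maximal class. -/
theorem maxclass_maximal {m : ℕ} (hG : Nat.card G = 2 ^ m) (hm : 4 ≤ m) (h4 : (commutator G).index = 4) :
    ∃ A : Subgroup G, IsCyclic A ∧ A.index = 2 ∧ ∀ M : Subgroup G, M.index = 2 → M ≠ A → (commutator M).index = 4 := by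
  haveI : Fact (Nat.Prime 2) := ⟨Nat.prime_two⟩
  have hP : IsPGroup 2 G := IsPGroup.of_card hG
  obtain ⟨a, b, hao, hai, hb, hD, hDc⟩ := index_four_data hP m hG (by omega) h4 (sq_mem_of_index_four hG (by omega) h4)
  refine ⟨Subgroup.zpowers a, Subgroup.isCyclic_zpowers a, hai, fun M hM hMA => ?_⟩
  obtain ⟨x, hxM, hxA⟩ : ∃ x ∈ M, x ∉ Subgroup.zpowers a := by
    by_contra! h
    refine hMA (Subgroup.eq_of_le_of_card_ge h ?_)
    rw [Nat.card_zpowers, hao, index_two_card hG M hM]
  haveI := Subgroup.normal_of_index_eq_two hM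
  have ha2 : a ^ 2 ∈ M := Subgroup.sq_mem_of_index_two hM a
  haveI := Subgroup.normal_of_index_eq_two hai
  set c := x * a * x⁻¹ * a⁻¹ with hc
  have hle := commutator_le_zpowers_of_index_two hai (Subgroup.mem_zpowers a) le_sup_left hxA
  have hcA : c ∈ Subgroup.zpowers a :=
    mul_mem ((inferInstance : (Subgroup.zpowers a).Normal).conj_mem _ (Subgroup.mem_zpowers a) x)
      (inv_mem (Subgroup.mem_zpowers a))
  have hcom : Commute c a := by
    obtain ⟨j, hj⟩ := Subgroup.mem_zpowers_iff.mp hcA
    rw [← hj]; exact (Commute.refl a).zpow_left j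
  have hDeq : commutator G = Subgroup.zpowers c :=
    le_antisymm hle (Subgroup.zpowers_le.mpr (Subgroup.commutator_mem_commutator (Subgroup.mem_top x) (Subgroup.mem_top a)))
  have hco : orderOf c = 2 ^ (m - 2) := by
    have h := (index_card (i := 2) Nat.prime_two hG (by omega) (commutator G)).mp h4
    rwa [hDeq, Nat.card_zpowers] at h
  have hmem : c ^ 2 ∈ (commutator M).map M.subtype := by
    refine ⟨⁅(⟨x, hxM⟩ : M), (⟨a ^ 2, ha2⟩ : M)⁆,
      Subgroup.commutator_mem_commutator (Subgroup.mem_top _) (Subgroup.mem_top _), ?_⟩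
    rw [map_commutatorElement]
    show ⁅x, a ^ 2⁆ = c ^ 2
    have h1 : x * a ^ 2 * x⁻¹ = c ^ 2 * a ^ 2 := by
      rw [← hcom.mul_pow, hc, inv_mul_cancel_right, conj_pow]
    rw [commutatorElement_def, h1, mul_inv_cancel_right]
  have hcard : 2 ^ (m - 3) ≤ Nat.card (commutator M) := by
    have h1 := Subgroup.card_le_of_le (Subgroup.zpowers_le.mpr hmem)
    rw [Nat.card_zpowers, orderOf_pow, hco, Nat.gcd_eq_right (dvd_pow_self 2 (by omega : m - 2 ≠ 0)),
      Subgroup.card_map_of_injective M.subtype_injective] at h1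
    refine le_trans (le_of_eq ?_) h1
    rw [show m - 2 = m - 3 + 1 by omega, pow_succ, Nat.mul_div_cancel _ two_pos]
  have hMc := index_two_card hG M hM
  have hmul := (commutator M).card_mul_index
  rw [hMc] at hmul
  obtain ⟨j, hj⟩ : ∃ j, (commutator M).index = 2 ^ j := by
    obtain ⟨j, -, hj⟩ := (Nat.dvd_prime_pow Nat.prime_two).mp (hMc ▸ (commutator M).index_dvd_card)
    exact ⟨j, hj⟩
  have hj2 : j ≤ 2 := by
    by_contra h
    have : 2 ^ (m - 3) * 2 ^ j ≤ 2 ^ (m - 1) := hmul ▸ hj ▸ Nat.mul_le_mul_right _ hcard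
    rw [← pow_add, Nat.pow_le_pow_iff_right (le_refl 2)] at this
    omega
  rcases Nat.lt_or_ge j 2 with hlt | hge
  · exfalso
    haveI : IsCyclic (M ⧸ commutator M) := by
      interval_cases j
      · haveI : Subsingleton (M ⧸ commutator M) := by
          rw [← Finite.card_le_one_iff_subsingleton, ← Subgroup.index_eq_card, hj]; rfl
        exact isCyclic_of_subsingleton
      · exact isCyclic_of_prime_card (p := 2) (by rw [← Subgroup.index_eq_card, hj, pow_one])
    have h1 := commutator_eq_bot_of_isCyclic (IsPGroup.of_card hMc)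
    rw [h1, Subgroup.card_bot] at hcard
    have : 2 ^ 1 ≤ 2 ^ (m - 3) := Nat.pow_le_pow_right two_pos (by omega)
    omega
  · rw [hj, show j = 2 by omega]; rfl

theorem cnt_two_eq {m : ℕ} (hG : Nat.card G = 2 ^ m) : cnt G 2 = Nat.card {g : G // orderOf g = 2} := by
  refine (Nat.card_congr (Equiv.ofBijective
    (fun g : {g : G // orderOf g = 2} => (⟨Subgroup.zpowers g.1, by rw [Nat.card_zpowers, g.2]⟩ :
      {H : Subgroup G // Nat.card H = 2})) ⟨fun g g' h => ?_, fun H => ?_⟩)).symm
  · have h' : Subgroup.zpowers g.1 = Subgroup.zpowers g'.1 := congrArg Subtype.val h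
    have h1 : g.1 ∈ Subgroup.zpowers g'.1 := h'.le (Subgroup.mem_zpowers g.1)
    obtain ⟨i, hi⟩ := Subgroup.mem_zpowers_iff.mp h1
    rw [← zpow_mod_orderOf, g'.2] at hi
    rcases Int.emod_two_eq_zero_or_one i with e | e <;> rw [Nat.cast_ofNat, e] at hi
    · exfalso
      rw [zpow_zero] at hi
      have := g.2
      rw [← hi, orderOf_one] at this
      omega
    · exact Subtype.ext (by rw [← hi, zpow_one])
  · haveI : Fact (Nat.Prime 2) := ⟨Nat.prime_two⟩
    obtain ⟨x, hx⟩ := exists_prime_orderOf_dvd_card' (G := H.1) 2 (by rw [H.2])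
    refine ⟨⟨(x : G), by rw [Subgroup.orderOf_coe, hx]⟩, Subtype.ext (Subgroup.eq_of_le_of_card_ge
      (Subgroup.zpowers_le.mpr x.2) (by rw [H.2, Nat.card_zpowers, Subgroup.orderOf_coe, hx]))⟩

/-- Involutions of a non-abelian group of order 8: one or five. -/
theorem cnt_two_eight (hG : Nat.card G = 2 ^ 3) (h4 : (commutator G).index = 4) :
    (cnt G 2 : ZMod (2 ^ 2)) = 1 := by
  classical
  haveI : Fact (Nat.Prime 2) := ⟨Nat.prime_two⟩
  haveI := Fintype.ofFinite G
  have hP : IsPGroup 2 G := IsPGroup.of_card hG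
  obtain ⟨a, b, hao, hai, hb, hD, hDc⟩ := index_four_data hP 3 hG le_rfl h4 (sq_mem_of_index_four hG le_rfl h4)
  have hao' : orderOf a = 4 := hao
  haveI := Subgroup.normal_of_index_eq_two hai
  have ha4 : a ^ 4 = 1 := hao' ▸ pow_orderOf_eq_one a
  have hba : b * a * b⁻¹ = a⁻¹ := by
    obtain ⟨i, hi⟩ := Subgroup.mem_zpowers_iff.mp
      ((inferInstance : (Subgroup.zpowers a).Normal).conj_mem _ (Subgroup.mem_zpowers a) b)
    rw [← zpow_mod_orderOf, hao'] at hi
    have hi0 : 0 ≤ i % ((4 : ℕ) : ℤ) := Int.emod_nonneg _ (by norm_num)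
    have hi4 : i % ((4 : ℕ) : ℤ) < 4 := Int.emod_lt_of_pos _ (by norm_num)
    obtain ⟨j, hj⟩ := Int.eq_ofNat_of_zero_le hi0
    rw [hj, zpow_natCast] at hi
    have hj4 : j < 4 := by omega
    have hne : b * a * b⁻¹ * a⁻¹ ≠ 1 := fun h => by
      rw [h, Subgroup.zpowers_one_eq_bot] at hDc
      rw [hDc, Subgroup.index_bot, hG] at h4
      omega
    have hord : orderOf (b * a * b⁻¹) = 4 := by
      rw [← MulAut.conj_apply, MulEquiv.orderOf_eq]; exact hao'
    interval_cases j
    · rw [← hi, pow_zero, orderOf_one] at hord; omega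
    · exact absurd (by rw [← hi, pow_one, mul_inv_cancel]) hne
    · rw [← hi, orderOf_pow, hao'] at hord; norm_num at hord
    · rw [← hi, eq_comm, inv_eq_iff_mul_eq_one, ← pow_succ', ha4]
  have hout : ∀ g : G, g ∉ Subgroup.zpowers a → g * g = b * b := fun g hg => by
    obtain ⟨i, hi⟩ := Subgroup.mem_zpowers_iff.mp
      ((Subgroup.mul_mem_iff_of_index_two hai (a := g) (b := b⁻¹)).mpr (iff_of_false hg (fun h => hb (inv_mem_iff.mp h))))
    have e : g = a ^ i * b := by rw [hi, inv_mul_cancel_right]
    rw [e]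
    calc a ^ i * b * (a ^ i * b) = a ^ i * (b * a * b⁻¹) ^ i * (b * b) := by rw [conj_zpow]; group
      _ = b * b := by rw [hba, inv_zpow, mul_inv_cancel, one_mul]
  have hin : ∀ g ∈ Subgroup.zpowers a, (orderOf g = 2 ↔ g = a ^ 2) := fun g hg => by
    obtain ⟨i, rfl⟩ := (Submonoid.mem_powers_iff _ _).mp (mem_powers_iff_mem_zpowers.mpr hg)
    rw [← pow_mod_orderOf, hao']
    have := Nat.mod_lt i (show 4 > 0 by norm_num)
    have h2 : orderOf (a ^ 2) = 2 := by rw [orderOf_pow, hao']; rfl
    constructor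
    · intro h
      interval_cases h' : i % 4
      · rw [pow_zero, orderOf_one] at h; omega
      · rw [pow_one, hao'] at h; omega
      · rfl
      · rw [orderOf_pow, hao'] at h; norm_num at h
    · intro h; rw [h, h2]
  rw [cnt_two_eq hG]
  have hsplit : Nat.card {g : G // orderOf g = 2} =
      1 + Nat.card {g : G // orderOf g = 2 ∧ g ∉ Subgroup.zpowers a} := by
    rw [Nat.card_eq_fintype_card, Nat.card_eq_fintype_card, Fintype.card_subtype, Fintype.card_subtype,
      ← Finset.card_filter_add_card_filter_not (p := fun g : G => g ∈ Subgroup.zpowers a), Finset.filter_filter,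
      Finset.filter_filter]
    congr 1
    rw [Finset.card_eq_one]
    refine ⟨a ^ 2, Finset.ext fun g => ?_⟩
    simp only [Finset.mem_filter, Finset.mem_univ, true_and, Finset.mem_singleton]
    constructor
    · exact fun ⟨h, hg⟩ => (hin g hg).mp h
    · intro h
      have hg : g ∈ Subgroup.zpowers a := h ▸ pow_mem (Subgroup.mem_zpowers a) 2
      exact ⟨(hin g hg).mpr h, hg⟩
  rw [hsplit]
  by_cases hb2 : b * b = 1
  · have : Nat.card {g : G // orderOf g = 2 ∧ g ∉ Subgroup.zpowers a} = Nat.card {g : G // g ∉ Subgroup.zpowers a} :=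
      Nat.card_congr (Equiv.subtypeEquivRight fun g => ⟨fun h => h.2, fun h => ⟨orderOf_eq_prime
        (by rw [sq, hout g h, hb2]) (fun h1 => h (h1 ▸ one_mem _)), h⟩⟩)
    rw [this, Nat.card_eq_fintype_card, Fintype.card_subtype_compl, ← Nat.card_eq_fintype_card,
      ← Nat.card_eq_fintype_card, hG]
    rw [show Nat.card {g : G // g ∈ Subgroup.zpowers a} = 4 from (Nat.card_zpowers a).trans hao']
    decide
  · haveI : IsEmpty {g : G // orderOf g = 2 ∧ g ∉ Subgroup.zpowers a} := ⟨fun g => hb2 (by
      have := pow_orderOf_eq_one g.1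
      rw [g.2.1, sq, hout _ g.2.2] at this
      exact this)⟩
    simp

/-- 2-groups of maximal class. -/
theorem cnt_maxclass (n : ℕ) :
    ∀ (G : Type u) [Group G] [Finite G], Nat.card G = 2 ^ n → 3 ≤ n → (commutator G).index = 4 →
      ∀ k, 1 ≤ k → k + 2 ≤ n → (cnt G (2 ^ k) : ZMod (2 ^ 2)) = 1 := by
  classical
  induction n using Nat.strong_induction_on with
  | _ n ih =>
    intro G _ _ hG hn h4 k hk1 hk
    haveI : Fact (Nat.Prime 2) := ⟨Nat.prime_two⟩
    rcases Nat.lt_or_ge n 4 with hn4 | hn4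
    · obtain rfl : n = 3 := by omega
      obtain rfl : k = 1 := by omega
      rw [pow_one]
      exact cnt_two_eight hG h4
    haveI : Fintype {M : Subgroup G // M.index = 2} := Fintype.ofFinite _
    haveI : Fintype {N : Subgroup G // frattini G ≤ N ∧ N.index = 2 ^ 2} := Fintype.ofFinite _
    obtain ⟨A, hA, hAi, hoth⟩ := maxclass_maximal hG hn4 h4
    have hnc : ¬ IsCyclic G := fun h => not_index_four_of_cyclic hG (by omega) h4
    obtain ⟨c, hc2, hc⟩ := two_le_index hG hnc
    obtain ⟨hnor, hexp, hcomm⟩ := frattini_index hG (frattini G) le_rfl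
    have hc' : c = 2 := by
      have hle : commutator G ≤ frattini G :=
        (Subgroup.Normal.quotient_commutative_iff_commutator_le).mp ⟨⟨hcomm⟩⟩
      have h := Subgroup.index_dvd_of_le hle
      rw [hc, h4, show (4 : ℕ) = 2 ^ 2 from rfl, Nat.pow_dvd_pow_iff_le_right one_lt_two] at h
      omega
    subst hc'
    have hQ : Nat.card (G ⧸ frattini G) = 2 ^ 2 := by rw [← Subgroup.index_eq_card, hc]
    have hN1 : Nat.card {N : Subgroup G // frattini G ≤ N ∧ N.index = 2 ^ 2} = 1 :=
      Nat.card_eq_one_iff_unique.mpr ⟨⟨fun N N' => Subtype.ext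
        ((Subgroup.eq_of_le_of_card_ge N.2.1 (le_of_eq ((index_card (i := 2) Nat.prime_two hG (by omega) _).mp N.2.2 |>.trans
          ((index_card (i := 2) Nat.prime_two hG (by omega) _).mp hc).symm))).symm.trans
        (Subgroup.eq_of_le_of_card_ge N'.2.1 (le_of_eq ((index_card (i := 2) Nat.prime_two hG (by omega) _).mp N'.2.2 |>.trans
          ((index_card (i := 2) Nat.prime_two hG (by omega) _).mp hc).symm))))⟩, ⟨⟨frattini G, le_rfl, hc⟩⟩⟩
    have hPhi : ∀ M : Subgroup G, M.index = 2 → frattini G ≤ M := fun M h =>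
      frattini_le_coatom (Cores.isCoatom_of_prime_index (h.symm ▸ Nat.prime_two))
    have h3 : Nat.card {M : Subgroup G // M.index = 2} = 3 := by
      rw [show (3 : ℕ) = 2 + 1 from rfl, ← cnt_prime_sq hQ (fun g => hexp g)]
      rw [show cnt (G ⧸ frattini G) 2 = cnt (G ⧸ frattini G) (2 ^ (2 - 1)) from rfl,
        ← card_eq_cnt Nat.prime_two hQ one_le_two, pow_one, card_quotient]
      exact Nat.card_congr (Equiv.subtypeEquivRight fun M => ⟨fun h => ⟨hPhi M h, h⟩, fun h => h.2⟩)
    rw [enumeration hG k (by omega)]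
    have hN : (2 : ℕ) * ∑ N : {N : Subgroup G // frattini G ≤ N ∧ N.index = 2 ^ 2},
        (cnt N.1 (2 ^ k) : ZMod (2 ^ 2)) = (2 : ℕ) := by
      rw [Finset.mul_sum, Finset.sum_congr rfl fun N _ => mul_prime_eq Nat.prime_two (cnt_modEq_one Nat.prime_two (k := k) ?_)]
      · rw [Finset.sum_const, Finset.card_univ, ← Nat.card_eq_fintype_card, hN1, one_smul]
      · rw [(index_card (i := 2) Nat.prime_two hG (by omega) N.1).mp N.2.2]
        exact pow_dvd_pow 2 (by omega)
    obtain ⟨v, hv, hval⟩ : ∃ v : ZMod (2 ^ 2), (v = 1 ∨ v = 3) ∧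
        ∀ M : {M : Subgroup G // M.index = 2}, M.1 ≠ A → (cnt M.1 (2 ^ k) : ZMod (2 ^ 2)) = v := by
      rcases Nat.lt_or_ge (k + 2) n with hlt | hge
      · exact ⟨1, Or.inl rfl, fun M hM => ih (n - 1) (by omega) M.1 (index_two_card hG M.1 M.2) (by omega)
          (hoth M.1 M.2 hM) k hk1 (by omega)⟩
      · refine ⟨3, Or.inr rfl, fun M hM => ?_⟩
        have hMc := index_two_card hG M.1 M.2
        have hMn : ¬ IsCyclic M.1 := fun h => not_index_four_of_cyclic hMc (by omega) (hoth M.1 M.2 hM)
        rw [show k = n - 1 - 1 by omega, cnt_coatoms hMc hMn (by omega)]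
        rfl
    have hA1 : (cnt A (2 ^ k) : ZMod (2 ^ 2)) = 1 := by
      haveI := hA
      rw [cnt_of_isCyclic (by rw [index_two_card hG A hAi]; exact pow_dvd_pow 2 (by omega)), Nat.cast_one]
    have hsum : ∑ M : {M : Subgroup G // M.index = 2}, (cnt M.1 (2 ^ k) : ZMod (2 ^ 2)) = 1 + 2 * v := by
      rw [← Finset.sum_erase_add _ _ (Finset.mem_univ (⟨A, hAi⟩ : {M : Subgroup G // M.index = 2})), hA1,
        Finset.sum_congr rfl fun M hM => hval M (fun h => (Finset.mem_erase.mp hM).1 (Subtype.ext h)),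
        Finset.sum_const, Finset.card_erase_of_mem (Finset.mem_univ _), Finset.card_univ,
        ← Nat.card_eq_fintype_card, h3]
      rw [nsmul_eq_mul]; norm_num; ring
    rw [hsum, hN]
    rcases hv with rfl | rfl <;> decide

/-- The cyclic maximal subgroups of a 2-group not of maximal class. -/
theorem card_cyclic_max_two {m : ℕ} (hm : 3 ≤ m) (hG : Nat.card G = 2 ^ m) (hnc : ¬ IsCyclic G)
    (h4 : (commutator G).index ≠ 4) {C : Subgroup G} (hC : IsCyclic C) (hCi : C.index = 2) :
    Nat.card {M : Subgroup G // M.index = 2 ∧ IsCyclic M} = 2 := by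
  classical
  haveI : Fact (Nat.Prime 2) := ⟨Nat.prime_two⟩
  haveI := Fintype.ofFinite G
  obtain ⟨a, ha⟩ := (Subgroup.isCyclic_iff_exists_zpowers_eq_top C).mp hC
  subst ha
  have hao : orderOf a = 2 ^ (m - 1) := by rw [← Nat.card_zpowers, index_two_card hG _ hCi]
  haveI := Subgroup.normal_of_index_eq_two hCi
  obtain ⟨q, rfl⟩ : ∃ q, m = q + 3 := ⟨m - 3, by omega⟩
  simp only [show q + 3 - 1 = q + 2 by omega] at hao ⊢
  have hE : ∀ u : ℤ, a ^ u = 1 ↔ (2 : ℤ) ^ (q + 2) ∣ u := fun u => by
    rw [← orderOf_dvd_iff_zpow_eq_one, hao]; push_cast; exact Iff.rfl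
  obtain ⟨x, hx⟩ : ∃ x, x ∉ Subgroup.zpowers a := by
    by_contra! h
    rw [show Subgroup.zpowers a = ⊤ from eq_top_iff.mpr fun x _ => h x, Subgroup.index_top] at hCi
    omega
  -- conjugation by an element outside is `r` with `4 ∣ r - 1`
  have hr : ∀ g : G, g ∉ Subgroup.zpowers a → ∃ r : ℤ, g * a * g⁻¹ = a ^ r ∧ 4 ∣ r - 1 := by
    intro g hg
    obtain ⟨r, hr⟩ := Subgroup.mem_zpowers_iff.mp
      ((inferInstance : (Subgroup.zpowers a).Normal).conj_mem _ (Subgroup.mem_zpowers a) g)
    refine ⟨r, hr.symm, ?_⟩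
    by_contra h
    apply h4
    have hcz : g * a * g⁻¹ * a⁻¹ = a ^ (r - 1) := by rw [← hr, zpow_sub_one]
    have hle := commutator_le_zpowers_of_index_two hCi (Subgroup.mem_zpowers a) le_sup_left hg
    have heq : commutator G = Subgroup.zpowers (a ^ (r - 1)) := by
      refine le_antisymm (hcz ▸ hle) (hcz ▸ Subgroup.zpowers_le.mpr
        (Subgroup.commutator_mem_commutator (Subgroup.mem_top g) (Subgroup.mem_top a)))
    have hodd : r % 2 = 1 := by
      by_contra hev
      have hev' : (2 : ℤ) ∣ r := by omega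
      obtain ⟨w, rfl⟩ := hev'
      have h1 : (g * a * g⁻¹) ^ (2 ^ (q + 1) : ℕ) = 1 := by
        rw [← hr, ← zpow_natCast, ← zpow_mul, hE]
        refine ⟨w, ?_⟩
        push_cast; ring
      have := orderOf_dvd_of_pow_eq_one h1
      rw [← MulAut.conj_apply, MulEquiv.orderOf_eq, hao, Nat.pow_dvd_pow_iff_le_right one_lt_two] at this
      omega
    obtain ⟨u, hu⟩ : ∃ u : ℤ, r - 1 = 2 * u := ⟨(r - 1) / 2, by omega⟩
    have huo : ¬ (2 : ℤ) ∣ u := fun ⟨d, hd⟩ => h ⟨d, by omega⟩
    have horder : orderOf (a ^ (r - 1)) = 2 ^ (q + 1) := by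
      refine orderOf_eq_prime_pow (n := q) ?_ ?_
      · rw [← zpow_natCast, ← zpow_mul, hE]
        rintro ⟨d, hd⟩
        apply huo
        refine ⟨d, mul_left_cancel₀ (pow_ne_zero (q + 1) (two_ne_zero (α := ℤ))) ?_⟩
        rw [hu] at hd; push_cast at hd
        linear_combination hd
      · rw [← zpow_natCast, ← zpow_mul, hE, hu]
        exact ⟨u, by push_cast; ring⟩
    have hmul := (commutator G).card_mul_index
    rw [heq, Nat.card_zpowers, horder, hG] at hmul
    rw [heq]
    exact Nat.eq_of_mul_eq_mul_left (pow_pos two_pos (q + 1)) (hmul.trans (by ring))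
  have hsq : ∀ g : G, g ∉ Subgroup.zpowers a → ∃ j : ℤ, g * g = a ^ (2 * j) := by
    intro g hg
    obtain ⟨s, hs⟩ := Subgroup.mem_zpowers_iff.mp (Subgroup.mul_self_mem_of_index_two hCi g)
    rcases Int.emod_two_eq_zero_or_one s with h | h
    · exact ⟨s / 2, by rw [← hs, show 2 * (s / 2) = s by omega]⟩
    · exfalso
      apply hnc
      refine isCyclic_iff_exists_zpowers_eq_top.mpr ⟨g, Subgroup.eq_top_of_card_eq _ ?_⟩
      rw [Nat.card_zpowers, hG]
      have h1 : orderOf (g * g) = 2 ^ (q + 2) := by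
        rw [← hs]
        refine orderOf_eq_prime_pow (n := q + 1) ?_ ?_
        · rw [← zpow_natCast, ← zpow_mul, hE]
          rintro ⟨d, hd⟩
          push_cast at hd
          have : s = 2 * d := mul_left_cancel₀ (pow_ne_zero (q + 1) (two_ne_zero (α := ℤ))) (by linear_combination hd)
          omega
        · rw [← zpow_natCast, ← zpow_mul, hE]
          exact ⟨s, by push_cast; ring⟩
      obtain ⟨k, hk, hk'⟩ := (Nat.dvd_prime_pow Nat.prime_two).mp (hG ▸ orderOf_dvd_natCard g)
      rw [← pow_two, orderOf_pow, hk'] at h1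
      rcases Nat.eq_zero_or_pos k with rfl | hk0
      · have : 2 ^ 0 < 2 ^ (q + 2) := Nat.pow_lt_pow_right one_lt_two (by omega)
        simp only [pow_zero, Nat.gcd_one_left, Nat.div_one] at h1 this; omega
      rw [Nat.gcd_eq_right (dvd_pow_self 2 hk0.ne'), show k = k - 1 + 1 by omega, pow_succ,
        Nat.mul_div_cancel _ two_pos] at h1
      have := Nat.pow_right_injective (le_refl 2) h1
      rw [hk', show k = q + 3 by omega]
  have hord : ∀ (g : G) (j : ℤ), g ∉ Subgroup.zpowers a → g * g = a ^ (2 * j) →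
      (orderOf g = 2 ^ (q + 2) ↔ j % 2 = 1) := by
    intro g j hg hj
    constructor
    · intro ho
      by_contra hev
      obtain ⟨w, rfl⟩ : (2 : ℤ) ∣ j := by omega
      have h1 : g ^ (2 ^ (q + 1) : ℕ) = 1 := by
        rw [pow_succ', pow_mul, pow_two, hj, ← zpow_natCast, ← zpow_mul, hE]
        exact ⟨w, by push_cast; ring⟩
      have := orderOf_dvd_of_pow_eq_one h1
      rw [ho, Nat.pow_dvd_pow_iff_le_right one_lt_two] at this
      omega
    · intro hodd
      refine orderOf_eq_prime_pow (n := q + 1) ?_ ?_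
      · rw [pow_succ', pow_mul, pow_two, hj, ← zpow_natCast, ← zpow_mul, hE]
        rintro ⟨d, hd⟩
        push_cast at hd
        have : j = 2 * d := mul_left_cancel₀ (pow_ne_zero (q + 1) (two_ne_zero (α := ℤ))) (by linear_combination hd)
        omega
      · rw [pow_succ', pow_mul, pow_two, hj, ← zpow_natCast, ← zpow_mul, hE]
        exact ⟨j, by push_cast; ring⟩
  have hflip : ∀ g : G, g ∉ Subgroup.zpowers a →
      (orderOf (g * a) = 2 ^ (q + 2) ↔ ¬ orderOf g = 2 ^ (q + 2)) := by
    intro g hg
    obtain ⟨r, hr, h4r⟩ := hr g hg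
    obtain ⟨j, hj⟩ := hsq g hg
    obtain ⟨d, hd⟩ := h4r
    have hga : g * a ∉ Subgroup.zpowers a := fun h => hg ((Subgroup.mul_mem_cancel_right _ (Subgroup.mem_zpowers a)).mp h)
    have h2 : g * a * (g * a) = a ^ (2 * (j + 1 + 2 * d)) := by
      calc g * a * (g * a) = g * a * g⁻¹ * (g * g) * a := by group
        _ = a ^ r * a ^ (2 * j) * a := by rw [hr, hj]
        _ = _ := by rw [← zpow_add, ← zpow_add_one]; congr 1; linarith
    rw [hord _ _ hga h2, hord _ _ hg hj]
    omega
  -- generators
  let T := {g : G // orderOf g = 2 ^ (q + 2)}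
  have hT : Nat.card T = 2 * Nat.totient (2 ^ (q + 2)) := by
    have hcA : Nat.card {g : G // g ∈ Subgroup.zpowers a} = 2 ^ (q + 2) := (Nat.card_zpowers a).trans hao
    have hin : (Finset.univ.filter fun g : G => g ∈ Subgroup.zpowers a ∧ orderOf g = 2 ^ (q + 2)).card =
        Nat.totient (2 ^ (q + 2)) := by
      haveI := Fintype.ofFinite (Subgroup.zpowers a)
      rw [← IsCyclic.card_orderOf_eq_totient (α := Subgroup.zpowers a) (d := 2 ^ (q + 2))
        (by rw [← Nat.card_eq_fintype_card]; exact hcA.symm.dvd)]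
      refine Eq.symm ?_
      refine Finset.card_bij (fun g _ => (g : G)) ?_ ?_ ?_
      · intro g hg
        simp only [Finset.mem_filter, Finset.mem_univ, true_and] at hg ⊢
        exact ⟨g.2, by rw [Subgroup.orderOf_coe]; exact hg⟩
      · intro g _ g' _ h; exact Subtype.ext h
      · intro g hg
        simp only [Finset.mem_filter, Finset.mem_univ, true_and] at hg
        exact ⟨⟨g, hg.1⟩, by simp only [Finset.mem_filter, Finset.mem_univ, true_and]; rw [Subgroup.orderOf_mk]; exact hg.2, rfl⟩
    have hout : (Finset.univ.filter fun g : G => g ∉ Subgroup.zpowers a ∧ orderOf g = 2 ^ (q + 2)).card =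
        (Finset.univ.filter fun g : G => g ∉ Subgroup.zpowers a ∧ ¬ orderOf g = 2 ^ (q + 2)).card := by
      refine Finset.card_bij' (fun g _ => g * a) (fun g _ => g * a⁻¹) ?_ ?_ (fun g _ => mul_inv_cancel_right g a)
        (fun g _ => inv_mul_cancel_right g a)
      · intro g hg
        simp only [Finset.mem_filter, Finset.mem_univ, true_and] at hg ⊢
        exact ⟨fun h => hg.1 ((Subgroup.mul_mem_cancel_right _ (Subgroup.mem_zpowers a)).mp h),
          fun h => ((hflip g hg.1).mp h) hg.2⟩
      · intro g hg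
        simp only [Finset.mem_filter, Finset.mem_univ, true_and] at hg ⊢
        have hga : g * a⁻¹ ∉ Subgroup.zpowers a := fun h => hg.1
          ((Subgroup.mul_mem_cancel_right _ (inv_mem (Subgroup.mem_zpowers a))).mp h)
        refine ⟨hga, ?_⟩
        by_contra h
        exact hg.2 (by simpa using (hflip _ hga).mpr h)
    have htot := Finset.card_filter_add_card_filter_not (s := Finset.univ.filter fun g : G => g ∉ Subgroup.zpowers a)
      (p := fun g : G => orderOf g = 2 ^ (q + 2))
    rw [Finset.filter_filter, Finset.filter_filter, ← hout, ← Fintype.card_subtype, ← Fintype.card_subtype,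
      Fintype.card_subtype_compl, ← Nat.card_eq_fintype_card (α := G),
      ← Nat.card_eq_fintype_card (α := {g : G // g ∈ Subgroup.zpowers a}), hcA, hG] at htot
    have hphi : Nat.totient (2 ^ (q + 2)) = 2 ^ (q + 1) := by
      rw [Nat.totient_prime_pow Nat.prime_two (by omega)]; norm_num
    rw [Nat.card_eq_fintype_card, Fintype.card_subtype,
      ← Finset.card_filter_add_card_filter_not (p := fun g : G => g ∈ Subgroup.zpowers a), Finset.filter_filter,
      Finset.filter_filter]
    simp only [and_comm (b := _ ∈ Subgroup.zpowers a), and_comm (b := ¬ _ ∈ Subgroup.zpowers a)]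
    rw [hin]
    rw [Fintype.card_subtype] at htot
    have : 2 ^ (q + 3) - 2 ^ (q + 2) = 2 * 2 ^ (q + 1) := by rw [pow_succ 2 (q + 2), pow_succ 2 (q + 1)]; omega
    rw [hphi] at hin ⊢
    omega
  let X := {M : Subgroup G // M.index = 2 ∧ IsCyclic M}
  let f : T → X := fun x => ⟨Subgroup.zpowers x.1,
    by
      have := (index_card Nat.prime_two hG (show 1 ≤ q + 3 by omega) (Subgroup.zpowers x.1)).mpr
        (by rw [Nat.card_zpowers, x.2]; rfl)
      simpa using this,
    Subgroup.isCyclic_zpowers x.1⟩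
  have hfib : ∀ M : X, Nat.card {x : T // f x = M} = Nat.totient (2 ^ (q + 2)) := by
    intro M
    have hM : Nat.card M.1 = 2 ^ (q + 2) := index_two_card hG _ M.2.1
    haveI := M.2.2
    haveI := Fintype.ofFinite M.1
    rw [← IsCyclic.card_orderOf_eq_totient (α := M.1) (d := 2 ^ (q + 2)) (by rw [← Nat.card_eq_fintype_card, hM]),
      ← Fintype.card_subtype, ← Nat.card_eq_fintype_card]
    exact Nat.card_congr
      { toFun := fun x => ⟨⟨x.1.1, congrArg Subtype.val x.2 ▸ Subgroup.mem_zpowers x.1.1⟩, by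
          rw [← Subgroup.orderOf_coe]; exact x.1.2⟩
        invFun := fun x => ⟨⟨x.1.1, by rw [Subgroup.orderOf_coe]; exact x.2⟩, Subtype.ext
          (Subgroup.eq_of_le_of_card_ge (Subgroup.zpowers_le.mpr x.1.2)
            (by rw [Nat.card_zpowers, Subgroup.orderOf_coe, x.2, hM]))⟩
        left_inv := fun x => rfl
        right_inv := fun x => rfl }
  haveI := Fintype.ofFinite X
  rw [Nat.card_congr (Equiv.sigmaFiberEquiv f).symm, Nat.card_sigma,
    Finset.sum_congr rfl (fun H _ => hfib H), Finset.sum_const, smul_eq_mul, Finset.card_univ,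
    ← Nat.card_eq_fintype_card] at hT
  exact Nat.eq_of_mul_eq_mul_right (Nat.totient_pos.mpr (pow_pos two_pos _)) hT

/-- A group of order 16 with derived group of order 2 has an odd number of abelian subgroups of index 2. -/
theorem odd_abelian_max (hG : Nat.card G = 2 ^ 4) (hc : Nat.card (commutator G) = 2) :
    Odd (Nat.card {M : Subgroup G // M.index = 2 ∧ ∀ a ∈ M, ∀ b ∈ M, a * b = b * a}) := by
  classical
  haveI : Fact (Nat.Prime 2) := ⟨Nat.prime_two⟩
  have hGc : commutator G ≤ Subgroup.center G := by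
    intro c hcm
    rw [Subgroup.mem_center_iff]
    intro g
    have hn : g * c * g⁻¹ ∈ commutator G := (inferInstance : (commutator G).Normal).conj_mem c hcm g
    obtain ⟨d, hd⟩ : ∃ d, ∀ y ∈ commutator G, y = 1 ∨ y = d := by
      obtain ⟨u, v, -, huv⟩ := Nat.card_eq_two_iff.mp hc
      by_cases hu : (u : G) = 1
      · exact ⟨v, fun y hy => by
          have := huv.ge (Set.mem_univ (⟨y, hy⟩ : commutator G))
          rcases this with e | e
          · left; rw [← hu, ← e]
          · right; rw [← Set.mem_singleton_iff.mp e]⟩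
      · exact ⟨u, fun y hy => by
          have := huv.ge (Set.mem_univ (⟨y, hy⟩ : commutator G))
          rcases this with e | e
          · right; rw [← e]
          · have h1 := huv.ge (Set.mem_univ (1 : commutator G))
            rcases h1 with e1 | e1
            · exact absurd (congrArg Subtype.val e1).symm hu
            · left; rw [Set.mem_singleton_iff] at e e1; exact congrArg Subtype.val (e.trans e1.symm)⟩
    rcases eq_or_ne c 1 with rfl | hc1
    · simp
    · rcases hd _ hn with e | e
      · exact absurd (conj_eq_one_iff.mp e) hc1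
      · rcases hd c hcm with e' | e'
        · exact absurd e' hc1
        · exact mul_inv_eq_iff_eq_mul.mp (e.trans e'.symm)
  obtain ⟨x, hx⟩ : ∃ x, x ∉ Subgroup.center G := by
    by_contra! h
    have hb : commutator G = ⊥ := by
      rw [commutator_def, eq_bot_iff, Subgroup.commutator_le]
      intro a _ b _
      rw [Subgroup.mem_bot, commutatorElement_eq_one_iff_mul_comm]
      exact (Subgroup.mem_center_iff.mp (h b) a)
    rw [hb, Subgroup.card_bot] at hc
    omega
  -- the centralizer of a non-central element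
  have hidx : ∀ y ∉ Subgroup.center G, (Subgroup.centralizer ({y} : Set G)).index = 2 := by
    intro y hy
    have hle : (Subgroup.centralizer ({y} : Set G)).index ≤ 2 := by
      rw [Subgroup.index, ← hc]
      refine Nat.card_le_card_of_injective (fun q => (⟨⁅q.out, y⁆,
        Subgroup.commutator_mem_commutator (Subgroup.mem_top _) (Subgroup.mem_top _)⟩ : commutator G)) fun q q' h => ?_
      rw [← q.out_eq', ← q'.out_eq', QuotientGroup.eq, Subgroup.mem_centralizer_singleton_iff]
      have h1 : q.out * y * q.out⁻¹ = q'.out * y * q'.out⁻¹ := mul_right_cancel (congrArg Subtype.val h)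
      calc q.out⁻¹ * q'.out * y = q.out⁻¹ * (q'.out * y * q'.out⁻¹) * q'.out := by group
        _ = y * (q.out⁻¹ * q'.out) := by rw [← h1]; group
    have h1 : (Subgroup.centralizer ({y} : Set G)).index ≠ 1 := fun h => hy (Subgroup.mem_center_iff.mpr fun g =>
      Subgroup.mem_centralizer_singleton_iff.mp ((Subgroup.index_eq_one.mp h).ge (Subgroup.mem_top g)))
    have h0 : (Subgroup.centralizer ({y} : Set G)).index ≠ 0 := Subgroup.index_ne_zero_of_finite
    omega
  set A := Subgroup.centralizer ({x} : Set G) with hA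
  have hAab : ∀ a ∈ A, ∀ b ∈ A, a * b = b * a := by
    have hxA : x ∈ A := Subgroup.mem_centralizer_singleton_iff.mpr rfl
    have hZA : (commutator G ⊔ Subgroup.zpowers x).subgroupOf A ≤ Subgroup.center A := by
      intro z hz
      rw [Subgroup.mem_center_iff]
      intro g
      have : (z : G) ∈ Subgroup.centralizer ({(g : G)} : Set G) := by
        refine (sup_le (hGc.trans (Subgroup.center_le_centralizer _)) ?_) (Subgroup.mem_subgroupOf.mp hz)
        exact Subgroup.zpowers_le.mpr (Subgroup.mem_centralizer_singleton_iff.mpr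
          (Subgroup.mem_centralizer_singleton_iff.mp g.2).symm)
      exact Subtype.ext (Subgroup.mem_centralizer_singleton_iff.mp this).symm
    have hlt : commutator G < commutator G ⊔ Subgroup.zpowers x := lt_of_le_of_ne le_sup_left fun h => hx
      (hGc (h.ge (Subgroup.mem_sup_right (Subgroup.mem_zpowers x))))
    have h4 := card_mul_le_of_lt ((IsPGroup.of_card hG).to_subgroup _) hlt
    rw [hc] at h4
    have hsub : (commutator G ⊔ Subgroup.zpowers x) ≤ A := sup_le (hGc.trans (Subgroup.center_le_centralizer _))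
      (Subgroup.zpowers_le.mpr hxA)
    have hcA : Nat.card A = 8 := index_two_card hG A (hidx x hx)
    have hq : (Subgroup.center A).index ∣ 2 := by
      have hd := (Subgroup.center A).card_mul_index
      have hge : 4 ≤ Nat.card (Subgroup.center A) := by
        have := Subgroup.card_le_of_le hZA
        rw [Nat.card_congr (Subgroup.subgroupOfEquivOfLe hsub).toEquiv] at this
        omega
      obtain ⟨j, -, hj⟩ := (Nat.dvd_prime_pow Nat.prime_two).mp
        (show (Subgroup.center A).index ∣ 2 ^ 3 by rw [show (2:ℕ) ^ 3 = 8 from rfl, ← hcA]; exact Subgroup.index_dvd_card _)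
      rw [hj] at hd ⊢
      rw [hcA] at hd
      have : 2 ^ j ≤ 2 := by nlinarith [Nat.two_pow_pos j]
      exact (Nat.pow_dvd_pow_iff_le_right one_lt_two (k := j) (l := 1)).mpr
        ((Nat.pow_le_pow_iff_right (le_refl 2)).mp (by simpa using this))
    haveI : IsCyclic (A ⧸ Subgroup.center A) := by
      rcases (Nat.dvd_prime Nat.prime_two).mp hq with h | h
      · haveI : Subsingleton (A ⧸ Subgroup.center A) := by
          rw [← Finite.card_le_one_iff_subsingleton, ← Subgroup.index_eq_card, h]
        exact isCyclic_of_subsingleton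
      · exact isCyclic_of_prime_card (p := 2) (by rw [← Subgroup.index_eq_card, h])
    intro a ha b hb
    exact congrArg Subtype.val (commutative_of_cyclic_center_quotient (QuotientGroup.mk' (Subgroup.center A))
      (le_of_eq (QuotientGroup.ker_mk' _)) ⟨a, ha⟩ ⟨b, hb⟩)
  by_cases htwo : ∃ B : Subgroup G, B.index = 2 ∧ (∀ a ∈ B, ∀ b ∈ B, a * b = b * a) ∧ B ≠ A
  · obtain ⟨B, hBi, hBab, hBA⟩ := htwo
    haveI := Subgroup.normal_of_index_eq_two (hidx x hx)
    haveI := Subgroup.normal_of_index_eq_two hBi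
    have hAB : A ⊔ B = ⊤ := by
      by_contra h
      refine hBA (Subgroup.eq_of_le_of_card_ge (fun b hb => ?_) ?_)
      · have he : A = A ⊔ B := by
          by_contra hne
          exact h ((Cores.isCoatom_of_prime_index ((hidx x hx).symm ▸ Nat.prime_two)).2 _ (lt_of_le_of_ne le_sup_left hne))
        exact he.ge (Subgroup.mem_sup_right hb)
      · rw [index_two_card hG B hBi, index_two_card hG A (hidx x hx)]
    have hZ : A ⊓ B ≤ Subgroup.center G := by
      intro z hz
      rw [Subgroup.mem_center_iff]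
      intro g
      have hle : A ⊔ B ≤ Subgroup.centralizer ({z} : Set G) := sup_le
        (fun a ha => Subgroup.mem_centralizer_singleton_iff.mpr (hAab a ha z hz.1))
        (fun b hb => Subgroup.mem_centralizer_singleton_iff.mpr (hBab b hb z hz.2))
      exact Subgroup.mem_centralizer_singleton_iff.mp (hle (hAB.ge (Subgroup.mem_top g)))
    set Z := Subgroup.center G
    have hnc : ¬ IsCyclic (G ⧸ Z) := fun h => by
      apply hx
      rw [Subgroup.mem_center_iff]
      exact fun g => commutative_of_cyclic_center_quotient (QuotientGroup.mk' Z) (le_of_eq (QuotientGroup.ker_mk' _)) g x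
    have hQ : Nat.card (G ⧸ Z) = 2 ^ 2 := by
      rw [← Subgroup.index_eq_card]
      have hle : Z.index ≤ 4 := by
        refine (Nat.le_of_dvd (Nat.pos_of_ne_zero Subgroup.index_ne_zero_of_finite) (Subgroup.index_dvd_of_le hZ)).trans ?_
        refine Subgroup.index_inf_le.trans ?_
        rw [hidx x hx, hBi]
      obtain ⟨j, -, hj⟩ := (Nat.dvd_prime_pow Nat.prime_two).mp (hG ▸ Z.index_dvd_card)
      rw [hj]
      congr 1
      rw [hj] at hle
      have hj2 : j ≤ 2 := (Nat.pow_le_pow_iff_right (le_refl 2)).mp hle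
      by_contra hne
      apply hnc
      interval_cases j
      · haveI : Subsingleton (G ⧸ Z) := by
          rw [← Finite.card_le_one_iff_subsingleton, ← Subgroup.index_eq_card, hj]; rfl
        exact isCyclic_of_subsingleton
      · exact isCyclic_of_prime_card (p := 2) (by rw [← Subgroup.index_eq_card, hj, pow_one])
      · omega
    have hexp : ∀ g : G ⧸ Z, g ^ 2 = 1 := fun g => by
      by_contra hg
      apply hnc
      obtain ⟨j, hj, hjo⟩ := (Nat.dvd_prime_pow Nat.prime_two).mp (hQ ▸ orderOf_dvd_natCard g)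
      refine isCyclic_of_orderOf_eq_card g ?_
      rw [hjo, hQ]
      congr 1
      by_contra h
      exact hg (orderOf_dvd_iff_pow_eq_one.mp (hjo ▸ dvd_trans (pow_dvd_pow 2 (show j ≤ 1 by omega)) (by norm_num)))
    have h3 := cnt_prime_sq hQ hexp
    rw [show cnt (G ⧸ Z) 2 = cnt (G ⧸ Z) (2 ^ (2 - 1)) from rfl, ← card_eq_cnt Nat.prime_two hQ one_le_two, pow_one,
      card_quotient] at h3
    refine ⟨1, ?_⟩
    rw [show 2 * 1 + 1 = 2 + 1 from rfl, ← h3]
    refine Nat.card_congr (Equiv.subtypeEquivRight fun M => ⟨fun ⟨hM, hab⟩ => ⟨?_, hM⟩, fun ⟨hZM, hM⟩ => ⟨hM, ?_⟩⟩)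
    · intro z hz
      by_contra hzM
      apply hx
      have htop : M ⊔ Subgroup.zpowers z = ⊤ := (Cores.isCoatom_of_prime_index (hM.symm ▸ Nat.prime_two)).2 _
        (lt_of_le_of_ne le_sup_left fun h => hzM (h.ge (Subgroup.mem_sup_right (Subgroup.mem_zpowers z))))
      have hall : ∀ g : G, g ∈ Subgroup.center G := fun g => by
        have hle : M ⊔ Subgroup.zpowers z ≤ Subgroup.center G := sup_le (fun a ha => Subgroup.mem_center_iff.mpr fun b => by
          have hb' : M ⊔ Subgroup.zpowers z ≤ Subgroup.centralizer ({a} : Set G) := sup_le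
            (fun c hc => Subgroup.mem_centralizer_singleton_iff.mpr (hab c hc a ha))
            (Subgroup.zpowers_le.mpr (Subgroup.center_le_centralizer _ hz))
          exact Subgroup.mem_centralizer_singleton_iff.mp (hb' (htop.ge (Subgroup.mem_top b))))
          (Subgroup.zpowers_le.mpr hz)
        exact hle (htop.ge (Subgroup.mem_top g))
      exact hall x
    · intro a ha b hb
      have hZc : Z.subgroupOf M ≤ Subgroup.center M := fun z hz =>
        Subgroup.mem_center_iff.mpr fun g => Subtype.ext (Subgroup.mem_center_iff.mp (Subgroup.mem_subgroupOf.mp hz) g)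
      haveI : IsCyclic (M ⧸ Z.subgroupOf M) := isCyclic_of_prime_card (p := 2) (by
        rw [← Subgroup.index_eq_card]
        have h := Subgroup.relIndex_mul_index hZM
        rw [hM, Subgroup.index_eq_card Z, hQ] at h
        exact Nat.eq_of_mul_eq_mul_right two_pos (h.trans (by norm_num)))
      exact congrArg Subtype.val (commutative_of_cyclic_center_quotient (QuotientGroup.mk' (Z.subgroupOf M))
        ((le_of_eq (QuotientGroup.ker_mk' _)).trans hZc) ⟨a, ha⟩ ⟨b, hb⟩)
  · refine ⟨0, ?_⟩
    refine Nat.card_eq_one_iff_unique.mpr ⟨⟨fun B B' => Subtype.ext ?_⟩, ⟨⟨A, hidx x hx, hAab⟩⟩⟩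
    push Not at htwo
    rw [htwo B.1 B.2.1 B.2.2, htwo B'.1 B'.2.1 B'.2.2]

/-- The maximal subgroups of maximal class, in a group not of maximal class, are even in number. -/
theorem even_maxclass_max {m : ℕ} (hm : 4 ≤ m) (hG : Nat.card G = 2 ^ m) (h4 : (commutator G).index ≠ 4) :
    2 ∣ Nat.card {M : Subgroup G // M.index = 2 ∧ (commutator M).index = 4} := by
  classical
  haveI : Fact (Nat.Prime 2) := ⟨Nat.prime_two⟩
  by_cases hex : ∃ M : Subgroup G, M.index = 2 ∧ (commutator M).index = 4
  swap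
  · haveI : IsEmpty {M : Subgroup G // M.index = 2 ∧ (commutator M).index = 4} := ⟨fun M => hex ⟨M.1, M.2⟩⟩
    simp
  obtain ⟨M₀, hM₀, hM₀4⟩ := hex
  set D := commutator G with hD
  have hmap : ∀ M : Subgroup G, (commutator M).map M.subtype ≤ D := fun M => by
    rw [hD, commutator_def, commutator_def, Subgroup.map_commutator]
    exact Subgroup.commutator_mono le_top le_top
  have hM₀c := index_two_card hG M₀ hM₀
  have hc0 : Nat.card (commutator M₀) = 2 ^ (m - 3) := by
    have h := (commutator M₀).card_mul_index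
    rw [hM₀4, hM₀c] at h
    refine Nat.eq_of_mul_eq_mul_right (show 0 < 4 by norm_num) (h.trans ?_)
    rw [show (4 : ℕ) = 2 ^ 2 from rfl, ← pow_add]; congr 1; omega
  have hDge : 2 ^ (m - 3) ≤ Nat.card D := by
    rw [← hc0, ← Subgroup.card_map_of_injective M₀.subtype_injective]
    exact Subgroup.card_le_of_le (hmap M₀)
  obtain ⟨d, hd, hDd⟩ := (Nat.dvd_prime_pow Nat.prime_two).mp (hG ▸ D.card_subgroup_dvd_card)
  have hDidx : D.index = 2 ^ (m - d) := by
    refine Nat.eq_of_mul_eq_mul_left (pow_pos two_pos d) ?_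
    rw [← hDd, D.card_mul_index, hG, hDd, ← pow_add]; congr 1; omega
  have hd3 : m - 3 ≤ d := (Nat.pow_le_pow_iff_right (le_refl 2)).mp (hDd ▸ hDge)
  have hd' : d = m - 3 := by
    by_contra hne
    have hne2 : m - d ≠ 2 := fun h => h4 (by rw [hDidx, h]; rfl)
    haveI : IsCyclic (G ⧸ D) := by
      have : m - d ≤ 1 := by omega
      interval_cases hmd : m - d
      · haveI : Subsingleton (G ⧸ D) := by
          rw [← Finite.card_le_one_iff_subsingleton, ← Subgroup.index_eq_card, hDidx]; rfl
        exact isCyclic_of_subsingleton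
      · exact isCyclic_of_prime_card (p := 2) (by rw [← Subgroup.index_eq_card, hDidx, pow_one])
    have := commutator_eq_bot_of_isCyclic (IsPGroup.of_card hG)
    rw [← hD] at this
    rw [this, Subgroup.card_bot] at hDge
    have : 2 ^ 1 ≤ 2 ^ (m - 3) := Nat.pow_le_pow_right two_pos (by omega)
    omega
  subst hd'
  have hDeq : (commutator M₀).map M₀.subtype = D := Subgroup.eq_of_le_of_card_ge (hmap M₀)
    (by rw [Subgroup.card_map_of_injective M₀.subtype_injective, hc0, hDd])
  haveI hDcyc : IsCyclic D := by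
    obtain ⟨a, b, -, -, -, hDa, -⟩ := index_four_data (IsPGroup.of_card hM₀c) (m - 1) hM₀c (by omega) hM₀4
      (sq_mem_of_index_four hM₀c (by omega) hM₀4)
    refine (Subgroup.isCyclic_iff_exists_zpowers_eq_top D).mpr ⟨((a ^ 2 : M₀) : G), ?_⟩
    rw [← hDeq, hDa, MonoidHom.map_zpowers]
    rfl
  obtain ⟨g₀, hg₀⟩ := (Subgroup.isCyclic_iff_exists_zpowers_eq_top D).mp hDcyc
  have hg₀o : orderOf g₀ = 2 ^ (m - 3) := by rw [← Nat.card_zpowers, hg₀, hDd]
  set D2 := Subgroup.zpowers (g₀ ^ 2) with hD2
  have hD2le : D2 ≤ D := Subgroup.zpowers_le.mpr (hg₀ ▸ pow_mem (Subgroup.mem_zpowers g₀) 2)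
  have hD2c : Nat.card D2 = 2 ^ (m - 4) := by
    rw [hD2, Nat.card_zpowers, orderOf_pow, hg₀o, Nat.gcd_eq_right (dvd_pow_self 2 (by omega : m - 3 ≠ 0)),
      show m - 3 = m - 4 + 1 by omega, pow_succ, Nat.mul_div_cancel _ two_pos]
  haveI hD2n : D2.Normal := by
    refine ⟨fun n hn g => ?_⟩
    obtain ⟨i, rfl⟩ := Subgroup.mem_zpowers_iff.mp hn
    rw [← conj_zpow, ← conj_pow]
    refine zpow_mem ?_ i
    obtain ⟨j, hj⟩ := Subgroup.mem_zpowers_iff.mp
      (hg₀.ge ((inferInstance : D.Normal).conj_mem g₀ (hg₀ ▸ Subgroup.mem_zpowers g₀) g) : g * g₀ * g⁻¹ ∈ Subgroup.zpowers g₀)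
    rw [← hj, ← zpow_natCast, ← zpow_mul, mul_comm, zpow_mul, zpow_natCast]
    exact zpow_mem (Subgroup.mem_zpowers _) j
  set π := QuotientGroup.mk' D2
  have hQ : Nat.card (G ⧸ D2) = 2 ^ 4 := by
    refine Nat.eq_of_mul_eq_mul_right (pow_pos two_pos (m - 4)) ?_
    rw [← hD2c, ← Subgroup.card_eq_card_quotient_mul_card_subgroup, hG, hD2c, ← pow_add]; congr 1; omega
  have hQc : Nat.card (commutator (G ⧸ D2)) = 2 := by
    have h1 : commutator (G ⧸ D2) = D.map π := by
      rw [hD, commutator_def, commutator_def, Subgroup.map_commutator,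
        Subgroup.map_top_of_surjective _ (QuotientGroup.mk'_surjective D2)]
    have hker : π.ker.relIndex D = 2 := by
      rw [QuotientGroup.ker_mk']
      have h := Subgroup.relIndex_mul_index hD2le
      rw [hDidx, Subgroup.index_eq_card, hQ, show m - (m - 3) = 3 by omega] at h
      exact Nat.eq_of_mul_eq_mul_right (pow_pos two_pos 3) (h.trans (by norm_num))
    rw [h1, ← Subgroup.relIndex_bot_left, ← hker, ← MonoidHom.comap_bot, Subgroup.relIndex_comap]
  have hPhiD2 : ∀ M : Subgroup G, M.index = 2 → D2 ≤ M := fun M hM => by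
    haveI := Subgroup.normal_of_index_eq_two hM
    refine hD2le.trans (Subgroup.Normal.quotient_commutative_iff_commutator_le.mp ⟨⟨fun a b => ?_⟩⟩)
    haveI : IsCyclic (G ⧸ M) := isCyclic_of_prime_card (p := 2) hM
    exact IsMulCommutative.is_comm.comm a b
  have hiff : ∀ M : Subgroup G, M.index = 2 →
      ((commutator M).index = 4 ↔ ¬ ∀ a ∈ M, ∀ b ∈ M, π a * π b = π b * π a) := by
    intro M hM
    have hMc := index_two_card hG M hM
    have hidx : (commutator M).index = 4 ↔ (commutator M).map M.subtype = D := by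
      have hmul := (commutator M).card_mul_index
      rw [hMc] at hmul
      have e : 2 ^ (m - 1) = 2 ^ (m - 3) * 4 := by
        rw [show (4 : ℕ) = 2 ^ 2 from rfl, ← pow_add]; congr 1; omega
      constructor
      · intro h
        rw [h, e] at hmul
        refine Subgroup.eq_of_le_of_card_ge (hmap M) ?_
        rw [Subgroup.card_map_of_injective M.subtype_injective, hDd, Nat.eq_of_mul_eq_mul_right (by norm_num) hmul]
      · intro h
        have hc : Nat.card (commutator M) = 2 ^ (m - 3) := by
          rw [← Subgroup.card_map_of_injective M.subtype_injective, h, hDd]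
        rw [hc, e] at hmul
        exact Nat.eq_of_mul_eq_mul_left (pow_pos two_pos _) hmul
    rw [hidx]
    constructor
    · intro h hcomm
      have h1 : D ≤ D2 := by
        rw [← h, commutator_def, Subgroup.map_commutator, Subgroup.commutator_le]
        rintro _ ⟨a, -, rfl⟩ _ ⟨b, -, rfl⟩
        rw [← QuotientGroup.eq_one_iff, ← QuotientGroup.mk'_apply, map_commutatorElement,
          commutatorElement_eq_one_iff_mul_comm]
        exact hcomm a a.2 b b.2
      have h2 := Subgroup.card_le_of_le h1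
      rw [hDd, hD2c, Nat.pow_le_pow_iff_right (le_refl 2)] at h2
      omega
    · intro h
      by_contra hne
      apply h
      intro a ha b hb
      rw [← commutatorElement_eq_one_iff_mul_comm, ← map_commutatorElement]
      refine (QuotientGroup.eq_one_iff _).mpr ?_
      have hab : ⁅a, b⁆ ∈ (commutator M).map M.subtype :=
        ⟨⁅(⟨a, ha⟩ : M), (⟨b, hb⟩ : M)⁆, Subgroup.commutator_mem_commutator (Subgroup.mem_top _) (Subgroup.mem_top _),
          map_commutatorElement _ _ _⟩
      obtain ⟨i, hi⟩ := Subgroup.mem_zpowers_iff.mp (hg₀.ge (hmap M hab) : ⁅a, b⁆ ∈ Subgroup.zpowers g₀)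
      rcases Int.emod_two_eq_zero_or_one i with e | e
      · rw [← hi, show i = 2 * (i / 2) by omega, zpow_mul, zpow_two, ← pow_two]
        exact zpow_mem (Subgroup.mem_zpowers _) _
      · exfalso
        refine hne (le_antisymm (hmap M) ?_)
        rw [← hg₀, Subgroup.zpowers_le]
        have hcop : (2 ^ (m - 3)).Coprime i.natAbs := Nat.Coprime.pow_left _
          ((Nat.prime_two.coprime_iff_not_dvd).mpr (by omega))
        have hmem : g₀ ^ i.natAbs ∈ (commutator M).map M.subtype := by
          rcases Int.natAbs_eq i with h' | h'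
          · rw [← zpow_natCast, ← h', hi]; exact hab
          · rw [← zpow_natCast, show ((i.natAbs : ℕ) : ℤ) = -i by omega, zpow_neg, hi]; exact inv_mem hab
        obtain ⟨u, hu⟩ := exists_pow_eq_self_of_coprime (x := g₀) (n := i.natAbs) (hg₀o ▸ hcop.symm)
        exact hu ▸ pow_mem hmem u
  -- all index two subgroups, and those with abelian image
  have hall : Odd (Nat.card {M : Subgroup G // M.index = 2}) := by
    rw [card_maximal hG (by omega), Nat.odd_iff]
    exact (cnt_modEq_one Nat.prime_two (k := m - 1) (hG ▸ pow_dvd_pow 2 (by omega)) : _ % 2 = 1 % 2).trans rfl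
  have hab := odd_abelian_max hQ hQc
  have e : Nat.card {M : Subgroup (G ⧸ D2) // M.index = 2 ∧ ∀ a ∈ M, ∀ b ∈ M, a * b = b * a} =
      Nat.card {M : Subgroup G // M.index = 2 ∧ ∀ a ∈ M, ∀ b ∈ M, π a * π b = π b * π a} := by
    have hs := QuotientGroup.mk'_surjective D2
    exact Nat.card_congr
      { toFun := fun K => ⟨K.1.comap π, by rw [Subgroup.index_comap_of_surjective _ hs]; exact K.2.1,
          fun a ha b hb => K.2.2 _ ha _ hb⟩
        invFun := fun H => ⟨H.1.map π, by
          rw [Subgroup.index_map_eq _ hs (by rw [QuotientGroup.ker_mk']; exact hPhiD2 _ H.2.1)]; exact H.2.1,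
          by rintro _ ⟨a, ha, rfl⟩ _ ⟨b, hb, rfl⟩; exact H.2.2 a ha b hb⟩
        left_inv := fun K => Subtype.ext (Subgroup.map_comap_eq_self_of_surjective hs _)
        right_inv := fun H => Subtype.ext (Subgroup.comap_map_eq_self (by
          rw [QuotientGroup.ker_mk']; exact hPhiD2 _ H.2.1)) }
  rw [e] at hab
  haveI := Fintype.ofFinite {M : Subgroup G // M.index = 2}
  have hsplit : Nat.card {M : Subgroup G // M.index = 2} =
      Nat.card {M : Subgroup G // M.index = 2 ∧ ∀ a ∈ M, ∀ b ∈ M, π a * π b = π b * π a} +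
      Nat.card {M : Subgroup G // M.index = 2 ∧ (commutator M).index = 4} := by
    haveI := Fintype.ofFinite (Subgroup G)
    rw [Nat.card_eq_fintype_card, Nat.card_eq_fintype_card, Nat.card_eq_fintype_card, Fintype.card_subtype,
      Fintype.card_subtype, Fintype.card_subtype,
      ← Finset.card_filter_add_card_filter_not (s := Finset.univ.filter fun M : Subgroup G => M.index = 2)
        (p := fun M : Subgroup G => ∀ a ∈ M, ∀ b ∈ M, π a * π b = π b * π a), Finset.filter_filter, Finset.filter_filter]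
    congr 2
    exact Finset.filter_congr fun M _ => and_congr_right fun h => (hiff M h).symm
  rw [hsplit] at hall
  rw [Nat.odd_add] at hall
  exact (hall.mp hab).two_dvd

/-- Kulakoff's theorem for the prime 2. -/
theorem cnt_two (m : ℕ) :
    ∀ (G : Type u) [Group G] [Finite G], Nat.card G = 2 ^ m → ¬ IsCyclic G → (3 ≤ m → (commutator G).index ≠ 4) →
      ∀ k, 1 ≤ k → k < m → (cnt G (2 ^ k) : ZMod (2 ^ 2)) = 1 + 2 := by
  classical
  induction m using Nat.strong_induction_on with
  | _ m ih =>
    intro G _ _ hG hnc h4 k hk1 hk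
    haveI : Fact (Nat.Prime 2) := ⟨Nat.prime_two⟩
    refine recursion hG hnc hk (fun M => IsCyclic M ∨ ((commutator M).index = 4 ∧ k + 2 < m))
      (fun M hM hP hkm => ?_) (fun M hM hP hkm => ?_) (fun hkm => ?_)
    · have hMc := index_two_card hG M hM
      push Not at hP
      by_cases hmc : 3 ≤ m - 1 ∧ (commutator M).index = 4
      · have hkm2 := hP.2 hmc.2
        rw [show k = m - 1 - 1 by omega, cnt_coatoms hMc hP.1 (by omega)]
      · exact ih (m - 1) (by omega) M hMc hP.1 (fun h3 h => hmc ⟨h3, h⟩) k hk1 (by omega)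
    · have hMc := index_two_card hG M hM
      rcases hP with hc | ⟨h, hlt⟩
      · haveI := hc
        rw [cnt_of_isCyclic (by rw [hMc]; exact pow_dvd_pow 2 (by omega)), Nat.cast_one]
      · exact cnt_maxclass (m - 1) M hMc (by omega) h k hk1 (by omega)
    · have h4' := h4 (by omega)
      have hcyc : 2 ∣ Nat.card {M : Subgroup G // M.index = 2 ∧ IsCyclic M} := by
        by_cases hex : ∃ C : Subgroup G, C.index = 2 ∧ IsCyclic C
        · obtain ⟨C, hCi, hC⟩ := hex
          rw [card_cyclic_max_two (by omega) hG hnc h4' hC hCi]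
        · haveI : IsEmpty {M : Subgroup G // M.index = 2 ∧ IsCyclic M} := ⟨fun M => hex ⟨M.1, M.2⟩⟩
          simp
      rcases Nat.lt_or_ge (k + 2) m with hlt | hge
      · haveI := Fintype.ofFinite (Subgroup G)
        have hmc := even_maxclass_max (by omega) hG h4'
        rw [Nat.card_eq_fintype_card, Fintype.card_subtype] at hcyc hmc ⊢
        rw [show (Finset.univ.filter fun M : Subgroup G => M.index = 2 ∧
            (IsCyclic M ∨ ((commutator M).index = 4 ∧ k + 2 < m))) =
          (Finset.univ.filter fun M : Subgroup G => M.index = 2 ∧ IsCyclic M) ∪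
            (Finset.univ.filter fun M : Subgroup G => M.index = 2 ∧ (commutator M).index = 4) by
          ext M
          simp only [Finset.mem_union, Finset.mem_filter, Finset.mem_univ, true_and, hlt, and_true]
          exact and_or_left, Finset.card_union_of_disjoint]
        · exact Nat.dvd_add hcyc hmc
        · rw [Finset.disjoint_filter]
          rintro M - ⟨hM, hc⟩ ⟨-, h⟩
          haveI := hc
          exact not_index_four_of_cyclic (index_two_card hG M hM) (by omega) h
      · refine (Nat.dvd_of_mod_eq_zero ?_)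
        rw [Nat.card_congr (Equiv.subtypeEquivRight (q := fun M : Subgroup G => M.index = 2 ∧ IsCyclic M)
          (fun M => and_congr_right fun _ => ⟨fun h => h.resolve_right (fun h' => absurd h'.2 (by omega)), Or.inl⟩))]
        exact Nat.mod_eq_zero_of_dvd hcyc

end Cfsg.Agent.Lib.PGroups.SubgroupCount
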