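import Cfsg.Agent.Lib.PGroups.SylowInduction
import Cfsg.Agent.Lib.Involutions.Counting
import Mathlib.GroupTheory.Perm.Cycle.Type
import Mathlib.GroupTheory.Transfer
import Mathlib.RingTheory.ZMod.UnitsCyclic
import Mathlib.GroupTheory.IndexNormal

/-! Simple groups with exactly `2p+1` Sylow `p`-subgroups, `p` odd. -/

set_option autoImplicit false
set_option linter.style.haveILetI false

namespace Cfsg.Agent.Lib.PGroups

open scoped Pointwise

variable {G : Type*} [Group G] [Finite G] [IsSimpleGroup G] {p : ℕ} [Fact p.Prime]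

theorem hom_eq_one_of_simple (hG : ¬ IsMulCommutative G) {A : Type*} [CommGroup A] (f : G →* A) (g : G) :
    f g = 1 := by
  rcases f.normal_ker.eq_bot_or_eq_top with h | h
  · exfalso
    apply hG
    exact ⟨⟨fun a b => f.ker_eq_bot_iff.mp h (by rw [map_mul, map_mul, mul_comm])⟩⟩
  · exact MonoidHom.mem_ker.mp (h ▸ Subgroup.mem_top g)

/-- Burnside transfer in a simple group: a Sylow subgroup is not central in its normalizer. -/
theorem not_normalizer_le_centralizer (hG : ¬ IsMulCommutative G) (hd : p ∣ Nat.card G) (P : Sylow p G) :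
    ¬ Subgroup.normalizer ((P : Subgroup G) : Set G) ≤ Subgroup.centralizer ((P : Subgroup G) : Set G) := by
  intro h
  have hc := MonoidHom.ker_transferSylow_isComplement' P h
  rcases (MonoidHom.transferSylow P h).normal_ker.eq_bot_or_eq_top with hk | hk
  · rw [hk] at hc
    have hPtop : (P : Subgroup G) = ⊤ := by simpa using hc
    apply hG
    refine ⟨⟨fun a b => ?_⟩⟩
    have ha : a ∈ Subgroup.centralizer ((P : Subgroup G) : Set G) :=
      h (Subgroup.le_normalizer (hPtop ▸ Subgroup.mem_top a))
    exact (Subgroup.mem_centralizer_iff.mp ha b (hPtop ▸ Subgroup.mem_top b)).symm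
  · rw [hk] at hc
    exact P.ne_bot_of_dvd_card hd (by simpa using hc)

theorem isCyclic_sylow_two_and_index_of_card_sylow (hG : ¬ IsMulCommutative G) (hd : p ∣ Nat.card G)
    (hp2 : p ≠ 2) (hn : Nat.card (Sylow p G) = 2 * p + 1) :
    Odd (Nat.card G) ∧ ∃ d : ℕ, Nat.card G = (2 * p + 1) * (p * d) ∧ d ∣ p - 1 ∧ 1 < d := by
  classical
  have hp : p.Prime := Fact.out
  have hp3 : 3 ≤ p := lt_of_le_of_ne hp.two_le (Ne.symm hp2)
  have hlt : Nat.card (Sylow p G) < p ^ 2 := by
    rw [hn]; nlinarith
  have hcard : ∀ P : Sylow p G, Nat.card (P : Subgroup G) = p :=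
    fun P => card_eq_prime_of_card_sylow_lt_sq hG hd hlt P
  obtain ⟨P⟩ : Nonempty (Sylow p G) := inferInstance
  set N := Subgroup.normalizer ((P : Subgroup G) : Set G) with hN
  set C := Subgroup.centralizer ((P : Subgroup G) : Set G) with hC
  have hNidx : N.index = 2 * p + 1 := by rw [← hn, card_sylow_eq_index P]
  letI := Fintype.ofFinite (Sylow p G)
  letI := Fintype.ofFinite (P : Subgroup G)
  let φ : G →* Equiv.Perm (Sylow p G) := MulAction.toPermHom G (Sylow p G)
  have hinj : Function.Injective φ := by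
    rw [← MonoidHom.ker_eq_bot_iff]
    refine φ.normal_ker.eq_bot_or_eq_top.resolve_right fun h => ?_
    have : N = ⊤ := by
      rw [eq_top_iff]
      intro g _
      have hg : φ g = 1 := MonoidHom.mem_ker.mp (h ▸ Subgroup.mem_top g)
      exact Sylow.smul_eq_iff_mem_normalizer.mp (Equiv.Perm.ext_iff.mp hg P)
    rw [this, Subgroup.index_top] at hNidx
    omega
  -- `P` acts freely away from itself
  have hfree : ∀ y ∈ (P : Subgroup G), ∀ Q : Sylow p G, Q ≠ P → y • Q = Q → y = 1 := by
    intro y hy Q hQ hfix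
    have h1 : y ∈ (P : Subgroup G) ⊓ Q :=
      (P.isPGroup'.inf_normalizer_sylow Q).le ⟨hy, Sylow.smul_eq_iff_mem_normalizer.mp hfix⟩
    have hbot : (P : Subgroup G) ⊓ Q = ⊥ := by
      have hdd : Nat.card ((P : Subgroup G) ⊓ Q : Subgroup G) ∣ p :=
        (Subgroup.card_dvd_of_le inf_le_left).trans (hcard P).dvd
      rcases (Nat.dvd_prime hp).mp hdd with h | h
      · exact Subgroup.card_eq_one.mp h
      · have e1 := Subgroup.eq_of_le_of_card_ge (inf_le_left : (P : Subgroup G) ⊓ Q ≤ P) (by rw [h, hcard P])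
        have e2 := Subgroup.eq_of_le_of_card_ge (inf_le_right : (P : Subgroup G) ⊓ Q ≤ Q) (by rw [h, hcard Q])
        exact absurd (Sylow.ext (e2.symm.trans e1)) hQ
    rw [hbot, Subgroup.mem_bot] at h1
    exact h1
  -- a `p'`-element centralizing `P` moves every other Sylow subgroup
  have hmove : ∀ e ∈ C, ∀ r : ℕ, r.Prime → r ≠ p → orderOf e = r → ∀ Q : Sylow p G, Q ≠ P → e • Q ≠ Q := by
    intro e he r hr hrp hord Q hQ hfix
    have hcomm : ∀ y ∈ (P : Subgroup G), ∀ R : Sylow p G, e • y • R = y • e • R := fun y hy R => by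
      rw [← mul_smul, ← mul_smul, Subgroup.mem_centralizer_iff.mp he y hy]
    have hP : e • P = P := Sylow.smul_eq_iff_mem_normalizer.mpr (Subgroup.centralizer_le_normalizer _ he)
    -- the orbit of `Q` and the orbit of a further point
    let O : Finset (Sylow p G) := Finset.univ.image (fun y : (P : Subgroup G) => (y : G) • Q)
    have horb : ∀ R : Sylow p G, R ≠ P →
        Function.Injective (fun y : (P : Subgroup G) => (y : G) • R) := by
      intro R hR y z hyz
      have h1 : ((z : G)⁻¹ * y) • R = R := by rw [mul_smul, inv_smul_eq_iff]; exact hyz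
      have h2 := hfree _ (mul_mem (inv_mem z.2) y.2) R hR h1
      exact Subtype.ext (inv_mul_eq_one.mp h2).symm
    have hnotP : ∀ R : Sylow p G, R ≠ P → ∀ y ∈ (P : Subgroup G), y • R ≠ P := by
      intro R hR y hy h
      apply hR
      have h1 : y • P = P := Sylow.smul_eq_iff_mem_normalizer.mpr (Subgroup.le_normalizer hy)
      exact smul_left_cancel y (h.trans h1.symm)
    have hOcard : O.card = p := by
      rw [Finset.card_image_of_injective _ (horb Q hQ), Finset.card_univ, ← Nat.card_eq_fintype_card,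
        hcard P]
    have hO : ∀ R ∈ O, e • R = R := by
      intro R hR
      obtain ⟨y, -, rfl⟩ := Finset.mem_image.mp hR
      rw [hcomm y y.2, hfix]
    apply hr.ne_one
    rw [← hord, orderOf_eq_one_iff]
    apply hinj
    rw [map_one]
    refine Equiv.Perm.ext fun R => ?_
    show e • R = R
    by_cases hRP : R = P
    · rw [hRP, hP]
    by_cases hRO : R ∈ O
    · exact hO R hRO
    let O' : Finset (Sylow p G) := Finset.univ.image (fun y : (P : Subgroup G) => (y : G) • R)
    have hO'card : O'.card = p := by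
      rw [Finset.card_image_of_injective _ (horb R hRP), Finset.card_univ, ← Nat.card_eq_fintype_card,
        hcard P]
    have hdisj : Disjoint O O' := by
      rw [Finset.disjoint_left]
      intro S hS hS'
      obtain ⟨y, -, rfl⟩ := Finset.mem_image.mp hS
      obtain ⟨z, -, hz⟩ := Finset.mem_image.mp hS'
      apply hRO
      refine Finset.mem_image.mpr ⟨z⁻¹ * y, Finset.mem_univ _, ?_⟩
      rw [Subgroup.coe_mul, Subgroup.coe_inv, mul_smul, inv_smul_eq_iff]; exact hz.symm
    have hPmem : P ∉ O ∪ O' := by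
      rw [Finset.mem_union]
      rintro (h | h) <;> obtain ⟨y, -, hy⟩ := Finset.mem_image.mp h
      · exact hnotP Q hQ y y.2 hy
      · exact hnotP R hRP y y.2 hy
    have hall : insert P (O ∪ O') = Finset.univ := by
      apply Finset.eq_univ_of_card
      rw [Finset.card_insert_of_notMem hPmem, Finset.card_union_of_disjoint hdisj, hOcard, hO'card,
        ← Nat.card_eq_fintype_card, hn, two_mul]
    have heR : e • R ∈ O' := by
      have h1 : e • R ∈ insert P (O ∪ O') := hall ▸ Finset.mem_univ _
      rcases Finset.mem_insert.mp h1 with h | h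
      · exact absurd (smul_left_cancel e (h.trans hP.symm)) hRP
      rcases Finset.mem_union.mp h with h | h
      · exact absurd ((smul_left_cancel e (hO _ h)) ▸ h) hRO
      · exact h
    obtain ⟨y, -, hy⟩ := Finset.mem_image.mp heR
    have hpow : ∀ k : ℕ, (e ^ k) • R = ((y : G) ^ k) • R := by
      intro k
      induction k with
      | zero => simp
      | succ k ih =>
        rw [pow_succ' e, mul_smul, ih, hcomm _ (pow_mem y.2 k), ← hy, ← mul_smul, ← pow_succ]
    have h1 : ((y : G) ^ r) • R = R := by rw [← hpow, ← hord, pow_orderOf_eq_one, one_smul]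
    have h2 := hfree _ (pow_mem y.2 r) R hRP h1
    have h3 : (y : G) ^ p = 1 := by
      have h4 := pow_card_eq_one' (x := y)
      rw [hcard P] at h4
      exact congrArg Subtype.val h4
    have h5 : orderOf (y : G) ∣ Nat.gcd r p :=
      Nat.dvd_gcd (orderOf_dvd_of_pow_eq_one h2) (orderOf_dvd_of_pow_eq_one h3)
    rw [(Nat.coprime_primes hr hp).mpr hrp, Nat.dvd_one, orderOf_eq_one_iff] at h5
    rw [← hy, h5, one_smul]
  have hCp : IsPGroup p C := by
    rw [IsPGroup.iff_card]
    refine ⟨_, Nat.eq_prime_pow_of_unique_prime_dvd Nat.card_pos.ne' fun {r} hr hrd => ?_⟩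
    by_contra hrp
    haveI : Fact r.Prime := ⟨hr⟩
    obtain ⟨e', he'⟩ := exists_prime_orderOf_dvd_card' r hrd
    have hord : orderOf (e' : G) = r := by rw [Subgroup.orderOf_coe, he']
    have hsupp : (φ e').support = Finset.univ.erase P := by
      ext Q
      rw [Equiv.Perm.mem_support, Finset.mem_erase]
      refine ⟨fun h => ⟨fun hQ => h ?_, Finset.mem_univ _⟩, fun h => hmove _ e'.2 r hr hrp hord Q h.1⟩
      rw [hQ]
      exact Sylow.smul_eq_iff_mem_normalizer.mpr (Subgroup.centralizer_le_normalizer _ e'.2)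
    have hord' : orderOf (φ e') = r := by rw [orderOf_injective φ hinj, hord]
    obtain ⟨m, hm⟩ := Equiv.Perm.cycleType_prime_order (hord'.symm ▸ hr)
    rw [hord'] at hm
    have hsum := Equiv.Perm.sum_cycleType (φ e')
    rw [hm, Multiset.sum_replicate, hsupp, Finset.card_erase_of_mem (Finset.mem_univ _), Finset.card_univ,
      ← Nat.card_eq_fintype_card, hn, smul_eq_mul, Nat.add_sub_cancel] at hsum
    have hr2 : r = 2 := by
      have h1 : r ∣ 2 * p := ⟨m + 1, by rw [← hsum, mul_comm]⟩
      rcases hr.dvd_mul.mp h1 with h | h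
      · exact (Nat.prime_dvd_prime_iff_eq hr Nat.prime_two).mp h
      · exact absurd ((Nat.prime_dvd_prime_iff_eq hr hp).mp h) hrp
    subst hr2
    have hmp : m + 1 = p := by omega
    have hsign := hom_eq_one_of_simple hG (Equiv.Perm.sign.comp φ) (e' : G)
    rw [MonoidHom.comp_apply, Equiv.Perm.sign_of_cycleType, hm, Multiset.sum_replicate,
      Multiset.card_replicate, hmp, smul_eq_mul] at hsign
    have hodd : Odd (p * 2 + p) := by
      obtain ⟨k, hk⟩ := hp.odd_of_ne_two hp2
      exact ⟨3 * k + 1, by omega⟩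
    rw [hodd.neg_one_pow] at hsign
    exact absurd hsign (by decide)
  have hPC : (P : Subgroup G) ≤ C := fun x hx => by
    rw [hC, Subgroup.mem_centralizer_iff]
    intro y hy
    haveI : IsCyclic (P : Subgroup G) := isCyclic_of_prime_card (hcard P)
    exact congrArg Subtype.val (IsCyclic.commGroup.mul_comm (⟨y, hy⟩ : (P : Subgroup G)) ⟨x, hx⟩)
  have hCeq : C = (P : Subgroup G) := P.is_maximal' hCp hPC
  -- the normalizer acts faithfully modulo `P`
  let ψ : N →* MulAut (P : Subgroup G) := Subgroup.normalizerMonoidHom (P : Subgroup G)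
  have hker : ψ.ker = (P : Subgroup G).subgroupOf N := by
    rw [Subgroup.normalizerMonoidHom_ker, ← hC, hCeq]
  haveI hPcyc : IsCyclic (P : Subgroup G) := isCyclic_of_prime_card (hcard P)
  have haut : IsCyclic (MulAut (P : Subgroup G)) := by
    rw [(IsCyclic.mulAutMulEquiv _).isCyclic, hcard P]
    exact ZMod.isCyclic_units_prime hp
  have hdvd : Nat.card ψ.range ∣ p - 1 := by
    refine (Subgroup.card_subgroup_dvd_card _).trans ?_
    rw [IsCyclic.card_mulAut, hcard P, Nat.totient_prime hp]
  set d := Nat.card ψ.range with hd'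
  have hNcard : Nat.card N = p * d := by
    rw [← ψ.ker.card_mul_index, Subgroup.index_ker, hker,
      Nat.card_congr (Subgroup.subgroupOfEquivOfLe Subgroup.le_normalizer).toEquiv, hcard P]
  have hGcard : Nat.card G = (2 * p + 1) * (p * d) := by
    rw [← N.card_mul_index, hNidx, hNcard, mul_comm]
  have hd1 : 1 < d := by
    rw [hd']
    by_contra hle
    push Not at hle
    have hbot : ψ.range = ⊥ := Subgroup.card_eq_one.mp (le_antisymm hle Nat.card_pos)
    apply not_normalizer_le_centralizer hG hd P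
    intro g hg
    have h1 : (⟨g, hg⟩ : N) ∈ ψ.ker := by
      rw [MonoidHom.range_eq_bot_iff.mp hbot, MonoidHom.ker_one]; exact Subgroup.mem_top _
    rw [hker, Subgroup.mem_subgroupOf] at h1
    exact hPC h1
  refine ⟨?_, d, hGcard, hdvd, hd1⟩
  by_contra hodd
  rw [Nat.not_odd_iff_even] at hodd
  haveI : Fact (Nat.Prime 2) := ⟨Nat.prime_two⟩
  obtain ⟨S₀⟩ : Nonempty (Sylow 2 N) := inferInstance
  let S' := (S₀ : Subgroup N).map N.subtype
  have hS' : ¬ 2 ∣ S'.index := by
    rw [Subgroup.index_map_subtype, hNidx]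
    exact fun h => (Nat.prime_two.dvd_mul.mp h).elim S₀.not_dvd_index (by omega)
  let S : Sylow 2 G := (S₀.isPGroup'.map N.subtype).toSylow hS'
  have hcycS : IsCyclic (S : Subgroup G) := by
    haveI := haut
    have hi : Function.Injective (ψ.comp (S₀ : Subgroup N).subtype) := by
      rw [← MonoidHom.ker_eq_bot_iff, eq_bot_iff]
      intro s hs
      rw [MonoidHom.mem_ker, MonoidHom.comp_apply, ← MonoidHom.mem_ker, hker, Subgroup.mem_subgroupOf] at hs
      obtain ⟨k, hk⟩ := S₀.isPGroup' s
      have h2 : orderOf ((s : N) : G) ∣ 2 ^ k := orderOf_dvd_of_pow_eq_one (by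
        simpa using congrArg (fun t : (S₀ : Subgroup N) => ((t : N) : G)) hk)
      have h3 : orderOf ((s : N) : G) ∣ p := by
        have h4 := orderOf_dvd_natCard (⟨_, hs⟩ : (P : Subgroup G))
        rwa [hcard P, ← Subgroup.orderOf_coe] at h4
      have h5 := Nat.eq_one_of_dvd_coprimes (Nat.Coprime.pow_left k
        ((Nat.coprime_primes Nat.prime_two hp).mpr (Ne.symm hp2))) h2 h3
      rw [orderOf_eq_one_iff] at h5
      rw [Subgroup.mem_bot]
      exact Subtype.ext (Subtype.ext h5)
    haveI : IsCyclic (S₀ : Subgroup N) := isCyclic_of_injective _ hi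
    exact isCyclic_of_surjective _ ((S₀ : Subgroup N).equivMapOfInjective N.subtype N.subtype_injective).surjective
  obtain ⟨H, hH⟩ := Cfsg.Agent.Lib.Involutions.exists_index_two_of_cyclic_sylow hodd S hcycS
  haveI : H.Normal := Subgroup.normal_of_index_eq_two hH
  rcases (inferInstance : H.Normal).eq_bot_or_eq_top with h | h
  · rw [h, Subgroup.index_bot] at hH
    apply hG
    haveI : Fact (Nat.card G).Prime := ⟨hH ▸ Nat.prime_two⟩
    haveI : IsCyclic G := isCyclic_of_prime_card rfl
    exact ⟨⟨fun a b => IsCyclic.commGroup.mul_comm a b⟩⟩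
  · rw [h, Subgroup.index_top] at hH
    omega

end Cfsg.Agent.Lib.PGroups
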