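import Cfsg.Agent.Lib.PGroups.SylowNumber
import Mathlib.GroupTheory.Solvable
import Mathlib.GroupTheory.SpecificGroups.Cyclic

/-! Induction along Hall's factorisation of Sylow numbers. -/

set_option autoImplicit false
set_option linter.style.haveILetI false

namespace Cfsg.Agent.Lib.PGroups

universe u

open scoped Pointwise

/-- A property of Sylow numbers which is multiplicative and holds in the simple and coprime cases holds always. -/
theorem sylow_number_induction (p : ℕ) [Fact p.Prime]
    (C : ∀ (G : Type u) [Group G], Prop)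
    (hsub : ∀ (G : Type u) [Group G] [Finite G] (H : Subgroup G), C G → C H)
    (hquot : ∀ (G : Type u) [Group G] [Finite G] (N : Subgroup G) [N.Normal], C G → C (G ⧸ N))
    (motive : ℕ → Prop) (h1 : motive 1)
    (hmul : ∀ a b, motive a → motive b → motive (a * b))
    (hsimple : ∀ (G : Type u) [Group G] [Finite G] [IsSimpleGroup G], C G → motive (Nat.card (Sylow p G)))
    (hparts : ∀ n : ℕ, n ≠ 0 → (∀ q : ℕ, q.Prime → q ^ n.factorization q ≡ 1 [MOD p]) → motive n)
    (G : Type u) [Group G] [Finite G] (hC : C G) : motive (Nat.card (Sylow p G)) := by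
  suffices H : ∀ (n : ℕ) (G : Type u) [Group G] [Finite G], C G → Nat.card G = n →
      motive (Nat.card (Sylow p G)) from H _ G hC rfl
  intro n
  induction n using Nat.strong_induction_on with
  | _ n ih =>
    intro G _ _ hC hn
    rcases subsingleton_or_nontrivial G with hs | hnt
    · haveI : Subsingleton (Sylow p G) := ⟨fun P Q => Sylow.ext (Subsingleton.elim _ _)⟩
      rwa [Nat.card_unique]
    by_cases hsimp : IsSimpleGroup G
    · exact hsimple G hC
    obtain ⟨K, hKn, hK1, hK2⟩ : ∃ K : Subgroup G, K.Normal ∧ K ≠ ⊥ ∧ K ≠ ⊤ := by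
      by_contra hc
      push Not at hc
      exact hsimp ⟨fun K hK => or_iff_not_imp_left.mpr (hc K hK)⟩
    haveI := hKn
    obtain ⟨P⟩ : Nonempty (Sylow p G) := inferInstance
    set D := (P : Subgroup G) ⊓ K with hD
    set N := ((P : Subgroup G) ⊔ K) ⊓ Subgroup.normalizer (D : Set G) with hN
    have hDN : D ≤ N := le_inf (inf_le_left.trans le_sup_left) Subgroup.le_normalizer
    haveI hn' : (D.subgroupOf N).Normal :=
      (Subgroup.normal_subgroupOf_iff_le_normalizer hDN).mpr inf_le_right
    rw [card_sylow_factor P K N hN]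
    have hKq : Nat.card (G ⧸ K) < n := by
      rw [← hn, ← Subgroup.index, ← K.index_mul_card]
      refine lt_mul_of_one_lt_right (Nat.pos_of_ne_zero Subgroup.index_ne_zero_of_finite) ?_
      exact Finite.one_lt_card_iff_nontrivial.mpr ((Subgroup.nontrivial_iff_ne_bot K).mpr hK1)
    have hKlt : Nat.card K < n := by
      rw [← hn]
      exact lt_of_le_of_ne (Subgroup.card_le_card_group K) fun h => hK2 (Subgroup.card_eq_iff_eq_top _ |>.mp h)
    refine hmul _ _ (hmul _ _ (ih _ hKq (G ⧸ K) (hquot G K hC) rfl) (ih _ hKlt K (hsub G K hC) rfl)) ?_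
    have hle : Nat.card (N ⧸ D.subgroupOf N) ≤ Nat.card G :=
      le_trans (Nat.le_of_dvd Nat.card_pos (Subgroup.index_dvd_card _)) (Subgroup.card_le_card_group N)
    rcases lt_or_eq_of_le hle with hlt | heq
    · exact ih _ (hn ▸ hlt) _ (hquot N _ (hsub G N hC)) rfl
    -- now `N = G` and `P ⊓ K = ⊥`
    have hle2 : Nat.card (N ⧸ D.subgroupOf N) ≤ Nat.card N :=
      Nat.le_of_dvd Nat.card_pos (Subgroup.index_dvd_card _)
    have hNtop : N = ⊤ := Subgroup.eq_top_of_card_eq N
      (le_antisymm (Subgroup.card_le_card_group N) (heq ▸ hle2))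
    have hDbot : D = ⊥ := by
      have hc := (D.subgroupOf N).index_mul_card
      have hidx : (D.subgroupOf N).index = Nat.card N := by
        rw [Subgroup.index, heq, hNtop, Subgroup.card_top]
      rw [hidx] at hc
      have h1 : Nat.card (D.subgroupOf N) = 1 :=
        Nat.eq_of_mul_eq_mul_left Nat.card_pos (hc.trans (mul_one _).symm)
      rw [← Subgroup.card_eq_one, ← Nat.card_congr (Subgroup.subgroupOfEquivOfLe hDN).toEquiv, h1]
    have htop : (P : Subgroup G) ⊔ K = ⊤ := top_le_iff.mp (hNtop ▸ inf_le_left)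
    have hK : ¬ p ∣ Nat.card K := by
      have h := not_dvd_relIndex_inf P K
      rwa [← hD, hDbot, Subgroup.relIndex_bot_left] at h
    refine hparts _ Nat.card_pos.ne' fun q hq => ?_
    have hDP : D.subgroupOf N ≤ ((P.subtype (hNtop ▸ le_top) : Sylow p N) : Subgroup N) :=
      Subgroup.comap_mono inf_le_left
    rw [card_sylow_quotient_of_le _ _ hDP, card_sylow_subgroup_eq P N (hNtop ▸ le_top), hNtop,
      Subgroup.relIndex_top_right, ← card_sylow_eq_index P]
    exact sylow_number_parts_of_coprime P K hK htop q hq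

/-- If a number is not `1`, has no proper divisor `≡ 1 (mod p)` and some prime-power part `≢ 1`, then it is a
Sylow number only if it is one of a non-abelian simple group. -/
theorem card_sylow_ne_of_simple (p n : ℕ) [Fact p.Prime] (hn : n ≠ 1)
    (hirr : ∀ d, d ∣ n → d % p = 1 → d = 1 ∨ d = n)
    (hpart : ∃ q : ℕ, q.Prime ∧ q ^ n.factorization q % p ≠ 1)
    (hsimple : ∀ (S : Type u) [Group S] [Finite S] [IsSimpleGroup S], ¬ IsMulCommutative S →
      p ∣ Nat.card S → Nat.card (Sylow p S) ≠ n)
    (G : Type u) [Group G] [Finite G] : Nat.card (Sylow p G) ≠ n := by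
  have hp : p.Prime := Fact.out
  have key : Nat.card (Sylow p G) ≠ n ∧ Nat.card (Sylow p G) % p = 1 := by
    refine sylow_number_induction p (fun _ _ => True) (fun _ _ _ _ _ => trivial)
      (fun _ _ _ _ _ _ => trivial) (fun m => m ≠ n ∧ m % p = 1) ⟨hn.symm, Nat.mod_eq_of_lt hp.one_lt⟩
      ?_ ?_ ?_ G trivial
    · rintro a b ⟨ha, ha'⟩ ⟨hb, hb'⟩
      refine ⟨fun h => ?_, by rw [Nat.mul_mod, ha', hb', mul_one, Nat.mod_eq_of_lt hp.one_lt]⟩
      rcases hirr a ⟨b, h.symm⟩ ha' with rfl | rfl
      · rw [one_mul] at h; exact hb h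
      · exact ha rfl
    · intro S _ _ _ _
      refine ⟨?_, by have := card_sylow_modEq_one p S; rwa [Nat.ModEq, Nat.mod_eq_of_lt hp.one_lt] at this⟩
      by_cases hd : p ∣ Nat.card S
      · by_cases hc : IsMulCommutative S
        · obtain ⟨P⟩ : Nonempty (Sylow p S) := inferInstance
          haveI : (P : Subgroup S).Normal := ⟨fun x hx g => by
            rw [show g * x = x * g from hc.is_comm.comm g x, mul_inv_cancel_right]; exact hx⟩
          rw [card_sylow_eq_index P, Subgroup.normalizer_eq_top, Subgroup.index_top]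
          exact hn.symm
        · exact hsimple S hc hd
      · obtain ⟨P⟩ : Nonempty (Sylow p S) := inferInstance
        have hbot : (P : Subgroup S) = ⊥ := by
          rw [← Subgroup.card_eq_one, P.card_eq_multiplicity, Nat.factorization_eq_zero_of_not_dvd hd,
            pow_zero]
        rw [card_sylow_eq_index P, hbot, Subgroup.normalizer_eq_top, Subgroup.index_top]
        exact hn.symm
    · intro m hm h
      refine ⟨fun hmn => ?_, ?_⟩
      · obtain ⟨q, hq, hq'⟩ := hpart
        have := h q hq
        rw [Nat.ModEq, Nat.mod_eq_of_lt hp.one_lt, hmn] at this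
        exact hq' this
      · conv_lhs => rw [← Nat.prod_factorization_pow_eq_self hm]
        rw [Finsupp.prod, Finset.prod_nat_mod, Finset.prod_congr rfl (g := fun _ => 1)]
        · simp [Nat.mod_eq_of_lt hp.one_lt]
        · intro q hq
          have := h q (Nat.prime_of_mem_primeFactors hq)
          rwa [Nat.ModEq, Nat.mod_eq_of_lt hp.one_lt] at this
  exact key.1

end Cfsg.Agent.Lib.PGroups
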