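import Cfsg.Agent.Lib.SylowCounting.DegreeKill
import Cfsg.Agent.Lib.PGroups.SylowInduction
import Cfsg.Agent.Lib.Coprime.Action
import Cfsg.Agent.Lib.Transfer.Focal
import Cfsg.Agent.Lib.Transfer.Gruen

/-!
No finite group has exactly 21 Sylow 5-subgroups.

In a simple one the Sylow subgroups have order five (a design count), the permutation of the four
orbits induced by the normalizer is even, and transfer into the abelian Sylow 2-subgroup leaves
only the order 420.
-/

set_option autoImplicit false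
set_option linter.style.haveILetI false
set_option linter.unusedSectionVars false

namespace Cfsg.Agent.Lib.PGroups.TwentyOne

open Cfsg.Agent.Lib
open scoped Pointwise

variable {G : Type*} [Group G] [Finite G] [IsSimpleGroup G] [Fact (Nat.Prime 5)]

local notation "Ω" => Sylow 5 G
local notation "Nz" P => Subgroup.normalizer ((P : Sylow 5 G) : Set G)

variable (hn : Nat.card (Sylow 5 G) = 21)
include hn

theorem five_dvd_card : 5 ∣ Nat.card G := by
  by_contra h
  obtain ⟨a⟩ := (inferInstance : Nonempty (Sylow 5 G))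
  have hbot : ∀ b : Sylow 5 G, (b : Subgroup G) = ⊥ := by
    intro b
    obtain ⟨k, hk⟩ := IsPGroup.iff_card.mp b.2
    rcases Nat.eq_zero_or_pos k with rfl | hk0
    · exact Subgroup.card_eq_one.mp (by simpa using hk)
    · exact absurd ((dvd_pow_self 5 hk0.ne').trans (hk ▸ Subgroup.card_subgroup_dvd_card _)) h
  haveI : Subsingleton (Sylow 5 G) := ⟨fun b c => Sylow.ext (by rw [hbot b, hbot c])⟩
  rw [Nat.card_unique] at hn
  omega

theorem not_comm : ¬ IsMulCommutative G := by
  intro hc
  have h1 : ∀ P : Sylow 5 G, (Nz P) = ⊤ := by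
    intro P
    rw [eq_top_iff]
    intro g _
    refine Subgroup.mem_normalizer_iff.mpr fun h => ?_
    rw [hc.is_comm.comm g h, mul_inv_cancel_right]
  obtain ⟨P⟩ := (inferInstance : Nonempty (Sylow 5 G))
  rw [P.card_eq_index_normalizer, h1, Subgroup.index_top] at hn
  omega

theorem faithful {u : G} (h : ∀ c : Ω, u • c = c) : u = 1 := by
  rcases IsSimpleGroup.eq_bot_or_eq_top_of_normal _
    (MulAction.toPermHom G (Sylow 5 G)).normal_ker with hk | hk
  · exact Subgroup.mem_bot.mp (hk ▸ MonoidHom.mem_ker.mpr (Equiv.ext h))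
  · exfalso
    obtain ⟨P, Q, hPQ⟩ : ∃ P Q : Ω, P ≠ Q := by
      by_contra hc
      push Not at hc
      haveI : Subsingleton (Sylow 5 G) := ⟨hc⟩
      rw [Nat.card_unique] at hn
      omega
    obtain ⟨g, rfl⟩ := MulAction.exists_smul_eq G P Q
    have hg := MonoidHom.mem_ker.mp (hk.ge (Subgroup.mem_top g))
    exact hPQ (Equiv.congr_fun hg P).symm

theorem card_normalizer (P : Ω) : Nat.card G = 21 * Nat.card (Nz P) := by
  rw [← (Nz P).index_mul_card, ← hn, P.card_eq_index_normalizer]

theorem mem_normalizer_iff_fix (u : G) (P : Ω) : u • P = P ↔ u ∈ Nz P := by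
  rw [← MulAction.mem_stabilizer_iff, Sylow.stabilizer_eq_normalizer]

theorem card_sylow_eq (P Q : Ω) : Nat.card (P : Subgroup G) = Nat.card (Q : Subgroup G) := by
  rw [P.card_eq_multiplicity, Q.card_eq_multiplicity]

/-- An element of `P` fixing `Q` lies in `Q`. -/
theorem mem_of_fix {x : G} {P Q : Ω} (hx : x ∈ (P : Subgroup G)) (h : x • Q = Q) :
    x ∈ (Q : Subgroup G) := by
  have hxp : IsPGroup 5 (Subgroup.zpowers x) := P.2.to_le (Subgroup.zpowers_le.mpr hx)
  have h2 : x ∈ Subgroup.zpowers x ⊓ (Nz Q) :=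
    Subgroup.mem_inf.mpr ⟨Subgroup.mem_zpowers x, (mem_normalizer_iff_fix hn x Q).mp h⟩
  rw [hxp.inf_normalizer_sylow] at h2
  exact (Subgroup.mem_inf.mp h2).2

theorem fix_of_mem {x : G} {Q : Ω} (hx : x ∈ (Q : Subgroup G)) : x • Q = Q :=
  (mem_normalizer_iff_fix hn x Q).mpr (Subgroup.le_normalizer hx)

open scoped Classical in
/-- The points fixed by an element. -/
noncomputable def fixed [Fintype (Sylow 5 G)] (u : G) : Finset Ω :=
  Finset.univ.filter fun c => u • c = c

variable [Fintype (Sylow 5 G)]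

omit hn in
theorem mem_fixed {u : G} {c : Ω} : c ∈ fixed u ↔ u • c = c := by
  classical
  simp [fixed]

theorem fixed_lt {u : G} (hu : u ≠ 1) : (fixed u).card < 21 := by
  classical
  refine lt_of_le_of_ne ?_ fun h => hu (faithful hn fun c => ?_)
  · rw [← hn, Nat.card_eq_fintype_card]
    exact Finset.card_le_univ _
  · rw [← hn, Nat.card_eq_fintype_card] at h
    exact mem_fixed.mp (Finset.eq_univ_of_card _ h ▸ Finset.mem_univ c)

open scoped Classical in
/-- An invariant set of points and an element of prime order. -/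
theorem card_invariant_modEq {q : ℕ} (hq : q.Prime) {u : G} (hu : orderOf u = q) (S : Finset Ω)
    (hS : ∀ c ∈ S, u • c ∈ S) :
    S.card ≡ (S.filter fun c => c ∈ fixed u).card [MOD q] := by
  classical
  haveI := Fact.mk hq
  let σ : Equiv.Perm Ω := MulAction.toPermHom G (Sylow 5 G) u
  have hσS : ∀ c, σ c ∈ S ↔ c ∈ S := by
    intro c
    refine ⟨fun h => ?_, hS c⟩
    have hall : ∀ n : ℕ, u ^ n • σ c ∈ S := by
      intro n
      induction n with
      | zero => simpa using h
      | succ n ih => rw [pow_succ', mul_smul]; exact hS _ ih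
    have h2 := hall (q - 1)
    have h3 : u ^ (q - 1) • σ c = c := by
      show u ^ (q - 1) • u • c = c
      rw [← mul_smul, ← pow_succ, Nat.sub_add_cancel hq.pos, ← hu, pow_orderOf_eq_one, one_smul]
    rwa [h3] at h2
  have hpow : σ ^ q = 1 := by rw [← map_pow, ← hu, pow_orderOf_eq_one, map_one]
  let τ : Equiv.Perm S := σ.subtypePerm hσS
  have hτ : τ ^ q ^ 1 = 1 := by
    rw [pow_one, Equiv.Perm.subtypePerm_pow]
    ext c
    simp [hpow]
  have h := Equiv.Perm.card_compl_support_modEq (p := q) (n := 1) hτ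
  rw [Fintype.card_coe] at h
  refine h.symm.trans (congrArg (· % q) ?_)
  rw [← Finset.card_map (Function.Embedding.subtype _)]
  refine congrArg Finset.card (Finset.ext fun c => ?_)
  simp only [Finset.mem_map, Finset.mem_compl, Equiv.Perm.mem_support, not_not,
    Function.Embedding.subtype_apply, Finset.mem_filter, mem_fixed]
  constructor
  · rintro ⟨c, hc, rfl⟩
    exact ⟨c.2, congrArg Subtype.val hc⟩
  · rintro ⟨hc, hf⟩
    exact ⟨⟨c, hc⟩, Subtype.ext hf, rfl⟩

theorem fixed_modEq {q : ℕ} (hq : q.Prime) {u : G} (hu : orderOf u = q) :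
    21 ≡ (fixed u).card [MOD q] := by
  classical
  have h := card_invariant_modEq hn hq hu Finset.univ (fun c _ => Finset.mem_univ _)
  rw [Finset.card_univ, ← Nat.card_eq_fintype_card, hn, Finset.filter_univ_mem] at h
  exact h

/-- Involutions act as even permutations. -/
theorem four_dvd_moved {z : G} (hz : orderOf z = 2) : 4 ∣ 21 - (fixed z).card := by
  classical
  set σ : Equiv.Perm Ω := MulAction.toPermHom G (Sylow 5 G) z with hσ
  have hz2 : z ^ 2 = 1 := hz ▸ pow_orderOf_eq_one z
  have hsq : σ ^ 2 = 1 := by rw [hσ, ← map_pow, hz2, map_one]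
  have hsign : Equiv.Perm.sign σ = 1 :=
    SylowCounting.hom_zmod_trivial (not_comm hn)
      (Equiv.Perm.sign.comp (MulAction.toPermHom G (Sylow 5 G))) z
  have hall : ∀ m ∈ σ.cycleType, m = 2 := fun m hm =>
    le_antisymm (Nat.le_of_dvd two_pos ((Equiv.Perm.dvd_of_mem_cycleType hm).trans
      (orderOf_dvd_of_pow_eq_one hsq))) (Equiv.Perm.two_le_of_mem_cycleType hm)
  have hsum : σ.support.card = 2 * Multiset.card σ.cycleType := by
    rw [← Equiv.Perm.sum_cycleType, Multiset.eq_replicate.2 ⟨rfl, hall⟩, Multiset.sum_replicate,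
      Multiset.card_replicate, smul_eq_mul]
    ring
  have hev : Even (Multiset.card σ.cycleType) := by
    rw [Equiv.Perm.sign_of_cycleType, Equiv.Perm.sum_cycleType, hsum, pow_add, pow_mul,
      neg_one_sq, one_pow, one_mul] at hsign
    rcases Nat.even_or_odd (Multiset.card σ.cycleType) with h | h
    · exact h
    · rw [h.neg_one_pow] at hsign
      exact absurd hsign (by decide)
  have hsupp : σ.support = Finset.univ.filter fun c => ¬ c ∈ fixed z := by
    ext c
    simp [Equiv.Perm.mem_support, mem_fixed, hσ]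
  have h2 := Finset.card_filter_add_card_filter_not (s := (Finset.univ : Finset Ω))
    (fun c => c ∈ fixed z)
  rw [← hsupp, Finset.filter_univ_mem, Finset.card_univ, ← Nat.card_eq_fintype_card, hn] at h2
  obtain ⟨r, hr⟩ := hev
  exact ⟨r, by omega⟩

open scoped Classical in
/-- The `P`-orbit of `Q`. -/
noncomputable def orb (P Q : Ω) : Finset Ω :=
  Finset.univ.filter fun c => ∃ x ∈ (P : Subgroup G), x • Q = c

omit hn in
theorem mem_orb {P Q c : Ω} : c ∈ orb P Q ↔ ∃ x ∈ (P : Subgroup G), x • Q = c := by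
  classical
  simp [orb]

theorem orb_mul (P Q : Ω) :
    (orb P Q).card * Nat.card ↥((P : Subgroup G) ⊓ (Q : Subgroup G)) =
      Nat.card (P : Subgroup G) := by
  classical
  have h1 : MulAction.stabilizer (P : Subgroup G) Q =
      ((P : Subgroup G) ⊓ (Q : Subgroup G)).subgroupOf (P : Subgroup G) := by
    ext x
    rw [MulAction.mem_stabilizer_iff, Subgroup.mem_subgroupOf, Subgroup.mem_inf]
    exact ⟨fun h => ⟨x.2, mem_of_fix hn x.2 h⟩, fun h => fix_of_mem hn h.2⟩
  have h2 := MulAction.index_stabilizer (G := (P : Subgroup G)) Q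
  rw [h1] at h2
  have h3 : (MulAction.orbit (P : Subgroup G) Q).ncard = (orb P Q).card := by
    rw [← Set.ncard_coe_finset]
    congr 1
    ext c
    rw [Finset.mem_coe, mem_orb, MulAction.mem_orbit_iff]
    exact ⟨fun ⟨x, hx⟩ => ⟨x, x.2, hx⟩, fun ⟨x, hx, h⟩ => ⟨⟨x, hx⟩, h⟩⟩
  rw [h3] at h2
  rw [← h2, mul_comm]
  exact Coprime.relIndex_mul_card inf_le_left

/-- An invariant set is a union of orbits. -/
theorem dvd_card_of_invariant {P : Ω} (S : Finset Ω) {m : ℕ}
    (hS : ∀ x ∈ (P : Subgroup G), ∀ c ∈ S, x • c ∈ S) (hm : ∀ c ∈ S, m ∣ (orb P c).card) :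
    m ∣ S.card := by
  classical
  rw [Finset.card_eq_sum_card_fiberwise (f := fun c => orb P c) (t := S.image fun c => orb P c)
    (fun c hc => Finset.mem_image_of_mem _ hc)]
  refine Finset.dvd_sum fun O hO => ?_
  obtain ⟨c, hc, rfl⟩ := Finset.mem_image.mp hO
  refine (congrArg (m ∣ ·) (congrArg Finset.card ?_)).mpr (hm c hc)
  ext d
  rw [Finset.mem_filter, mem_orb]
  constructor
  · rintro ⟨-, hd⟩
    have : d ∈ orb P d := mem_orb.mpr ⟨1, one_mem _, one_smul _ _⟩
    rw [hd, mem_orb] at this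
    exact this
  · rintro ⟨x, hx, rfl⟩
    refine ⟨hS x hx c hc, Finset.ext fun e => ?_⟩
    rw [mem_orb, mem_orb]
    constructor
    · rintro ⟨w, hw, rfl⟩
      exact ⟨w * x, mul_mem hw hx, mul_smul _ _ _⟩
    · rintro ⟨w, hw, rfl⟩
      exact ⟨w * x⁻¹, mul_mem hw (inv_mem hx), by rw [mul_smul, inv_smul_smul]⟩

omit hn in
theorem coe_smul_inf (g : G) (P Q : Ω) :
    ((g • P : Ω) : Subgroup G) ⊓ ((g • Q : Ω) : Subgroup G) =
      MulAut.conj g • ((P : Subgroup G) ⊓ (Q : Subgroup G)) := by
  rw [Sylow.coe_subgroup_smul, Sylow.coe_subgroup_smul, Subgroup.smul_inf]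

theorem self_mem_orb_iff (P Q : Ω) : P ∈ orb P Q ↔ Q = P := by
  rw [mem_orb]
  constructor
  · rintro ⟨x, hx, h⟩
    rw [← inv_smul_smul x Q, h]
    exact fix_of_mem hn (inv_mem hx)
  · rintro rfl
    exact ⟨1, one_mem _, one_smul _ _⟩

theorem orb_card_eq {P Q : Ω} (hne : Q ≠ P) : (orb P Q).card = 5 := by
  classical
  obtain ⟨k, hk⟩ := IsPGroup.iff_card.mp P.2
  have hdvd : (orb P Q).card ∣ 5 ^ k := hk ▸ Dvd.intro _ (orb_mul hn P Q)
  obtain ⟨i, -, hi⟩ := (Nat.dvd_prime_pow (Fact.out : Nat.Prime 5)).mp hdvd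
  have hle : (orb P Q).card ≤ 20 := by
    have h1 : orb P Q ⊆ Finset.univ.erase P := fun c hc =>
      Finset.mem_erase.mpr ⟨fun h => hne ((self_mem_orb_iff hn P Q).mp (h ▸ hc)), Finset.mem_univ _⟩
    refine (Finset.card_le_card h1).trans ?_
    rw [Finset.card_erase_of_mem (Finset.mem_univ _), Finset.card_univ, ← Nat.card_eq_fintype_card,
      hn]
  have hne1 : i ≠ 0 := by
    rintro rfl
    apply hne
    have h := orb_mul hn P Q
    rw [hi, pow_zero, one_mul] at h
    have h2 := Coprime.eq_of_le_of_card_le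
      (inf_le_left : (P : Subgroup G) ⊓ (Q : Subgroup G) ≤ P) h.ge
    exact Sylow.ext (Coprime.eq_of_le_of_card_le
      (inf_eq_left.mp h2) (card_sylow_eq hn Q P).le).symm
  rw [hi] at hle ⊢
  have hi2 : i < 2 := by
    by_contra h
    have : 5 ^ 2 ≤ 5 ^ i := Nat.pow_le_pow_right (by norm_num) (not_lt.mp h)
    omega
  interval_cases i <;> simp_all

/-- `P ⊓ Q` has index five in `P`. -/
def Rel (P Q : Ω) : Prop :=
  5 * Nat.card ↥((P : Subgroup G) ⊓ (Q : Subgroup G)) = Nat.card (P : Subgroup G)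

theorem rel_symm {P Q : Ω} (h : Rel P Q) : Rel Q P := by
  rw [Rel, inf_comm, card_sylow_eq hn Q P]
  exact h

theorem rel_ne {P Q : Ω} (h : Rel P Q) : Q ≠ P := by
  rintro rfl
  rw [Rel, inf_idem] at h
  have := Nat.card_pos (α := (Q : Subgroup G))
  omega

theorem rel_smul (g : G) {P Q : Ω} : Rel (g • P) (g • Q) ↔ Rel P Q := by
  rw [Rel, Rel, coe_smul_inf, Coprime.card_conj_smul, card_sylow_eq hn (g • P) P]

theorem rel_iff_orb {P Q : Ω} : Rel P Q ↔ (orb P Q).card = 5 := by
  have h := orb_mul hn P Q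
  constructor
  · intro hr
    rw [Rel, ← h] at hr
    exact (Nat.eq_of_mul_eq_mul_right Nat.card_pos hr).symm
  · intro h3
    rw [h3] at h
    exact h

open scoped Classical in
/-- The points whose Sylow subgroup contains `P ⊓ Q`. -/
noncomputable def block (P Q : Ω) : Finset Ω :=
  Finset.univ.filter fun c => (P : Subgroup G) ⊓ (Q : Subgroup G) ≤ c

omit hn in
theorem mem_block {P Q c : Ω} :
    c ∈ block P Q ↔ (P : Subgroup G) ⊓ (Q : Subgroup G) ≤ c := by
  classical
  simp [block]

theorem rel_all {P Q : Ω} (hne : Q ≠ P) : Rel P Q := by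
  rw [rel_iff_orb hn]
  exact orb_card_eq hn hne

theorem block_eq {P Q c d : Ω} (h : Q ≠ P) (hc : c ∈ block P Q) (hd : d ∈ block P Q)
    (hcd : d ≠ c) : block c d = block P Q := by
  have h1 := rel_all hn h
  have h2 := rel_all hn hcd
  have heq := Coprime.eq_of_le_of_card_le (le_inf (mem_block.mp hc) (mem_block.mp hd)) (by
    unfold Rel at h1 h2
    rw [card_sylow_eq hn c P] at h2
    omega)
  ext e
  rw [mem_block, mem_block, heq]

open scoped Classical in
/-- The Sylow subgroups have order five. -/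
theorem card_five (P : Ω) : Nat.card (P : Subgroup G) = 5 := by
  have hgen : ∀ a c : Ω, c ≠ a → Nat.card (a : Subgroup G) ≠ 5 →
      6 ≤ (block a c).card ∧ (block a c).card < 21 := by
    intro a c hca h5
    have h := rel_all hn hca
    have hbot : (a : Subgroup G) ⊓ (c : Subgroup G) ≠ ⊥ := by
      intro hb
      rw [Rel, hb, Subgroup.card_bot, mul_one] at h
      exact h5 h.symm
    have hinv : ∀ x ∈ (a : Subgroup G), ∀ d ∈ block a c, x • d ∈ block a c := by
      intro x hx d hd
      have hD : MulAut.conj x • ((a : Subgroup G) ⊓ (c : Subgroup G)) =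
          (a : Subgroup G) ⊓ (c : Subgroup G) := by
        obtain ⟨k, hk⟩ := IsPGroup.iff_card.mp a.2
        haveI : (((a : Subgroup G) ⊓ (c : Subgroup G)).subgroupOf (a : Subgroup G)).Normal := by
          refine Subgroup.normal_of_index_eq_minFac_card ?_
          have h3 := Coprime.relIndex_mul_card
            (inf_le_left : (a : Subgroup G) ⊓ (c : Subgroup G) ≤ a)
          rw [← h, mul_comm] at h3
          rw [← Subgroup.relIndex, Nat.eq_of_mul_eq_mul_right Nat.card_pos h3, hk,
            Nat.pow_minFac (by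
              rintro rfl
              unfold Rel at h
              rw [hk, pow_zero] at h
              omega), Nat.Prime.minFac_eq (by norm_num)]
        exact Coprime.conj_smul_eq_of_mem_normalizer
          ((Subgroup.normal_subgroupOf_iff_le_normalizer inf_le_left).mp inferInstance hx)
      rw [mem_block, Sylow.coe_subgroup_smul, ← hD]
      exact Subgroup.pointwise_smul_le_pointwise_smul_iff.mpr (mem_block.mp hd)
    have ha : a ∈ block a c := mem_block.mpr inf_le_left
    have h1 : 5 ∣ ((block a c).erase a).card := by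
      refine dvd_card_of_invariant hn (P := a) _ (fun x hx d hd => ?_) fun d hd => ?_
      · obtain ⟨hda, hd⟩ := Finset.mem_erase.mp hd
        refine Finset.mem_erase.mpr ⟨fun h' => hda ?_, hinv x hx d hd⟩
        exact smul_left_cancel x (h'.trans (fix_of_mem hn hx).symm)
      · rw [orb_card_eq hn (Finset.ne_of_mem_erase hd)]
    have hpos := Finset.card_pos.mpr
      ⟨c, Finset.mem_erase.mpr ⟨hca, (mem_block.mpr inf_le_right : c ∈ block a c)⟩⟩
    rw [Finset.card_erase_of_mem ha] at h1 hpos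
    refine ⟨by omega, lt_of_le_of_ne (hn ▸ Nat.card_eq_fintype_card (α := Ω) ▸ Finset.card_le_univ _)
      fun h21 => hbot ?_⟩
    rw [eq_bot_iff]
    intro x hx
    have huniv := Finset.eq_univ_of_card (block a c) (by rw [h21, ← hn, Nat.card_eq_fintype_card])
    exact Subgroup.mem_bot.mpr (faithful hn fun d =>
      fix_of_mem hn (mem_block.mp (huniv ▸ Finset.mem_univ d) hx))
  by_contra h5
  obtain ⟨Q, hQ⟩ : ∃ Q, Q ≠ P := by
    by_contra hall
    push Not at hall
    haveI : Subsingleton (Sylow 5 G) := ⟨fun a b => (hall a).trans (hall b).symm⟩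
    rw [Nat.card_unique] at hn
    omega
  obtain ⟨h6, h21⟩ := hgen P Q hQ h5
  obtain ⟨a, ha⟩ : ∃ a, a ∉ block P Q := by
    by_contra hall
    push Not at hall
    rw [Finset.eq_univ_of_forall hall, Finset.card_univ, ← Nat.card_eq_fintype_card, hn] at h21
    omega
  have h5a : Nat.card (a : Subgroup G) ≠ 5 := card_sylow_eq hn a P ▸ h5
  let BS := (Finset.univ.erase a).image (block a)
  have hinj : Set.InjOn (block a) (block P Q : Set Ω) := by
    intro c hc d hd heq
    by_contra hcd
    rw [Finset.mem_coe] at hc hd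
    have hca : c ≠ a := fun h => ha (h ▸ hc)
    have h1 : d ∈ block a c := heq ▸ mem_block.mpr inf_le_right
    have h2 : c ∈ block a c := mem_block.mpr inf_le_right
    have h3 : a ∈ block a c := mem_block.mpr inf_le_left
    rw [← block_eq hn hca h2 h1 (Ne.symm hcd), block_eq hn hQ hc hd (Ne.symm hcd)] at h3
    exact ha h3
  have hBS : 6 ≤ BS.card := by
    refine h6.trans ?_
    rw [← Finset.card_image_of_injOn hinj]
    refine Finset.card_le_card fun β hβ => ?_
    obtain ⟨c, hc, rfl⟩ := Finset.mem_image.mp hβ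
    exact Finset.mem_image_of_mem _
      (Finset.mem_erase.mpr ⟨fun h : c = a => ha (h ▸ hc), Finset.mem_univ c⟩)
  have hsum : BS.card * 5 ≤ 20 := by
    have h20 : (Finset.univ.erase a).card = 20 := by
      rw [Finset.card_erase_of_mem (Finset.mem_univ _), Finset.card_univ,
        ← Nat.card_eq_fintype_card, hn]
    rw [← h20, Finset.card_eq_sum_card_image (block a) (Finset.univ.erase a), ← smul_eq_mul]
    refine Finset.card_nsmul_le_sum _ _ _ fun β hβ => ?_
    obtain ⟨c, hc, rfl⟩ := Finset.mem_image.mp hβ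
    have hca := Finset.ne_of_mem_erase hc
    obtain ⟨hb6, -⟩ := hgen a c hca h5a
    refine le_trans ?_ (Finset.card_le_card (s := (block a c).erase a) fun d hd => ?_)
    · rw [Finset.card_erase_of_mem (mem_block.mpr inf_le_left)]
      omega
    · obtain ⟨hda, hd⟩ := Finset.mem_erase.mp hd
      exact Finset.mem_filter.mpr ⟨Finset.mem_erase.mpr ⟨hda, Finset.mem_univ _⟩,
        block_eq hn hca (mem_block.mpr inf_le_left) hd hda⟩
  omega

theorem inf_eq_bot {P Q : Ω} (h : Q ≠ P) {x : G} (hx : x ∈ (P : Subgroup G)) (hxQ : x • Q = Q) :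
    x = 1 := by
  have h1 := rel_all hn h
  rw [Rel, card_five hn P] at h1
  have h2 : Nat.card ↥((P : Subgroup G) ⊓ (Q : Subgroup G)) = 1 := by omega
  exact Subgroup.mem_bot.mp (Subgroup.card_eq_one.mp h2 ▸
    Subgroup.mem_inf.mpr ⟨hx, mem_of_fix hn hx hxQ⟩)

/-- The orbits of `P` on the other points. -/
abbrev Orbits (P : Ω) : Type _ := { O : Finset Ω // ∃ c, c ≠ P ∧ orb P c = O }

theorem orb_smul {P : Ω} {g : G} (hg : g • P = P) (c : Ω) [DecidableEq Ω] :
    orb P (g • c) = (orb P c).image (g • ·) := by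
  ext d
  rw [Finset.mem_image, mem_orb]
  have hgN := (mem_normalizer_iff_fix hn g P).mp hg
  constructor
  · rintro ⟨x, hx, rfl⟩
    refine ⟨(g⁻¹ * x * g) • c, mem_orb.mpr ⟨_, ?_, rfl⟩, ?_⟩
    · exact (Subgroup.mem_normalizer_iff''.mp hgN x).mp hx
    · rw [← mul_smul, ← mul_smul]
      congr 1
      group
  · rintro ⟨e, he, rfl⟩
    obtain ⟨x, hx, rfl⟩ := mem_orb.mp he
    exact ⟨g * x * g⁻¹, (Subgroup.mem_normalizer_iff.mp hgN x).mp hx, by
      rw [← mul_smul, ← mul_smul, inv_mul_cancel_right]⟩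

theorem orb_eq_of_mem {P c d : Ω} (h : d ∈ orb P c) : orb P d = orb P c := by
  obtain ⟨x, hx, rfl⟩ := mem_orb.mp h
  ext e
  rw [mem_orb, mem_orb]
  constructor
  · rintro ⟨w, hw, rfl⟩
    exact ⟨w * x, mul_mem hw hx, mul_smul _ _ _⟩
  · rintro ⟨w, hw, rfl⟩
    exact ⟨w * x⁻¹, mul_mem hw (inv_mem hx), by rw [mul_smul, inv_smul_smul]⟩

omit hn in
theorem self_mem_orb (P c : Ω) : c ∈ orb P c := mem_orb.mpr ⟨1, one_mem _, one_smul _ _⟩

omit hn in
theorem fix_of_normalizer {P : Ω} (g : ↥(Nz P)) : (g : G) • P = P := by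
  rw [← MulAction.mem_stabilizer_iff, Sylow.stabilizer_eq_normalizer]
  exact g.2

open scoped Classical in
/-- The permutation of the four orbits induced by the normalizer. -/
noncomputable def orbitHom (P : Ω) : ↥(Nz P) →* Equiv.Perm (Orbits P) :=
  letI : SMul ↥(Nz P) (Orbits P) := ⟨fun g O => ⟨O.1.image ((g : G) • ·), by
    obtain ⟨c, hc, hO⟩ := O.2
    refine ⟨(g : G) • c, fun h => hc (smul_left_cancel (g : G) (h.trans (fix_of_normalizer g).symm)), ?_⟩
    rw [orb_smul hn (fix_of_normalizer g), hO]⟩⟩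
  letI : MulAction ↥(Nz P) (Orbits P) :=
    { one_smul := fun O => Subtype.ext (by
        show O.1.image (fun c => ((1 : ↥(Nz P)) : G) • c) = O.1
        simp)
      mul_smul := fun g h O => Subtype.ext (by
        show O.1.image (fun c => ((g * h : ↥(Nz P)) : G) • c) =
          (O.1.image (fun c => (h : G) • c)).image (fun c => (g : G) • c)
        rw [Finset.image_image]
        simp [Function.comp_def, mul_smul]) }
  MulAction.toPermHom ↥(Nz P) (Orbits P)

open scoped Classical in
theorem orbitHom_apply (P : Ω) (g : ↥(Nz P)) (O : Orbits P) :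
    ((orbitHom hn P g O : Orbits P) : Finset Ω) = O.1.image ((g : G) • ·) := rfl

open scoped Classical in
theorem orbitHom_mem {P : Ω} (g : ↥(Nz P)) {O : Orbits P} {c : Ω} (hc : c ∈ O.1) :
    (g : G) • c ∈ (orbitHom hn P g O : Orbits P).1 := by
  rw [orbitHom_apply]
  exact Finset.mem_image_of_mem _ hc

open scoped Classical in
theorem card_orbits (P : Ω) : Nat.card (Orbits P) = 4 := by
  have h20 : (Finset.univ.erase P).card = 20 := by
    rw [Finset.card_erase_of_mem (Finset.mem_univ _), Finset.card_univ,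
      ← Nat.card_eq_fintype_card, hn]
  have hset : Nat.card (Orbits P) = ((Finset.univ.erase P).image (orb P)).card := by
    rw [← Nat.card_eq_finsetCard]
    refine Nat.card_congr (Equiv.subtypeEquivRight fun O => ?_)
    simp [Finset.mem_image, eq_comm]
  rw [Finset.card_eq_sum_card_image (orb P) (Finset.univ.erase P),
    Finset.sum_congr rfl (g := fun _ => 5) (fun O hO => ?_), Finset.sum_const, smul_eq_mul] at h20
  · omega
  · obtain ⟨c, hc, rfl⟩ := Finset.mem_image.mp hO
    have hcP := Finset.ne_of_mem_erase hc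
    refine (congrArg Finset.card (Finset.ext fun d => ?_)).trans (orb_card_eq hn hcP)
    rw [Finset.mem_filter, Finset.mem_erase]
    constructor
    · rintro ⟨-, hd⟩
      exact hd ▸ self_mem_orb P d
    · intro hd
      exact ⟨⟨fun h => hcP ((self_mem_orb_iff hn P c).mp (h ▸ hd)), Finset.mem_univ _⟩,
        orb_eq_of_mem hn hd⟩

/-- Conjugation on `P` by its normalizer. -/
def autHom (P : Ω) : ↥(Nz P) →* MulAut (P : Subgroup G) where
  toFun g :=
    { toFun := fun x => ⟨(g : G) * x * (g : G)⁻¹, (Subgroup.mem_normalizer_iff.mp g.2 x).mp x.2⟩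
      invFun := fun x => ⟨(g : G)⁻¹ * x * g, (Subgroup.mem_normalizer_iff''.mp g.2 x).mp x.2⟩
      left_inv := fun x => Subtype.ext (by
        show (g : G)⁻¹ * ((g : G) * x * (g : G)⁻¹) * g = x
        group)
      right_inv := fun x => Subtype.ext (by
        show (g : G) * ((g : G)⁻¹ * x * g) * (g : G)⁻¹ = x
        group)
      map_mul' := fun x y => Subtype.ext (by
        show (g : G) * (x * y) * (g : G)⁻¹ = (g : G) * x * (g : G)⁻¹ * ((g : G) * y * (g : G)⁻¹)
        group) }
  map_one' := MulEquiv.ext fun x => Subtype.ext (by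
    show ((1 : ↥(Nz P)) : G) * x * ((1 : ↥(Nz P)) : G)⁻¹ = x
    simp)
  map_mul' g h := MulEquiv.ext fun x => Subtype.ext (by
    show ((g * h : ↥(Nz P)) : G) * x * ((g * h : ↥(Nz P)) : G)⁻¹ =
      (g : G) * ((h : G) * x * (h : G)⁻¹) * (g : G)⁻¹
    simp [mul_assoc])

omit hn in
theorem autHom_apply (P : Ω) (g : ↥(Nz P)) (x : (P : Subgroup G)) :
    ((autHom P g x : (P : Subgroup G)) : G) = (g : G) * x * (g : G)⁻¹ := rfl

omit hn in
theorem smul_autHom (P : Ω) (g : ↥(Nz P)) (x : (P : Subgroup G)) (c : Ω) :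
    (g : G) • (x : G) • c = ((autHom P g x : (P : Subgroup G)) : G) • (g : G) • c := by
  rw [autHom_apply, ← mul_smul, ← mul_smul, inv_mul_cancel_right]

open scoped Classical in
/-- The permutation of the orbits is even. -/
theorem sign_orbitHom (P : Ω) (g : ↥(Nz P)) : Equiv.Perm.sign (orbitHom hn P g) = 1 := by
  haveI := Fintype.ofFinite (P : Subgroup G)
  choose r hr hor using fun O : Orbits P => O.2
  let F : Orbits P × (P : Subgroup G) → { c : Ω // c ≠ P } := fun x =>
    ⟨(x.2 : G) • r x.1, fun h => hr x.1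
      (smul_left_cancel (x.2 : G) (h.trans (fix_of_mem hn x.2.2).symm))⟩
  have hinj : Function.Injective F := by
    rintro ⟨O, x⟩ ⟨O', y⟩ h
    have h' : (x : G) • r O = (y : G) • r O' := congrArg Subtype.val h
    have hOO : O = O' := Subtype.ext (by
      rw [← hor O, ← hor O', ← orb_eq_of_mem hn (mem_orb.mpr ⟨x, x.2, rfl⟩ : (x : G) • r O ∈ orb P (r O)),
        h', orb_eq_of_mem hn (mem_orb.mpr ⟨y, y.2, rfl⟩ : (y : G) • r O' ∈ orb P (r O'))])
    subst hOO
    refine Prod.ext rfl (Subtype.ext (inv_mul_eq_one.mp (inf_eq_bot hn (hr O)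
      (mul_mem (inv_mem y.2) x.2) ?_)).symm)
    rw [mul_smul, h', inv_smul_smul]
  have hbij : Function.Bijective F := by
    refine (Fintype.bijective_iff_injective_and_card F).mpr ⟨hinj, ?_⟩
    rw [← Nat.card_eq_fintype_card, Nat.card_prod, card_orbits hn, card_five hn,
      Fintype.card_subtype_compl, Fintype.card_subtype_eq, ← Nat.card_eq_fintype_card, hn]
  let e := Equiv.ofBijective F hbij
  have hshift : ∀ O, ∃ s : (P : Subgroup G), (g : G) • r O = (s : G) • r (orbitHom hn P g O) := by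
    intro O
    have h1 : (g : G) • r O ∈ (orbitHom hn P g O : Orbits P).1 :=
      orbitHom_mem hn g (hor O ▸ self_mem_orb P (r O))
    rw [← hor (orbitHom hn P g O)] at h1
    obtain ⟨x, hx, h⟩ := mem_orb.mp h1
    exact ⟨⟨x, hx⟩, h.symm⟩
  choose t ht using hshift
  let π : Equiv.Perm Ω := MulAction.toPermHom G (Sylow 5 G) (g : G)
  have hπP : ∀ c, π c ≠ P ↔ c ≠ P := fun c => by
    refine ⟨fun h hc => h ?_, fun h h' =>
      h (smul_left_cancel (g : G) (h'.trans (fix_of_normalizer g).symm))⟩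
    subst hc
    exact fix_of_normalizer g
  let π' : Equiv.Perm { c : Ω // c ≠ P } := π.subtypePerm hπP
  have hπ' : Equiv.Perm.sign π' = 1 := by
    show Equiv.Perm.sign (π.subtypePerm hπP) = 1
    have h2 : ∀ c, π c ≠ c → c ≠ P := fun c hc h => hc (by
      show (g : G) • c = c
      subst h
      exact fix_of_normalizer g)
    rw [Equiv.Perm.sign_subtypePerm π hπP h2]
    exact SylowCounting.hom_zmod_trivial (not_comm hn)
      (Equiv.Perm.sign.comp (MulAction.toPermHom G (Sylow 5 G))) (g : G)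
  let aff : Orbits P → Equiv.Perm (P : Subgroup G) := fun O =>
    Equiv.mulRight (t O) * (autHom P g).toEquiv
  have hπe : π' = e.permCongr
      (Equiv.prodCongrLeft (fun _ : (P : Subgroup G) => orbitHom hn P g) *
        Equiv.prodCongrRight aff) := by
    refine Equiv.ext fun z => ?_
    obtain ⟨⟨O, x⟩, rfl⟩ := e.surjective z
    rw [Equiv.permCongr_apply, Equiv.symm_apply_apply]
    refine Subtype.ext ?_
    show (g : G) • (x : G) • r O =
      (((autHom P g x * t O : (P : Subgroup G))) : G) • r (orbitHom hn P g O)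
    rw [smul_autHom, ht, Subgroup.coe_mul, mul_smul]
  rw [hπe, Equiv.Perm.sign_permCongr, map_mul, Equiv.Perm.sign_prodCongrLeft,
    Equiv.Perm.sign_prodCongrRight, Finset.prod_const, Finset.card_univ,
    ← Nat.card_eq_fintype_card, card_five hn] at hπ'
  have hmr : ∀ s : (P : Subgroup G), Equiv.Perm.sign (Equiv.mulRight s) = 1 := by
    intro s
    have h5 : (Equiv.mulRight s) ^ 5 = 1 := by
      refine Equiv.ext fun x => ?_
      rw [Equiv.Perm.coe_pow, Equiv.coe_mulRight, mul_right_iterate]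
      show x * s ^ 5 = x
      have h := pow_card_eq_one' (x := s)
      rw [card_five hn P] at h
      rw [h, mul_one]
    have h := congrArg Equiv.Perm.sign h5
    rw [map_pow, map_one] at h
    rcases Int.units_eq_one_or (Equiv.Perm.sign (Equiv.mulRight s)) with h' | h'
    · exact h'
    · rw [h'] at h
      exact absurd h (by decide)
  have haff : ∏ O : Orbits P, Equiv.Perm.sign (aff O) = 1 := by
    simp only [aff, map_mul, hmr, one_mul, Finset.prod_const, Finset.card_univ]
    rw [← Nat.card_eq_fintype_card, card_orbits hn]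
    rcases Int.units_eq_one_or (Equiv.Perm.sign (autHom P g).toEquiv) with h | h <;> rw [h] <;> rfl
  rw [haff, mul_one] at hπ'
  rcases Int.units_eq_one_or (Equiv.Perm.sign (orbitHom hn P g)) with h | h
  · exact h
  · rw [h] at hπ'
    exact absurd hπ' (by decide)

theorem mem_of_two_kernels (P : Ω) {g : ↥(Nz P)} (h1 : orbitHom hn P g = 1)
    (h2 : autHom P g = 1) : (g : G) ∈ (P : Subgroup G) := by
  classical
  have h5 : (g : G) ^ 5 = 1 := by
    refine faithful hn fun c => ?_
    by_cases hc : c = P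
    · rw [hc, mem_normalizer_iff_fix hn]
      exact pow_mem g.2 5
    have hm : (g : G) • c ∈ orb P c := by
      have h := orbitHom_mem hn g (O := ⟨orb P c, c, hc, rfl⟩) (self_mem_orb P c)
      rw [h1] at h
      exact h
    obtain ⟨x, hx, hgx⟩ := mem_orb.mp hm
    have hcomm : Commute (g : G) x := by
      have h := congrArg (fun φ : MulAut (P : Subgroup G) => ((φ ⟨x, hx⟩ : (P : Subgroup G)) : G)) h2
      simp only [autHom_apply, MulAut.one_apply] at h
      exact mul_inv_eq_iff_eq_mul.mp h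
    have key : ∀ n : ℕ, (g : G) ^ n • c = x ^ n • c := by
      intro n
      induction n with
      | zero => simp
      | succ n ih =>
        rw [pow_succ', mul_smul, ih, ← mul_smul, (hcomm.pow_right n).eq, mul_smul, ← hgx,
          ← mul_smul, ← pow_succ]
    rw [key 5]
    have h5x : x ^ 5 = 1 := by
      have h : (⟨x, hx⟩ : (P : Subgroup G)) ^ Nat.card (P : Subgroup G) = 1 := pow_card_eq_one'
      rw [card_five hn P] at h
      exact congrArg Subtype.val h
    rw [h5x, one_smul]
  obtain ⟨k, -, hk⟩ := (Nat.dvd_prime_pow (by norm_num : Nat.Prime 5)).mp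
    (show orderOf (g : G) ∣ 5 ^ 1 by rw [pow_one]; exact orderOf_dvd_of_pow_eq_one h5)
  exact SylowCounting.mem_sylow_of_orderOf P (by rw [P.coe_coe]; exact g.2) hk

omit hn in
theorem perm_four_commute : ∀ a b : Equiv.Perm (Fin 4), Equiv.Perm.sign a = 1 →
    Equiv.Perm.sign b = 1 → a ^ 4 = 1 → b ^ 4 = 1 → a * b = b * a := by
  decide +kernel

omit hn in
theorem perm_four_fix : ∀ a : Equiv.Perm (Fin 4), Equiv.Perm.sign a = 1 → a ^ 2 = 1 →
    (∃ i, a i = i) → a = 1 := by
  decide +kernel

omit hn in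
theorem perm_four_three : ∀ a : Equiv.Perm (Fin 4), Equiv.Perm.sign a = 1 →
    ∃ x y : Equiv.Perm (Fin 4), Equiv.Perm.sign x = 1 ∧ Equiv.Perm.sign y = 1 ∧
      x ^ 3 = 1 ∧ y ^ 3 = 1 ∧ a = x * y := by
  decide +kernel

omit hn in
theorem card_alt_four : Nat.card (alternatingGroup (Fin 4)) = 12 := by
  rw [nat_card_alternatingGroup, Nat.card_eq_fintype_card, Fintype.card_fin]
  decide

theorem aut_pow_four (P : Ω) (a : MulAut (P : Subgroup G)) : a ^ 4 = 1 := by
  haveI : IsCyclic (P : Subgroup G) := isCyclic_of_prime_card (card_five hn P)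
  refine orderOf_dvd_iff_pow_eq_one.mp ((orderOf_dvd_natCard a).trans ?_)
  rw [IsCyclic.card_mulAut, card_five hn P, Nat.totient_prime (by norm_num)]

theorem aut_comm (P : Ω) (a b : MulAut (P : Subgroup G)) : a * b = b * a := by
  haveI : IsCyclic (P : Subgroup G) := isCyclic_of_prime_card (card_five hn P)
  apply (IsCyclic.mulAutMulEquiv (P : Subgroup G)).injective
  rw [map_mul, map_mul, mul_comm]

theorem aut_involution_unique (P : Ω) (a b : MulAut (P : Subgroup G)) (ha : a ^ 2 = 1)
    (hb : b ^ 2 = 1) (ha1 : a ≠ 1) (hb1 : b ≠ 1) : a = b := by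
  haveI : IsCyclic (P : Subgroup G) := isCyclic_of_prime_card (card_five hn P)
  have hu : ∀ n, n = 5 → ∀ x y : (ZMod n)ˣ, x ^ 2 = 1 → y ^ 2 = 1 → x ≠ 1 → y ≠ 1 → x = y := by
    rintro _ rfl
    decide
  let e := IsCyclic.mulAutMulEquiv (P : Subgroup G)
  exact e.injective (hu _ (card_five hn P) (e a) (e b) (by rw [← map_pow, ha, map_one])
    (by rw [← map_pow, hb, map_one]) (fun h => ha1 (e.injective (h.trans (map_one e).symm)))
    (fun h => hb1 (e.injective (h.trans (map_one e).symm))))

set_option maxHeartbeats 1000000 in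
open scoped Classical in
theorem card_normalizer_eq_twenty (P : Ω) : Nat.card ↥(Nz P) = 20 := by
  haveI : Fact (Nat.Prime 2) := ⟨Nat.prime_two⟩
  obtain ⟨eq4⟩ : Nonempty (Orbits P ≃ Fin 4) := ⟨Finite.equivFinOfCardEq (card_orbits hn P)⟩
  let σ : ↥(Nz P) →* Equiv.Perm (Fin 4) := eq4.permCongrHom.toMonoidHom.comp (orbitHom hn P)
  have hσsign : ∀ g, Equiv.Perm.sign (σ g) = 1 := fun g => by
    show Equiv.Perm.sign (eq4.permCongr (orbitHom hn P g)) = 1
    rw [Equiv.Perm.sign_permCongr]
    exact sign_orbitHom hn P g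
  have hσker : ∀ g, σ g = 1 → orbitHom hn P g = 1 := fun g hg =>
    eq4.permCongrHom.injective (hg.trans (map_one _).symm)
  have hjoint : ∀ g, σ g = 1 → autHom P g = 1 → (g : G) ∈ (P : Subgroup G) := fun g h h' =>
    mem_of_two_kernels hn P (hσker g h) h'
  have hP2 : ∀ u : G, u ∈ (P : Subgroup G) → u ^ 8 = 1 ∨ u ^ 2 = 1 → u = 1 := by
    intro u hu h
    have h5 : u ^ 5 = 1 := by
      have h := pow_card_eq_one' (G := (P : Subgroup G)) (x := ⟨u, hu⟩)
      rw [card_five hn P] at h
      exact congrArg Subtype.val h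
    have h8 : u ^ 8 = 1 := h.elim id fun h2 => by
      rw [show (8 : ℕ) = 2 * 4 from rfl, pow_mul, h2, one_pow]
    have := pow_gcd_eq_one.mpr ⟨h8, h5⟩
    simpa using this
  -- an involution with a second fixed point is the inverting element without orbit action
  have hinv : ∀ u : ↥(Nz P), u ^ 2 = 1 → u ≠ 1 → (∃ c, c ≠ P ∧ (u : G) • c = c) →
      σ u = 1 ∧ autHom P u ≠ 1 := by
    rintro u hu2 hu1 ⟨c, hc, huc⟩
    have h1 : σ u = 1 := by
      refine perm_four_fix _ (hσsign u) (by rw [← map_pow, hu2, map_one])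
        ⟨eq4 ⟨orb P c, c, hc, rfl⟩, ?_⟩
      show eq4.permCongr (orbitHom hn P u) (eq4 ⟨orb P c, c, hc, rfl⟩) = _
      rw [Equiv.permCongr_apply, Equiv.symm_apply_apply]
      congr 1
      refine Subtype.ext ?_
      rw [orbitHom_apply, ← orb_smul hn (fix_of_normalizer u), huc]
    exact ⟨h1, fun h => hu1 (Subtype.ext (hP2 u (hjoint u h1 h)
      (Or.inr (congrArg Subtype.val hu2))))⟩
  obtain ⟨T₀⟩ := (inferInstance : Nonempty (Sylow 2 ↥(Nz P)))
  have hTind : ¬ 2 ∣ ((T₀ : Subgroup ↥(Nz P)).map (Nz P).subtype).index := by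
    rw [Subgroup.index_map_subtype, ← P.card_eq_index_normalizer, hn]
    intro h
    rcases (Nat.Prime.dvd_mul Nat.prime_two).mp h with h | h
    · exact T₀.not_dvd_index h
    · norm_num at h
  let T : Sylow 2 G := (T₀.2.map (Nz P).subtype).toSylow hTind
  have hTN : ∀ {u : G}, u ∈ (T : Subgroup G) → ∃ v : ↥(Nz P), v ∈ (T₀ : Subgroup ↥(Nz P)) ∧ (v : G) = u :=
    fun {u} hu => Subgroup.mem_map.mp hu
  have hT8 : ∀ v ∈ (T₀ : Subgroup ↥(Nz P)), (v : G) ∈ (P : Subgroup G) → v = 1 := by
    intro v hv hvP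
    obtain ⟨k, hk⟩ := T₀.2 ⟨v, hv⟩
    have h5 : (v : G) ^ 5 = 1 := by
      have h := pow_card_eq_one' (G := (P : Subgroup G)) (x := ⟨v, hvP⟩)
      rw [card_five hn P] at h
      exact congrArg Subtype.val h
    have h2 : (v : G) ^ (2 ^ k) = 1 :=
      congrArg (fun w : (T₀ : Subgroup ↥(Nz P)) => ((w : ↥(Nz P)) : G)) hk
    have := pow_gcd_eq_one.mpr ⟨h2, h5⟩
    rw [Nat.Coprime.pow_left k (by norm_num : Nat.Coprime 2 5), pow_one] at this
    exact Subtype.ext this
  have hT4 : ∀ v ∈ (T₀ : Subgroup ↥(Nz P)), (σ v) ^ 4 = 1 := by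
    intro v hv
    obtain ⟨k, hk⟩ := T₀.2 ⟨v, hv⟩
    have h2 : (σ v) ^ (2 ^ k) = 1 := by
      rw [← map_pow]
      exact (congrArg σ (congrArg Subtype.val hk)).trans (map_one σ)
    have h24 : (σ v) ^ 12 = 1 := by
      have hv' : σ v ∈ alternatingGroup (Fin 4) := hσsign v
      have h := pow_card_eq_one' (G := alternatingGroup (Fin 4)) (x := ⟨σ v, hv'⟩)
      rw [card_alt_four] at h
      exact congrArg Subtype.val h
    have := pow_gcd_eq_one.mpr ⟨h2, h24⟩
    have hd : Nat.gcd (2 ^ k) 12 ∣ 4 := by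
      have h1 : Nat.gcd (2 ^ k) 12 ∣ 2 ^ k := Nat.gcd_dvd_left _ _
      obtain ⟨i, -, hi⟩ := (Nat.dvd_prime_pow Nat.prime_two).mp h1
      have h2 : 2 ^ i ∣ 12 := hi ▸ Nat.gcd_dvd_right _ _
      have hi2 : i ≤ 2 := by
        by_contra h
        have h8 : 2 ^ 3 ∣ 12 := (pow_dvd_pow 2 (by omega)).trans h2
        norm_num at h8
      rw [hi]
      exact pow_dvd_pow 2 hi2
    obtain ⟨c, hc⟩ := hd
    calc (σ v) ^ 4 = (σ v) ^ (Nat.gcd (2 ^ k) 12 * c) := congrArg (σ v ^ ·) hc
      _ = 1 := by rw [pow_mul, this, one_pow]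
  have hTc : IsMulCommutative (T : Subgroup G) := by
    refine ⟨⟨fun x y => ?_⟩⟩
    obtain ⟨a, ha, hax⟩ := hTN x.2
    obtain ⟨b, hb, hby⟩ := hTN y.2
    have hc : a * b * (b * a)⁻¹ = 1 := by
      refine hT8 _ (mul_mem (mul_mem ha hb) (inv_mem (mul_mem hb ha))) (hjoint _ ?_ ?_)
      · rw [map_mul, map_inv, map_mul, map_mul,
          perm_four_commute _ _ (hσsign a) (hσsign b) (hT4 a ha) (hT4 b hb), mul_inv_cancel]
      · rw [map_mul, map_inv, map_mul, map_mul, aut_comm hn P (autHom P a), mul_inv_cancel]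
    refine Subtype.ext ?_
    show (x : G) * y = y * x
    rw [← hax, ← hby, ← Subgroup.coe_mul, ← Subgroup.coe_mul, mul_inv_eq_one.mp hc]
  -- nothing in `T` is centralized by its normalizer
  have hcentral : ∀ u ∈ (T : Subgroup G),
      (∀ n ∈ Subgroup.normalizer ((T : Subgroup G) : Set G), n * u = u * n) → u = 1 := by
    intro u hu hc
    set M := Subgroup.normalizer ((T : Subgroup G) : Set G) with hM
    have h1 := Transfer.commutator_inf_eq_of_controlsFusion T Subgroup.le_normalizer
      (Transfer.controlsFusion_normalizer_of_abelian T hTc)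
    have htop : commutator G = ⊤ := by
      refine (IsSimpleGroup.eq_bot_or_eq_top_of_normal _ inferInstance).resolve_left fun h => ?_
      apply not_comm hn
      refine ⟨⟨fun a b => ?_⟩⟩
      exact commutatorElement_eq_one_iff_mul_comm.mp (Subgroup.mem_bot.mp
        (h ▸ Subgroup.commutator_mem_commutator (Subgroup.mem_top a) (Subgroup.mem_top b)))
    rw [htop, top_inf_eq] at h1
    have hu' : u ∈ ⁅M, M⁆ := (Subgroup.mem_inf.mp (h1 ▸ hu)).1
    have hTM : (T : Subgroup G) ≤ M := Subgroup.le_normalizer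
    haveI : IsMulCommutative ((T : Subgroup G).subgroupOf M) := by
      haveI := hTc
      exact ⟨⟨fun a b => Subtype.ext (Subtype.ext (show (a.1.1 : G) * b.1.1 = b.1.1 * a.1.1 from
        congrArg Subtype.val
          (hTc.is_comm.comm (⟨a.1.1, a.2⟩ : (T : Subgroup G)) ⟨b.1.1, b.2⟩)))⟩⟩
    have h2 := Transfer.abelian_hall_inf_commutator_inf_center ((T : Subgroup G).subgroupOf M) (by
      rw [← Sylow.coe_subtype T hTM]
      exact (T.subtype hTM).card_coprime_index)
    have hmem : (⟨u, hTM hu⟩ : M) ∈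
        (T : Subgroup G).subgroupOf M ⊓ commutator M ⊓ Subgroup.center M := by
      refine Subgroup.mem_inf.mpr ⟨Subgroup.mem_inf.mpr ⟨hu, ?_⟩, ?_⟩
      · rw [← Subgroup.map_subtype_commutator] at hu'
        obtain ⟨w, hw, hwu⟩ := hu'
        have : w = (⟨u, hTM hu⟩ : M) := Subtype.ext hwu
        exact this ▸ hw
      · exact Subgroup.mem_center_iff.mpr fun n => Subtype.ext (hc n n.2)
    rw [h2, Subgroup.mem_bot] at hmem
    exact congrArg Subtype.val hmem
  -- so no involution of `T` has a second fixed point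
  have hnofix : ∀ v ∈ (T₀ : Subgroup ↥(Nz P)), v ^ 2 = 1 →
      (∃ c, c ≠ P ∧ (v : G) • c = c) → v = 1 := by
    intro v hv hv2 hfix
    by_contra hv1
    obtain ⟨c, hc, hvc⟩ := hfix
    apply hv1
    have hvT : (v : G) ∈ (T : Subgroup G) := Subgroup.mem_map.mpr ⟨v, hv, rfl⟩
    refine Subtype.ext (hcentral v hvT fun n hn' => ?_)
    obtain ⟨w, hw, hwv⟩ := hTN ((Subgroup.mem_normalizer_iff.mp hn' v).mp hvT)
    have hw2 : w ^ 2 = 1 := Subtype.ext (by
      rw [Subgroup.coe_pow, hwv, conj_pow]
      have : (v : G) ^ 2 = 1 := congrArg Subtype.val hv2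
      rw [this]
      simp)
    have hw1 : w ≠ 1 := fun h => hv1 (Subtype.ext (by
      have h' : n * (v : G) * n⁻¹ = 1 := hwv ▸ congrArg Subtype.val h
      exact conj_eq_one_iff.mp h'))
    have hfixw : ∃ d, d ≠ P ∧ (w : G) • d = d := by
      have hc' : (w : G) • n • c = n • c := by
        rw [hwv, ← mul_smul, inv_mul_cancel_right, mul_smul, hvc]
      have hP' : (w : G) • n • P = n • P := by
        rw [hwv, ← mul_smul, inv_mul_cancel_right, mul_smul, fix_of_normalizer v]
      by_cases h : n • c = P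
      · exact ⟨n • P, fun h' => hc (smul_left_cancel n (h.trans h'.symm)), hP'⟩
      · exact ⟨n • c, h, hc'⟩
    obtain ⟨hv3, hv4⟩ := hinv v hv2 hv1 ⟨c, hc, hvc⟩
    obtain ⟨hw3, hw4⟩ := hinv w hw2 hw1 hfixw
    have heq : w = v := by
      refine mul_inv_eq_one.mp (hT8 _ (mul_mem hw (inv_mem hv)) (hjoint _ ?_ ?_))
      · rw [map_mul, map_inv, hw3, hv3, inv_one, mul_one]
      · rw [map_mul, map_inv, aut_involution_unique hn P _ _ (by rw [← map_pow, hw2, map_one])
          (by rw [← map_pow, hv2, map_one]) hw4 hv4, mul_inv_cancel]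
    rw [heq] at hwv
    exact mul_inv_eq_iff_eq_mul.mp hwv.symm
  -- the orbit action has kernel `P`
  have hkerodd : ∀ v ∈ (T₀ : Subgroup ↥(Nz P)), σ v = 1 → v = 1 := by
    intro v hv hσv
    by_contra hv1
    obtain ⟨k, hk, hk2⟩ : ∃ k : ℕ, v ^ k ≠ 1 ∧ (v ^ k) ^ 2 = 1 := by
      obtain ⟨i, hi⟩ := (IsPGroup.iff_orderOf.mp T₀.2) ⟨v, hv⟩
      rw [Subgroup.orderOf_mk] at hi
      have hi0 : i ≠ 0 := fun h => hv1 (orderOf_eq_one_iff.mp (by rw [hi, h, pow_zero]))
      refine ⟨2 ^ (i - 1), fun h => ?_, ?_⟩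
      · have := Nat.le_of_dvd (pow_pos two_pos _) (orderOf_dvd_of_pow_eq_one h)
        rw [hi] at this
        have := (Nat.pow_le_pow_iff_right (le_refl 2)).mp this
        omega
      · rw [← pow_mul, ← pow_succ, Nat.sub_add_cancel (Nat.pos_of_ne_zero hi0), ← hi,
          pow_orderOf_eq_one]
    set u := v ^ k with hu
    have hσu : σ u = 1 := by rw [hu, map_pow, hσv, one_pow]
    have huo : orderOf (u : G) = 2 := by
      rw [Subgroup.orderOf_coe]
      exact orderOf_eq_prime hk2 hk
    obtain ⟨c, hc⟩ : ∃ c : Ω, c ≠ P := by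
      by_contra hall
      push Not at hall
      haveI : Subsingleton (Sylow 5 G) := ⟨fun a b => (hall a).trans (hall b).symm⟩
      rw [Nat.card_unique] at hn
      omega
    have hinvO : ∀ d ∈ orb P c, (u : G) • d ∈ orb P c := by
      intro d hd
      have h := orbitHom_mem hn u (O := ⟨orb P c, c, hc, rfl⟩) hd
      rw [hσker u hσu] at h
      exact h
    have hmod := card_invariant_modEq hn Nat.prime_two huo (orb P c) hinvO
    rw [orb_card_eq hn hc] at hmod
    obtain ⟨d, hd⟩ : ((orb P c).filter fun d => d ∈ fixed (u : G)).Nonempty := by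
      rw [← Finset.card_pos]
      rcases Nat.eq_zero_or_pos ((orb P c).filter fun d => d ∈ fixed (u : G)).card with h | h
      · rw [h] at hmod
        exact absurd hmod (by decide)
      · exact h
    obtain ⟨hdO, hdu⟩ := Finset.mem_filter.mp hd
    refine hk (hnofix u (pow_mem hv k) hk2 ⟨d, fun h => hc ?_, mem_fixed.mp hdu⟩)
    exact (self_mem_orb_iff hn P c).mp (h ▸ hdO)
  have hK : ∀ g, σ g = 1 → (g : G) ∈ (P : Subgroup G) := by
    intro g hg
    refine hjoint g hg ?_
    by_contra hne
    -- a power of `g` outside `P` of two-power order would be conjugate into `T`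
    obtain ⟨a, b, ha, hb, hao, hbo, hgab⟩ := Transfer.exists_pPart_decomp (p := 2) g
    obtain ⟨j, hj⟩ := hbo
    have hb1 : b = 1 := by
      have hbg : σ b = 1 := by
        obtain ⟨i, rfl⟩ := hb
        rw [map_zpow, hg, one_zpow]
      obtain ⟨R, hR⟩ := (IsPGroup.of_card (p := 2) (n := j)
        (by rw [Nat.card_zpowers, hj] : Nat.card (Subgroup.zpowers b) = 2 ^ j)).exists_le_sylow
      obtain ⟨y, hy⟩ := MulAction.exists_smul_eq ↥(Nz P) R T₀
      have hyb : y * b * y⁻¹ ∈ (T₀ : Subgroup ↥(Nz P)) := by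
        rw [← hy, Sylow.coe_subgroup_smul, Coprime.mem_conj_smul]
        simpa [mul_assoc] using hR (Subgroup.mem_zpowers b)
      exact conj_eq_one_iff.mp (hkerodd _ hyb (by
        rw [map_mul, map_mul, map_inv, hbg, mul_one, mul_inv_cancel]))
    apply hne
    rw [hgab, hb1, mul_one] at *
    have h4 := orderOf_dvd_of_pow_eq_one (aut_pow_four hn P (autHom P a))
    have h := Nat.dvd_gcd (orderOf_map_dvd (autHom P) a) h4
    have hgcd : Nat.gcd (orderOf a) 4 = 1 :=
      Nat.Coprime.pow_right 2 hao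
    rw [hgcd] at h
    exact orderOf_eq_one_iff.mp (Nat.dvd_one.mp h)
  -- the order of the image
  have hrange : Nat.card ↥(Nz P) = 5 * Nat.card σ.range := by
    rw [← Subgroup.index_ker, ← σ.ker.index_mul_card, mul_comm]
    congr 1
    refine Eq.trans (Nat.card_congr ?_) (card_five hn P)
    exact
      { toFun := fun g => ⟨(g : ↥(Nz P)), hK _ g.2⟩
        invFun := fun x => ⟨⟨x, Subgroup.le_normalizer x.2⟩, by
          rw [MonoidHom.mem_ker]
          have h5 : (σ ⟨x, Subgroup.le_normalizer x.2⟩) ^ 5 = 1 := by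
            rw [← map_pow]
            have h := pow_card_eq_one' (G := (P : Subgroup G)) (x := x)
            rw [card_five hn P] at h
            have h' : (⟨x, Subgroup.le_normalizer x.2⟩ : ↥(Nz P)) ^ 5 = 1 :=
              Subtype.ext (by simpa using congrArg Subtype.val h)
            rw [h', map_one]
          have h12 : (σ ⟨x, Subgroup.le_normalizer x.2⟩) ^ 12 = 1 := by
            have hv' : σ ⟨x, Subgroup.le_normalizer x.2⟩ ∈ alternatingGroup (Fin 4) := hσsign _
            have h := pow_card_eq_one' (G := alternatingGroup (Fin 4)) (x := ⟨_, hv'⟩)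
            rw [card_alt_four] at h
            exact congrArg Subtype.val h
          have := pow_gcd_eq_one.mpr ⟨h5, h12⟩
          simpa using this⟩
        left_inv := fun g => rfl
        right_inv := fun x => rfl }
  have hle : σ.range ≤ alternatingGroup (Fin 4) := by
    rintro _ ⟨g, rfl⟩
    exact hσsign g
  have hd12 : Nat.card σ.range ∣ 12 := card_alt_four ▸ Subgroup.card_dvd_of_le hle
  -- a Burnside transfer at five
  have hP5 : 5 ∣ Nat.card G := card_five hn P ▸ Subgroup.card_subgroup_dvd_card _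
  have hburn := SylowCounting.not_normalizer_le_centralizer (not_comm hn) P hP5
  have hne12 : Nat.card σ.range ≠ 12 := by
    intro h12
    have heq : σ.range = alternatingGroup (Fin 4) :=
      Coprime.eq_of_le_of_card_le hle (by rw [card_alt_four, h12])
    apply hburn
    rw [P.coe_coe]
    intro g hg
    have h3 : ∀ x : Equiv.Perm (Fin 4), Equiv.Perm.sign x = 1 → x ^ 3 = 1 →
        ∃ c : ↥(Nz P), σ c = x ∧ autHom P c = 1 := by
      intro x hx hx3
      obtain ⟨c, hc⟩ := heq.ge (hx : x ∈ alternatingGroup (Fin 4))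
      refine ⟨c ^ 4, ?_, by rw [map_pow, aut_pow_four hn]⟩
      rw [map_pow, hc, pow_succ, hx3, one_mul]
    obtain ⟨x, y, hx, hy, hx3, hy3, hxy⟩ := perm_four_three _ (hσsign ⟨g, hg⟩)
    obtain ⟨c, hc, hc'⟩ := h3 x hx hx3
    obtain ⟨d, hd, hd'⟩ := h3 y hy hy3
    have hmem := hK (⟨g, hg⟩ * (c * d)⁻¹)
      (by rw [map_mul, map_inv, map_mul, hc, hd, hxy, mul_inv_cancel])
    rw [Subgroup.mem_centralizer_iff]
    intro w hw
    haveI : IsCyclic (P : Subgroup G) := isCyclic_of_prime_card (card_five hn P)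
    have hcd : autHom P (c * d) = 1 := by rw [map_mul, hc', hd', mul_one]
    have h1 := congrArg
      (fun φ : MulAut (P : Subgroup G) => ((φ ⟨w, hw⟩ : (P : Subgroup G)) : G)) hcd
    simp only [autHom_apply, MulAut.one_apply] at h1
    have h2 : Commute ((c * d : ↥(Nz P)) : G) w := mul_inv_eq_iff_eq_mul.mp h1
    have h4 : Commute (g * ((c * d : ↥(Nz P)) : G)⁻¹) w :=
      congrArg Subtype.val ((IsCyclic.commGroup (α := (P : Subgroup G))).mul_comm
        ⟨_, hmem⟩ ⟨w, hw⟩)
    have := h4.mul_left h2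
    rw [inv_mul_cancel_right] at this
    exact this.symm.eq
  -- four divides the order
  have hT0 : Nat.card (T₀ : Subgroup ↥(Nz P)) ∣ Nat.card ↥(Nz P) :=
    Subgroup.card_subgroup_dvd_card _
  have h4 : 4 ∣ Nat.card ↥(Nz P) := by
    obtain ⟨e, c, hec, he1, hed, -, -⟩ :=
      SylowCounting.normalizer_card_eq (not_comm hn) P (card_five hn P)
    rw [P.coe_coe] at hec
    have he2 : 2 ∣ e := by
      have : e ≤ 4 := Nat.le_of_dvd (by norm_num) hed
      interval_cases e <;> first | omega | norm_num at hed ⊢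
    have h2 : 2 ∣ Nat.card ↥(Nz P) := hec ▸ Dvd.dvd.mul_right he2 _
    obtain ⟨k, hk⟩ := IsPGroup.iff_card.mp T₀.2
    rcases Nat.lt_or_ge k 2 with hk2 | hk2
    · exfalso
      interval_cases k
      · have := T₀.dvd_card_of_dvd_card h2
        rw [hk] at this
        norm_num at this
      · have hTcard : Nat.card (T : Subgroup G) = 2 := by
          exact (Subgroup.card_map_of_injective (Nz P).subtype_injective).trans
            (hk.trans (pow_one 2))
        obtain ⟨u, hu⟩ := exists_prime_orderOf_dvd_card' (G := (T : Subgroup G)) 2 (by rw [hTcard])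
        have hu1 : (u : G) ≠ 1 := fun h => by
          have : u = 1 := Subtype.ext h
          rw [this, orderOf_one] at hu
          norm_num at hu
        refine hu1 (hcentral u u.2 fun n hn' => ?_)
        have hmem := (Subgroup.mem_normalizer_iff.mp hn' u).mp u.2
        obtain ⟨u₀, -, hu₀⟩ := (Nat.card_eq_two_iff' (1 : (T : Subgroup G))).mp hTcard
        have key : ∀ w : (T : Subgroup G), w = 1 ∨ w = u := by
          intro w
          have hu' : u ≠ 1 := fun h => hu1 (congrArg Subtype.val h)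
          by_cases hw : w = 1
          · exact Or.inl hw
          · exact Or.inr ((hu₀ w hw).trans (hu₀ u hu').symm)
        rcases key ⟨_, hmem⟩ with h | h
        · exact absurd (conj_eq_one_iff.mp (congrArg Subtype.val h)) hu1
        · exact mul_inv_eq_iff_eq_mul.mp (congrArg Subtype.val h)
    · exact ((pow_dvd_pow 2 hk2).trans (hk ▸ dvd_rfl)).trans hT0
  rw [hrange] at h4 ⊢
  have h4' : 4 ∣ Nat.card σ.range := by omega
  have := Nat.le_of_dvd (by norm_num) hd12
  obtain ⟨q, hq⟩ := h4'
  have hq3 : q ≤ 3 := by omega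
  have hpos : 0 < Nat.card σ.range := Nat.card_pos
  interval_cases q
  · omega
  · omega
  · rw [hq] at hd12; norm_num at hd12
  · omega

open scoped Classical in
theorem false_of_simple : False := by
  obtain ⟨P⟩ := (inferInstance : Nonempty (Sylow 5 G))
  have hG : Nat.card G = 420 := by rw [card_normalizer hn P, card_normalizer_eq_twenty hn P]
  exact SylowCounting.not_simple_of_excluded 420 7 60 21 (by norm_num) (by norm_num) (by norm_num)
    (by norm_num) (by norm_num) (by decide +kernel) hG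

end Cfsg.Agent.Lib.PGroups.TwentyOne

namespace Cfsg.Agent.Lib.PGroups

universe u

/-- No finite group has exactly 21 Sylow 5-subgroups. -/
theorem card_sylow_five_ne_twentyone (G : Type u) [Group G] [Finite G] :
    Nat.card (Sylow 5 G) ≠ 21 := by
  haveI : Fact (Nat.Prime 5) := ⟨by norm_num⟩
  have key := sylow_number_induction.{u} 5 (fun _ _ => True) (fun _ _ _ _ h => h)
    (fun _ _ _ _ _ h => h) (fun n => n % 5 = 1 ∧ n ≠ 21) (by norm_num)
    (fun a b ha hb => ⟨by rw [Nat.mul_mod, ha.1, hb.1], fun h => by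
      have hd : a ∈ Nat.divisors 21 := Nat.mem_divisors.mpr ⟨Dvd.intro b h, by norm_num⟩
      have hd' : a = 1 ∨ a = 3 ∨ a = 7 ∨ a = 21 := by
        revert hd
        have : Nat.divisors 21 = {1, 3, 7, 21} := by decide +kernel
        rw [this]
        simp
      rcases hd' with rfl | rfl | rfl | rfl
      · exact hb.2 (by omega)
      all_goals omega⟩)
    (fun H _ _ _ _ => ⟨SylowCounting.sylow_count_mod 5, fun h => by
      haveI := Fintype.ofFinite (Sylow 5 H)
      exact TwentyOne.false_of_simple h⟩)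
    (fun n hn0 hq => by
      have hmod : n % 5 = 1 := by
        rw [← Nat.prod_factorization_pow_eq_self hn0, Finsupp.prod, Finset.prod_nat_mod,
          Finset.prod_congr rfl fun q hqs => (hq q (Nat.prime_of_mem_primeFactors
            (Nat.support_factorization n ▸ hqs))), Finset.prod_const]
        simp
      refine ⟨hmod, ?_⟩
      rintro rfl
      have h := hq 3 Nat.prime_three
      rw [show (21 : ℕ) = 3 * 7 from rfl, Nat.factorization_mul (by norm_num) (by norm_num),
        Finsupp.add_apply, Nat.prime_three.factorization_self,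
        Nat.factorization_eq_zero_of_not_dvd (show ¬ 3 ∣ 7 by norm_num)] at h
      exact absurd h (by decide))
    G trivial
  exact key.2

end Cfsg.Agent.Lib.PGroups
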