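import Cfsg.Agent.Lib.SylowCounting.DegreeEquation
import Cfsg.Agent.Lib.SylowCounting.Tools
import Cfsg.Agent.Lib.SylowCounting.Embedding
import Cfsg.Agent.Lib.Coprime.Action
import Cfsg.Agent.Lib.PGroups.SylowInduction
import Mathlib.Combinatorics.Enumerative.DoubleCounting

/-!
No simple group has exactly 22 Sylow 3-subgroups, and hence no finite group has.

The Sylow subgroups through a pair form a block design on the 22 points; this forces the
prime divisors of a point stabilizer to be small, and the degree equation at 11 finishes.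
-/

set_option autoImplicit false
set_option linter.style.haveILetI false
set_option linter.unusedSectionVars false

namespace Cfsg.Agent.Lib.PGroups.TwentyTwo

open Cfsg.Agent.Lib
open scoped Pointwise

variable {G : Type*} [Group G] [Finite G] [IsSimpleGroup G] [Fact (Nat.Prime 3)]

local notation "Ω" => Sylow 3 G
local notation "Nz" P => Subgroup.normalizer ((P : Sylow 3 G) : Set G)

variable (hn : Nat.card (Sylow 3 G) = 22)
include hn

theorem three_dvd_card : 3 ∣ Nat.card G := by
  by_contra h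
  obtain ⟨a⟩ := (inferInstance : Nonempty (Sylow 3 G))
  have hbot : ∀ b : Sylow 3 G, (b : Subgroup G) = ⊥ := by
    intro b
    obtain ⟨k, hk⟩ := IsPGroup.iff_card.mp b.2
    rcases Nat.eq_zero_or_pos k with rfl | hk0
    · exact Subgroup.card_eq_one.mp (by simpa using hk)
    · exact absurd ((dvd_pow_self 3 hk0.ne').trans (hk ▸ Subgroup.card_subgroup_dvd_card _)) h
  haveI : Subsingleton (Sylow 3 G) := ⟨fun b c => Sylow.ext (by rw [hbot b, hbot c])⟩
  rw [Nat.card_unique] at hn
  omega

theorem not_comm : ¬ IsMulCommutative G := by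
  intro hc
  have h1 : ∀ P : Sylow 3 G, (Nz P) = ⊤ := by
    intro P
    rw [eq_top_iff]
    intro g _
    refine Subgroup.mem_normalizer_iff.mpr fun h => ?_
    rw [hc.is_comm.comm g h, mul_inv_cancel_right]
  obtain ⟨P⟩ := (inferInstance : Nonempty (Sylow 3 G))
  rw [P.card_eq_index_normalizer, h1, Subgroup.index_top] at hn
  omega

theorem faithful {u : G} (h : ∀ c : Ω, u • c = c) : u = 1 := by
  rcases IsSimpleGroup.eq_bot_or_eq_top_of_normal _
    (MulAction.toPermHom G (Sylow 3 G)).normal_ker with hk | hk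
  · exact Subgroup.mem_bot.mp (hk ▸ MonoidHom.mem_ker.mpr (Equiv.ext h))
  · exfalso
    obtain ⟨P, Q, hPQ⟩ : ∃ P Q : Ω, P ≠ Q := by
      by_contra hc
      push Not at hc
      haveI : Subsingleton (Sylow 3 G) := ⟨hc⟩
      rw [Nat.card_unique] at hn
      omega
    obtain ⟨g, rfl⟩ := MulAction.exists_smul_eq G P Q
    have hg := MonoidHom.mem_ker.mp (hk.ge (Subgroup.mem_top g))
    exact hPQ (Equiv.congr_fun hg P).symm

theorem card_normalizer (P : Ω) : Nat.card G = 22 * Nat.card (Nz P) := by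
  rw [← (Nz P).index_mul_card, ← hn, P.card_eq_index_normalizer]

theorem mem_normalizer_iff_fix (u : G) (P : Ω) : u • P = P ↔ u ∈ Nz P := by
  rw [← MulAction.mem_stabilizer_iff, Sylow.stabilizer_eq_normalizer]

theorem card_sylow_eq (P Q : Ω) : Nat.card (P : Subgroup G) = Nat.card (Q : Subgroup G) := by
  rw [P.card_eq_multiplicity, Q.card_eq_multiplicity]

/-- An element of `P` fixing `Q` lies in `Q`. -/
theorem mem_of_fix {x : G} {P Q : Ω} (hx : x ∈ (P : Subgroup G)) (h : x • Q = Q) :
    x ∈ (Q : Subgroup G) := by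
  have hxp : IsPGroup 3 (Subgroup.zpowers x) := P.2.to_le (Subgroup.zpowers_le.mpr hx)
  have h2 : x ∈ Subgroup.zpowers x ⊓ (Nz Q) :=
    Subgroup.mem_inf.mpr ⟨Subgroup.mem_zpowers x, (mem_normalizer_iff_fix hn x Q).mp h⟩
  rw [hxp.inf_normalizer_sylow] at h2
  exact (Subgroup.mem_inf.mp h2).2

theorem fix_of_mem {x : G} {Q : Ω} (hx : x ∈ (Q : Subgroup G)) : x • Q = Q :=
  (mem_normalizer_iff_fix hn x Q).mpr (Subgroup.le_normalizer hx)

open scoped Classical in
/-- The points fixed by an element. -/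
noncomputable def fixed [Fintype (Sylow 3 G)] (u : G) : Finset Ω :=
  Finset.univ.filter fun c => u • c = c

variable [Fintype (Sylow 3 G)]

omit hn in
theorem mem_fixed {u : G} {c : Ω} : c ∈ fixed u ↔ u • c = c := by
  classical
  simp [fixed]

theorem fixed_lt {u : G} (hu : u ≠ 1) : (fixed u).card < 22 := by
  classical
  refine lt_of_le_of_ne ?_ fun h => hu (faithful hn fun c => ?_)
  · rw [← hn, Nat.card_eq_fintype_card]
    exact Finset.card_le_univ _
  · rw [← hn, Nat.card_eq_fintype_card] at h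
    exact mem_fixed.mp (Finset.eq_univ_of_card _ h ▸ Finset.mem_univ c)

open scoped Classical in
/-- An invariant set of points and an element of prime order. -/
theorem card_invariant_modEq {q : ℕ} (hq : q.Prime) {u : G} (hu : orderOf u = q) (S : Finset Ω)
    (hS : ∀ c ∈ S, u • c ∈ S) :
    S.card ≡ (S.filter fun c => c ∈ fixed u).card [MOD q] := by
  classical
  haveI := Fact.mk hq
  let σ : Equiv.Perm Ω := MulAction.toPermHom G (Sylow 3 G) u
  have hσS : ∀ c, σ c ∈ S ↔ c ∈ S := by
    intro c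
    refine ⟨fun h => ?_, hS c⟩
    have hall : ∀ n : ℕ, u ^ n • σ c ∈ S := by
      intro n
      induction n with
      | zero => simpa using h
      | succ n ih => rw [pow_succ', mul_smul]; exact hS _ ih
    have h2 := hall (q - 1)
    have h3 : u ^ (q - 1) • σ c = c := by
      show u ^ (q - 1) • u • c = c
      rw [← mul_smul, ← pow_succ, Nat.sub_add_cancel hq.pos, ← hu, pow_orderOf_eq_one, one_smul]
    rwa [h3] at h2
  have hpow : σ ^ q = 1 := by rw [← map_pow, ← hu, pow_orderOf_eq_one, map_one]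
  let τ : Equiv.Perm S := σ.subtypePerm hσS
  have hτ : τ ^ q ^ 1 = 1 := by
    rw [pow_one, Equiv.Perm.subtypePerm_pow]
    ext c
    simp [hpow]
  have h := Equiv.Perm.card_compl_support_modEq (p := q) (n := 1) hτ
  rw [Fintype.card_coe] at h
  refine h.symm.trans (congrArg (· % q) ?_)
  rw [← Finset.card_map (Function.Embedding.subtype _)]
  refine congrArg Finset.card (Finset.ext fun c => ?_)
  simp only [Finset.mem_map, Finset.mem_compl, Equiv.Perm.mem_support, not_not,
    Function.Embedding.subtype_apply, Finset.mem_filter, mem_fixed]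
  constructor
  · rintro ⟨c, hc, rfl⟩
    exact ⟨c.2, congrArg Subtype.val hc⟩
  · rintro ⟨hc, hf⟩
    exact ⟨⟨c, hc⟩, Subtype.ext hf, rfl⟩

theorem fixed_modEq {q : ℕ} (hq : q.Prime) {u : G} (hu : orderOf u = q) :
    22 ≡ (fixed u).card [MOD q] := by
  classical
  have h := card_invariant_modEq hn hq hu Finset.univ (fun c _ => Finset.mem_univ _)
  rw [Finset.card_univ, ← Nat.card_eq_fintype_card, hn, Finset.filter_univ_mem] at h
  exact h

/-- Involutions act as even permutations. -/
theorem four_dvd_moved {z : G} (hz : orderOf z = 2) : 4 ∣ 22 - (fixed z).card := by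
  classical
  set σ : Equiv.Perm Ω := MulAction.toPermHom G (Sylow 3 G) z with hσ
  have hz2 : z ^ 2 = 1 := hz ▸ pow_orderOf_eq_one z
  have hsq : σ ^ 2 = 1 := by rw [hσ, ← map_pow, hz2, map_one]
  have hsign : Equiv.Perm.sign σ = 1 :=
    SylowCounting.hom_zmod_trivial (not_comm hn)
      (Equiv.Perm.sign.comp (MulAction.toPermHom G (Sylow 3 G))) z
  have hall : ∀ m ∈ σ.cycleType, m = 2 := fun m hm =>
    le_antisymm (Nat.le_of_dvd two_pos ((Equiv.Perm.dvd_of_mem_cycleType hm).trans
      (orderOf_dvd_of_pow_eq_one hsq))) (Equiv.Perm.two_le_of_mem_cycleType hm)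
  have hsum : σ.support.card = 2 * Multiset.card σ.cycleType := by
    rw [← Equiv.Perm.sum_cycleType, Multiset.eq_replicate.2 ⟨rfl, hall⟩, Multiset.sum_replicate,
      Multiset.card_replicate, smul_eq_mul]
    ring
  have hev : Even (Multiset.card σ.cycleType) := by
    rw [Equiv.Perm.sign_of_cycleType, Equiv.Perm.sum_cycleType, hsum, pow_add, pow_mul,
      neg_one_sq, one_pow, one_mul] at hsign
    rcases Nat.even_or_odd (Multiset.card σ.cycleType) with h | h
    · exact h
    · rw [h.neg_one_pow] at hsign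
      exact absurd hsign (by decide)
  have hsupp : σ.support = Finset.univ.filter fun c => ¬ c ∈ fixed z := by
    ext c
    simp [Equiv.Perm.mem_support, mem_fixed, hσ]
  have h2 := Finset.card_filter_add_card_filter_not (s := (Finset.univ : Finset Ω))
    (fun c => c ∈ fixed z)
  rw [← hsupp, Finset.filter_univ_mem, Finset.card_univ, ← Nat.card_eq_fintype_card, hn] at h2
  obtain ⟨r, hr⟩ := hev
  exact ⟨r, by omega⟩

open scoped Classical in
/-- The `P`-orbit of `Q`. -/
noncomputable def orb (P Q : Ω) : Finset Ω :=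
  Finset.univ.filter fun c => ∃ x ∈ (P : Subgroup G), x • Q = c

omit hn in
theorem mem_orb {P Q c : Ω} : c ∈ orb P Q ↔ ∃ x ∈ (P : Subgroup G), x • Q = c := by
  classical
  simp [orb]

theorem orb_mul (P Q : Ω) :
    (orb P Q).card * Nat.card ↥((P : Subgroup G) ⊓ (Q : Subgroup G)) =
      Nat.card (P : Subgroup G) := by
  classical
  have h1 : MulAction.stabilizer (P : Subgroup G) Q =
      ((P : Subgroup G) ⊓ (Q : Subgroup G)).subgroupOf (P : Subgroup G) := by
    ext x
    rw [MulAction.mem_stabilizer_iff, Subgroup.mem_subgroupOf, Subgroup.mem_inf]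
    exact ⟨fun h => ⟨x.2, mem_of_fix hn x.2 h⟩, fun h => fix_of_mem hn h.2⟩
  have h2 := MulAction.index_stabilizer (G := (P : Subgroup G)) Q
  rw [h1] at h2
  have h3 : (MulAction.orbit (P : Subgroup G) Q).ncard = (orb P Q).card := by
    rw [← Set.ncard_coe_finset]
    congr 1
    ext c
    rw [Finset.mem_coe, mem_orb, MulAction.mem_orbit_iff]
    exact ⟨fun ⟨x, hx⟩ => ⟨x, x.2, hx⟩, fun ⟨x, hx, h⟩ => ⟨⟨x, hx⟩, h⟩⟩
  rw [h3] at h2
  rw [← h2, mul_comm]
  exact Coprime.relIndex_mul_card inf_le_left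

/-- An invariant set is a union of orbits. -/
theorem dvd_card_of_invariant {P : Ω} (S : Finset Ω) {m : ℕ}
    (hS : ∀ x ∈ (P : Subgroup G), ∀ c ∈ S, x • c ∈ S) (hm : ∀ c ∈ S, m ∣ (orb P c).card) :
    m ∣ S.card := by
  classical
  rw [Finset.card_eq_sum_card_fiberwise (f := fun c => orb P c) (t := S.image fun c => orb P c)
    (fun c hc => Finset.mem_image_of_mem _ hc)]
  refine Finset.dvd_sum fun O hO => ?_
  obtain ⟨c, hc, rfl⟩ := Finset.mem_image.mp hO
  refine (congrArg (m ∣ ·) (congrArg Finset.card ?_)).mpr (hm c hc)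
  ext d
  rw [Finset.mem_filter, mem_orb]
  constructor
  · rintro ⟨-, hd⟩
    have : d ∈ orb P d := mem_orb.mpr ⟨1, one_mem _, one_smul _ _⟩
    rw [hd, mem_orb] at this
    exact this
  · rintro ⟨x, hx, rfl⟩
    refine ⟨hS x hx c hc, Finset.ext fun e => ?_⟩
    rw [mem_orb, mem_orb]
    constructor
    · rintro ⟨w, hw, rfl⟩
      exact ⟨w * x, mul_mem hw hx, mul_smul _ _ _⟩
    · rintro ⟨w, hw, rfl⟩
      exact ⟨w * x⁻¹, mul_mem hw (inv_mem hx), by rw [mul_smul, inv_smul_smul]⟩

omit hn in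
theorem coe_smul_inf (g : G) (P Q : Ω) :
    ((g • P : Ω) : Subgroup G) ⊓ ((g • Q : Ω) : Subgroup G) =
      MulAut.conj g • ((P : Subgroup G) ⊓ (Q : Subgroup G)) := by
  rw [Sylow.coe_subgroup_smul, Sylow.coe_subgroup_smul, Subgroup.smul_inf]

theorem self_mem_orb_iff (P Q : Ω) : P ∈ orb P Q ↔ Q = P := by
  rw [mem_orb]
  constructor
  · rintro ⟨x, hx, h⟩
    rw [← inv_smul_smul x Q, h]
    exact fix_of_mem hn (inv_mem hx)
  · rintro rfl
    exact ⟨1, one_mem _, one_smul _ _⟩

theorem orb_card_eq {P Q : Ω} (hne : Q ≠ P) : (orb P Q).card = 3 ∨ (orb P Q).card = 9 := by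
  classical
  obtain ⟨k, hk⟩ := IsPGroup.iff_card.mp P.2
  have hdvd : (orb P Q).card ∣ 3 ^ k := hk ▸ Dvd.intro _ (orb_mul hn P Q)
  obtain ⟨i, -, hi⟩ := (Nat.dvd_prime_pow Nat.prime_three).mp hdvd
  have hle : (orb P Q).card ≤ 21 := by
    have h1 : orb P Q ⊆ Finset.univ.erase P := fun c hc =>
      Finset.mem_erase.mpr ⟨fun h => hne ((self_mem_orb_iff hn P Q).mp (h ▸ hc)), Finset.mem_univ _⟩
    refine (Finset.card_le_card h1).trans ?_
    rw [Finset.card_erase_of_mem (Finset.mem_univ _), Finset.card_univ, ← Nat.card_eq_fintype_card,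
      hn]
  have hne1 : i ≠ 0 := by
    rintro rfl
    apply hne
    have h := orb_mul hn P Q
    rw [hi, pow_zero, one_mul] at h
    have h2 := Coprime.eq_of_le_of_card_le
      (inf_le_left : (P : Subgroup G) ⊓ (Q : Subgroup G) ≤ P) h.ge
    exact Sylow.ext (Coprime.eq_of_le_of_card_le
      (inf_eq_left.mp h2) (card_sylow_eq hn Q P).le).symm
  rw [hi] at hle ⊢
  have hi3 : i < 3 := by
    by_contra h
    have : 3 ^ 3 ≤ 3 ^ i := Nat.pow_le_pow_right (by norm_num) (not_lt.mp h)
    omega
  interval_cases i <;> simp_all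

/-- `P ⊓ Q` has index three in `P`. -/
def Rel (P Q : Ω) : Prop :=
  3 * Nat.card ↥((P : Subgroup G) ⊓ (Q : Subgroup G)) = Nat.card (P : Subgroup G)

theorem rel_symm {P Q : Ω} (h : Rel P Q) : Rel Q P := by
  rw [Rel, inf_comm, card_sylow_eq hn Q P]
  exact h

theorem rel_ne {P Q : Ω} (h : Rel P Q) : Q ≠ P := by
  rintro rfl
  rw [Rel, inf_idem] at h
  have := Nat.card_pos (α := (Q : Subgroup G))
  omega

theorem rel_smul (g : G) {P Q : Ω} : Rel (g • P) (g • Q) ↔ Rel P Q := by
  rw [Rel, Rel, coe_smul_inf, Coprime.card_conj_smul, card_sylow_eq hn (g • P) P]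

theorem rel_iff_orb {P Q : Ω} : Rel P Q ↔ (orb P Q).card = 3 := by
  have h := orb_mul hn P Q
  constructor
  · intro hr
    rw [Rel, ← h] at hr
    exact (Nat.eq_of_mul_eq_mul_right Nat.card_pos hr).symm
  · intro h3
    rw [h3] at h
    exact h

open scoped Classical in
/-- The points whose Sylow subgroup contains `P ⊓ Q`. -/
noncomputable def block (P Q : Ω) : Finset Ω :=
  Finset.univ.filter fun c => (P : Subgroup G) ⊓ (Q : Subgroup G) ≤ c

omit hn in
theorem mem_block {P Q c : Ω} :
    c ∈ block P Q ↔ (P : Subgroup G) ⊓ (Q : Subgroup G) ≤ c := by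
  classical
  simp [block]

open scoped Classical in
/-- The points at index three from `P`. -/
noncomputable def nbr (P : Ω) : Finset Ω := Finset.univ.filter fun c => Rel P c

omit hn in
theorem mem_nbr {P c : Ω} : c ∈ nbr P ↔ Rel P c := by
  classical
  simp [nbr]

open scoped Classical in
/-- The blocks through `P`. -/
noncomputable def blocks (P : Ω) : Finset (Finset Ω) := (nbr P).image (block P)

theorem block_pair {P Q c d : Ω} (h : Rel P Q) (hc : c ∈ block P Q) (hd : d ∈ block P Q)
    (hcd : d ≠ c) : (c : Subgroup G) ⊓ (d : Subgroup G) = (P : Subgroup G) ⊓ (Q : Subgroup G) ∧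
      Rel c d := by
  have hle : (P : Subgroup G) ⊓ (Q : Subgroup G) ≤ (c : Subgroup G) ⊓ (d : Subgroup G) :=
    le_inf (mem_block.mp hc) (mem_block.mp hd)
  have h3 : 3 * Nat.card ↥((c : Subgroup G) ⊓ (d : Subgroup G)) ≤ Nat.card (c : Subgroup G) := by
    rw [← orb_mul hn c d]
    refine Nat.mul_le_mul_right _ ?_
    rcases orb_card_eq hn hcd with h | h <;> omega
  have heq := Coprime.eq_of_le_of_card_le hle (by
    rw [card_sylow_eq hn c P] at h3
    unfold Rel at h
    omega)
  refine ⟨heq.symm, ?_⟩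
  rw [Rel, ← heq, card_sylow_eq hn c P]
  exact h

theorem block_eq {P Q c d : Ω} (h : Rel P Q) (hc : c ∈ block P Q) (hd : d ∈ block P Q)
    (hcd : d ≠ c) : block c d = block P Q := by
  ext e
  rw [mem_block, mem_block, (block_pair hn h hc hd hcd).1]

omit hn in
theorem left_mem_block (P Q : Ω) : P ∈ block P Q := mem_block.mpr inf_le_left

omit hn in
theorem right_mem_block (P Q : Ω) : Q ∈ block P Q := mem_block.mpr inf_le_right

theorem inf_ne_bot {P Q : Ω} (h : Rel P Q) (h9 : Nat.card (P : Subgroup G) ≠ 3) :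
    (P : Subgroup G) ⊓ (Q : Subgroup G) ≠ ⊥ := by
  intro hb
  rw [Rel, hb, Subgroup.card_bot, mul_one] at h
  exact h9 h.symm

theorem block_invariant {P Q : Ω} (h : Rel P Q) : ∀ x ∈ (P : Subgroup G),
    ∀ c ∈ block P Q, x • c ∈ block P Q := by
  intro x hx c hc
  have hD : MulAut.conj x • ((P : Subgroup G) ⊓ (Q : Subgroup G)) =
      (P : Subgroup G) ⊓ (Q : Subgroup G) := by
    obtain ⟨k, hk⟩ := IsPGroup.iff_card.mp P.2
    haveI : (((P : Subgroup G) ⊓ (Q : Subgroup G)).subgroupOf (P : Subgroup G)).Normal := by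
      refine Subgroup.normal_of_index_eq_minFac_card ?_
      have h3 := Coprime.relIndex_mul_card
        (inf_le_left : (P : Subgroup G) ⊓ (Q : Subgroup G) ≤ P)
      rw [← h, mul_comm] at h3
      rw [← Subgroup.relIndex, Nat.eq_of_mul_eq_mul_right Nat.card_pos h3, hk,
        Nat.pow_minFac (by
          rintro rfl
          unfold Rel at h
          rw [hk, pow_zero] at h
          omega), Nat.prime_three.minFac_eq]
    exact Coprime.conj_smul_eq_of_mem_normalizer
      ((Subgroup.normal_subgroupOf_iff_le_normalizer inf_le_left).mp inferInstance hx)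
  rw [mem_block, Sylow.coe_subgroup_smul, ← hD]
  exact Subgroup.pointwise_smul_le_pointwise_smul_iff.mpr (mem_block.mp hc)

theorem block_card {P Q : Ω} (h : Rel P Q) (h9 : Nat.card (P : Subgroup G) ≠ 3) :
    (block P Q).card % 3 = 1 ∧ 4 ≤ (block P Q).card ∧ (block P Q).card ≤ 19 := by
  classical
  have h1 : 3 ∣ ((block P Q).erase P).card := by
    refine dvd_card_of_invariant hn (P := P) _ (fun x hx c hc => ?_) fun c hc => ?_
    · obtain ⟨hcP, hc⟩ := Finset.mem_erase.mp hc
      refine Finset.mem_erase.mpr ⟨fun h' => hcP ?_, block_invariant hn h x hx c hc⟩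
      exact smul_left_cancel x (h'.trans (fix_of_mem hn hx).symm)
    · rcases orb_card_eq hn (Finset.ne_of_mem_erase hc) with h' | h' <;> rw [h'] <;> norm_num
  have hQ : Q ∈ (block P Q).erase P := Finset.mem_erase.mpr ⟨rel_ne hn h, right_mem_block P Q⟩
  have hpos := Finset.card_pos.mpr ⟨Q, hQ⟩
  rw [Finset.card_erase_of_mem (left_mem_block P Q)] at h1 hpos
  have hlt : (block P Q).card < 22 := by
    refine lt_of_le_of_ne (hn ▸ Nat.card_eq_fintype_card (α := Ω) ▸ Finset.card_le_univ _) ?_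
    intro h22
    apply inf_ne_bot hn h h9
    rw [eq_bot_iff]
    intro x hx
    have huniv := Finset.eq_univ_of_card (block P Q) (by rw [h22, ← hn, Nat.card_eq_fintype_card])
    exact Subgroup.mem_bot.mpr (faithful hn fun c =>
      fix_of_mem hn (mem_block.mp (huniv ▸ Finset.mem_univ c) hx))
  omega

open scoped Classical in
theorem block_smul (g : G) (P Q : Ω) :
    block (g • P) (g • Q) = (block P Q).image (g • ·) := by
  ext c
  rw [Finset.mem_image, mem_block, coe_smul_inf]
  constructor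
  · intro hc
    refine ⟨g⁻¹ • c, mem_block.mpr ?_, smul_inv_smul g c⟩
    rw [← Subgroup.pointwise_smul_le_pointwise_smul_iff (a := MulAut.conj g)]
    refine hc.trans ?_
    rw [← Sylow.coe_subgroup_smul, smul_inv_smul]
  · rintro ⟨d, hd, rfl⟩
    rw [Sylow.coe_subgroup_smul]
    exact Subgroup.pointwise_smul_le_pointwise_smul_iff.mpr (mem_block.mp hd)

open scoped Classical in
theorem blocks_smul (g : G) (P : Ω) :
    blocks (g • P) = (blocks P).image fun β => β.image (g • ·) := by
  ext β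
  simp only [blocks, Finset.mem_image, mem_nbr]
  constructor
  · rintro ⟨c, hc, rfl⟩
    refine ⟨block P (g⁻¹ • c), ⟨g⁻¹ • c, ?_, rfl⟩, ?_⟩
    · rw [← rel_smul hn g, smul_inv_smul]
      exact hc
    · rw [← block_smul hn, smul_inv_smul]
  · rintro ⟨_, ⟨c, hc, rfl⟩, rfl⟩
    exact ⟨g • c, (rel_smul hn g).mpr hc, block_smul hn g P c⟩

open scoped Classical in
theorem blocks_filter_card (P R : Ω) (k : ℕ) :
    ((blocks R).filter fun β => β.card = k).card = ((blocks P).filter fun β => β.card = k).card := by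
  obtain ⟨g, rfl⟩ := MulAction.exists_smul_eq G P R
  have hinj : Function.Injective fun β : Finset Ω => β.image (g • ·) :=
    Finset.image_injective (MulAction.injective g)
  rw [blocks_smul hn, Finset.filter_image, Finset.card_image_of_injective _ hinj]
  congr 1
  refine Finset.filter_congr fun β _ => ?_
  rw [Finset.card_image_of_injective _ (MulAction.injective g)]

open scoped Classical in
theorem mem_blocks_iff {β : Finset Ω} (hβ : ∃ R, β ∈ blocks R)
    (h9 : ∀ R : Ω, Nat.card (R : Subgroup G) ≠ 3) (c : Ω) : β ∈ blocks c ↔ c ∈ β := by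
  obtain ⟨R, hR⟩ := hβ
  simp only [blocks, Finset.mem_image, mem_nbr] at hR ⊢
  obtain ⟨Q, hRQ, rfl⟩ := hR
  constructor
  · rintro ⟨d, -, hd⟩
    rw [← hd]
    exact left_mem_block c d
  · intro hc
    obtain ⟨d, hd, hdc⟩ := Finset.exists_mem_ne
      (lt_of_lt_of_le (by norm_num) (block_card hn hRQ (h9 R)).2.1) c
    exact ⟨d, (block_pair hn hRQ hc hd hdc).2, block_eq hn hRQ hc hd hdc⟩

open scoped Classical in
/-- The design: four blocks of size four at each point. -/
theorem design (P : Ω) (h9 : Nat.card (P : Subgroup G) ≠ 3) :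
    (blocks P).card = 4 ∧ (∀ β ∈ blocks P, β.card = 4) ∧ (nbr P).card = 12 ∧
      (∀ c, c ≠ P → c ∉ nbr P → (orb P c).card = 9) := by
  have h9' : ∀ R : Ω, Nat.card (R : Subgroup G) ≠ 3 := fun R => card_sylow_eq hn R P ▸ h9
  have hmod : ∀ β ∈ blocks P, β.card % 3 = 1 ∧ 4 ≤ β.card ∧ β.card ≤ 19 := by
    intro β hβ
    simp only [blocks, Finset.mem_image, mem_nbr] at hβ
    obtain ⟨Q, hQ, rfl⟩ := hβ
    exact block_card hn hQ h9
  -- the neighbours are partitioned by the blocks
  have hpart : nbr P = (blocks P).biUnion fun β => β.erase P := by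
    ext c
    simp only [Finset.mem_biUnion, blocks, Finset.mem_image, mem_nbr, Finset.mem_erase]
    constructor
    · intro hc
      exact ⟨_, ⟨c, hc, rfl⟩, rel_ne hn hc, right_mem_block P c⟩
    · rintro ⟨_, ⟨Q, hQ, rfl⟩, hcP, hc⟩
      exact (block_pair hn hQ (left_mem_block P Q) hc hcP).2
  have hdisj : (↑(blocks P) : Set (Finset Ω)).PairwiseDisjoint fun β => β.erase P := by
    intro β hβ γ hγ hne
    simp only [blocks, Finset.coe_image, Set.mem_image, Finset.mem_coe, mem_nbr] at hβ hγ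
    obtain ⟨Q, hQ, rfl⟩ := hβ
    obtain ⟨R, hR, rfl⟩ := hγ
    rw [Function.onFun, Finset.disjoint_left]
    intro c hc hc'
    apply hne
    obtain ⟨hcP, hc⟩ := Finset.mem_erase.mp hc
    rw [← block_eq hn hQ (left_mem_block P Q) hc hcP,
      ← block_eq hn hR (left_mem_block P R) (Finset.mem_of_mem_erase hc') hcP]
  have hnbr : (nbr P).card = ∑ β ∈ blocks P, (β.card - 1) := by
    rw [hpart, Finset.card_biUnion hdisj]
    refine Finset.sum_congr rfl fun β hβ => Finset.card_erase_of_mem ?_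
    exact (mem_blocks_iff hn ⟨P, hβ⟩ h9' P).mp hβ
  have hnbr21 : (nbr P).card ≤ 21 := by
    have h1 : nbr P ⊆ Finset.univ.erase P := fun c hc =>
      Finset.mem_erase.mpr ⟨rel_ne hn (mem_nbr.mp hc), Finset.mem_univ _⟩
    refine (Finset.card_le_card h1).trans ?_
    rw [Finset.card_erase_of_mem (Finset.mem_univ _), Finset.card_univ, ← Nat.card_eq_fintype_card,
      hn]
  -- double counting
  have hcount : ∀ k, k ∣ 22 * ((blocks P).filter fun β => β.card = k).card := by
    intro k
    let BB := ((Finset.univ : Finset Ω).biUnion blocks).filter fun β => β.card = k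
    have hex : ∀ β ∈ BB, ∃ R, β ∈ blocks R := fun β hβ => by
      obtain ⟨R, -, hR⟩ := Finset.mem_biUnion.mp (Finset.mem_filter.mp hβ).1
      exact ⟨R, hR⟩
    have h := Finset.sum_card_bipartiteAbove_eq_sum_card_bipartiteBelow
      (s := (Finset.univ : Finset Ω)) (t := BB) (r := fun c β => c ∈ β)
    have hA : ∀ c, (BB.bipartiteAbove (fun (c : Ω) (β : Finset Ω) => c ∈ β) c).card =
        ((blocks P).filter fun β => β.card = k).card := by
      intro c
      rw [← blocks_filter_card hn P c k]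
      refine congrArg Finset.card (Finset.ext fun β => ?_)
      rw [Finset.mem_bipartiteAbove]
      constructor
      · rintro ⟨hβ, hc⟩
        exact Finset.mem_filter.mpr
          ⟨(mem_blocks_iff hn (hex β hβ) h9' c).mpr hc, (Finset.mem_filter.mp hβ).2⟩
      · intro hβk
        obtain ⟨hβ, hk⟩ := Finset.mem_filter.mp hβk
        exact ⟨Finset.mem_filter.mpr ⟨Finset.mem_biUnion.mpr ⟨c, Finset.mem_univ _, hβ⟩, hk⟩,
          (mem_blocks_iff hn ⟨c, hβ⟩ h9' c).mp hβ⟩
    have hB : ∀ β ∈ BB,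
        ((Finset.univ : Finset Ω).bipartiteBelow (fun (c : Ω) (β : Finset Ω) => c ∈ β) β).card = k := by
      intro β hβ
      rw [← (Finset.mem_filter.mp hβ).2]
      exact congrArg Finset.card (Finset.ext fun c => by simp [Finset.mem_bipartiteBelow])
    rw [Finset.sum_congr rfl (fun c _ => hA c), Finset.sum_congr rfl hB, Finset.sum_const,
      Finset.sum_const, Finset.card_univ, ← Nat.card_eq_fintype_card, hn, smul_eq_mul,
      smul_eq_mul] at h
    exact h ▸ dvd_mul_left k _
  have hall : ∀ β ∈ blocks P, β.card = 4 := by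
    intro β hβ
    by_contra hne
    obtain ⟨hm, h4, h19⟩ := hmod β hβ
    set r := ((blocks P).filter fun γ => γ.card = β.card).card with hr
    have hr1 : 0 < r := Finset.card_pos.mpr ⟨β, Finset.mem_filter.mpr ⟨hβ, rfl⟩⟩
    have hle : r * (β.card - 1) ≤ 21 := by
      refine le_trans ?_ hnbr21
      rw [hnbr]
      refine le_trans ?_ (Finset.sum_le_sum_of_subset
        (Finset.filter_subset (fun γ => γ.card = β.card) (blocks P)))
      rw [hr, Finset.sum_congr rfl fun γ hγ => by rw [(Finset.mem_filter.mp hγ).2],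
        Finset.sum_const, smul_eq_mul]
    have hdv := hcount β.card
    rw [← hr] at hdv
    have hk : β.card = 7 ∨ β.card = 10 ∨ β.card = 13 ∨ β.card = 16 ∨ β.card = 19 := by omega
    rcases hk with hk | hk | hk | hk | hk <;> rw [hk] at hdv hle <;> omega
  have hfilt : ((blocks P).filter fun β => β.card = 4) = blocks P :=
    Finset.filter_true_of_mem hall
  have heven := hcount 4
  rw [hfilt] at heven
  have hn3 : (nbr P).card = 3 * (blocks P).card := by
    rw [hnbr, Finset.sum_congr rfl fun β hβ => by rw [hall β hβ], Finset.sum_const, smul_eq_mul,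
      mul_comm]
  -- the remaining orbits have length nine
  have hrest : ∀ c, c ≠ P → c ∉ nbr P → (orb P c).card = 9 := fun c hc hc' =>
    (orb_card_eq hn hc).resolve_left fun h => hc' (mem_nbr.mpr ((rel_iff_orb hn).mpr h))
  have hU : 9 ∣ ((Finset.univ.erase P) \ nbr P).card := by
    refine dvd_card_of_invariant hn (P := P) _ (fun x hx c hc => ?_) fun c hc => ?_
    · simp only [Finset.mem_sdiff, Finset.mem_erase, Finset.mem_univ, and_true, mem_nbr] at hc ⊢
      refine ⟨fun h' => hc.1 (smul_left_cancel x (h'.trans (fix_of_mem hn hx).symm)),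
        fun h' => hc.2 ?_⟩
      rw [← rel_smul hn x, fix_of_mem hn hx]
      exact h'
    · simp only [Finset.mem_sdiff, Finset.mem_erase, Finset.mem_univ, and_true] at hc
      rw [hrest c hc.1 hc.2]
  have hsub : nbr P ⊆ Finset.univ.erase P := fun c hc =>
    Finset.mem_erase.mpr ⟨rel_ne hn (mem_nbr.mp hc), Finset.mem_univ _⟩
  rw [Finset.card_sdiff_of_subset hsub, Finset.card_erase_of_mem (Finset.mem_univ _),
    Finset.card_univ, ← Nat.card_eq_fintype_card, hn] at hU
  exact ⟨by omega, hall, by omega, hrest⟩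

open scoped Classical in
/-- A small invariant set is fixed pointwise. -/
theorem subset_fixed {q : ℕ} (hq : q.Prime) {u : G} (hu : orderOf u = q) (S : Finset Ω)
    (hS : ∀ c ∈ S, u • c ∈ S) (hlt : S.card < q) : ∀ c ∈ S, u • c = c := by
  have hle : (S.filter fun c => c ∈ fixed u).card ≤ S.card := Finset.card_filter_le _ _
  have h : S.card = (S.filter fun c => c ∈ fixed u).card :=
    Nat.ModEq.eq_of_lt_of_lt (card_invariant_modEq hn hq hu S hS) hlt (lt_of_le_of_lt hle hlt)
  intro c hc
  have hsub := Finset.eq_of_subset_of_card_le (Finset.filter_subset (fun c => c ∈ fixed u) S) h.le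
  rw [← hsub] at hc
  exact mem_fixed.mp (Finset.mem_filter.mp hc).2

open scoped Classical in
/-- If the Sylow subgroups have order at least nine, only 2 and 3 divide a point stabilizer. -/
theorem lt_five_of_large (P : Ω) (h9 : Nat.card (P : Subgroup G) ≠ 3) {q : ℕ} (hq : q.Prime)
    {u : G} (hu : orderOf u = q) (huP : u • P = P) : q < 5 := by
  by_contra hq5
  push Not at hq5
  obtain ⟨hb4, hsz, hn12, hrest⟩ := design hn P h9
  -- the blocks are fixed
  let σ : Equiv.Perm Ω := MulAction.toPermHom G (Sylow 3 G) u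
  have hβ : ∀ β ∈ blocks P, β.image (u • ·) = β := by
    intro β₀ hβ₀
    have hpres : ∀ β ∈ blocks P, β.image (u • ·) ∈ blocks P := by
      intro β hβ
      have h := blocks_smul hn u P
      rw [huP] at h
      rw [h]
      exact Finset.mem_image_of_mem _ hβ
    have hiter : ∀ n : ℕ, β₀.image (u ^ n • ·) ∈ blocks P := by
      intro n
      induction n with
      | zero => simpa using hβ₀
      | succ n ih =>
        have h := hpres _ ih
        rw [Finset.image_image] at h
        simpa [Function.comp_def, pow_succ', mul_smul] using h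
    obtain ⟨i, hi, j, hj, hij, heq⟩ := Finset.exists_ne_map_eq_of_card_lt_of_maps_to
      (s := Finset.range q) (t := blocks P) (by rw [Finset.card_range, hb4]; omega)
      (f := fun n => β₀.image (u ^ n • ·)) (fun n _ => hiter n)
    wlog hlt : i < j generalizing i j
    · exact this j hj i hi hij.symm heq.symm (by omega)
    have hcop : (j - i).Coprime q := (hq.coprime_iff_not_dvd.mpr
      (Nat.not_dvd_of_pos_of_lt (by omega) (by rw [Finset.mem_range] at hi hj; omega))).symm
    have hfix : β₀.image (u ^ (j - i) • ·) = β₀ := by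
      refine Finset.image_injective (MulAction.injective (u ^ i)) ?_
      simp only [Finset.image_image, Function.comp_def, ← mul_smul, ← pow_add]
      rw [Nat.add_sub_cancel' hlt.le]
      exact heq.symm
    obtain ⟨m, hm⟩ := exists_pow_eq_self_of_coprime (x := u) (n := j - i) (hu.symm ▸ hcop)
    conv_lhs => rw [← hm]
    clear hm
    induction m with
    | zero => simp
    | succ m ih =>
      conv_rhs => rw [← hfix, ← ih]
      rw [Finset.image_image, pow_succ']
      simp [Function.comp_def, mul_smul]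
  have hT : ∀ c ∈ nbr P, u • c = c := by
    intro c hc
    have hb : block P c ∈ blocks P := Finset.mem_image_of_mem _ hc
    refine subset_fixed hn hq hu (block P c) (fun d hd => ?_) (by rw [hsz _ hb]; omega) c
      (right_mem_block P c)
    rw [← hβ _ hb]
    exact Finset.mem_image_of_mem _ hd
  -- the fixed points among the others
  set U := (Finset.univ.erase P) \ nbr P with hUdef
  have hsub : nbr P ⊆ Finset.univ.erase P := fun c hc =>
    Finset.mem_erase.mpr ⟨rel_ne hn (mem_nbr.mp hc), Finset.mem_univ _⟩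
  have hU : U.card = 9 := by
    rw [hUdef, Finset.card_sdiff_of_subset hsub, Finset.card_erase_of_mem (Finset.mem_univ _),
      Finset.card_univ, ← Nat.card_eq_fintype_card, hn, hn12]
  have hmem : ∀ {c}, c ∈ U ↔ c ≠ P ∧ c ∉ nbr P := by simp [hUdef]
  have hUinv : ∀ c ∈ U, u • c ∈ U := by
    intro c hc
    rw [hmem] at hc ⊢
    refine ⟨fun h => hc.1 (smul_left_cancel u (h.trans huP.symm)), fun h => hc.2 ?_⟩
    rw [mem_nbr] at h ⊢
    rw [← rel_smul hn u, huP]
    exact h
  have hUtrans : ∀ c ∈ U, orb P c = U := by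
    intro c hc
    refine Finset.eq_of_subset_of_card_le (fun d hd => ?_)
      (by rw [hU, hrest c (hmem.mp hc).1 (hmem.mp hc).2])
    obtain ⟨x, hx, rfl⟩ := mem_orb.mp hd
    rw [hmem] at hc ⊢
    refine ⟨fun h => hc.1 (smul_left_cancel x (h.trans (fix_of_mem hn hx).symm)), fun h => hc.2 ?_⟩
    rw [mem_nbr] at h ⊢
    rw [← rel_smul hn x, fix_of_mem hn hx]
    exact h
  set F := U.filter fun c => c ∈ fixed u with hF
  have hmodU : 9 ≡ F.card [MOD q] := hU ▸ card_invariant_modEq hn hq hu U hUinv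
  have hFpos : 0 < F.card := by
    refine Nat.pos_of_ne_zero fun h0 => ?_
    rw [h0, Nat.modEq_zero_iff_dvd] at hmodU
    have := (Nat.prime_dvd_prime_iff_eq hq Nat.prime_three).mp
      (hq.dvd_of_dvd_pow (show q ∣ 3 ^ 2 from hmodU))
    omega
  obtain ⟨c, hc⟩ := Finset.card_pos.mp hFpos
  obtain ⟨hcU, hcu⟩ := Finset.mem_filter.mp hc
  rw [mem_fixed] at hcu
  set C := (P : Subgroup G) ⊓ Subgroup.centralizer {u} with hC
  have hFC : (F : Set Ω) = MulAction.orbit C c := by
    ext d
    rw [Finset.mem_coe, MulAction.mem_orbit_iff, hF, Finset.mem_filter, mem_fixed]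
    constructor
    · rintro ⟨hdU, hdu⟩
      have hd : d ∈ orb P c := (hUtrans c hcU).symm ▸ hdU
      obtain ⟨k, hk⟩ := IsPGroup.iff_card.mp P.2
      obtain ⟨x, hxP, hxc, hx⟩ := Coprime.exists_centralizer_smul_eq
        (A := Subgroup.zpowers u) (K := (P : Subgroup G))
        (Subgroup.zpowers_le.mpr ((mem_normalizer_iff_fix hn u P).mp huP))
        (by
          rw [Nat.card_zpowers, hu, hk]
          exact Nat.Coprime.pow_right _ ((Nat.coprime_primes hq Nat.prime_three).mpr (by omega)))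
        (Or.inl (Coprime.isSolvable_zpowers u)) c d
        (fun w hw => (show w ∈ MulAction.stabilizer G c from
          (Subgroup.zpowers_le.mpr (show u ∈ MulAction.stabilizer G c from hcu)) hw))
        (fun w hw => (show w ∈ MulAction.stabilizer G d from
          (Subgroup.zpowers_le.mpr (show u ∈ MulAction.stabilizer G d from hdu)) hw))
        (mem_orb.mp hd)
      exact ⟨⟨x, Subgroup.mem_inf.mpr ⟨hxP, Subgroup.mem_centralizer_singleton_iff.mpr
        ((Subgroup.mem_centralizer_iff.mp hxc u (Subgroup.mem_zpowers u)).symm)⟩⟩, hx⟩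
    · rintro ⟨⟨x, hx⟩, rfl⟩
      obtain ⟨hxP, hxu⟩ := Subgroup.mem_inf.mp hx
      refine ⟨(hUtrans c hcU) ▸ mem_orb.mpr ⟨x, hxP, rfl⟩, ?_⟩
      show u • x • c = x • c
      rw [← mul_smul, ← Subgroup.mem_centralizer_singleton_iff.mp hxu, mul_smul, hcu]
  have hpow : ∃ i, F.card = 3 ^ i := by
    obtain ⟨k, hk⟩ := IsPGroup.iff_card.mp (P.2.to_le (inf_le_left : C ≤ P))
    have h1 : F.card ∣ 3 ^ k := by
      rw [← hk, ← Set.ncard_coe_finset, hFC, ← MulAction.index_stabilizer]
      exact Subgroup.index_dvd_card _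
    obtain ⟨i, -, hi⟩ := (Nat.dvd_prime_pow Nat.prime_three).mp h1
    exact ⟨i, hi⟩
  obtain ⟨i, hi⟩ := hpow
  have hFle : F.card ≤ 9 := hU ▸ Finset.card_filter_le _ _
  have hF9 : F.card = 9 := by
    have hi3 : i < 3 := by
      by_contra h
      have : 3 ^ 3 ≤ 3 ^ i := Nat.pow_le_pow_right (by norm_num) (not_lt.mp h)
      omega
    have hd := (Nat.modEq_iff_dvd' hFle).mp hmodU.symm
    interval_cases i
    · exfalso
      rw [hi] at hd
      have := (Nat.prime_dvd_prime_iff_eq hq Nat.prime_two).mp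
        (hq.dvd_of_dvd_pow (show q ∣ 2 ^ 3 from hd))
      omega
    · exfalso
      rw [hi] at hd
      rcases hq.dvd_mul.mp (show q ∣ 2 * 3 from hd) with h | h
      · have := (Nat.prime_dvd_prime_iff_eq hq Nat.prime_two).mp h
        omega
      · have := (Nat.prime_dvd_prime_iff_eq hq Nat.prime_three).mp h
        omega
    · exact hi
  have hall : ∀ d : Ω, u • d = d := by
    intro d
    by_cases hdP : d = P
    · rw [hdP, huP]
    by_cases hdT : d ∈ nbr P
    · exact hT d hdT
    · have hFU : F = U := Finset.eq_of_subset_of_card_le (Finset.filter_subset _ _) (by omega)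
      have hd : d ∈ F := hFU ▸ hmem.mpr ⟨hdP, hdT⟩
      exact mem_fixed.mp (Finset.mem_filter.mp hd).2
  rw [faithful hn hall, orderOf_one] at hu
  omega

theorem small_centralizes (P : Ω) (h3 : Nat.card (P : Subgroup G) = 3) {q : ℕ} (hq : q.Prime)
    (hq5 : 5 ≤ q) {u : G} (hu : orderOf u = q) (huP : u • P = P) :
    u ∈ Subgroup.centralizer ((P : Subgroup G) : Set G) := by
  obtain ⟨e, c, hec, he1, hed, -, hc⟩ := SylowCounting.normalizer_card_eq (not_comm hn) P h3
  have he2 : e = 2 := le_antisymm (Nat.le_of_dvd two_pos hed) he1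
  subst he2
  rw [P.coe_coe] at hec
  have hle : Subgroup.centralizer ((P : Subgroup G) : Set G) ≤ Nz P := by
    rw [← P.coe_coe]
    exact Subgroup.centralizer_le_normalizer _
  have hri : (Subgroup.centralizer ((P : Subgroup G) : Set G)).relIndex (Nz P) = 2 := by
    have h := Coprime.relIndex_mul_card hle
    rw [hec, hc, mul_comm 2] at h
    exact Nat.eq_of_mul_eq_mul_left Nat.card_pos h
  have huN := (mem_normalizer_iff_fix hn u P).mp huP
  have h2 : (⟨u, huN⟩ : ↥(Nz P)) ^ 2 ∈
      (Subgroup.centralizer ((P : Subgroup G) : Set G)).subgroupOf (Nz P) :=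
    Subgroup.sq_mem_of_index_two hri _
  obtain ⟨m, hm⟩ := exists_pow_eq_self_of_coprime (x := u) (n := 2)
    (hu.symm ▸ ((Nat.coprime_primes Nat.prime_two hq).mpr (by omega)))
  rw [← hm]
  exact pow_mem (Subgroup.mem_subgroupOf.mp h2) m

theorem commute_of_fix (P : Ω) (h3 : Nat.card (P : Subgroup G) = 3) {q : ℕ} (hq : q.Prime)
    (hq5 : 5 ≤ q) {u : G} (hu : orderOf u = q) (huP : u • P = P) {x : G}
    (hx : x ∈ (P : Subgroup G)) : Commute x u :=
  Subgroup.mem_centralizer_iff.mp (small_centralizes hn P h3 hq hq5 hu huP) x hx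

/-- Fixed points of a prime element of a small point stabilizer. -/
theorem fixed_of_small (P : Ω) (h3 : Nat.card (P : Subgroup G) = 3) {q : ℕ} (hq : q.Prime)
    (hq5 : 5 ≤ q) {u : G} (hu : orderOf u = q) (huP : u • P = P) :
    (q = 5 ∧ (fixed u).card = 7) ∨ (q = 7 ∧ (fixed u).card = 1) := by
  classical
  have h1 : 3 ∣ ((fixed u).erase P).card := by
    refine dvd_card_of_invariant hn (P := P) _ (fun x hx c hc => ?_) fun c hc => ?_
    · obtain ⟨hcP, hc⟩ := Finset.mem_erase.mp hc
      refine Finset.mem_erase.mpr ⟨fun h' => hcP ?_, mem_fixed.mpr ?_⟩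
      · exact smul_left_cancel x (h'.trans (fix_of_mem hn hx).symm)
      · rw [← mul_smul, ← (commute_of_fix hn P h3 hq hq5 hu huP hx).eq, mul_smul,
          mem_fixed.mp hc]
    · rcases orb_card_eq hn (Finset.ne_of_mem_erase hc) with h | h <;> rw [h] <;> norm_num
  have hP : P ∈ fixed u := mem_fixed.mpr huP
  rw [Finset.card_erase_of_mem hP] at h1
  have hne : u ≠ 1 := fun h => by rw [h, orderOf_one] at hu; omega
  have hlt := fixed_lt hn hne
  have hpos := Finset.card_pos.mpr ⟨P, hP⟩
  have hmod := (Nat.modEq_iff_dvd' hlt.le).mp (fixed_modEq hn hq hu).symm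
  have hq22 : q ≤ 21 :=
    le_trans (Nat.le_of_dvd (by omega) hmod) (by omega)
  interval_cases q <;> first | omega | (exfalso; revert hq; norm_num)

theorem not_eleven_dvd (P : Ω) : ¬ 11 ∣ Nat.card ↥(Nz P) := by
  intro h
  haveI : Fact (Nat.Prime 11) := ⟨by norm_num⟩
  obtain ⟨u, hu⟩ := exists_prime_orderOf_dvd_card' 11 h
  have huo : orderOf (u : G) = 11 := by rw [Subgroup.orderOf_coe, hu]
  have huP : (u : G) • P = P := (mem_normalizer_iff_fix hn _ P).mpr u.2
  by_cases h3 : Nat.card (P : Subgroup G) = 3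
  · rcases fixed_of_small hn P h3 (by norm_num) (by norm_num) huo huP with h | h <;> omega
  · have := lt_five_of_large hn P h3 (by norm_num) huo huP
    omega

theorem prime_of_stabilizer (P : Ω) {q : ℕ} (hq : q.Prime) (hd : q ∣ Nat.card ↥(Nz P))
    (hq5 : 5 ≤ q) : Nat.card (P : Subgroup G) = 3 ∧ (q = 5 ∨ q = 7) := by
  haveI := Fact.mk hq
  obtain ⟨u, hu⟩ := exists_prime_orderOf_dvd_card' q hd
  have huo : orderOf (u : G) = q := by rw [Subgroup.orderOf_coe, hu]
  have huP : (u : G) • P = P := (mem_normalizer_iff_fix hn _ P).mpr u.2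
  have h3 : Nat.card (P : Subgroup G) = 3 := by
    by_contra h3
    have := lt_five_of_large hn P h3 hq huo huP
    omega
  rcases fixed_of_small hn P h3 hq hq5 huo huP with h | h
  · exact ⟨h3, Or.inl h.1⟩
  · exact ⟨h3, Or.inr h.1⟩

open scoped Classical in
/-- The Sylow 11-subgroup is self-centralizing with normalizer of order 22. -/
theorem exists_eleven : ∃ S : Subgroup G, Nat.card S = 11 ∧
    Nat.card ↥(Subgroup.centralizer (S : Set G)) = 11 * 1 ∧
    Nat.card ↥(Subgroup.normalizer (S : Set G)) = 2 * (11 * 1) := by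
  obtain ⟨P⟩ := (inferInstance : Nonempty (Sylow 3 G))
  haveI : Fact (Nat.Prime 11) := ⟨by norm_num⟩
  have h11 : ∀ Q : Ω, ¬ 11 ∣ Nat.card ↥(Nz Q) := not_eleven_dvd hn
  have hG : Nat.card G = 11 ^ 1 * (2 * Nat.card ↥(Nz P)) := by rw [card_normalizer hn P]; ring
  have hnd : ¬ 11 ∣ 2 * Nat.card ↥(Nz P) := fun h =>
    ((Nat.Prime.dvd_mul (by norm_num)).mp h).elim (by norm_num) (h11 P)
  obtain ⟨S⟩ := (inferInstance : Nonempty (Sylow 11 G))
  have hS : Nat.card (S : Subgroup G) = 11 := by
    rw [SylowCounting.sylow_card hG hnd S, pow_one]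
  have hfree : ∀ s ∈ (S : Subgroup G), ∀ c : Ω, s • c = c → s = 1 := by
    intro s hs c hc
    by_contra h1
    apply h11 c
    rw [← SylowCounting.orderOf_of_mem hS hs h1]
    exact Subgroup.orderOf_dvd_natCard _ ((mem_normalizer_iff_fix hn s c).mp hc)
  obtain ⟨e, c, hec, he1, hed, ⟨h, rfl⟩, hc⟩ := SylowCounting.normalizer_card_eq (not_comm hn) S hS
  have hh : h = 1 := by
    by_contra hne
    obtain ⟨q, hq, hqh⟩ := Nat.exists_prime_and_dvd hne
    haveI := Fact.mk hq
    have hq11 : q ≠ 11 := by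
      rintro rfl
      apply hnd
      have h1 : 11 * 11 ∣ Nat.card G := by
        refine dvd_trans ?_ (Subgroup.card_subgroup_dvd_card
          (Subgroup.centralizer ((S : Subgroup G) : Set G)))
        rw [← hc]
        exact Nat.mul_dvd_mul_left 11 hqh
      rw [hG, pow_one] at h1
      exact Nat.dvd_of_mul_dvd_mul_left (by norm_num) h1
    obtain ⟨u, hu⟩ := exists_prime_orderOf_dvd_card'
      (G := ↥(Subgroup.centralizer ((S : Subgroup G) : Set G))) q (hc ▸ Dvd.dvd.mul_left hqh 11)
    have huo : orderOf (u : G) = q := by rw [Subgroup.orderOf_coe, hu]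
    have hne1 : (u : G) ≠ 1 := fun h => by
      rw [h, orderOf_one] at huo
      exact hq.ne_one huo.symm
    obtain ⟨s, hs⟩ := exists_prime_orderOf_dvd_card' (G := (S : Subgroup G)) 11 (by rw [hS])
    have hso : orderOf (s : G) = 11 := by rw [Subgroup.orderOf_coe, hs]
    have h0 : 11 ∣ (fixed (u : G)).card := by
      have h := card_invariant_modEq hn (by norm_num) hso (fixed (u : G)) (fun d hd => by
        rw [mem_fixed, ← mul_smul, ← Subgroup.mem_centralizer_iff.mp u.2 s s.2, mul_smul,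
          mem_fixed.mp hd])
      rw [Finset.card_eq_zero.mpr (Finset.filter_eq_empty_iff.mpr fun d _ hd => by
        rw [hfree _ s.2 d (mem_fixed.mp hd), orderOf_one] at hso
        exact absurd hso (by norm_num))] at h
      exact Nat.modEq_zero_iff_dvd.mp h
    have hlt := fixed_lt hn hne1
    have hmod := (Nat.modEq_iff_dvd' hlt.le).mp (fixed_modEq hn hq huo).symm
    rcases eq_or_ne q 2 with rfl | hq2
    · have := four_dvd_moved hn huo
      omega
    · obtain ⟨t, ht⟩ := h0
      have ht2 : t = 0 ∨ t = 1 := by omega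
      have hd : q ∣ 2 * 11 := by
        rcases ht2 with rfl | rfl
        · rw [ht] at hmod
          exact hmod
        · rw [ht] at hmod
          exact Dvd.dvd.mul_left hmod 2
      rcases hq.dvd_mul.mp hd with h | h
      · exact hq2 ((Nat.prime_dvd_prime_iff_eq hq Nat.prime_two).mp h)
      · exact hq11 ((Nat.prime_dvd_prime_iff_eq hq (by norm_num)).mp h)
  subst hh
  refine ⟨S, hS, hc.symm, ?_⟩
  rw [hec]
  suffices e = 2 by rw [this]
  have hle : e ≤ 10 := Nat.le_of_dvd (by norm_num) hed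
  by_contra he2
  have h5 : 5 ∣ e := by
    interval_cases e <;> first | omega | norm_num at hed ⊢
  haveI : Fact (Nat.Prime 5) := ⟨by norm_num⟩
  obtain ⟨u, hu⟩ := exists_prime_orderOf_dvd_card'
    (G := ↥(Subgroup.normalizer ((S : Subgroup G) : Set G))) 5 (hec ▸ Dvd.dvd.mul_right h5 _)
  have huo : orderOf (u : G) = 5 := by rw [Subgroup.orderOf_coe, hu]
  have hle2 : (fixed (u : G)).card ≤ 2 := by
    haveI := Fintype.ofFinite (S : Subgroup G)
    have hinj : Set.InjOn (fun x : (↥(S : Subgroup G)) × Ω => (x.1 : G) • x.2)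
        ↑((Finset.univ : Finset (S : Subgroup G)) ×ˢ fixed (u : G)) := by
      rintro ⟨s, x⟩ hx ⟨t, y⟩ hy heq
      simp only [Finset.coe_product, Set.mem_prod, Finset.mem_coe] at hx hy
      have hx' := mem_fixed.mp hx.2
      have hy' := mem_fixed.mp hy.2
      simp only at heq
      set r : G := (t : G)⁻¹ * s with hr
      have hrS : r ∈ (S : Subgroup G) := mul_mem (inv_mem t.2) s.2
      have hry : r • x = y := by rw [hr, mul_smul, heq, inv_smul_smul]
      have hr2 : (u : G) * r * (u : G)⁻¹ ∈ (S : Subgroup G) :=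
        (Subgroup.mem_normalizer_iff.mp u.2 r).mp hrS
      have hfix : (r⁻¹ * ((u : G) * r * (u : G)⁻¹)) • x = x := by
        have hux : (u : G)⁻¹ • x = x := by
          conv_lhs => rw [← hx']
          rw [inv_smul_smul]
        rw [mul_smul, mul_smul, mul_smul, hux, hry, hy', ← hry, inv_smul_smul]
      have h1 := hfree _ (mul_mem (inv_mem hrS) hr2) x hfix
      rw [inv_mul_eq_one] at h1
      have hcomm : Commute (u : G) r := (mul_inv_eq_iff_eq_mul.mp h1.symm)
      by_cases hr1 : r = 1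
      · rw [hr1, one_smul] at hry
        rw [hr, inv_mul_eq_one] at hr1
        exact Prod.ext (Subtype.ext hr1.symm) hry
      · exfalso
        have hgen : Subgroup.zpowers r = (S : Subgroup G) :=
          Coprime.eq_of_le_of_card_le (Subgroup.zpowers_le.mpr hrS)
            (by rw [hS, Nat.card_zpowers, SylowCounting.orderOf_of_mem hS hrS hr1])
        have huC : (u : G) ∈ Subgroup.centralizer ((S : Subgroup G) : Set G) := by
          rw [Subgroup.mem_centralizer_iff]
          intro w hw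
          rw [SetLike.mem_coe, ← hgen] at hw
          obtain ⟨i, rfl⟩ := hw
          exact ((hcomm.symm).zpow_left i).eq
        have := Subgroup.orderOf_dvd_natCard _ huC
        rw [huo, ← hc] at this
        norm_num at this
    have h := Finset.card_le_card_of_injOn _ (fun _ _ => Finset.mem_coe.mpr (Finset.mem_univ _)) hinj
    rw [Finset.card_product, Finset.card_univ, ← Nat.card_eq_fintype_card, hS, Finset.card_univ,
      ← Nat.card_eq_fintype_card, hn] at h
    omega
  have hmod := fixed_modEq hn (by norm_num : Nat.Prime 5) huo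
  obtain ⟨Q, hQ⟩ : (fixed (u : G)).Nonempty := by
    rw [← Finset.card_pos]
    rcases Nat.eq_zero_or_pos (fixed (u : G)).card with h0 | h0
    · rw [h0] at hmod
      exact absurd hmod (by decide)
    · exact h0
  have huQ : (u : G) • Q = Q := mem_fixed.mp hQ
  have h5d : 5 ∣ Nat.card ↥(Nz Q) := by
    rw [← huo]
    exact Subgroup.orderOf_dvd_natCard _ ((mem_normalizer_iff_fix hn _ Q).mp huQ)
  obtain ⟨h3, -⟩ := prime_of_stabilizer hn Q (by norm_num) h5d le_rfl
  rcases fixed_of_small hn Q h3 (by norm_num) le_rfl huo huQ with h | h <;> omega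

/-- Commuting elements of order five or seven fixing a point have the same fixed points. -/
theorem fixed_eq_of_commute (P : Ω) (h3 : Nat.card (P : Subgroup G) = 3) {q : ℕ} (hq : q.Prime)
    (hq5 : 5 ≤ q) {u w : G} (hu : orderOf u = q) (hw : orderOf w = q) (huP : u • P = P)
    (hwP : w • P = P) (huw : Commute u w) : fixed w = fixed u := by
  classical
  set I := (fixed u).filter fun c => c ∈ fixed w with hI
  have h1 : 3 ∣ (I.erase P).card := by
    refine dvd_card_of_invariant hn (P := P) _ (fun x hx c hc => ?_) fun c hc => ?_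
    · obtain ⟨hcP, hc⟩ := Finset.mem_erase.mp hc
      obtain ⟨hcu, hcw⟩ := Finset.mem_filter.mp hc
      refine Finset.mem_erase.mpr ⟨fun h' => hcP ?_, Finset.mem_filter.mpr
        ⟨mem_fixed.mpr ?_, mem_fixed.mpr ?_⟩⟩
      · exact smul_left_cancel x (h'.trans (fix_of_mem hn hx).symm)
      · rw [← mul_smul, ← (commute_of_fix hn P h3 hq hq5 hu huP hx).eq, mul_smul,
          mem_fixed.mp hcu]
      · rw [← mul_smul, ← (commute_of_fix hn P h3 hq hq5 hw hwP hx).eq, mul_smul,
          mem_fixed.mp hcw]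
    · rcases orb_card_eq hn (Finset.ne_of_mem_erase hc) with h | h <;> rw [h] <;> norm_num
  have hP : P ∈ I := Finset.mem_filter.mpr ⟨mem_fixed.mpr huP, mem_fixed.mpr hwP⟩
  rw [Finset.card_erase_of_mem hP] at h1
  have hpos := Finset.card_pos.mpr ⟨P, hP⟩
  have hmod : (fixed u).card ≡ I.card [MOD q] := card_invariant_modEq hn hq hw (fixed u)
    (fun c hc => by
      rw [mem_fixed, ← mul_smul, huw.eq, mul_smul, mem_fixed.mp hc])
  have hle : I.card ≤ (fixed u).card := Finset.card_filter_le _ _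
  have hdvd := (Nat.modEq_iff_dvd' hle).mp hmod.symm
  have hcw := fixed_of_small hn P h3 hq hq5 hw hwP
  have hcard : I.card = (fixed u).card ∧ (fixed w).card = (fixed u).card := by
    rcases fixed_of_small hn P h3 hq hq5 hu huP with ⟨rfl, h⟩ | ⟨rfl, h⟩ <;>
      rcases hcw with ⟨hq', h'⟩ | ⟨hq', h'⟩ <;>
      (rw [h] at hdvd hle ⊢; omega)
  have hIu : I = fixed u := Finset.eq_of_subset_of_card_le (Finset.filter_subset _ _) hcard.1.ge
  refine (Finset.eq_of_subset_of_card_le (fun c hc => ?_) hcard.2.le).symm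
  rw [← hIu] at hc
  exact (Finset.mem_filter.mp hc).2

theorem sq_not_dvd (P : Ω) (h3 : Nat.card (P : Subgroup G) = 3) {q : ℕ} (hq : q.Prime)
    (hq5 : 5 ≤ q) : ¬ q ^ 2 ∣ Nat.card ↥(Nz P) := by
  intro hd
  haveI := Fact.mk hq
  obtain ⟨E, hE⟩ := Sylow.exists_subgroup_card_pow_prime q hd
  have hEp : IsPGroup q E := IsPGroup.of_card hE
  have hEc : ∀ a b : E, a * b = b * a := IsPGroup.commutative_of_card_eq_prime_sq hE
  have hfixP : ∀ e : E, ((e : ↥(Nz P)) : G) • P = P := fun e =>
    (mem_normalizer_iff_fix hn _ P).mpr (e : ↥(Nz P)).2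
  obtain ⟨u, hu⟩ := exists_prime_orderOf_dvd_card' (G := E) q (hE ▸ dvd_pow_self q two_ne_zero)
  have huo : orderOf ((u : ↥(Nz P)) : G) = q := by
    rw [Subgroup.orderOf_coe, Subgroup.orderOf_coe, hu]
  have hq7 : q = 5 ∨ q = 7 :=
    (prime_of_stabilizer hn P hq ((dvd_pow_self q two_ne_zero).trans hd) hq5).2
  have hlt : (fixed ((u : ↥(Nz P)) : G)).card < Fintype.card Ω := by
    rw [← Nat.card_eq_fintype_card, hn]
    exact fixed_lt hn fun h => by rw [h, orderOf_one] at huo; omega
  obtain ⟨c, hc⟩ : ∃ c, c ∉ fixed ((u : ↥(Nz P)) : G) := by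
    by_contra hall
    push Not at hall
    rw [Finset.eq_univ_of_forall hall, Finset.card_univ] at hlt
    exact lt_irrefl _ hlt
  obtain ⟨a, b, hab, heq⟩ : ∃ a b : E, a ≠ b ∧
      ((a : ↥(Nz P)) : G) • c = ((b : ↥(Nz P)) : G) • c := by
    by_contra hne
    push Not at hne
    have hinj : Function.Injective fun a : E => ((a : ↥(Nz P)) : G) • c :=
      fun a b h => by_contra fun h' => hne a b h' h
    have := Nat.card_le_card_of_injective _ hinj
    rw [hE, hn] at this
    rcases hq7 with rfl | rfl <;> norm_num at this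
  set w : E := b⁻¹ * a with hw
  have hw1 : w ≠ 1 := fun h => hab (inv_mul_eq_one.mp h).symm
  have hwc : ((w : ↥(Nz P)) : G) • c = c := by
    rw [hw]
    show (((b : ↥(Nz P)) : G)⁻¹ * ((a : ↥(Nz P)) : G)) • c = c
    rw [mul_smul, heq, inv_smul_smul]
  obtain ⟨j, hj, hjo⟩ : ∃ j : ℕ, (w ^ j) ≠ 1 ∧ orderOf (w ^ j) = q := by
    obtain ⟨k, hk2, hk⟩ := (Nat.dvd_prime_pow hq).mp (hE ▸ orderOf_dvd_natCard w)
    have hk0 : k ≠ 0 := fun h => hw1 (orderOf_eq_one_iff.mp (by rw [hk, h, pow_zero]))
    refine ⟨q ^ (k - 1), ?_, ?_⟩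
    · intro h
      have := Nat.le_of_dvd (pow_pos hq.pos _) (orderOf_dvd_of_pow_eq_one h)
      rw [hk] at this
      have := (Nat.pow_le_pow_iff_right hq.one_lt).mp this
      omega
    · rw [orderOf_pow' _ (pow_ne_zero _ hq.ne_zero), hk,
        Nat.gcd_eq_right (pow_dvd_pow q (Nat.sub_le k 1)), Nat.pow_div (Nat.sub_le k 1) hq.pos,
        show k - (k - 1) = 1 by omega, pow_one]
  have hvo : orderOf (((w ^ j : E) : ↥(Nz P)) : G) = q := by
    rw [Subgroup.orderOf_coe, Subgroup.orderOf_coe, hjo]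
  have hvc : (((w ^ j : E) : ↥(Nz P)) : G) • c = c := by
    rw [Subgroup.coe_pow, Subgroup.coe_pow]
    exact (show ((w : ↥(Nz P)) : G) ^ j ∈ MulAction.stabilizer G c from
      pow_mem (show ((w : ↥(Nz P)) : G) ∈ MulAction.stabilizer G c from hwc) j)
  apply hc
  rw [← fixed_eq_of_commute hn P h3 hq hq5 huo hvo (hfixP u) (hfixP _)
    (congrArg (fun e : E => ((e : ↥(Nz P)) : G)) (hEc u (w ^ j)))]
  exact mem_fixed.mpr hvc

omit [Finite G] [IsSimpleGroup G] [Fact (Nat.Prime 3)] [Fintype (Sylow 3 G)] hn in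
theorem smooth_eq {n : ℕ} (hn0 : n ≠ 0) (h : ∀ q : ℕ, q.Prime → q ∣ n → q = 2 ∨ q = 3) :
    ∃ x y, n = 2 ^ x * 3 ^ y := by
  obtain ⟨x, m, hm2, rfl⟩ := Nat.exists_eq_pow_mul_and_not_dvd hn0 2 (by norm_num)
  obtain ⟨y, k, hk3, rfl⟩ := Nat.exists_eq_pow_mul_and_not_dvd (n := m)
    (fun h0 => hn0 (by rw [h0, mul_zero])) 3 (by norm_num)
  refine ⟨x, y, ?_⟩
  have hk : k = 1 := by
    by_contra hne
    obtain ⟨q, hq, hqk⟩ := Nat.exists_prime_and_dvd hne
    rcases h q hq (Dvd.dvd.mul_left (Dvd.dvd.mul_left hqk _) _) with rfl | rfl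
    · exact hm2 (Dvd.dvd.mul_left hqk _)
    · exact hk3 hqk
  rw [hk, mul_one]

omit [Finite G] [IsSimpleGroup G] [Fact (Nat.Prime 3)] [Fintype (Sylow 3 G)] hn in
theorem consecutive_smooth {n : ℕ} (h1 : 0 < n)
    (ha : ∀ q : ℕ, q.Prime → q ∣ n → q = 2 ∨ q = 3)
    (hb : ∀ q : ℕ, q.Prime → q ∣ n + 1 → q = 2 ∨ q = 3) : n ≤ 8 := by
  obtain ⟨x, y, hxy⟩ := smooth_eq h1.ne' ha
  obtain ⟨z, w, hzw⟩ := smooth_eq (by omega) hb
  have h2 : x = 0 ∨ z = 0 := by
    by_contra h
    push Not at h
    have e1 : 2 ∣ n := hxy ▸ Dvd.dvd.mul_right (dvd_pow_self 2 h.1) _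
    have e2 : 2 ∣ n + 1 := hzw ▸ Dvd.dvd.mul_right (dvd_pow_self 2 h.2) _
    omega
  have h3 : y = 0 ∨ w = 0 := by
    by_contra h
    push Not at h
    have e1 : 3 ∣ n := hxy ▸ Dvd.dvd.mul_left (dvd_pow_self 3 h.1) _
    have e2 : 3 ∣ n + 1 := hzw ▸ Dvd.dvd.mul_left (dvd_pow_self 3 h.2) _
    omega
  have hmod8 : ∀ j, 3 ^ j % 8 = 1 ∨ 3 ^ j % 8 = 3 := by
    intro j
    induction j with
    | zero => left; rfl
    | succ j ih => rw [pow_succ, Nat.mul_mod]; rcases ih with h | h <;> rw [h] <;> norm_num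
  have h8 : ∀ j, 3 ≤ j → (2 : ℕ) ^ j % 8 = 0 := fun j hj =>
    Nat.mod_eq_zero_of_dvd (pow_dvd_pow 2 hj)
  rcases h2 with rfl | rfl <;> rcases h3 with rfl | rfl
  · simp at hxy
    omega
  · -- `n = 3 ^ y`, `n + 1 = 2 ^ z`
    simp only [pow_zero, one_mul, mul_one] at hxy hzw
    by_contra hlt
    have hz : 3 ≤ z := by
      by_contra hz
      have : 2 ^ z ≤ 2 ^ 2 := Nat.pow_le_pow_right (by norm_num) (by omega)
      omega
    have := h8 z hz
    rcases hmod8 y with h | h <;> omega
  · -- `n = 2 ^ x`, `n + 1 = 3 ^ w`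
    simp only [pow_zero, one_mul, mul_one] at hxy hzw
    by_contra hlt
    have hw : w % 2 = 0 := by
      rcases Nat.mod_two_eq_zero_or_one w with h | h
      · exact h
      · exfalso
        have hx3 : 3 ≤ x := by
          by_contra hx
          have : 2 ^ x ≤ 2 ^ 2 := Nat.pow_le_pow_right (by norm_num) (by omega)
          omega
        have := h8 x hx3
        obtain ⟨t, rfl⟩ : ∃ t, w = 2 * t + 1 := ⟨w / 2, by omega⟩
        rw [pow_succ, pow_mul] at hzw
        have h9 : (3 ^ 2) ^ t % 8 = 1 := by rw [Nat.pow_mod]; norm_num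
        omega
    obtain ⟨t, rfl⟩ : ∃ t, w = 2 * t := ⟨w / 2, by omega⟩
    rw [mul_comm 2 t, pow_mul] at hzw
    set m := 3 ^ t with hm
    have hm1 : 1 ≤ m := Nat.one_le_pow _ _ (by norm_num)
    have hmul : (m - 1) * (m + 1) = 2 ^ x := by
      obtain ⟨m', hm'⟩ : ∃ m', m = m' + 1 := ⟨m - 1, by omega⟩
      rw [hm', Nat.add_sub_cancel]
      rw [hm', sq] at hzw
      nlinarith
    obtain ⟨i, -, hi⟩ := (Nat.dvd_prime_pow Nat.prime_two).mp (hmul ▸ Dvd.intro _ rfl)
    obtain ⟨j, -, hj⟩ := (Nat.dvd_prime_pow Nat.prime_two).mp (hmul ▸ Dvd.intro_left _ rfl)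
    have hi1 : i ≤ 1 := by
      by_contra hi2
      push Not at hi2
      have hj2 : 2 ≤ j := by
        by_contra hj2
        have : 2 ^ j ≤ 2 ^ 1 := Nat.pow_le_pow_right (by norm_num) (by omega)
        have : 2 ^ 2 ≤ 2 ^ i := Nat.pow_le_pow_right (by norm_num) hi2
        omega
      have e1 : 2 ^ 2 ∣ 2 ^ i := pow_dvd_pow 2 hi2
      have e2 : 2 ^ 2 ∣ 2 ^ j := pow_dvd_pow 2 hj2
      omega
    have : 2 ^ i ≤ 2 ^ 1 := Nat.pow_le_pow_right (by norm_num) hi1
    have : m ≤ 3 := by omega
    nlinarith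
  · simp at hzw
    omega

theorem degrees_of_large (P : Ω) (h9 : Nat.card (P : Subgroup G) ≠ 3) {d : ℕ}
    (hd : d ∣ Nat.card G) (h11 : ¬ 11 ∣ d) : ∀ q : ℕ, q.Prime → q ∣ d → q = 2 ∨ q = 3 := by
  intro q hq hqd
  have h := hqd.trans hd
  rw [card_normalizer hn P, show (22 : ℕ) = 2 * 11 from rfl] at h
  rcases hq.dvd_mul.mp h with h' | h'
  · rcases hq.dvd_mul.mp h' with h'' | h''
    · exact Or.inl ((Nat.prime_dvd_prime_iff_eq hq Nat.prime_two).mp h'')
    · exact absurd ((Nat.prime_dvd_prime_iff_eq hq (by norm_num)).mp h'' ▸ hqd) h11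
  · by_cases hq5 : 5 ≤ q
    · exact absurd (prime_of_stabilizer hn P hq h' hq5).1 h9
    · have := hq.two_le
      interval_cases q <;> first | exact Or.inl rfl | exact Or.inr rfl | (exfalso; revert hq; norm_num)

/-- An odd divisor prime to 11 divides 105. -/
theorem odd_dvd_of_small (P : Ω) (h3 : Nat.card (P : Subgroup G) = 3) {o : ℕ}
    (ho : o ∣ Nat.card G) (h11 : ¬ 11 ∣ o) (h2 : ¬ 2 ∣ o) : o ∣ 3 * 5 * 7 := by
  have hcop : o.Coprime 22 := by
    rw [show (22 : ℕ) = 2 * 11 from rfl]
    exact Nat.Coprime.mul_right ((Nat.prime_two.coprime_iff_not_dvd.mpr h2).symm)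
      (((by norm_num : Nat.Prime 11).coprime_iff_not_dvd.mpr h11).symm)
  have hom : o ∣ Nat.card ↥(Nz P) :=
    hcop.dvd_of_dvd_mul_left (card_normalizer hn P ▸ ho)
  rw [Nat.dvd_iff_prime_pow_dvd_dvd]
  intro p k hp hpk
  rcases Nat.eq_zero_or_pos k with rfl | hk
  · simp
  have hpm : p ∣ Nat.card ↥(Nz P) := ((dvd_pow_self p hk.ne').trans hpk).trans hom
  have hp2 : p ≠ 2 := by
    rintro rfl
    exact h2 ((dvd_pow_self 2 hk.ne').trans hpk)
  have hcases : p = 3 ∨ (5 ≤ p ∧ (p = 5 ∨ p = 7)) := by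
    by_cases hp5 : 5 ≤ p
    · exact Or.inr ⟨hp5, (prime_of_stabilizer hn P hp hpm hp5).2⟩
    · have := hp.two_le
      interval_cases p
      · exact absurd rfl hp2
      · exact Or.inl rfl
      · exfalso; revert hp; norm_num
  have hk1 : k = 1 := by
    by_contra hne
    have hsq : p ^ 2 ∣ Nat.card ↥(Nz P) := ((pow_dvd_pow p (by omega)).trans hpk).trans hom
    rcases hcases with rfl | ⟨hp5, -⟩
    · have h9 : 3 ^ 2 ∣ Nat.card G := hsq.trans (Subgroup.card_subgroup_dvd_card _)
      obtain ⟨E, hE⟩ := Sylow.exists_subgroup_card_pow_prime 3 h9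
      obtain ⟨Q, hQ⟩ := (IsPGroup.of_card hE).exists_le_sylow
      have := Nat.le_of_dvd Nat.card_pos (Subgroup.card_dvd_of_le hQ)
      rw [hE, card_sylow_eq hn Q P, h3] at this
      norm_num at this
    · exact sq_not_dvd hn P h3 hp hp5 hsq
  subst hk1
  rcases hcases with rfl | ⟨-, rfl | rfl⟩ <;> norm_num

open scoped Classical in
theorem not_five_and_seven (P : Ω) (h3 : Nat.card (P : Subgroup G) = 3)
    (h5 : 5 ∣ Nat.card ↥(Nz P)) (h7 : 7 ∣ Nat.card ↥(Nz P)) : False := by
  haveI : Fact (Nat.Prime 5) := ⟨by norm_num⟩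
  haveI : Fact (Nat.Prime 7) := ⟨by norm_num⟩
  set C := Subgroup.centralizer ((P : Subgroup G) : Set G) with hC
  have hCN : C ≤ Nz P := by
    rw [← P.coe_coe]
    exact Subgroup.centralizer_le_normalizer _
  have hfixC : ∀ w : C, (w : G) • P = P := fun w =>
    (mem_normalizer_iff_fix hn _ P).mpr (hCN w.2)
  have hmem : ∀ q : ℕ, q.Prime → 5 ≤ q → q ∣ Nat.card ↥(Nz P) → q ∣ Nat.card C := by
    intro q hq hq5 hd
    haveI := Fact.mk hq
    obtain ⟨u, hu⟩ := exists_prime_orderOf_dvd_card' q hd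
    have huo : orderOf (u : G) = q := by rw [Subgroup.orderOf_coe, hu]
    rw [← huo]
    exact Subgroup.orderOf_dvd_natCard _ (small_centralizes hn P h3 hq hq5 huo
      ((mem_normalizer_iff_fix hn _ P).mpr u.2))
  obtain ⟨R⟩ := (inferInstance : Nonempty (Sylow 7 C))
  have hR : Nat.card (R : Subgroup C) = 7 := by
    obtain ⟨j, hj⟩ := IsPGroup.iff_card.mp R.2
    have h1 : 7 ∣ Nat.card (R : Subgroup C) :=
      R.dvd_card_of_dvd_card (hmem 7 (by norm_num) (by norm_num) h7)
    rcases Nat.lt_or_ge j 2 with hj2 | hj2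
    · interval_cases j
      · rw [hj] at h1; norm_num at h1
      · rw [hj, pow_one]
    · exfalso
      refine sq_not_dvd hn P h3 (by norm_num : Nat.Prime 7) (by norm_num) ?_
      exact ((pow_dvd_pow 7 hj2).trans (hj ▸ Subgroup.card_subgroup_dvd_card _)).trans
        (Subgroup.card_dvd_of_le hCN)
  obtain ⟨y, hy⟩ := exists_prime_orderOf_dvd_card' (G := (R : Subgroup C)) 7 (by rw [hR])
  set M := Subgroup.normalizer ((R : Subgroup C) : Set C) with hM
  -- no element of order five normalizes `R`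
  have hM5 : ¬ 5 ∣ Nat.card M := by
    intro hd
    obtain ⟨v, hv⟩ := exists_prime_orderOf_dvd_card' 5 hd
    have hker : v ∈ (Subgroup.normalizerMonoidHom (R : Subgroup C)).ker := by
      rw [MonoidHom.mem_ker, ← orderOf_eq_one_iff]
      have h1 := orderOf_map_dvd (Subgroup.normalizerMonoidHom (R : Subgroup C)) v
      rw [hv] at h1
      have h2 : orderOf (Subgroup.normalizerMonoidHom (R : Subgroup C) v) ∣ 6 := by
        refine (orderOf_dvd_natCard _).trans ?_
        haveI : IsCyclic (R : Subgroup C) := isCyclic_of_prime_card hR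
        rw [IsCyclic.card_mulAut, hR, Nat.totient_prime (by norm_num)]
      exact Nat.dvd_one.mp ((Nat.dvd_gcd h1 h2).trans (dvd_of_eq (by norm_num)))
    rw [Subgroup.normalizerMonoidHom_ker, Subgroup.mem_subgroupOf] at hker
    have hcomm : Commute ((y : C) : G) ((v : C) : G) :=
      congrArg Subtype.val (Subgroup.mem_centralizer_iff.mp hker y y.2)
    have hyo : orderOf ((y : C) : G) = 7 := by rw [Subgroup.orderOf_coe, Subgroup.orderOf_coe, hy]
    have hvo : orderOf ((v : C) : G) = 5 := by rw [Subgroup.orderOf_coe, Subgroup.orderOf_coe, hv]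
    have hv7 : (fixed ((v : C) : G)).card = 7 := by
      rcases fixed_of_small hn P h3 (by norm_num) le_rfl hvo (hfixC v) with h | h <;> omega
    have hy1 : (fixed ((y : C) : G)).card = 1 := by
      rcases fixed_of_small hn P h3 (by norm_num) (by norm_num) hyo (hfixC y) with h | h <;> omega
    have h := card_invariant_modEq hn (by norm_num) hyo (fixed ((v : C) : G)) (fun d hd => by
      rw [mem_fixed, ← mul_smul, ← hcomm.eq, mul_smul, mem_fixed.mp hd])
    have hle : ((fixed ((v : C) : G)).filter fun d => d ∈ fixed ((y : C) : G)).card ≤ 1 :=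
      hy1 ▸ Finset.card_le_card fun d hd => (Finset.mem_filter.mp hd).2
    have hpos : 0 < ((fixed ((v : C) : G)).filter fun d => d ∈ fixed ((y : C) : G)).card :=
      Finset.card_pos.mpr ⟨P, Finset.mem_filter.mpr
        ⟨mem_fixed.mpr (hfixC v), mem_fixed.mpr (hfixC y)⟩⟩
    rw [hv7, show ((fixed ((v : C) : G)).filter fun d => d ∈ fixed ((y : C) : G)).card = 1 by omega]
      at h
    exact absurd h (by decide)
  set n := Nat.card (Sylow 7 C) with hndef
  have hnM : n * Nat.card M = Nat.card C := by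
    rw [hndef, R.card_eq_index_normalizer, hM, R.coe_coe]
    exact Subgroup.index_mul_card _
  have hn5 : 5 ∣ n := by
    have := hmem 5 (by norm_num) le_rfl h5
    rw [← hnM] at this
    exact ((Nat.Prime.dvd_mul (by norm_num)).mp this).resolve_right hM5
  -- the prime divisors of `n`
  have hsq : ∀ q, q.Prime → q = 3 ∨ q = 5 → ¬ q ^ 2 ∣ Nat.card C := by
    intro q hq h hd
    have hd' := hd.trans (Subgroup.card_dvd_of_le hCN)
    rcases h with rfl | rfl
    · have h9 : 3 ^ 2 ∣ Nat.card G := hd'.trans (Subgroup.card_subgroup_dvd_card _)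
      obtain ⟨E, hE⟩ := Sylow.exists_subgroup_card_pow_prime 3 h9
      obtain ⟨Q, hQ⟩ := (IsPGroup.of_card hE).exists_le_sylow
      have := Nat.le_of_dvd Nat.card_pos (Subgroup.card_dvd_of_le hQ)
      rw [hE, card_sylow_eq hn Q P, h3] at this
      norm_num at this
    · exact sq_not_dvd hn P h3 hq le_rfl hd'
  have hM3 : 3 ∣ Nat.card M := by
    obtain ⟨x, hx⟩ := exists_prime_orderOf_dvd_card' (G := (P : Subgroup G)) 3 (by rw [h3])
    haveI : IsCyclic (P : Subgroup G) := isCyclic_of_prime_card h3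
    haveI : IsMulCommutative (P : Subgroup G) := IsCyclic.isMulCommutative
    have hxC : (x : G) ∈ C := Subgroup.le_centralizer _ x.2
    have hxM : (⟨x, hxC⟩ : C) ∈ M := by
      refine Subgroup.centralizer_le_normalizer _ (Subgroup.mem_centralizer_iff.mpr fun r _ => ?_)
      exact Subtype.ext (Subgroup.mem_centralizer_iff.mp r.2 x x.2).symm
    rw [← hx, ← Subgroup.orderOf_coe x]
    have := Subgroup.orderOf_dvd_natCard _ hxM
    rwa [← Subgroup.orderOf_coe (⟨x, hxC⟩ : C)] at this
  have hn0 : n ≠ 0 := Nat.card_pos.ne'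
  obtain ⟨j, k, hk2, hjk⟩ := Nat.exists_eq_pow_mul_and_not_dvd hn0 2 (by norm_num)
  have hk : k = 5 := by
    have h5k : 5 ∣ k :=
      ((Nat.Prime.dvd_mul (by norm_num)).mp (hjk ▸ hn5)).resolve_left
        fun h => absurd (Nat.Prime.dvd_of_dvd_pow (by norm_num) h) (by norm_num)
    obtain ⟨l, rfl⟩ := h5k
    suffices l = 1 by rw [this]
    by_contra hl
    obtain ⟨q, hq, hql⟩ := Nat.exists_prime_and_dvd hl
    have hqn : q ∣ n := hjk ▸ Dvd.dvd.mul_left (Dvd.dvd.mul_left hql 5) _
    have hqC : q ∣ Nat.card C := hnM ▸ Dvd.dvd.mul_right hqn _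
    have hq2 : q ≠ 2 := by
      rintro rfl
      exact hk2 (Dvd.dvd.mul_left hql 5)
    by_cases hq5 : 5 ≤ q
    · rcases (prime_of_stabilizer hn P hq (hqC.trans (Subgroup.card_dvd_of_le hCN)) hq5).2 with
        rfl | rfl
      · refine hsq 5 hq (Or.inr rfl) (dvd_trans ?_ (Dvd.intro _ hnM))
        rw [hjk, sq]
        exact Dvd.dvd.mul_left (Nat.mul_dvd_mul_left 5 hql) _
      · have := SylowCounting.sylow_count_mod (G := C) 7
        rw [← hndef] at this
        omega
    · have := hq.two_le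
      interval_cases q
      · exact hq2 rfl
      · refine hsq 3 (by norm_num) (Or.inl rfl) ?_
        rw [← hnM, sq]
        exact Nat.mul_dvd_mul hqn hM3
      · revert hq; norm_num
  subst hk
  have h1 := SylowCounting.sylow_count_mod (G := C) 7
  rw [← hndef, hjk] at h1
  have : ∀ i, 2 ^ i % 7 = 1 ∨ 2 ^ i % 7 = 2 ∨ 2 ^ i % 7 = 4 := by
    intro i
    induction i with
    | zero => left; rfl
    | succ i ih => rw [pow_succ, Nat.mul_mod]; rcases ih with h | h | h <;> rw [h] <;> norm_num
  rcases this j with h | h | h <;> rw [Nat.mul_mod, h] at h1 <;> norm_num at h1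

omit [Finite G] [IsSimpleGroup G] [Fact (Nat.Prime 3)] [Fintype (Sylow 3 G)] hn in
theorem divisors_105 {o : ℕ} (ho : o ∣ 3 * 5 * 7) :
    o ∈ ({1, 3, 5, 7, 15, 21, 35, 105} : Finset ℕ) := by
  have h : Nat.divisors 105 = {1, 3, 5, 7, 15, 21, 35, 105} := by decide +kernel
  rw [← h]
  exact Nat.mem_divisors.mpr ⟨ho, by norm_num⟩

open scoped Classical in
theorem false_of_simple : False := by
  obtain ⟨S, hS, hC, hN⟩ := exists_eleven hn
  obtain ⟨P⟩ := (inferInstance : Nonempty (Sylow 3 G))
  obtain ⟨d, f, hd1, hf1, hd, hf, hcong, -, -, -⟩ :=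
    SylowCounting.degree_equation (not_comm hn) (by norm_num : Nat.Prime 11) (by norm_num) S hS
      (by norm_num : ¬ 11 ∣ 1) hC hN
  have h11 : ¬ 11 ∣ d ∧ ¬ 11 ∣ f := by omega
  by_cases h3 : Nat.card (P : Subgroup G) = 3
  · have hodd : (d ∣ 3 * 5 * 7) ∨ (f ∣ 3 * 5 * 7) := by
      rcases Nat.mod_two_eq_zero_or_one d with h | h
      · exact Or.inr (odd_dvd_of_small hn P h3 hf h11.2 (by omega))
      · exact Or.inl (odd_dvd_of_small hn P h3 hd h11.1 (by omega))
    have hdiv := fun o (ho : o ∣ 3 * 5 * 7) => divisors_105 ho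
    have key : (d = 21 ∧ f = 20) ∨ (d = 34 ∧ f = 35) := by
      rcases hodd with h | h <;> have h' := hdiv _ h <;>
        simp only [Finset.mem_insert, Finset.mem_singleton] at h' <;> omega
    have hpd : ∀ q, q.Prime → q ∣ d ∨ q ∣ f → 5 ≤ q → q ≠ 11 → q ∣ Nat.card ↥(Nz P) := by
      intro q hq hqd hq5 hq11
      have h : q ∣ Nat.card G := hqd.elim (fun h => h.trans hd) (fun h => h.trans hf)
      rw [card_normalizer hn P, show (22 : ℕ) = 2 * 11 from rfl] at h
      rcases hq.dvd_mul.mp h with h' | h'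
      · rcases hq.dvd_mul.mp h' with h'' | h''
        · have := Nat.le_of_dvd two_pos h''
          omega
        · exact absurd ((Nat.prime_dvd_prime_iff_eq hq (by norm_num)).mp h'') hq11
      · exact h'
    rcases key with ⟨hd21, hf20⟩ | ⟨hd34, hf35⟩
    · exact not_five_and_seven hn P h3
        (hpd 5 (by norm_num) (Or.inr (by rw [hf20]; norm_num)) le_rfl (by norm_num))
        (hpd 7 (by norm_num) (Or.inl (by rw [hd21]; norm_num)) (by norm_num) (by norm_num))
    · have := (prime_of_stabilizer hn P (by norm_num : Nat.Prime 17)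
        (hpd 17 (by norm_num) (Or.inl (by rw [hd34]; norm_num)) (by norm_num) (by norm_num))
        (by norm_num)).2
      omega
  · have hs := fun {e : ℕ} (he : e ∣ Nat.card G) (h : ¬ 11 ∣ e) => degrees_of_large hn P h3 he h
    rcases hcong with ⟨h, h'⟩ | ⟨h, h'⟩
    · have := consecutive_smooth (n := d) (by omega) (hs hd h11.1) (h ▸ hs hf h11.2)
      omega
    · have := consecutive_smooth (n := f) (by omega) (hs hf h11.2) (h ▸ hs hd h11.1)
      omega

end Cfsg.Agent.Lib.PGroups.TwentyTwo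

namespace Cfsg.Agent.Lib.PGroups

universe u

/-- No finite group has exactly 22 Sylow 3-subgroups. -/
theorem card_sylow_three_ne_twentytwo (G : Type u) [Group G] [Finite G] :
    Nat.card (Sylow 3 G) ≠ 22 := by
  haveI : Fact (Nat.Prime 3) := ⟨by norm_num⟩
  have key := sylow_number_induction.{u} 3 (fun _ _ => True) (fun _ _ _ _ h => h)
    (fun _ _ _ _ _ h => h) (fun n => n % 3 = 1 ∧ n ≠ 22) (by norm_num)
    (fun a b ha hb => ⟨by rw [Nat.mul_mod, ha.1, hb.1], fun h => by
      have hd : a ∈ Nat.divisors 22 := Nat.mem_divisors.mpr ⟨Dvd.intro b h, by norm_num⟩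
      have hd' : a = 1 ∨ a = 2 ∨ a = 11 ∨ a = 22 := by
        revert hd
        have : Nat.divisors 22 = {1, 2, 11, 22} := by decide +kernel
        rw [this]
        simp
      rcases hd' with rfl | rfl | rfl | rfl
      · exact hb.2 (by omega)
      all_goals omega⟩)
    (fun H _ _ _ _ => ⟨SylowCounting.sylow_count_mod 3, fun h => by
      haveI := Fintype.ofFinite (Sylow 3 H)
      exact TwentyTwo.false_of_simple h⟩)
    (fun n hn0 hq => by
      have hmod : n % 3 = 1 := by
        rw [← Nat.prod_factorization_pow_eq_self hn0, Finsupp.prod, Finset.prod_nat_mod,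
          Finset.prod_congr rfl fun q hqs => (hq q (Nat.prime_of_mem_primeFactors
            (Nat.support_factorization n ▸ hqs))), Finset.prod_const]
        simp
      refine ⟨hmod, ?_⟩
      rintro rfl
      have h := hq 2 Nat.prime_two
      rw [show (22 : ℕ) = 2 * 11 from rfl, Nat.factorization_mul (by norm_num) (by norm_num),
        Finsupp.add_apply, Nat.prime_two.factorization_self,
        Nat.factorization_eq_zero_of_not_dvd (show ¬ 2 ∣ 11 by norm_num)] at h
      exact absurd h (by decide))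
    G trivial
  exact key.2

end Cfsg.Agent.Lib.PGroups
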