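import Mathlib

/-!
The spectrum of a matrix of finite order preserving an alternating form, all of whose proper powers
are fixed-point-free.
-/

set_option autoImplicit false

namespace Cfsg.Agent.Lib.PGroups.SympSpectrum

open Polynomial Matrix

theorem card_sup_dvd_sum {A : Type*} [CommGroup A] [Fintype A] (K : Subgroup A) (c : A → ℕ)
    (hc : ∀ k ∈ K, ∀ e, c (e * k) = c e) : Nat.card K ∣ ∑ e, c e := by
  classical
  haveI := Fintype.ofFinite (A ⧸ K)
  rw [← Finset.sum_fiberwise Finset.univ (QuotientGroup.mk : A → A ⧸ K) c]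
  refine Finset.dvd_sum fun q _ => ?_
  obtain ⟨e, rfl⟩ := QuotientGroup.mk_surjective q
  rw [Finset.sum_congr rfl (g := fun _ => c e) fun x hx => ?_]
  · rw [Finset.sum_const, smul_eq_mul]
    refine Dvd.dvd.mul_right (dvd_of_eq ?_) _
    rw [Nat.card_eq_fintype_card, ← Finset.card_univ]
    refine Finset.card_bij (fun k _ => e * (k : A)) (fun k _ => ?_) (fun a _ b _ h => ?_) fun x hx => ?_
    · simp [QuotientGroup.eq]
    · exact Subtype.ext (mul_left_cancel h)
    · simp only [Finset.mem_filter, Finset.mem_univ, true_and] at hx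
      exact ⟨⟨e⁻¹ * x, QuotientGroup.eq.mp hx.symm⟩, Finset.mem_univ _, by simp⟩
  · simp only [Finset.mem_filter, Finset.mem_univ, true_and] at hx
    have := hc _ (QuotientGroup.eq.mp hx.symm) e
    rwa [mul_inv_cancel_left] at this

theorem dvd_of_card_sup {h p m : ℕ} (hh : 2 < h) (u : (ZMod h)ˣ) (hu : (u : ZMod h) = p)
    (hK : Nat.card ↥(Subgroup.zpowers u ⊔ Subgroup.zpowers (-1)) ∣ 2 * m) :
    h ∣ p ^ m + 1 ∨ h ∣ p ^ m - 1 := by
  haveI : Fact (1 < h) := ⟨by omega⟩
  have hcast : ∀ i : ℕ, ((u ^ i : (ZMod h)ˣ) : ZMod h) = ((p ^ i : ℕ) : ZMod h) := fun i => by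
    rw [Units.val_pow_eq_pow_val, hu, Nat.cast_pow]
  have hone : u ^ m = 1 → h ∣ p ^ m - 1 := fun e => by
    rcases Nat.eq_zero_or_pos (p ^ m) with hz | hp
    · rw [hz, Nat.zero_sub]; exact dvd_zero h
    rw [← ZMod.natCast_eq_zero_iff, Nat.cast_sub hp, ← hcast, e, Units.val_one, Nat.cast_one, sub_self]
  have hneg : u ^ m = -1 → h ∣ p ^ m + 1 := fun e => by
    rw [← ZMod.natCast_eq_zero_iff, Nat.cast_add, ← hcast, e, Units.val_neg, Units.val_one,
      Nat.cast_one, neg_add_cancel]
  set d := orderOf u with hd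
  have hd0 : 0 < d := orderOf_pos u
  by_cases hdm : d ∣ m
  · exact Or.inr (hone (orderOf_dvd_iff_pow_eq_one.mp hdm))
  left
  have hne : (-1 : (ZMod h)ˣ) ≠ 1 := fun e => by
    have h2 : ((2 : ℕ) : ZMod h) = 0 := by
      have e' := congrArg (fun v : (ZMod h)ˣ => (v : ZMod h)) e
      simp only [Units.val_neg, Units.val_one] at e'
      rw [Nat.cast_two, ← one_add_one_eq_two]
      nth_rw 1 [← e']
      rw [neg_add_cancel]
    rw [ZMod.natCast_eq_zero_iff] at h2
    exact absurd (Nat.le_of_dvd two_pos h2) (by omega)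
  have hd2 : d ∣ 2 * m := by
    refine dvd_trans ?_ hK
    rw [hd, ← Nat.card_zpowers]
    exact Subgroup.card_dvd_of_le le_sup_left
  have hneg1 : (-1 : (ZMod h)ˣ) ∈ Subgroup.zpowers u := by
    by_contra hn
    apply hdm
    have hdisj : Subgroup.zpowers u ⊓ Subgroup.zpowers (-1 : (ZMod h)ˣ) = ⊥ := by
      rw [eq_bot_iff]
      intro x hx
      obtain ⟨i, hi⟩ := Subgroup.mem_zpowers_iff.mp hx.2
      rcases Int.even_or_odd i with he | ho
      · rw [he.neg_one_zpow] at hi; rw [← hi]; exact one_mem _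
      · rw [ho.neg_one_zpow] at hi; exact absurd (hi ▸ hx.1) hn
    have hord : orderOf (-1 : (ZMod h)ˣ) = 2 := orderOf_eq_prime neg_one_sq hne
    have hrel : (Subgroup.zpowers u).relIndex (Subgroup.zpowers u ⊔ Subgroup.zpowers (-1)) = 2 := by
      rw [sup_comm, Subgroup.relIndex_sup_right, ← Subgroup.inf_relIndex_right, hdisj,
        Subgroup.relIndex_bot_left, Nat.card_zpowers, hord]
    have hcard := Subgroup.card_mul_index ((Subgroup.zpowers u).subgroupOf (Subgroup.zpowers u ⊔ Subgroup.zpowers (-1)))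
    rw [Nat.card_congr (Subgroup.subgroupOfEquivOfLe le_sup_left).toEquiv, Nat.card_zpowers,
      ← Subgroup.relIndex, hrel] at hcard
    rw [← hcard, mul_comm 2 m] at hK
    exact Nat.dvd_of_mul_dvd_mul_right two_pos hK
  obtain ⟨i, hi⟩ := (mem_powers_iff_mem_zpowers).mpr hneg1
  apply hneg
  -- `m` is an odd multiple of half of `d`
  obtain ⟨k, hk⟩ := hd2
  have h2d : d ∣ 2 * i := by
    rw [hd, orderOf_dvd_iff_pow_eq_one, mul_comm, pow_mul]
    show (u ^ i) ^ 2 = 1
    rw [show u ^ i = -1 from hi, neg_one_sq]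
  obtain ⟨l, hl⟩ := h2d
  have hkodd : Odd k := by
    rcases Nat.even_or_odd k with ⟨j, hj⟩ | h
    · exact absurd ⟨j, by subst hj; linarith⟩ hdm
    · exact h
  have hlodd : Odd l := by
    rcases Nat.even_or_odd l with ⟨j, hj⟩ | h
    · exfalso
      refine hne ?_
      rw [← show u ^ i = -1 from hi, ← orderOf_dvd_iff_pow_eq_one]
      exact ⟨j, by subst hj; linarith⟩
    · exact h
  obtain ⟨a, ha⟩ := hkodd
  obtain ⟨b, hb⟩ := hlodd
  have e : m + d * b = i + d * a := by subst ha hb; linarith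
  have := congrArg (u ^ ·) e
  simp only [pow_add, pow_mul, hd, pow_orderOf_eq_one, one_pow, mul_one] at this
  rw [this]
  exact hi

variable {p : ℕ} [hp : Fact p.Prime] {ι : Type*} [Fintype ι] [DecidableEq ι]

theorem dvd_pow_pm {m : ℕ} (hι : Fintype.card ι = 2 * m) (J M : Matrix ι ι (ZMod p))
    (hJ : IsUnit J.det) (hform : Mᵀ * J * M = J) {h : ℕ} (hph : ¬ p ∣ h) (hh : 0 < h)
    (hM : M ^ h = 1) (hfix : ∀ j, 0 < j → j < h → (M ^ j - 1).det ≠ 0) :
    h ∣ p ^ m + 1 ∨ h ∣ p ^ m - 1 := by
  rcases (show h = 1 ∨ h = 2 ∨ 2 < h by omega) with rfl | rfl | h2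
  · left; exact one_dvd _
  · left
    have : p % 2 = 1 := hp.out.eq_two_or_odd.resolve_left fun e => hph (e ▸ dvd_rfl)
    rw [Nat.dvd_iff_mod_eq_zero, Nat.add_mod, Nat.pow_mod, this, one_pow]
    norm_num
  haveI : NeZero h := ⟨by omega⟩
  haveI : NeZero ((h : ZMod p)) := ⟨fun e => hph ((ZMod.natCast_eq_zero_iff h p).mp e)⟩
  let K := AlgebraicClosure (ZMod p)
  haveI : CharP K p := charP_of_injective_algebraMap (algebraMap (ZMod p) K).injective p
  haveI : NeZero ((h : K)) := ⟨fun e => hph ((CharP.cast_eq_zero_iff K p h).mp e)⟩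
  let φ : ZMod p →+* K := algebraMap (ZMod p) K
  set f := (M.charpoly).map φ with hf
  have hfM : f = (M.map φ).charpoly := (Matrix.charpoly_map M φ).symm
  have hsplit : f.Splits := IsAlgClosed.splits f
  have hmon : f.Monic := (M.charpoly_monic).map φ
  have hcardroots : f.roots.card = 2 * m := by
    rw [← hsplit.natDegree_eq_card_roots, Polynomial.natDegree_map, M.charpoly_natDegree_eq_dim, hι]
  -- roots are primitive
  have hprim : ∀ x ∈ f.roots, IsPrimitiveRoot x h := by
    intro x hx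
    rw [Polynomial.mem_roots hmon.ne_zero, Polynomial.IsRoot, hfM, Matrix.eval_charpoly,
      ← Matrix.exists_mulVec_eq_zero_iff] at hx
    obtain ⟨v, hv, hMv⟩ := hx
    rw [Matrix.sub_mulVec, sub_eq_zero, Matrix.scalar_apply, Matrix.diagonal_const_mulVec] at hMv
    have hpow : ∀ j : ℕ, (M.map φ) ^ j *ᵥ v = x ^ j • v := by
      intro j
      induction j with
      | zero => simp
      | succ j ih => rw [pow_succ, ← Matrix.mulVec_mulVec, ← hMv, Matrix.mulVec_smul, ih, smul_smul, pow_succ, mul_comm]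
    have hmap : ∀ j : ℕ, (M.map φ) ^ j = (M ^ j).map φ := fun j => (map_pow (φ.mapMatrix) M j).symm
    have h1 : x ^ h = 1 := by
      have e := hpow h
      rw [hmap, hM, Matrix.map_one φ (map_zero φ) (map_one φ), Matrix.one_mulVec] at e
      by_contra hne
      apply hv
      have : (x ^ h - 1) • v = 0 := by rw [sub_smul, one_smul, ← e, sub_self]
      exact (smul_eq_zero.mp this).resolve_left (sub_ne_zero.mpr hne)
    refine IsPrimitiveRoot.mk_of_lt x hh h1 fun j hj0 hjh hj => ?_
    refine hfix j hj0 hjh (φ.injective ?_)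
    rw [map_zero, RingHom.map_det, map_sub, map_one, map_pow, ← Matrix.exists_mulVec_eq_zero_iff]
    refine ⟨v, hv, ?_⟩
    rw [Matrix.sub_mulVec, Matrix.one_mulVec, sub_eq_zero]
    show (M.map φ) ^ j *ᵥ v = v
    rw [hpow, hj, one_smul]
  -- closed under Frobenius
  have hfrob : f.roots.map (fun x => x ^ p) = f.roots := by
    have e : f.map (frobenius K p) = f := by
      rw [hf, Polynomial.map_map]
      congr 1
      ext x
      show φ x ^ p = φ x
      rw [← map_pow, ZMod.pow_card]
    conv_rhs => rw [← e, hsplit.roots_map_of_injective (frobenius_inj K p)]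
    rfl
  -- closed under inversion
  have hinv : f.roots.map (fun x => x⁻¹) = f.roots := by
    set A := M.map φ with hA
    have hAu : IsUnit A := by
      refine (Matrix.isUnit_iff_isUnit_det A).mpr (isUnit_iff_ne_zero.mpr fun e => ?_)
      have := congrArg Matrix.det (show A ^ h = 1 by
        rw [hA, show (M.map φ) ^ h = (M ^ h).map φ from (map_pow (φ.mapMatrix) M h).symm, hM,
          Matrix.map_one φ (map_zero φ) (map_one φ)])
      rw [Matrix.det_pow, e, zero_pow (by omega), Matrix.det_one] at this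
      exact zero_ne_one this
    obtain ⟨A, hAA⟩ := hAu
    have hJu : IsUnit (J.map φ) := by
      rw [Matrix.isUnit_iff_isUnit_det]
      exact (RingHom.map_det φ J).symm ▸ hJ.map φ
    obtain ⟨J', hJJ⟩ := hJu
    -- the transpose is similar to the inverse
    have hsim : (M.map φ).charpoly = ((A⁻¹ : (Matrix ι ι K)ˣ) : Matrix ι ι K).charpoly := by
      have e : (M.map φ)ᵀ * (J' : Matrix ι ι K) * A = J' := by
        rw [hAA, hJJ, hA, ← Matrix.transpose_map, ← Matrix.map_mul, ← Matrix.map_mul, hform]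
      have e2 : (M.map φ)ᵀ = J' * ((A⁻¹ : (Matrix ι ι K)ˣ) : Matrix ι ι K) * ((J'⁻¹ : (Matrix ι ι K)ˣ) : Matrix ι ι K) := by
        conv_rhs => arg 1; arg 1; rw [← e]
        simp [mul_assoc]
      rw [← Matrix.charpoly_transpose, e2]
      rw [Matrix.coe_units_inv J']; exact Matrix.charpoly_units_conj J' _
    have hval : ∀ (B : Matrix ι ι K) (x : K), B.charpoly.eval x = (x • (1 : Matrix ι ι K) - B).det := fun B x => by
      rw [Matrix.eval_charpoly, Matrix.scalar_apply, Matrix.smul_one_eq_diagonal]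
    set g := (f.roots.map fun x => Polynomial.X - Polynomial.C x⁻¹).prod with hg
    have hgm : g.Monic := Polynomial.monic_multiset_prod_of_monic _ _ fun x _ => Polynomial.monic_X_sub_C _
    have hne : ∀ x ∈ f.roots, x ≠ 0 := fun x hx => (hprim x hx).ne_zero (by omega)
    set C₀ := (f.roots.map fun x => x).prod with hC₀
    have hC0 : C₀ ≠ 0 := by
      rw [hC₀, Ne, Multiset.prod_eq_zero_iff]
      simpa using fun h0 => hne 0 h0 rfl
    have hdetA : (A : Matrix ι ι K).det ≠ 0 := ((Matrix.isUnit_iff_isUnit_det _).mp A.isUnit).ne_zero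
    have hN : Multiset.card f.roots = Fintype.card ι := by rw [hcardroots, hι]
    have hAinv : ((A⁻¹ : (Matrix ι ι K)ˣ) : Matrix ι ι K).charpoly * Polynomial.C ((A : Matrix ι ι K).det) = g * Polynomial.C C₀ := by
      apply Polynomial.eq_of_infinite_eval_eq
      refine Set.Infinite.mono (s := {x : K | x ≠ 0}) ?_ (Set.Finite.infinite_compl (Set.finite_singleton 0))
      intro x hx
      simp only [Set.mem_setOf_eq, Polynomial.eval_mul, Polynomial.eval_C, hval, hg,
        Polynomial.eval_multiset_prod, Multiset.map_map, Function.comp_def, Polynomial.eval_sub,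
        Polynomial.eval_X]
      rw [← Matrix.det_mul, sub_mul, smul_mul_assoc, one_mul, Units.inv_mul]
      have e : x • (A : Matrix ι ι K) - 1 = (-x) • (x⁻¹ • (1 : Matrix ι ι K) - A) := by
        rw [smul_sub, smul_smul, neg_mul, mul_inv_cancel₀ hx, neg_smul, neg_smul, one_smul, sub_neg_eq_add,
          neg_add_eq_sub]
      have hfe : ((x⁻¹) • (1 : Matrix ι ι K) - A).det = (f.roots.map fun r => x⁻¹ - r).prod := by
        rw [← hval, hAA, hA, ← hfM]
        conv_lhs => rw [hsplit.eq_prod_roots_of_monic hmon]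
        simp only [Polynomial.eval_multiset_prod, Multiset.map_map, Function.comp_def, Polynomial.eval_sub,
          Polynomial.eval_X, Polynomial.eval_C]
      rw [e, Matrix.det_smul, hfe, ← hN, hC₀, ← Multiset.prod_map_mul, ← Multiset.prod_replicate,
        ← Multiset.map_const', ← Multiset.prod_map_mul]
      refine congrArg Multiset.prod (Multiset.map_congr rfl fun r hr => ?_)
      have := hne r hr
      show -x * (x⁻¹ - r) = (x - r⁻¹) * r
      rw [mul_sub, sub_mul, neg_mul, mul_inv_cancel₀ hx, inv_mul_cancel₀ this]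
      ring
    have hlead := congrArg Polynomial.leadingCoeff hAinv
    rw [Polynomial.leadingCoeff_mul, Polynomial.leadingCoeff_mul, Polynomial.leadingCoeff_C,
      Polynomial.leadingCoeff_C, (Matrix.charpoly_monic _).leadingCoeff, hgm.leadingCoeff, one_mul, one_mul] at hlead
    rw [hlead] at hAinv
    have hfg : f = g := by
      rw [hfM, hsim]
      exact mul_right_cancel₀ (Polynomial.C_ne_zero.mpr hC0) hAinv
    conv_rhs => rw [hfg, hg]
    rw [show (f.roots.map fun x => Polynomial.X - Polynomial.C x⁻¹) =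
      (f.roots.map fun x => x⁻¹).map (fun a => Polynomial.X - Polynomial.C a) by rw [Multiset.map_map]; rfl,
      Polynomial.roots_multiset_prod_X_sub_C]
  obtain ⟨ζ, hζ⟩ : ∃ ζ : K, IsPrimitiveRoot ζ h :=
    HasEnoughRootsOfUnity.exists_primitiveRoot K h
  let ev : (ZMod h)ˣ → K := fun e => ζ ^ (e : ZMod h).val
  have hevinj : Function.Injective ev := fun a b hab =>
    Units.ext (ZMod.val_injective h (hζ.pow_inj (ZMod.val_lt _) (ZMod.val_lt _) hab))
  have hevpow : ∀ (n : ℕ), ζ ^ (n : ZMod h).val = ζ ^ n := fun n => by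
    rw [ZMod.val_natCast, ← pow_eq_pow_mod _ hζ.pow_eq_one]
  have hevmul : ∀ (e : (ZMod h)ˣ) (w : (ZMod h)ˣ) (n : ℕ), (w : ZMod h) = n → ev (e * w) = ev e ^ n := by
    intro e w n hw
    show ζ ^ ((e : ZMod h) * (w : ZMod h)).val = (ζ ^ (e : ZMod h).val) ^ n
    rw [← pow_mul, ← hevpow ((e : ZMod h).val * n), Nat.cast_mul, ZMod.natCast_zmod_val, hw]
  classical
  let c : (ZMod h)ˣ → ℕ := fun e => f.roots.count (ev e)
  have hsum : ∑ e, c e = 2 * m := by
    rw [← hcardroots, ← Finset.sum_image (f := fun x => f.roots.count x) (fun a _ b _ hab => hevinj hab)]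
    refine Multiset.sum_count_eq_card fun x hx => ?_
    obtain ⟨i, hi, rfl⟩ := hζ.eq_pow_of_pow_eq_one (hprim x hx).pow_eq_one
    refine Finset.mem_image.mpr ⟨ZMod.unitOfCoprime i ((hζ.pow_iff_coprime hh i).mp (hprim _ hx)), Finset.mem_univ _, ?_⟩
    show ζ ^ (i : ZMod h).val = ζ ^ i
    exact hevpow i
  have hpcop : Nat.Coprime p h := hp.out.coprime_iff_not_dvd.mpr hph
  let u := ZMod.unitOfCoprime p hpcop
  have hu : (u : ZMod h) = p := ZMod.coe_unitOfCoprime p hpcop
  refine dvd_of_card_sup h2 u hu (hsum ▸ card_sup_dvd_sum _ c ?_)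
  have key : ∀ (g : K → K), Function.Injective g → f.roots.map g = f.roots → ∀ w : (ZMod h)ˣ,
      (∀ e, ev (e * w) = g (ev e)) → ∀ e, c (e * w) = c e := by
    intro g hg hgr w hw e
    show f.roots.count (ev (e * w)) = f.roots.count (ev e)
    rw [hw]
    conv_lhs => rw [← hgr]
    exact Multiset.count_map_eq_count' g _ hg _
  let S : Subgroup (ZMod h)ˣ :=
    { carrier := {w | ∀ e, c (e * w) = c e}
      one_mem' := fun e => by rw [mul_one]
      mul_mem' := fun {a b} ha hb e => by rw [← mul_assoc, hb, ha]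
      inv_mem' := fun {a} ha e => by rw [← ha (e * a⁻¹), inv_mul_cancel_right] }
  have hle : Subgroup.zpowers u ⊔ Subgroup.zpowers (-1) ≤ S := by
    refine sup_le (Subgroup.zpowers_le.mpr ?_) (Subgroup.zpowers_le.mpr ?_)
    · exact key _ (frobenius_inj K p) hfrob u fun e => hevmul e u p hu
    · refine key _ inv_injective hinv (-1) fun e => ?_
      have hne : ev e ≠ 0 := pow_ne_zero _ (hζ.ne_zero (by omega))
      rw [hevmul e (-1) (h - 1) (by
        rw [Nat.cast_sub (by omega), ZMod.natCast_self, Nat.cast_one, Units.val_neg, Units.val_one, zero_sub])]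
      apply eq_inv_of_mul_eq_one_left
      rw [← pow_succ, show h - 1 + 1 = h by omega]
      show (ζ ^ _) ^ h = 1
      rw [← pow_mul, mul_comm, pow_mul, hζ.pow_eq_one, one_pow]
  exact fun k hk e => hle hk e

end Cfsg.Agent.Lib.PGroups.SympSpectrum
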