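import Cfsg.Agent.Lib.Transfer.Tate
import Cfsg.Agent.Lib.Cores.Basic
import Cfsg.Agent.Lib.Classification.CyclicNormalAbelian
import Cfsg.Agent.Lib.Frobenius.UniqueSubgroup
import Mathlib

/-!
Taussky: finite 2-groups whose commutator quotient is a four-group.
-/

set_option autoImplicit false

open scoped commutatorElement

namespace Cfsg.Agent.Lib.PGroups

universe u

variable {S : Type u} [Group S]

theorem commutator_le_zpowers_of_index_two [Finite S] {A : Subgroup S} (hA : A.index = 2) {a b : S}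
    (ha : a ∈ A) (hgen : A ≤ Subgroup.zpowers a ⊔ Subgroup.center S) (hb : b ∉ A) :
    commutator S ≤ Subgroup.zpowers (b * a * b⁻¹ * a⁻¹) := by
  haveI := Subgroup.normal_of_index_eq_two hA
  set c := b * a * b⁻¹ * a⁻¹ with hc
  have hba : b * a * b⁻¹ ∈ A := Subgroup.Normal.conj_mem inferInstance a ha b
  have hcA : c ∈ A := mul_mem hba (inv_mem ha)
  have hAc : A ≤ Subgroup.centralizer ({a} : Set S) := hgen.trans (sup_le
    (Subgroup.zpowers_le.mpr (Subgroup.mem_centralizer_singleton_iff.mpr rfl))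
    (Subgroup.center_le_centralizer _))
  have hAA : ∀ x ∈ A, ∀ y ∈ A, x * y = y * x := by
    intro x hx y hy
    have hA2 : A ≤ Subgroup.centralizer ({x} : Set S) := hgen.trans (sup_le
      (Subgroup.zpowers_le.mpr (Subgroup.mem_centralizer_singleton_iff.mpr
        (Subgroup.mem_centralizer_singleton_iff.mp (hAc hx)).symm))
      (Subgroup.center_le_centralizer _))
    exact (Subgroup.mem_centralizer_singleton_iff.mp (hA2 hy)).symm
  have hb2 : b * b ∈ A := Subgroup.mul_self_mem_of_index_two hA b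
  have hcinv : b * c * b⁻¹ = c⁻¹ := by
    have h1 : b * b * a * (b * b)⁻¹ = a := by rw [hAA _ hb2 _ ha, mul_inv_cancel_right]
    have h2 : b * c * b⁻¹ * c * a = a := by
      calc b * c * b⁻¹ * c * a = b * (c * a) * b⁻¹ * (b * a⁻¹ * b⁻¹) * (b * a * b⁻¹) * a⁻¹ * a *
            ((b * a * b⁻¹)⁻¹ * c * a) := by group
        _ = b * (c * a) * b⁻¹ * ((b * a * b⁻¹)⁻¹ * c * a) := by group
        _ = b * b * a * (b * b)⁻¹ := by rw [hc]; group
        _ = a := h1
    exact eq_inv_of_mul_eq_one_left (mul_eq_right.mp h2)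
  have hAtop : ∀ K : Subgroup S, A ≤ K → b ∈ K → K = ⊤ := by
    intro K hAK hbK
    rw [eq_top_iff]
    intro x _
    by_cases hx : x ∈ A
    · exact hAK hx
    · have hbx : b * x ∈ A := (Subgroup.mul_mem_iff_of_index_two hA).mpr (iff_of_false hb hx)
      have := mul_mem (inv_mem hbK) (hAK hbx)
      rwa [inv_mul_cancel_left] at this
  haveI hCn : (Subgroup.zpowers c).Normal := by
    rw [← Subgroup.normalizer_eq_top_iff]
    refine hAtop _ ?_ ?_
    · intro x hx
      refine Subgroup.centralizer_le_normalizer _ ?_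
      rw [Subgroup.mem_centralizer_iff]
      intro y hy
      exact hAA _ (Subgroup.zpowers_le.mpr hcA hy) _ hx
    · rw [Subgroup.mem_normalizer_iff_map_conj_eq, MonoidHom.map_zpowers]
      show Subgroup.zpowers (b * c * b⁻¹) = _
      rw [hcinv, Subgroup.zpowers_inv]
  let q := QuotientGroup.mk' (Subgroup.zpowers c)
  have hqab : q b * q a = q a * q b := by
    have h : q (b * a * b⁻¹ * a⁻¹) = 1 :=
      (QuotientGroup.eq_one_iff c).mpr (Subgroup.mem_zpowers c)
    rw [map_mul, map_mul, map_mul, map_inv, map_inv, mul_inv_eq_one, mul_inv_eq_iff_eq_mul] at h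
    exact h
  have hqs : Function.Surjective q := QuotientGroup.mk'_surjective _
  have hqa : q a ∈ Subgroup.center (S ⧸ Subgroup.zpowers c) := by
    rw [Subgroup.mem_center_iff]
    intro y
    obtain ⟨x, rfl⟩ := hqs y
    have hK : (Subgroup.centralizer ({q a} : Set _)).comap q = ⊤ := by
      refine hAtop _ (fun x hx => ?_) ?_
      · rw [Subgroup.mem_comap, Subgroup.mem_centralizer_singleton_iff, ← map_mul, ← map_mul,
          hAA x hx a ha]
      · rw [Subgroup.mem_comap, Subgroup.mem_centralizer_singleton_iff]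
        exact hqab
    exact Subgroup.mem_centralizer_singleton_iff.mp (hK.ge (Subgroup.mem_top x))
  have hqA : A ≤ (Subgroup.center (S ⧸ Subgroup.zpowers c)).comap q := by
    refine hgen.trans (sup_le (Subgroup.zpowers_le.mpr hqa) ?_)
    intro z hz
    rw [Subgroup.mem_comap, Subgroup.mem_center_iff]
    intro y
    obtain ⟨x, rfl⟩ := hqs y
    rw [← map_mul, ← map_mul, Subgroup.mem_center_iff.mp hz x]
  have hqb : q b ∈ Subgroup.center (S ⧸ Subgroup.zpowers c) := by
    rw [Subgroup.mem_center_iff]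
    intro y
    obtain ⟨x, rfl⟩ := hqs y
    have hK : (Subgroup.centralizer ({q b} : Set _)).comap q = ⊤ := by
      refine hAtop _ (fun x hx => ?_) ?_
      · rw [Subgroup.mem_comap, Subgroup.mem_centralizer_singleton_iff]
        exact (Subgroup.mem_center_iff.mp (hqA hx) _).symm
      · rw [Subgroup.mem_comap, Subgroup.mem_centralizer_singleton_iff]
    exact Subgroup.mem_centralizer_singleton_iff.mp (hK.ge (Subgroup.mem_top x))
  have htop := hAtop _ hqA hqb
  rw [commutator_def, Subgroup.commutator_le]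
  intro g₁ _ g₂ _
  rw [← QuotientGroup.eq_one_iff, ← QuotientGroup.mk'_apply, map_commutatorElement,
    commutatorElement_eq_one_iff_mul_comm]
  exact (Subgroup.mem_center_iff.mp (htop.ge (Subgroup.mem_top g₁)) (q g₂)).symm

theorem exists_orderOf_half [Finite S] (hS : IsPGroup 2 S) (h8 : 8 ≤ Nat.card S)
    (hidx : (commutator S).index = 4) (hsq : ∀ x : S, x ^ 2 ∈ commutator S) :
    ∃ a : S, 2 * orderOf a = Nat.card S := by
  induction hn : Nat.card S using Nat.strong_induction_on generalizing S with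
  | _ n ih =>
    subst hn
    haveI : Fact (Nat.Prime 2) := ⟨Nat.prime_two⟩
    obtain ⟨e, he⟩ := IsPGroup.iff_card.mp hS
    have hbot : commutator S ≠ ⊥ := by
      intro h
      rw [h, Subgroup.index_bot] at hidx
      omega
    by_cases h16 : Nat.card S = 8
    · obtain ⟨x, hx⟩ : ∃ x : S, x ^ 2 ≠ 1 := by
        by_contra! hall
        apply hbot
        rw [eq_bot_iff, commutator_def, Subgroup.commutator_le]
        intro g _ h _
        rw [Subgroup.mem_bot, commutatorElement_eq_one_iff_mul_comm]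
        have hi : ∀ y : S, y⁻¹ = y := fun y => inv_eq_of_mul_eq_one_right (by rw [← pow_two]; exact hall y)
        have := hi (g * h)
        rw [mul_inv_rev, hi, hi] at this
        exact this.symm
      obtain ⟨k, hk⟩ := IsPGroup.iff_orderOf.mp hS x
      have hd : orderOf x ∣ 8 := h16 ▸ orderOf_dvd_natCard x
      have hk3 : k ≤ 3 := by
        have := Nat.le_of_dvd (by norm_num) hd
        rw [hk] at this
        exact (Nat.pow_le_pow_iff_right (le_refl 2)).mp (by omega)
      interval_cases k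
      · exact absurd (by rw [show x = 1 from orderOf_eq_one_iff.mp (by simpa using hk)]; simp) hx
      · exact absurd (by rw [← pow_orderOf_eq_one x, hk]; norm_num) hx
      · exact ⟨x, by omega⟩
      · exfalso
        apply hbot
        rw [eq_bot_iff, commutator_def, Subgroup.commutator_le]
        intro g _ h _
        have htop : Subgroup.zpowers x = ⊤ := Subgroup.eq_top_of_card_eq _ (by rw [Nat.card_zpowers]; omega)
        obtain ⟨i, rfl⟩ := Subgroup.mem_zpowers_iff.mp (htop.ge (Subgroup.mem_top g))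
        obtain ⟨j, rfl⟩ := Subgroup.mem_zpowers_iff.mp (htop.ge (Subgroup.mem_top h))
        rw [Subgroup.mem_bot, commutatorElement_eq_one_iff_mul_comm, ← zpow_add, ← zpow_add, add_comm]
    have h16' : 16 ≤ Nat.card S := by
      rw [he] at h8 h16 ⊢
      have h3 : 3 < e := by
        by_contra h
        interval_cases e <;> simp_all
      calc 16 = 2 ^ 4 := by norm_num
        _ ≤ 2 ^ e := Nat.pow_le_pow_right (by norm_num) h3
    obtain ⟨z, hzS, hzc, hz2⟩ := Transfer.exists_central_orderOf_eq hS (commutator S) hbot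
    set Z := Subgroup.zpowers z
    haveI : Z.Normal := ⟨fun y hy g => by
      rw [Subgroup.mem_center_iff.mp (Subgroup.zpowers_le.mpr hzc hy) g, mul_inv_cancel_right]
      exact hy⟩
    have hZle : Z ≤ commutator S := Subgroup.zpowers_le.mpr hzS
    have hZcard : Nat.card Z = 2 := by rw [Nat.card_zpowers, hz2]
    have hQcard : Nat.card S = Nat.card (S ⧸ Z) * 2 := by
      rw [← hZcard]; exact Subgroup.card_eq_card_quotient_mul_card_subgroup Z
    have hcomm : commutator (S ⧸ Z) = (commutator S).map (QuotientGroup.mk' Z) := by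
      rw [commutator_def, commutator_def, Subgroup.map_commutator,
        Subgroup.map_top_of_surjective _ (QuotientGroup.mk'_surjective Z)]
    obtain ⟨y, hy⟩ := ih (Nat.card (S ⧸ Z)) (by omega) (hS.to_quotient Z) (by omega)
      (by rw [hcomm, Subgroup.index_map, QuotientGroup.ker_mk', sup_eq_left.mpr hZle,
            MonoidHom.range_eq_top.mpr (QuotientGroup.mk'_surjective Z), Subgroup.index_top, mul_one,
            hidx])
      (fun y => by
        obtain ⟨x, rfl⟩ := QuotientGroup.mk_surjective y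
        rw [hcomm, ← QuotientGroup.mk_pow]
        exact ⟨_, hsq x, rfl⟩) rfl
    obtain ⟨a, rfl⟩ := QuotientGroup.mk_surjective y
    set N := orderOf (a : S ⧸ Z) with hN
    have hpow : a ^ N ∈ Z := by
      rw [← QuotientGroup.eq_one_iff, QuotientGroup.mk_pow]
      exact pow_orderOf_eq_one _
    have h2N : a ^ (N * 2) = 1 := by
      rw [pow_mul]
      obtain ⟨i, hi⟩ := Subgroup.mem_zpowers_iff.mp hpow
      rw [← hi, ← zpow_natCast, ← zpow_mul, mul_comm, zpow_mul, zpow_natCast, ← hz2,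
        pow_orderOf_eq_one, one_zpow]
    have hdvd : N ∣ orderOf a := orderOf_map_dvd (QuotientGroup.mk' Z) a
    obtain ⟨k, hk⟩ := hdvd
    have hk2 : k ∣ 2 :=
      Nat.dvd_of_mul_dvd_mul_left (orderOf_pos _) (hk ▸ orderOf_dvd_of_pow_eq_one h2N)
    rcases (Nat.dvd_prime Nat.prime_two).mp hk2 with rfl | rfl
    swap
    · exact ⟨a, by rw [hk]; omega⟩
    exfalso
    rw [mul_one] at hk
    have hza : z ∉ Subgroup.zpowers a := by
      intro h
      obtain ⟨j, hj⟩ := Subgroup.mem_zpowers_iff.mp h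
      have h1 : (a : S ⧸ Z) ^ j = 1 := by
        rw [← QuotientGroup.mk_zpow, hj]
        exact (QuotientGroup.eq_one_iff z).mpr (Subgroup.mem_zpowers z)
      have h2 := orderOf_dvd_iff_zpow_eq_one.mpr h1
      rw [show orderOf (a : S ⧸ Z) = orderOf a from hk.symm, orderOf_dvd_iff_zpow_eq_one, hj] at h2
      rw [h2, orderOf_one] at hz2
      omega
    set A := (Subgroup.zpowers (a : S ⧸ Z)).comap (QuotientGroup.mk' Z) with hA
    have haA : a ∈ A := Subgroup.mem_zpowers (a : S ⧸ Z)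
    have hAidx : A.index = 2 := by
      rw [hA, Subgroup.index_comap_of_surjective _ (QuotientGroup.mk'_surjective Z)]
      have h1 := (Subgroup.zpowers (a : S ⧸ Z)).card_mul_index
      rw [Nat.card_zpowers] at h1
      exact Nat.eq_of_mul_eq_mul_left (orderOf_pos (a : S ⧸ Z)) (h1.trans (by omega))
    have hgen : A ≤ Subgroup.zpowers a ⊔ Subgroup.center S := by
      intro x hx
      obtain ⟨i, hi⟩ := Subgroup.mem_zpowers_iff.mp hx
      have : (a ^ i)⁻¹ * x ∈ Z := QuotientGroup.eq.mp hi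
      have h := Subgroup.mul_mem_sup (Subgroup.zpow_mem _ (Subgroup.mem_zpowers a) i)
        (Subgroup.zpowers_le.mpr hzc this)
      rwa [mul_inv_cancel_left] at h
    obtain ⟨b, hb⟩ : ∃ b, b ∉ A := by
      by_contra! h
      rw [show A = ⊤ from eq_top_iff.mpr fun x _ => h x, Subgroup.index_top] at hAidx
      omega
    have hle := commutator_le_zpowers_of_index_two hAidx haA hgen hb
    set c := b * a * b⁻¹ * a⁻¹ with hc
    have hScard : Nat.card (commutator S) = N := by
      have := (commutator S).card_mul_index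
      rw [hidx] at this
      omega
    have hcord : N ≤ orderOf c := by
      rw [← hScard, ← Nat.card_zpowers]
      exact Subgroup.card_le_of_le hle
    obtain ⟨l, hl⟩ := mem_powers_iff_mem_zpowers.mpr (hle hzS)
    have hl' : c ^ l = z := hl
    obtain ⟨w, hw⟩ := IsPGroup.iff_orderOf.mp hS c
    have hl2 : orderOf c ∣ l * 2 := by
      refine orderOf_dvd_of_pow_eq_one ?_
      rw [pow_mul, hl', ← hz2, pow_orderOf_eq_one]
    have hw2 : 2 ≤ w := by
      by_contra h
      interval_cases w <;> omega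
    obtain ⟨v, rfl⟩ : ∃ v, w = v + 2 := ⟨w - 2, by omega⟩
    have hleven : 2 ∣ l := by
      rw [hw, show 2 ^ (v + 2) = 2 * 2 ^ v * 2 by ring] at hl2
      exact (dvd_mul_right 2 _).trans (Nat.dvd_of_mul_dvd_mul_right (by norm_num) hl2)
    obtain ⟨l', rfl⟩ := hleven
    apply hza
    rw [← hl', pow_mul]
    refine Subgroup.pow_mem _ ?_ _
    -- the square of an element of `A` lies in `⟨a⟩`
    have hcA : c ∈ A := mul_mem ((Subgroup.normal_of_index_eq_two hAidx).conj_mem a haA b) (inv_mem haA)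
    obtain ⟨i, hi⟩ := Subgroup.mem_zpowers_iff.mp (show (c : S ⧸ Z) ∈ Subgroup.zpowers (a : S ⧸ Z) from hcA)
    obtain ⟨j, hj⟩ := Subgroup.mem_zpowers_iff.mp
      (show (a ^ i)⁻¹ * c ∈ Subgroup.zpowers z from QuotientGroup.eq.mp hi)
    have hcz : c = a ^ i * z ^ j := by rw [hj, mul_inv_cancel_left]
    have hcm : Commute (a ^ i) (z ^ j) :=
      Subgroup.mem_center_iff.mp (zpow_mem hzc j) (a ^ i)
    rw [hcz, hcm.mul_pow]
    have : (z ^ j) ^ 2 = 1 := by
      rw [← zpow_natCast, ← zpow_mul, mul_comm, zpow_mul, zpow_natCast, ← hz2, pow_orderOf_eq_one,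
        one_zpow]
    rw [this, mul_one]
    exact Subgroup.pow_mem _ (Subgroup.zpow_mem _ (Subgroup.mem_zpowers a) i) 2

/-- **Taussky's theorem**. -/
theorem taussky [Finite S] (hS : IsPGroup 2 S) (h8 : 8 ≤ Nat.card S)
    (hidx : (commutator S).index = 4) (hsq : ∀ x : S, x ^ 2 ∈ commutator S) :
    (∃ k : ℕ, Nonempty (S ≃* DihedralGroup (2 ^ (k + 2)))) ∨
      (∃ k : ℕ, Nat.card S = 2 ^ (k + 4) ∧ ∃ a b : S, orderOf a = 2 ^ (k + 3) ∧ orderOf b = 2 ∧
        b * a * b⁻¹ = a ^ (2 ^ (k + 2) - 1)) ∨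
      (∃ k : ℕ, Nonempty (S ≃* QuaternionGroup (2 ^ (k + 1)))) := by
  haveI : Fact (Nat.Prime 2) := ⟨Nat.prime_two⟩
  obtain ⟨a, ha⟩ := exists_orderOf_half hS h8 hidx hsq
  obtain ⟨m, hm⟩ := IsPGroup.iff_orderOf.mp hS a
  rw [hm] at ha
  have hm2 : 2 ≤ m := by
    by_contra h
    interval_cases m <;> omega
  obtain ⟨n, rfl⟩ : ∃ n, m = n + 2 := ⟨m - 2, by omega⟩
  set H : ℕ := 2 ^ (n + 1) with hH
  have hN : orderOf a = 2 * H := by rw [hm, hH]; ring
  have hHpos : 0 < H := Nat.two_pow_pos _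
  have hHeven : H % 2 = 0 := by rw [hH, pow_succ]; omega
  have hcard : Nat.card S = 4 * H := by rw [← ha, hH]; ring
  set A := Subgroup.zpowers a
  have hAidx : A.index = 2 := by
    have h := A.card_mul_index
    rw [Nat.card_zpowers, hN, hcard] at h
    exact Nat.eq_of_mul_eq_mul_left (by omega : 0 < 2 * H) (by omega)
  obtain ⟨b, hb⟩ : ∃ b, b ∉ A := by
    by_contra! h
    rw [show A = ⊤ from eq_top_iff.mpr fun x _ => h x, Subgroup.index_top] at hAidx
    omega
  haveI := Subgroup.normal_of_index_eq_two hAidx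
  obtain ⟨r, hr⟩ := Subgroup.mem_zpowers_iff.mp
    ((inferInstance : A.Normal).conj_mem a (Subgroup.mem_zpowers a) b)
  obtain ⟨s, hs⟩ := Subgroup.mem_zpowers_iff.mp (Subgroup.mul_self_mem_of_index_two hAidx b)
  have hconj : ∀ i : ℤ, b * a ^ i * b⁻¹ = a ^ (r * i) := fun i => by
    rw [← conj_zpow, ← hr, ← zpow_mul]
  have hle := commutator_le_zpowers_of_index_two hAidx (Subgroup.mem_zpowers a) le_sup_left hb
  have hcz : b * a * b⁻¹ * a⁻¹ = a ^ (r - 1) := by rw [← hr, zpow_sub_one]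
  rw [hcz] at hle
  have hScard : Nat.card (commutator S) = H := by
    have := (commutator S).card_mul_index
    rw [hidx, hcard] at this
    omega
  have hdvd : ∀ i : ℤ, a ^ i = 1 ↔ ((2 * H : ℕ) : ℤ) ∣ i := fun i => by
    rw [← hN, orderOf_dvd_iff_zpow_eq_one]
  have h4 : ¬ (4 : ℤ) ∣ r - 1 := by
    rintro ⟨d, hd⟩
    have h1 : (a ^ (r - 1)) ^ (H / 2) = 1 := by
      rw [← zpow_natCast, ← zpow_mul, hdvd, hd]
      refine ⟨d, ?_⟩
      have : ((H / 2 : ℕ) : ℤ) * 2 = H := by exact_mod_cast Nat.div_mul_cancel (by omega : 2 ∣ H)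
      push_cast at this ⊢
      linear_combination 2 * d * this
    have h2 := Nat.le_of_dvd (by omega) (orderOf_dvd_of_pow_eq_one h1)
    have h3 := Subgroup.card_le_of_le hle
    rw [Nat.card_zpowers, hScard] at h3
    omega
  have hb2 : b * b * a * (b * b)⁻¹ = a := by
    rw [← hs, ← (Commute.self_zpow a s).eq, mul_inv_cancel_right]
  have hrr : ((2 * H : ℕ) : ℤ) ∣ r * r - 1 := by
    rw [← hdvd, zpow_sub_one, ← hconj r, hr]
    calc b * (b * a * b⁻¹) * b⁻¹ * a⁻¹ = b * b * a * (b * b)⁻¹ * a⁻¹ := by group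
      _ = 1 := by rw [hb2, mul_inv_cancel]
  have hodd : r % 2 = 1 := by
    by_contra h
    have h' : (2 : ℤ) ∣ r := by omega
    have h1 : (2 : ℤ) ∣ r * r - 1 := (dvd_mul_right (2 : ℤ) H).trans (by exact_mod_cast hrr)
    have h2 : (2 : ℤ) ∣ r * r := Dvd.dvd.mul_right h' r
    omega
  obtain ⟨u, hu⟩ : ∃ u : ℤ, r - 1 = 2 * u := ⟨(r - 1) / 2, by omega⟩
  have huodd : ¬ (2 : ℤ) ∣ u := fun ⟨d, hd⟩ => h4 ⟨d, by omega⟩
  have hcop : IsCoprime ((H : ℕ) : ℤ) u := by
    rw [hH, Nat.cast_pow, Nat.cast_ofNat]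
    exact (Int.prime_two.coprime_iff_not_dvd.mpr huodd).pow_left
  have hcancel : ∀ i : ℤ, ((2 * H : ℕ) : ℤ) ∣ i * (r - 1) → (H : ℤ) ∣ i := by
    intro i hi
    rw [hu] at hi
    push_cast at hi
    refine hcop.dvd_of_dvd_mul_right ((mul_dvd_mul_iff_left (two_ne_zero)).mp (?_ : (2 : ℤ) * H ∣ 2 * (i * u)))
    rwa [show (2 : ℤ) * (i * u) = i * (2 * u) by ring]
  obtain ⟨t, ht⟩ : (H : ℤ) ∣ r + 1 := hcancel _ (by rwa [show (r + 1) * (r - 1) = r * r - 1 by ring])
  obtain ⟨w, hw⟩ : (H : ℤ) ∣ s := by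
    refine hcancel _ ?_
    rw [← hdvd, show s * (r - 1) = r * s - s by ring, zpow_sub, ← hconj, hs]
    group
  have hzH : (a ^ (H : ℤ)) * a ^ (H : ℤ) = 1 := by
    rw [← zpow_add, hdvd]
    exact ⟨1, by push_cast; ring⟩
  have hmodH : ∀ i : ℤ, a ^ (i * H) = if (2 : ℤ) ∣ i then 1 else a ^ (H : ℤ) := by
    intro i
    split
    · next h =>
      obtain ⟨d, rfl⟩ := h
      rw [hdvd]
      exact ⟨d, by push_cast; ring⟩
    · next h =>
      obtain ⟨d, rfl⟩ : ∃ d, i = 2 * d + 1 := ⟨i / 2, by omega⟩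
      rw [add_mul, one_mul, zpow_add, (hdvd (2 * d * H)).mpr ⟨d, by push_cast; ring⟩, one_mul]
  have hbsq : b ^ 2 = 1 ∨ b ^ 2 = a ^ (H : ℤ) := by
    rw [pow_two, ← hs, hw, mul_comm, hmodH]
    split
    · exact Or.inl rfl
    · exact Or.inr rfl
  haveI : NeZero H := ⟨hHpos.ne'⟩
  haveI : NeZero (2 * H) := ⟨by omega⟩
  by_cases hteven : (2 : ℤ) ∣ t
  · have hinv : b * a * b⁻¹ = a⁻¹ := by
      rw [← hr, show r = t * H - 1 by linarith, zpow_sub_one, hmodH, if_pos hteven, one_mul]
    rcases hbsq with h | h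
    · obtain ⟨e⟩ := Classification.mulEquiv_dihedralGroup_of_generators hN hinv h hb (by omega)
      exact Or.inl ⟨n, by rw [show 2 ^ (n + 2) = 2 * H by rw [hH]; ring]; exact ⟨e⟩⟩
    · rw [zpow_natCast] at h
      obtain ⟨e⟩ := Frobenius.mulEquiv_quaternionGroup_of_generators hN hinv h hb hcard
      exact Or.inr (Or.inr ⟨n, ⟨e⟩⟩)
  · refine Or.inr (Or.inl ?_)
    obtain ⟨k, rfl⟩ : ∃ k, n = k + 1 := by
      refine Nat.exists_eq_succ_of_ne_zero fun h0 => ?_
      subst h0
      rw [hH] at ht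
      norm_num at ht
      omega
    refine ⟨k, by rw [hcard, hH]; ring, ?_⟩
    have hsd : b * a * b⁻¹ = a ^ (2 ^ (k + 2) - 1) := by
      rw [← hr, show r = t * H - 1 by linarith, zpow_sub_one, hmodH, if_neg hteven,
        ← zpow_sub_one, ← zpow_natCast, Nat.cast_sub (Nat.one_le_two_pow)]
      rw [hH, Nat.cast_one]
    have hne : ∀ g : S, g ∉ A → g ≠ 1 := fun g hg h => hg (h ▸ one_mem _)
    rcases hbsq with h | h
    · exact ⟨a, b, by rw [hm], orderOf_eq_prime h (hne b hb), hsd⟩
    · have hab : a * b ∉ A := fun h' => hb ((Subgroup.mul_mem_cancel_left A (Subgroup.mem_zpowers a)).mp h')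
      refine ⟨a, a * b, by rw [hm], orderOf_eq_prime ?_ (hne _ hab), ?_⟩
      · calc (a * b) ^ 2 = a * (b * a * b⁻¹) * b ^ 2 := by simp only [pow_two]; group
          _ = a * (a ^ (H : ℤ) * a⁻¹) * a ^ (H : ℤ) := by
            rw [h, ← hr, show r = t * H - 1 by linarith, zpow_sub_one, hmodH, if_neg hteven]
          _ = a ^ (H : ℤ) * a ^ (H : ℤ) := by
            rw [← mul_assoc a, (Commute.self_zpow a (H : ℤ)).eq, mul_inv_cancel_right]
          _ = 1 := hzH
      · calc a * b * a * (a * b)⁻¹ = a * (b * a * b⁻¹) * a⁻¹ := by group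
          _ = _ := by rw [hsd, (Commute.self_pow a _).eq, mul_inv_cancel_right]

end Cfsg.Agent.Lib.PGroups
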