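import Cfsg.Agent.Lib.KnownA.SylowTwo
import Mathlib

/-!
Permutations of 2-power order lying in exactly one Sylow 2-subgroup of the symmetric group.
-/

set_option autoImplicit false
set_option linter.style.haveILetI false
set_option linter.unusedSectionVars false

namespace Cfsg.Agent.Lib.PGroups.UniqueSylowPerm

open Equiv Cfsg.Agent.Lib.KnownA.SylowTwo

variable {α : Type*} [Finite α]

/-- The period of a point. -/
noncomputable def per (x : Perm α) (a : α) : ℕ := Function.minimalPeriod (⇑x) a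

theorem pow_apply_iff (x : Perm α) (a : α) (n : ℕ) : (x ^ n) a = a ↔ per x a ∣ n := by
  rw [Perm.coe_pow]
  exact Function.isPeriodicPt_iff_minimalPeriod_dvd

theorem pow_apply_mod (x : Perm α) (a : α) (n : ℕ) : (x ^ (n % per x a)) a = (x ^ n) a := by
  rw [Perm.coe_pow, Perm.coe_pow]
  exact Function.iterate_mod_minimalPeriod_eq

theorem per_pow_two {x : Perm α} {k : ℕ} (hx : orderOf x = 2 ^ k) (a : α) : ∃ i, per x a = 2 ^ i := by
  obtain ⟨i, -, hi⟩ := (Nat.dvd_prime_pow Nat.prime_two).mp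
    ((pow_apply_iff x a (2 ^ k)).mp (by rw [← hx, pow_orderOf_eq_one]; rfl))
  exact ⟨i, hi⟩

theorem per_succ {x : Perm α} {k : ℕ} (hx : orderOf x = 2 ^ k) {a : α} (ha : x a ≠ a) :
    ∃ i, per x a = 2 ^ (i + 1) := by
  obtain ⟨i, hi⟩ := per_pow_two hx a
  rcases i with _ | i
  · exact absurd ((pow_apply_iff x a 1).mpr (by rw [hi, pow_zero])) (by simpa using ha)
  · exact ⟨i, hi⟩

/-- The middle of a cycle of 2-power length. -/
theorem half {x : Perm α} {a : α} {i j : ℕ} (hL : per x a = 2 ^ (i + 1)) (h2 : per x a ∣ 2 * j)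
    (h1 : ¬ per x a ∣ j) : (x ^ j) a = (x ^ 2 ^ i) a := by
  rw [hL, pow_succ'] at h2 h1
  obtain ⟨c, rfl⟩ := Nat.dvd_of_mul_dvd_mul_left two_pos h2
  have hc : c % 2 = 1 := by
    rcases Nat.mod_two_eq_zero_or_one c with h | h
    · exact absurd (by
        rw [mul_comm 2 (2 ^ i)]; exact Nat.mul_dvd_mul_left _ (Nat.dvd_of_mod_eq_zero h)) h1
    · exact h
  rw [← pow_apply_mod, hL, pow_succ, Nat.mul_mod_mul_left, hc, mul_one]

/-- At most two fixed points and at most one cycle of each length. -/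
def Good (x : Perm α) : Prop :=
  (∀ a b c, x a = a → x b = b → x c = c → a = b ∨ a = c ∨ b = c) ∧
  ∀ a b, x a ≠ a → x b ≠ b → per x a = per x b → ∃ j : ℕ, (x ^ j) a = b

theorem pairing_apply {x σ : Perm α} (hg : Good x) (hσ : ∀ z, σ (σ z) = z)
    (hfix : ∀ y z, σ y = y → σ z = z → y = z) (hc : ∀ z, x (σ z) = σ (x z)) {a : α} (ha : x a ≠ a)
    {i : ℕ} (hL : per x a = 2 ^ (i + 1)) : σ a = (x ^ 2 ^ i) a := by
  have hcn : ∀ n z, (x ^ n) (σ z) = σ ((x ^ n) z) := by
    intro n
    induction n with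
    | zero => simp
    | succ n ih => intro z; rw [pow_succ, Perm.mul_apply, hc, ih]; rfl
  have hper : per x (σ a) = per x a := by
    apply Nat.dvd_antisymm
    · rw [← pow_apply_iff, hcn, (pow_apply_iff x a _).mpr dvd_rfl]
    · rw [← pow_apply_iff]
      exact σ.injective (by rw [← hcn, (pow_apply_iff x (σ a) _).mpr dvd_rfl])
  have hσa : x (σ a) ≠ σ a := fun h => ha (σ.injective (by rw [← hc, h]))
  obtain ⟨j, hj⟩ := hg.2 a (σ a) ha hσa hper.symm
  rw [← hj]
  refine half hL ?_ fun h => ?_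
  · rw [← pow_apply_iff, two_mul, pow_add, Perm.mul_apply, hj, hcn, hj, hσ]
  · have e : σ a = a := by rw [← hj]; exact (pow_apply_iff x a j).mpr h
    have e' : σ (x a) = x a := by rw [← hc, e]
    exact ha (hfix _ _ e' e)

theorem pairing_unique {x σ σ' : Perm α} {k : ℕ} (hx : orderOf x = 2 ^ k) (hg : Good x)
    (hσ : ∀ z, σ (σ z) = z) (hfix : ∀ y z, σ y = y → σ z = z → y = z) (hc : ∀ z, x (σ z) = σ (x z))
    (hσ' : ∀ z, σ' (σ' z) = z) (hfix' : ∀ y z, σ' y = y → σ' z = z → y = z)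
    (hc' : ∀ z, x (σ' z) = σ' (x z)) : σ = σ' := by
  refine Equiv.ext fun a => ?_
  by_cases ha : x a = a
  · by_contra hne
    have h1 : x (σ a) = σ a := by rw [hc, ha]
    have h2 : x (σ' a) = σ' a := by rw [hc', ha]
    have key : ∀ τ : Perm α, ∀ τ' : Perm α, (∀ y z, τ y = y → τ z = z → y = z) →
        (∀ z, x (τ z) = τ (x z)) → x (τ' a) = τ' a → τ a = a → τ' a ≠ a → False := by
      intro τ τ' hf hct hx' he hne'
      have hb : τ (τ' a) ≠ τ' a := fun h => hne' (hf _ _ h he)
      rcases hg.1 a (τ' a) (τ (τ' a)) ha hx' (by rw [hct, hx']) with h | h | h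
      · exact hne' h.symm
      · exact hne' (τ.injective (h.symm.trans he.symm))
      · exact hb h.symm
    rcases hg.1 a (σ a) (σ' a) ha h1 h2 with h | h | h
    · exact key σ σ' hfix hc h2 h.symm fun e => hne (h.symm.trans e.symm)
    · exact key σ' σ hfix' hc' h1 h.symm fun e => hne (e.trans h)
    · exact hne h
  · obtain ⟨i, hi⟩ := per_succ hx ha
    rw [pairing_apply hg hσ hfix hc ha hi, pairing_apply hg hσ' hfix' hc' ha hi]

theorem per_congr {β : Type*} [Finite β] (e : α ≃ β) (x : Perm α) (a : α) :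
    per (e.permCongr x) (e a) = per x a := by
  have h : ∀ n : ℕ, ((e.permCongr x) ^ n) (e a) = e ((x ^ n) a) := by
    intro n
    induction n with
    | zero => simp
    | succ n ih => rw [pow_succ', Perm.mul_apply, ih, pow_succ', Perm.mul_apply]; simp
  apply Nat.dvd_antisymm
  · rw [← pow_apply_iff, h, (pow_apply_iff x a _).mpr dvd_rfl]
  · rw [← pow_apply_iff]
    exact e.injective (by rw [← h, (pow_apply_iff _ (e a) _).mpr dvd_rfl])

theorem Good.congr {β : Type*} [Finite β] {x : Perm β} (e : α ≃ β) (y : Perm α)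
    (hy : e.permCongr y = x) (hg : Good x) : Good y := by
  subst hy
  have hf : ∀ a, y a = a → e.permCongr y (e a) = e a := fun a h => by simp [h]
  have hm : ∀ a, y a ≠ a → e.permCongr y (e a) ≠ e a := fun a h h' => h (by simpa using h')
  refine ⟨fun a b c ha hb hc => ?_, fun a b ha hb hab => ?_⟩
  · simpa using hg.1 (e a) (e b) (e c) (hf a ha) (hf b hb) (hf c hc)
  · obtain ⟨j, hj⟩ := hg.2 (e a) (e b) (hm a ha) (hm b hb) (by rw [per_congr, per_congr, hab])
    refine ⟨j, e.injective ?_⟩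
    rw [← hj]
    have : (e.permCongr y) ^ j = e.permCongr (y ^ j) := (map_pow e.permCongrHom y j).symm
    simp [this]

/-- The image on pairs is again good. -/
theorem Good.pairs {m r : ℕ} (hr : r ≤ 1) {x : ↥(wr m r)} {k : ℕ}
    (hx : orderOf (x : Perm (Mdl m r)) = 2 ^ k) (hg : Good (x : Perm (Mdl m r))) :
    Good (toPairs x) := by
  let X : Perm (Mdl m r) := x
  let pt : Fin m → Mdl m r := fun i => Sum.inl (i, false)
  have hc : ∀ z, X (flipM m r z) = flipM m r (X z) := mem_wr.mp x.2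
  have hflip : ∀ i, flipM m r (pt i) = Sum.inl (i, true) := fun i => flipM_inl i false
  have hiff : ∀ n i, ((toPairs x) ^ n) i = i ↔ ((X ^ n) (pt i) = pt i ∨ (X ^ n) (pt i) = flipM m r (pt i)) := by
    intro n i
    rw [← map_pow]
    obtain ⟨b, hb⟩ := qf_spec (x ^ n).2 i false
    have e : (X ^ n) (pt i) = Sum.inl (qf ((x ^ n : ↥(wr m r)) : Perm (Mdl m r)) i, b) := hb
    show qf ((x ^ n : ↥(wr m r)) : Perm (Mdl m r)) i = i ↔ _
    rw [e, hflip]
    cases b <;> simp [pt]
  have hdbl : ∀ i, X (pt i) ≠ pt i → ∀ n, ((toPairs x) ^ n) i = i ↔ per X (pt i) ∣ 2 * n := by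
    intro i ha n
    obtain ⟨l, hl⟩ := per_succ hx ha
    have hσ := pairing_apply hg flipM_flipM (flipM_fixed hr) hc ha hl
    rw [hiff, hσ]
    constructor
    · rintro (h | h)
      · exact Dvd.dvd.mul_left ((pow_apply_iff _ _ _).mp h) 2
      · rw [← pow_apply_iff, two_mul, pow_add, Perm.mul_apply, h, ← Perm.mul_apply, ← pow_add,
          add_comm, pow_add, Perm.mul_apply, h, ← Perm.mul_apply, ← pow_add, pow_apply_iff,
          hl, pow_succ, mul_two]
    · intro h
      by_cases h' : per X (pt i) ∣ n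
      · exact Or.inl ((pow_apply_iff _ _ _).mpr h')
      · exact Or.inr (half hl h h')
  have hmoved : ∀ i, (toPairs x) i ≠ i → X (pt i) ≠ pt i := fun i h h' => h (by
    simpa using (hiff 1 i).mpr (Or.inl (by simpa using h')))
  have hper : ∀ i, X (pt i) ≠ pt i → per X (pt i) = 2 * per (toPairs x) i := by
    intro i ha
    obtain ⟨l, hl⟩ := per_succ hx ha
    have h1 := (hdbl i ha _).mp ((pow_apply_iff (toPairs x) i _).mpr dvd_rfl)
    have h2 := (pow_apply_iff (toPairs x) i (2 ^ l)).mp ((hdbl i ha _).mpr (by rw [hl, pow_succ']))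
    refine Nat.dvd_antisymm h1 ?_
    rw [hl, pow_succ']
    exact Nat.mul_dvd_mul_left 2 h2
  refine ⟨fun a b c ha hb hcc => ?_, fun a b ha hb hab => ?_⟩
  · have hmm : ∀ a b, (toPairs x) a = a → (toPairs x) b = b → X (pt a) ≠ pt a → X (pt b) ≠ pt b → a = b := by
      intro a b ha hb ha' hb'
      have e : ∀ c, (toPairs x) c = c → X (pt c) ≠ pt c → per X (pt c) = 2 := by
        intro c hc' hc''
        rw [hper c hc'', show per (toPairs x) c = 1 from
          Nat.dvd_one.mp ((pow_apply_iff _ _ 1).mp (by simpa using hc'))]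
      obtain ⟨j, hj⟩ := hg.2 _ _ ha' hb' ((e a ha ha').trans (e b hb hb').symm)
      rw [← pow_apply_mod, e a ha ha'] at hj
      rcases Nat.mod_two_eq_zero_or_one j with h | h <;> rw [h] at hj
      · simpa [pt] using hj
      · rcases (hiff 1 a).mp (by simpa using ha) with h' | h'
        · exact absurd (by simpa using h') ha'
        · rw [h', hflip] at hj; simp [pt] at hj
    have hff : ∀ a b, X (pt a) = pt a → X (pt b) = pt b → a = b := by
      intro a b ha' hb'
      have ht : X (flipM m r (pt a)) = flipM m r (pt a) := by rw [hc, ha']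
      rcases hg.1 (pt a) (flipM m r (pt a)) (pt b) ha' ht hb' with h | h | h
      · rw [hflip] at h; simp [pt] at h
      · simpa [pt] using h
      · rw [hflip] at h; simp [pt] at h
    by_cases h1 : X (pt a) = pt a <;> by_cases h2 : X (pt b) = pt b <;> by_cases h3 : X (pt c) = pt c
    all_goals first
      | exact Or.inl (hff a b h1 h2)
      | exact Or.inl (hmm a b ha hb h1 h2)
      | exact Or.inr (Or.inl (hff a c h1 h3))
      | exact Or.inr (Or.inl (hmm a c ha hcc h1 h3))
      | exact Or.inr (Or.inr (hff b c h2 h3))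
      | exact Or.inr (Or.inr (hmm b c hb hcc h2 h3))
  · obtain ⟨j, hj⟩ := hg.2 _ _ (hmoved a ha) (hmoved b hb)
      (by rw [hper a (hmoved a ha), hper b (hmoved b hb), hab])
    refine ⟨j, ?_⟩
    rw [← map_pow]
    obtain ⟨b', hb'⟩ := qf_spec (x ^ j).2 a false
    have e : (X ^ j) (pt a) = Sum.inl (qf ((x ^ j : ↥(wr m r)) : Perm (Mdl m r)) a, b') := hb'
    rw [e] at hj
    have := Sum.inl.inj hj
    exact congrArg Prod.fst this

/-- A good 2-element lies in at most one Sylow 2-subgroup. -/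
theorem sylow_unique : ∀ (n : ℕ) (x : Perm (Fin n)), Good x → ∀ T T' : Sylow 2 (Perm (Fin n)),
    x ∈ T → x ∈ T' → T = T' := by
  intro n
  induction n using Nat.strong_induction_on with
  | _ n ih =>
    intro x hg T T' hxT hxT'
    rcases Nat.eq_zero_or_pos n with rfl | hn
    · exact Sylow.ext (Subgroup.ext fun z => by
        rw [Subsingleton.elim z 1]; exact iff_of_true (one_mem _) (one_mem _))
    obtain ⟨k, hk⟩ : ∃ k, orderOf x = 2 ^ k := by
      obtain ⟨k, hk⟩ := T.2 ⟨x, hxT⟩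
      exact (Nat.dvd_prime_pow Nat.prime_two).mp
        (orderOf_dvd_of_pow_eq_one (congrArg Subtype.val hk)) |>.imp fun i h => h.2
    obtain ⟨m, r, e, T₀, hr, hmr, hT₀, hiff⟩ := exists_model T
    rw [Nat.card_fin] at hmr
    obtain ⟨σ', hσ', hfix', hcomm', -⟩ := exists_pairing T'
    obtain ⟨x₀, rfl⟩ : ∃ h, e.permCongr h = x := ⟨e.permCongr.symm x, e.permCongr.apply_symm_apply x⟩
    have hxw : x₀ ∈ wr m r := hT₀ ((hiff _).mpr hxT)
    have hord : orderOf x₀ = 2 ^ k := (MulEquiv.orderOf_eq e.permCongrHom x₀).symm.trans hk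
    have hg₀ : Good x₀ := hg.congr e x₀ rfl
    let σ₁ : Perm (Mdl m r) := e.permCongr.symm σ'
    have hσ₁ : ∀ z, σ₁ z = e.symm (σ' (e z)) := fun z => rfl
    have heq : flipM m r = σ₁ := pairing_unique hord hg₀ flipM_flipM (flipM_fixed hr) (mem_wr.mp hxw)
      (fun z => by rw [hσ₁, hσ₁, e.apply_symm_apply, hσ', e.symm_apply_apply])
      (fun y z hy hz => e.injective (hfix' _ _ (by rw [hσ₁, e.symm_apply_eq] at hy; exact hy)
        (by rw [hσ₁, e.symm_apply_eq] at hz; exact hz)))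
      (fun z => by
        apply e.injective
        have := hcomm' _ hxT' (e z)
        simp only [Equiv.permCongr_apply, Equiv.symm_apply_apply] at this
        rw [hσ₁, hσ₁, e.apply_symm_apply, ← this])
    let T₁ : Sylow 2 (Perm (Mdl m r)) := T'.mapSurjective (f := e.symm.permCongrHom.toMonoidHom)
      (show Function.Surjective e.symm.permCongrHom.toMonoidHom from e.symm.permCongrHom.surjective)
    have hiff' : ∀ t, t ∈ (T₁ : Subgroup (Perm (Mdl m r))) ↔ e.permCongr t ∈ (T' : Subgroup (Perm (Fin n))) := by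
      intro t
      rw [Sylow.coe_mapSurjective]
      have : t = e.symm.permCongrHom.toMonoidHom (e.permCongr t) :=
        Equiv.ext fun z => by simp [Equiv.permCongrHom]
      conv_lhs => rw [this]
      exact Subgroup.mem_map_iff_mem e.symm.permCongrHom.injective
    have hT₁ : (T₁ : Subgroup (Perm (Mdl m r))) ≤ wr m r := fun t ht => mem_wr.mpr fun z => by
      apply e.injective
      have := hcomm' _ ((hiff' t).mp ht) (e z)
      simp only [Equiv.permCongr_apply, Equiv.symm_apply_apply] at this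
      rw [heq, hσ₁, hσ₁, e.apply_symm_apply, ← this]
    let X : ↥(wr m r) := ⟨x₀, hxw⟩
    let Q := fun (S : Sylow 2 (Perm (Mdl m r))) (hS : (S : Subgroup (Perm (Mdl m r))) ≤ wr m r) =>
      (S.subtype hS).mapSurjective toPairs_surjective
    have hQ : Q T₀ hT₀ = Q T₁ hT₁ := by
      refine ih m (by omega) (toPairs X) (Good.pairs hr (x := X) hord hg₀) _ _ ?_ ?_
      · show toPairs X ∈ ((Q T₀ hT₀ : Sylow 2 (Perm (Fin m))) : Subgroup (Perm (Fin m)))
        rw [Sylow.coe_mapSurjective]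
        exact Subgroup.mem_map_of_mem _ ((hiff x₀).mpr hxT)
      · show toPairs X ∈ ((Q T₁ hT₁ : Sylow 2 (Perm (Fin m))) : Subgroup (Perm (Fin m)))
        rw [Sylow.coe_mapSurjective]
        exact Subgroup.mem_map_of_mem _ ((hiff' x₀).mpr hxT')
    have hQ' := congrArg (fun S : Sylow 2 (Perm (Fin m)) => (S : Subgroup (Perm (Fin m))).comap (toPairs (m := m) (r := r))) hQ
    simp only [Q, Sylow.coe_mapSurjective, Subgroup.comap_map_eq_self (ker_le hr hT₀),
      Subgroup.comap_map_eq_self (ker_le hr hT₁)] at hQ'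
    have hTT : ∀ t, t ∈ (T₀ : Subgroup (Perm (Mdl m r))) ↔ t ∈ (T₁ : Subgroup (Perm (Mdl m r))) := by
      intro t
      constructor
      · intro h
        exact (SetLike.ext_iff.mp hQ' ⟨t, hT₀ h⟩).mp h
      · intro h
        exact (SetLike.ext_iff.mp hQ' ⟨t, hT₁ h⟩).mpr h
    refine Sylow.ext (Subgroup.ext fun z => ?_)
    obtain ⟨t, rfl⟩ : ∃ h, e.permCongr h = z := ⟨e.permCongr.symm z, e.permCongr.apply_symm_apply z⟩
    exact ((hiff t).symm.trans (hTT t)).trans (hiff' t)

theorem per_pos (x : Perm α) (a : α) : 0 < per x a := by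
  rcases Nat.eq_zero_or_pos (per x a) with h | h
  · exfalso
    have := (pow_apply_iff x a (orderOf x)).mp (by rw [pow_orderOf_eq_one]; rfl)
    rw [h, Nat.zero_dvd] at this
    exact (orderOf_pos x).ne' this
  · exact h

theorem mod_eq_of_pow_apply_eq {x : Perm α} {a : α} {i j : ℕ} (h : (x ^ i) a = (x ^ j) a) :
    i % per x a = j % per x a := by
  rw [← pow_apply_mod x a i, ← pow_apply_mod x a j, Perm.coe_pow, Perm.coe_pow] at h
  exact Function.iterate_injOn_Iio_minimalPeriod (Set.mem_Iio.mpr (Nat.mod_lt _ (per_pos x a)))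
    (Set.mem_Iio.mpr (Nat.mod_lt _ (per_pos x a))) h

theorem orbit_ne {x : Perm α} {a b : α} (hab : ∀ n : ℕ, (x ^ n) a ≠ b) (i j : ℕ) :
    (x ^ i) a ≠ (x ^ j) b := by
  intro h
  apply hab (per x b * j - j + i)
  have hle : j ≤ per x b * j := Nat.le_mul_of_pos_left _ (per_pos x b)
  rw [pow_add, Perm.mul_apply, h, ← Perm.mul_apply, ← pow_add, Nat.sub_add_cancel hle]
  exact (pow_apply_iff x b _).mpr (dvd_mul_right _ _)

theorem inv_pow_apply (x : Perm α) (a : α) (n : ℕ) :
    x⁻¹ ((x ^ n) a) = (x ^ (n + (per x a - 1))) a := by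
  rw [Perm.inv_eq_iff_eq, ← Perm.mul_apply, ← pow_succ', add_assoc,
    Nat.sub_add_cancel (per_pos x a), pow_add, Perm.mul_apply, (pow_apply_iff x a _).mpr dvd_rfl]

theorem swapped {y : Perm α} {a b : α} (hper : per y a = per y b)
    (hab : ∀ n : ℕ, (y ^ n) a ≠ b) :
    ∃ s : Perm α, (∀ z, s (s z) = z) ∧ (∀ n : ℕ, s ((y ^ n) a) = (y ^ n) b) ∧
      (∀ n : ℕ, s ((y ^ n) b) = (y ^ n) a) ∧
      (∀ z, (∀ n : ℕ, (y ^ n) a ≠ z) → (∀ n : ℕ, (y ^ n) b ≠ z) → s z = z) := by
  classical
  have hcong : ∀ (c : α) (i j : ℕ), i % per y c = j % per y c → (y ^ i) c = (y ^ j) c := fun c i j h => by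
    rw [← pow_apply_mod y c i, h, pow_apply_mod]
  let f : α → α := fun z =>
    if h : ∃ n : ℕ, (y ^ n) a = z then (y ^ Nat.find h) b
    else if h' : ∃ n : ℕ, (y ^ n) b = z then (y ^ Nat.find h') a else z
  have hfa : ∀ n, f ((y ^ n) a) = (y ^ n) b := by
    intro n
    have h : ∃ i : ℕ, (y ^ i) a = (y ^ n) a := ⟨n, rfl⟩
    simp only [f, dif_pos h]
    exact hcong b _ _ (hper ▸ mod_eq_of_pow_apply_eq (Nat.find_spec h))
  have hfb : ∀ n, f ((y ^ n) b) = (y ^ n) a := by
    intro n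
    have h : ¬ ∃ i : ℕ, (y ^ i) a = (y ^ n) b := fun ⟨i, hi⟩ => orbit_ne hab i n hi
    have h' : ∃ i : ℕ, (y ^ i) b = (y ^ n) b := ⟨n, rfl⟩
    simp only [f, dif_neg h, dif_pos h']
    exact hcong a _ _ (hper.symm ▸ mod_eq_of_pow_apply_eq (Nat.find_spec h'))
  have hfo : ∀ z, (∀ n : ℕ, (y ^ n) a ≠ z) → (∀ n : ℕ, (y ^ n) b ≠ z) → f z = z := by
    intro z h h'
    simp only [f, dif_neg (not_exists.mpr h), dif_neg (not_exists.mpr h')]
  have hinv : ∀ z, f (f z) = z := by
    intro z
    by_cases h : ∃ n : ℕ, (y ^ n) a = z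
    · obtain ⟨n, rfl⟩ := h; rw [hfa, hfb]
    by_cases h' : ∃ n : ℕ, (y ^ n) b = z
    · obtain ⟨n, rfl⟩ := h'; rw [hfb, hfa]
    push Not at h h'
    rw [hfo z h h', hfo z h h']
  exact ⟨⟨f, f, hinv, hinv⟩, hinv, hfa, hfb, hfo⟩

set_option maxHeartbeats 1000000 in
/-- If `x` lies in only one Sylow 2-subgroup, it is good. -/
theorem good_of_unique [DecidableEq α] {x : Perm α} {k : ℕ} (hx : orderOf x = 2 ^ k)
    (h : ∃! P : Sylow 2 (Perm α), x ∈ P) : Good x := by
  classical
  haveI := Fintype.ofFinite α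
  obtain ⟨P, hxP, huniq⟩ := h
  have hsup : ∀ R : Subgroup (Perm α), IsPGroup 2 R → x ∈ R → ∀ g ∈ R, g ∈ P := by
    intro R hR hxR g hg
    obtain ⟨Q, hQ⟩ := hR.exists_le_sylow
    exact huniq Q (hQ hxR) ▸ hQ hg
  have hzp : IsPGroup 2 (Subgroup.zpowers x) :=
    IsPGroup.of_card (n := k) (by rw [Nat.card_zpowers, hx])
  have hcomm : ∀ g : Perm α, (∃ i, g ^ 2 ^ i = 1) → Commute g x → g ∈ P := by
    rintro g ⟨i, hi⟩ hgx
    obtain ⟨j, -, hj⟩ := (Nat.dvd_prime_pow Nat.prime_two).mp (orderOf_dvd_of_pow_eq_one hi)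
    have hg : IsPGroup 2 (Subgroup.zpowers g) := IsPGroup.of_card (n := j) (by rw [Nat.card_zpowers, hj])
    refine hsup (Subgroup.zpowers g ⊔ Subgroup.zpowers x) (hg.to_sup_of_normal_right' hzp ?_)
      (Subgroup.mem_sup_right (Subgroup.mem_zpowers x)) g (Subgroup.mem_sup_left (Subgroup.mem_zpowers g))
    refine Subgroup.zpowers_le.mpr (Subgroup.mem_normalizer_iff.mpr fun z => ?_)
    constructor
    · rintro ⟨l, rfl⟩
      exact ⟨l, by rw [(hgx.zpow_right l).eq, mul_inv_cancel_right]⟩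
    · rintro ⟨l, hl⟩
      refine ⟨l, mul_left_cancel (a := g) (mul_right_cancel (b := g⁻¹) (hl.symm.trans ?_).symm)⟩
      rw [(hgx.zpow_right l).eq, mul_inv_cancel_right]
  have hthree : ∀ u ∈ P, u ^ 3 = 1 → u = 1 := by
    intro u hu hu3
    obtain ⟨i, hi⟩ := P.2 ⟨u, hu⟩
    have hi' : u ^ 2 ^ i = 1 := congrArg Subtype.val hi
    have h2 := orderOf_dvd_of_pow_eq_one hi'
    have h3 := orderOf_dvd_of_pow_eq_one hu3
    have := Nat.eq_one_of_dvd_coprimes (Nat.Coprime.pow_left i (by norm_num : Nat.Coprime 2 3)) h2 h3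
    exact orderOf_eq_one_iff.mp this
  refine ⟨fun a b c ha hb hc => ?_, fun a b ha hb hper => ?_⟩
  · by_contra hne
    push Not at hne
    obtain ⟨hab, hac, hbc⟩ := hne
    have hsw : ∀ p q, x p = p → x q = q → Equiv.swap p q ∈ P := fun p q hp hq =>
      hcomm _ ⟨1, by simp [sq]⟩ (by
        show Equiv.swap p q * x = x * Equiv.swap p q
        rw [Equiv.mul_swap_eq_swap_mul, hp, hq])
    have h3 := (Equiv.Perm.isThreeCycle_swap_mul_swap_same hab hac hbc).orderOf
    have h1 := hthree _ (P.mul_mem (hsw a b ha hb) (hsw a c ha hc))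
      (by rw [← h3, pow_orderOf_eq_one])
    rw [h1, orderOf_one] at h3
    omega
  · by_contra hne
    push Not at hne
    obtain ⟨i, hi⟩ := per_succ hx ha
    have hy : ∀ (n : ℕ) (c : α), ((x ^ 2) ^ n) c = (x ^ (2 * n)) c := fun n c => by rw [pow_mul]
    have hpery : ∀ c, per x c = per x a → per (x ^ 2) c = 2 ^ i := by
      intro c hc
      apply Nat.dvd_antisymm
      · rw [← pow_apply_iff, hy, pow_apply_iff, hc, hi, pow_succ']
      · have := (pow_apply_iff (x ^ 2) c (per (x ^ 2) c)).mpr dvd_rfl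
        rw [hy, pow_apply_iff, hc, hi, pow_succ'] at this
        exact Nat.dvd_of_mul_dvd_mul_left two_pos this
    obtain ⟨s, hss, hsa, hsb, hso⟩ := swapped (y := x ^ 2) (a := a) (b := b)
      (by rw [hpery a rfl, hpery b hper.symm]) (fun n => by rw [hy]; exact hne _)
    simp only [hy] at hsa hsb hso
    have hL : per x a % 2 = 0 := by rw [hi, pow_succ]; omega
    have hL0 := per_pos x a
    have hpar : ∀ c, per x c = per x a → ∀ p q : ℕ, (x ^ p) c = (x ^ q) c → p % 2 = q % 2 := by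
      intro c hc p q h
      have := congrArg (· % 2) (hc ▸ mod_eq_of_pow_apply_eq h)
      simpa only [Nat.mod_mod_of_dvd _ (Nat.dvd_of_mod_eq_zero hL)] using this
    have hab : ∀ p q : ℕ, (x ^ p) a ≠ (x ^ q) b := orbit_ne hne
    have hsodd : ∀ n : ℕ, n % 2 = 1 → s ((x ^ n) a) = (x ^ n) a ∧ s ((x ^ n) b) = (x ^ n) b := by
      intro n hn
      constructor
      · refine hso _ (fun l hl => ?_) (fun l hl => hab _ _ hl.symm)
        have := hpar a rfl _ _ hl; omega
      · refine hso _ (fun l hl => hab _ _ hl) (fun l hl => ?_)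
        have := hpar b hper.symm _ _ hl; omega
    have hsout : ∀ z, (∀ p : ℕ, (x ^ p) a ≠ z) → (∀ p : ℕ, (x ^ p) b ≠ z) → s z = z := fun z h h' =>
      hso z (fun l => h _) fun l => h' _
    have hfive : ∀ z, (∃ n : ℕ, n % 2 = 0 ∧ (x ^ n) a = z) ∨ (∃ n : ℕ, n % 2 = 0 ∧ (x ^ n) b = z) ∨
        s z = z := by
      intro z
      by_cases h : ∃ l : ℕ, (x ^ (2 * l)) a = z
      · obtain ⟨l, hl⟩ := h; exact Or.inl ⟨2 * l, by omega, hl⟩
      by_cases h' : ∃ l : ℕ, (x ^ (2 * l)) b = z
      · obtain ⟨l, hl⟩ := h'; exact Or.inr (Or.inl ⟨2 * l, by omega, hl⟩)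
      push Not at h h'
      exact Or.inr (Or.inr (hso z h h'))
    let s' := x * s * x⁻¹
    have hs'app : ∀ z, s' z = x (s (x⁻¹ z)) := fun z => rfl
    have hcs : Commute s s' := by
      refine Equiv.Perm.Disjoint.commute fun z => ?_
      rcases hfive z with ⟨n, hn, rfl⟩ | ⟨n, hn, rfl⟩ | h
      · right; rw [hs'app, inv_pow_apply, (hsodd _ (by omega)).1, ← inv_pow_apply, Perm.coe_inv, Equiv.apply_symm_apply]
      · right; rw [hs'app, inv_pow_apply, (hsodd _ (by omega)).2, ← inv_pow_apply, Perm.coe_inv, Equiv.apply_symm_apply]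
      · exact Or.inl h
    have hs2 : s * s = 1 := Equiv.ext hss
    have hs'2 : s' * s' = 1 := by
      rw [show s' * s' = x * (s * s) * x⁻¹ by simp only [s']; group, hs2, mul_one, mul_inv_cancel]
    have hsy : ∀ z, s ((x ^ 2) z) = (x ^ 2) (s z) := by
      intro z
      rcases hfive z with ⟨n, hn, rfl⟩ | ⟨n, hn, rfl⟩ | h
      · obtain ⟨l, rfl⟩ := Nat.dvd_of_mod_eq_zero hn
        have h1 : ∀ d, (x ^ 2) ((x ^ (2 * l)) d) = (x ^ (2 * (l + 1))) d := fun d => by
          rw [← Perm.mul_apply, ← pow_add, show 2 + 2 * l = 2 * (l + 1) by ring]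
        rw [hsa, h1, h1, hsa]
      · obtain ⟨l, rfl⟩ := Nat.dvd_of_mod_eq_zero hn
        have h1 : ∀ d, (x ^ 2) ((x ^ (2 * l)) d) = (x ^ (2 * (l + 1))) d := fun d => by
          rw [← Perm.mul_apply, ← pow_add, show 2 + 2 * l = 2 * (l + 1) by ring]
        rw [hsb, h1, h1, hsb]
      · rw [h]
        rcases hfive ((x ^ 2) z) with ⟨n, hn, hnz⟩ | ⟨n, hn, hnz⟩ | h2
        · obtain ⟨l, rfl⟩ := Nat.dvd_of_mod_eq_zero hn
          obtain ⟨c, hc⟩ := Nat.dvd_of_mod_eq_zero hL
          have hz : z = (x ^ (2 * (l + c - 1))) a := (x ^ 2).injective (by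
            rw [← hnz, ← Perm.mul_apply, ← pow_add, show 2 + 2 * (l + c - 1) = 2 * l + per x a by omega,
              pow_add, Perm.mul_apply, (pow_apply_iff x a _).mpr dvd_rfl])
          exfalso
          rw [hz, hsa] at h
          exact hab _ _ h.symm
        · obtain ⟨l, rfl⟩ := Nat.dvd_of_mod_eq_zero hn
          obtain ⟨c, hc⟩ := Nat.dvd_of_mod_eq_zero hL
          have hz : z = (x ^ (2 * (l + c - 1))) b := (x ^ 2).injective (by
            rw [← hnz, ← Perm.mul_apply, ← pow_add, show 2 + 2 * (l + c - 1) = 2 * l + per x b by omega,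
              pow_add, Perm.mul_apply, (pow_apply_iff x b _).mpr dvd_rfl])
          exfalso
          rw [hz, hsb] at h
          exact hab _ _ h
        · exact h2
    have hsyc : x ^ 2 * s * (x ^ 2)⁻¹ = s := by
      rw [mul_inv_eq_iff_eq_mul]; exact (Equiv.ext hsy).symm
    have hord : ∀ w : Perm α, w * w = 1 → IsPGroup 2 (Subgroup.zpowers w) := by
      intro w hw
      obtain ⟨j, -, hj⟩ := (Nat.dvd_prime_pow Nat.prime_two).mp
        (orderOf_dvd_of_pow_eq_one (show w ^ 2 ^ 1 = 1 by rw [pow_one, sq, hw]))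
      exact IsPGroup.of_card (n := j) (by rw [Nat.card_zpowers, hj])
    let N : Subgroup (Perm α) := Subgroup.zpowers s ⊔ Subgroup.zpowers s'
    have hN : IsPGroup 2 N := by
      refine (hord s hs2).to_sup_of_normal_right' (hord s' hs'2) (Subgroup.zpowers_le.mpr ?_)
      refine Subgroup.mem_normalizer_iff.mpr fun z => ?_
      constructor
      · rintro ⟨l, rfl⟩
        exact ⟨l, by rw [(hcs.zpow_right l).eq, mul_inv_cancel_right]⟩
      · rintro ⟨l, hl⟩
        refine ⟨l, mul_left_cancel (a := s) (mul_right_cancel (b := s⁻¹) (hl.symm.trans ?_).symm)⟩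
        rw [(hcs.zpow_right l).eq, mul_inv_cancel_right]
    have hxN : x ∈ Subgroup.normalizer (N : Set (Perm α)) := by
      rw [Subgroup.mem_normalizer_iff]
      have e : N.map (MulAut.conj x).toMonoidHom = N := by
        simp only [N, Subgroup.map_sup, MonoidHom.map_zpowers, MulEquiv.coe_toMonoidHom, MulAut.conj_apply]
        rw [show x * s' * x⁻¹ = s by simpa [s', sq, mul_assoc] using hsyc, sup_comm]
      intro z
      constructor
      · intro hz
        rw [← e]; exact ⟨z, hz, rfl⟩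
      · intro hz
        rw [← e] at hz
        obtain ⟨w, hw, hwz⟩ := hz
        exact (MulAut.conj x).injective hwz ▸ hw
    have hsP : s ∈ P := hsup (Subgroup.zpowers x ⊔ N)
      (hzp.to_sup_of_normal_right' hN (Subgroup.zpowers_le.mpr hxN))
      (Subgroup.mem_sup_left (Subgroup.mem_zpowers x)) s
      (Subgroup.mem_sup_right (Subgroup.mem_sup_left (Subgroup.mem_zpowers s)))
    let t := x.cycleOf a
    have htc : Commute t x := (Equiv.Perm.cycleOf_mem_cycleFactorsFinset_iff.mpr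
      (Equiv.Perm.mem_support.mpr ha) |> Equiv.Perm.self_mem_cycle_factors_commute)
    have hta : ∀ n : ℕ, t ((x ^ n) a) = (x ^ (n + 1)) a := fun n =>
      Equiv.Perm.cycleOf_apply_apply_pow_self x a n
    have htout : ∀ z, (∀ p : ℕ, (x ^ p) a ≠ z) → t z = z := fun z h =>
      Equiv.Perm.cycleOf_apply_of_not_sameCycle fun hs => by
        obtain ⟨p, hp⟩ := hs.exists_nat_pow_eq
        exact h p hp
    have htb : ∀ n : ℕ, t ((x ^ n) b) = (x ^ n) b := fun n => htout _ fun p => hab p n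
    have htP : t ∈ P := hcomm t ⟨k, by
      refine Equiv.ext fun z => ?_
      by_cases h : x.SameCycle a z
      · show (t ^ 2 ^ k) z = z
        rw [show t = x.cycleOf z from h.cycleOf_eq, Equiv.Perm.cycleOf_pow_apply_self, ← hx,
          pow_orderOf_eq_one]; rfl
      · exact Equiv.Perm.pow_apply_eq_self_of_apply_eq_self (Equiv.Perm.cycleOf_apply_of_not_sameCycle h) _⟩ htc
    let u := t * s * t⁻¹ * s
    have huP : u ∈ P := P.mul_mem (P.mul_mem (P.mul_mem htP hsP) (P.inv_mem htP)) hsP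
    have htinva : ∀ n : ℕ, t⁻¹ ((x ^ n) a) = (x ^ (n + (per x a - 1))) a := fun n => by
      rw [Perm.inv_eq_iff_eq, hta, add_assoc, Nat.sub_add_cancel hL0, pow_add, Perm.mul_apply,
        (pow_apply_iff x a _).mpr dvd_rfl]
    have htinv : ∀ z, t z = z → t⁻¹ z = z := fun z h => by rw [Perm.inv_eq_iff_eq, h]
    have huapp : ∀ z, u z = t (s (t⁻¹ (s z))) := fun z => rfl
    have u1 : ∀ l : ℕ, u ((x ^ (2 * l)) a) = (x ^ (2 * l + 1)) a := fun l => by
      rw [huapp, hsa, htinv _ (htb _), hsb, hta]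
    have u2 : ∀ l : ℕ, u ((x ^ (2 * l + 1)) a) = (x ^ (2 * l)) b := fun l => by
      rw [huapp, (hsodd _ (by omega)).1, show t⁻¹ ((x ^ (2 * l + 1)) a) = (x ^ (2 * l)) a by
        rw [Perm.inv_eq_iff_eq, hta], hsa, htb]
    have u3 : ∀ l : ℕ, u ((x ^ (2 * l)) b) = (x ^ (2 * l)) a := fun l => by
      rw [huapp, hsb, htinva, (hsodd _ (by omega)).1, hta, add_assoc, Nat.sub_add_cancel hL0, pow_add,
        Perm.mul_apply, (pow_apply_iff x a _).mpr dvd_rfl]
    have hu3 : u ^ 3 = 1 := by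
      refine Equiv.ext fun z => ?_
      rw [pow_succ, pow_succ, pow_one]
      show u (u (u z)) = z
      by_cases h : ∃ p : ℕ, (x ^ p) a = z
      · obtain ⟨p, rfl⟩ := h
        rcases Nat.mod_two_eq_zero_or_one p with hp | hp
        · obtain ⟨l, rfl⟩ := Nat.dvd_of_mod_eq_zero hp
          rw [u1, u2, u3]
        · obtain ⟨l, rfl⟩ : ∃ l, p = 2 * l + 1 := ⟨p / 2, by omega⟩
          rw [u2, u3, u1]
      push Not at h
      by_cases h' : ∃ p : ℕ, (x ^ p) b = z
      · obtain ⟨p, rfl⟩ := h'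
        rcases Nat.mod_two_eq_zero_or_one p with hp | hp
        · obtain ⟨l, rfl⟩ := Nat.dvd_of_mod_eq_zero hp
          rw [u3, u1, u2]
        · have e : u ((x ^ p) b) = (x ^ p) b := by
            rw [huapp, (hsodd _ hp).2, htinv _ (htb _), (hsodd _ hp).2, htb]
          rw [e, e, e]
      push Not at h'
      have e : u z = z := by
        rw [huapp, hsout z h h', htinv _ (htout z h), hsout z h h', htout z h]
      rw [e, e, e]
    have h1 := Equiv.ext_iff.mp (hthree u huP hu3) ((x ^ (2 * 0)) a)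
    rw [u1] at h1
    simp at h1
    exact ha h1

/-- The criterion in cycle-type form. -/
theorem good_iff [Fintype α] [DecidableEq α] {x : Perm α} {k : ℕ} (hx : orderOf x = 2 ^ k) :
    Good x ↔ (Fintype.card α ≤ x.support.card + 2 ∧ x.cycleType.Nodup) := by
  classical
  have hcard : ∀ a, x a ≠ a → (x.cycleOf a).support.card = per x a := by
    intro a ha
    have hc := Equiv.Perm.isCycle_cycleOf x ha
    have hm : x.cycleOf a a ≠ a := by rwa [Equiv.Perm.cycleOf_apply_self]
    have h : ∀ n : ℕ, (x ^ n) a = a ↔ (x.cycleOf a).support.card ∣ n := fun n => by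
      rw [← hc.orderOf, orderOf_dvd_iff_pow_eq_one, hc.pow_eq_one_iff' hm, Equiv.Perm.cycleOf_pow_apply_self]
    apply Nat.dvd_antisymm
    · rw [← h, pow_apply_iff]
    · rw [← pow_apply_iff, h]
  refine and_congr ?_ ?_
  · have hc : x.supportᶜ.card ≤ 2 ↔ Fintype.card α ≤ x.support.card + 2 := by
      rw [Finset.card_compl]; omega
    rw [← hc, ← not_lt, Finset.two_lt_card]
    simp only [Finset.mem_compl, Equiv.Perm.notMem_support, not_exists, not_and]
    constructor
    · intro h a ha b hb c hc' hab hac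
      rcases h a b c ha hb hc' with e | e | e
      · exact absurd e hab
      · exact absurd e hac
      · exact not_not.mpr e
    · intro h a b c ha hb hc'
      by_contra hne
      push Not at hne
      exact h a ha b hb c hc' hne.1 hne.2.1 hne.2.2
  · rw [Equiv.Perm.cycleType_def, Multiset.nodup_map_iff_inj_on x.cycleFactorsFinset.nodup]
    constructor
    · intro h c hc d hd hcd
      obtain ⟨a, ha⟩ := (Equiv.Perm.mem_cycleFactorsFinset_iff.mp hc).1.nonempty_support
      obtain ⟨b, hb⟩ := (Equiv.Perm.mem_cycleFactorsFinset_iff.mp hd).1.nonempty_support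
      have ea : c = x.cycleOf a := Equiv.Perm.cycle_is_cycleOf ha hc
      have eb : d = x.cycleOf b := Equiv.Perm.cycle_is_cycleOf hb hd
      have ha' := Equiv.Perm.mem_support.mp (Equiv.Perm.mem_cycleFactorsFinset_support_le hc ha)
      have hb' := Equiv.Perm.mem_support.mp (Equiv.Perm.mem_cycleFactorsFinset_support_le hd hb)
      simp only [Function.comp_apply, ea, eb, hcard a ha', hcard b hb'] at hcd
      obtain ⟨j, hj⟩ := h a b ha' hb' hcd
      rw [ea, eb]
      exact (show x.SameCycle a b from ⟨j, by rw [zpow_natCast, hj]⟩).cycleOf_eq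
    · intro h a b ha hb hab
      have e := h (x.cycleOf a) (Equiv.Perm.cycleOf_mem_cycleFactorsFinset_iff.mpr (Equiv.Perm.mem_support.mpr ha))
        (x.cycleOf b) (Equiv.Perm.cycleOf_mem_cycleFactorsFinset_iff.mpr (Equiv.Perm.mem_support.mpr hb))
        (by simp only [Function.comp_apply, hcard a ha, hcard b hb, hab])
      have hb' : b ∈ (x.cycleOf a).support := by
        rw [e]; exact Equiv.Perm.mem_support_cycleOf_iff.mpr ⟨Equiv.Perm.SameCycle.refl _ _, Equiv.Perm.mem_support.mpr hb⟩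
      exact ((Equiv.Perm.mem_support_cycleOf_iff.mp hb').1).exists_nat_pow_eq

end Cfsg.Agent.Lib.PGroups.UniqueSylowPerm
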