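import Mathlib
import Cfsg.Agent.Lib.Classical.LinearCard

/-!
A recognition of the Sylow `2`-subgroup of `PSL₃(4)` by generators and commutators.
-/

set_option autoImplicit false

namespace Cfsg.Agent.Lib.PGroups.UniFour

open Matrix

variable {T : Type*} [Group T]

/-- `u ^ i` for `i : ZMod 2`. -/
def pw (u : T) (i : ZMod 2) : T := u ^ i.val

theorem zmod_two_cases (i : ZMod 2) : i = 0 ∨ i = 1 := by revert i; decide

@[simp] theorem pw_zero (u : T) : pw u 0 = 1 := by simp [pw]

@[simp] theorem pw_one (u : T) : pw u 1 = u := by simp [pw, ZMod.val_one]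

theorem pw_add {u : T} (hu : u * u = 1) (i j : ZMod 2) : pw u (i + j) = pw u i * pw u j := by
  have h : (1 : ZMod 2) + 1 = 0 := by decide
  rcases zmod_two_cases i with rfl | rfl <;> rcases zmod_two_cases j with rfl | rfl <;> simp [h, hu]

theorem pw_mul {u v : T} (h : Commute u v) (i : ZMod 2) : pw (u * v) i = pw u i * pw v i := h.mul_pow _

theorem pw_commute {u v : T} (h : Commute u v) (i j : ZMod 2) : Commute (pw u i) (pw v j) := h.pow_pow _ _

theorem pw_map {S : Type*} [Group S] (f : T →* S) (u : T) (i : ZMod 2) : f (pw u i) = pw (f u) i := map_pow f u _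

/-- `A` and `B` commute up to the central element `w`. -/
def Rel (A B w : T) : Prop := w ∈ Subgroup.center T ∧ A * B = w * (B * A)

theorem Rel.mul_left {A A' B w w' : T} (h : Rel A B w) (h' : Rel A' B w') : Rel (A * A') B (w * w') := by
  refine ⟨Subgroup.mul_mem _ h.1 h'.1, ?_⟩
  calc A * A' * B = A * w' * (B * A') := by rw [mul_assoc, h'.2, ← mul_assoc]
    _ = w' * (A * B) * A' := by rw [Subgroup.mem_center_iff.mp h'.1 A]; group
    _ = (w' * w) * (B * (A * A')) := by rw [h.2]; group
    _ = _ := by rw [Subgroup.mem_center_iff.mp h'.1 w]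

theorem Rel.mul_right {A B B' w w' : T} (h : Rel A B w) (h' : Rel A B' w') : Rel A (B * B') (w * w') := by
  refine ⟨Subgroup.mul_mem _ h.1 h'.1, ?_⟩
  calc A * (B * B') = w * B * (A * B') := by rw [← mul_assoc, h.2]; group
    _ = w * (B * w') * (B' * A) := by rw [h'.2]; group
    _ = _ := by rw [Subgroup.mem_center_iff.mp h'.1 B]; group

theorem Rel.pw {A B w : T} (h : Rel A B w) (i j : ZMod 2) : Rel (pw A i) (pw B j) (pw w (i * j)) := by
  have h0 : Rel A 1 (1 : T) ∧ Rel (1 : T) B (1 : T) ∧ Rel (1 : T) 1 (1 : T) := by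
    simp [Rel, one_mem]
  rcases zmod_two_cases i with rfl | rfl <;> rcases zmod_two_cases j with rfl | rfl <;>
    simp [h, h0.1, h0.2.1, h0.2.2]

theorem psi_eq {A : Type*} [CommGroup A] {c d : A} (hc : c * c = 1) (hd : d * d = 1) (i j k l : ZMod 2) :
    pw c (i * k) * pw d (i * l) * (pw d (j * k) * pw (c * d) (j * l)) =
      pw c (i * k + j * l) * pw d (i * l + j * k + j * l) := by
  rw [pw_add hc, pw_add hd, pw_add hd, pw_mul (Commute.all _ _)]
  ac_rfl

/-- A matrix of the upper unitriangular group. -/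
def uni {F : Type*} [Field F] (p : F × F × F) : Matrix.SpecialLinearGroup (Fin 3) F :=
  ⟨!![1, p.1, p.2.2; 0, 1, p.2.1; 0, 0, 1], by simp [Matrix.det_fin_three]⟩

theorem uni_mul {F : Type*} [Field F] (p q : F × F × F) :
    uni p * uni q = uni (p.1 + q.1, p.2.1 + q.2.1, p.2.2 + q.2.2 + p.1 * q.2.1) := by
  apply Subtype.ext
  rw [Matrix.SpecialLinearGroup.coe_mul]
  ext i j
  fin_cases i <;> fin_cases j <;> simp [uni, Matrix.mul_apply, Fin.sum_univ_three] <;> ring

theorem uni_eq_of_center {F : Type*} [Field F] {p : F × F × F}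
    (h : uni p ∈ Subgroup.center (Matrix.SpecialLinearGroup (Fin 3) F)) : p = (0, 0, 0) := by
  obtain ⟨r, -, hr⟩ := Matrix.SpecialLinearGroup.mem_center_iff.mp h
  have h1 := congrFun (congrFun hr 0) 1
  have h2 := congrFun (congrFun hr 1) 2
  have h3 := congrFun (congrFun hr 0) 2
  simp [uni] at h1 h2 h3
  exact Prod.ext h1.symm (Prod.ext h2.symm h3.symm)

/-- A group of order `64` with the commutator table of the unitriangular group over the field with four
elements is isomorphic to a Sylow `2`-subgroup of `PSL₃(4)`. -/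
theorem exists_sylow [Finite T] (hT : Nat.card T = 64) {g₁ g₂ h₁ h₂ c d : T}
    (hg₁ : g₁ * g₁ = 1) (hg₂ : g₂ * g₂ = 1) (hgg : Commute g₁ g₂)
    (hh₁ : h₁ * h₁ = 1) (hh₂ : h₂ * h₂ = 1) (hhh : Commute h₁ h₂)
    (hc : c * c = 1) (hd : d * d = 1) (hc1 : c ≠ 1) (hd1 : d ≠ 1) (hcd : c ≠ d)
    (r11 : Rel g₁ h₁ c) (r12 : Rel g₁ h₂ d) (r21 : Rel g₂ h₁ d) (r22 : Rel g₂ h₂ (c * d)) :
    ∃ (F : Type) (_ : Field F) (_ : Fintype F), Fintype.card F = 4 ∧
      ∃ S : Sylow 2 (Matrix.ProjectiveSpecialLinearGroup (Fin 3) F),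
        Nonempty (T ≃* ↥(S : Subgroup (Matrix.ProjectiveSpecialLinearGroup (Fin 3) F))) := by
  classical
  haveI : Fact (Nat.Prime 2) := ⟨Nat.prime_two⟩
  let F := GaloisField 2 2
  letI : Fintype F := Fintype.ofFinite F
  have hF : Fintype.card F = 4 := by
    rw [Fintype.card_eq_nat_card, GaloisField.card 2 2 (by norm_num)]; norm_num
  refine ⟨F, inferInstance, inferInstance, hF, ?_⟩
  obtain ⟨ω, hω0, hω1⟩ : ∃ ω : F, ω ≠ 0 ∧ ω ≠ 1 := by
    by_contra hne
    push Not at hne
    have : Finset.univ ⊆ ({0, 1} : Finset F) := fun a _ => by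
      by_cases ha : a = 0
      · simp [ha]
      · simp [hne a ha]
    have h2 := Finset.card_le_card this
    rw [Finset.card_univ, hF] at h2
    have h3 : ({0, 1} : Finset F).card ≤ 2 := Finset.card_le_two
    omega
  have h2F : (2 : F) = 0 := CharTwo.two_eq_zero
  have hω2 : ω * ω = ω + 1 := by
    have h3 := FiniteField.pow_card_sub_one_eq_one ω hω0
    rw [hF] at h3
    norm_num at h3
    have h4 : (ω - 1) * (ω * ω + ω + 1) = 0 := by linear_combination h3
    have h5 := (mul_eq_zero.mp h4).resolve_left (sub_ne_zero.mpr hω1)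
    linear_combination h5 - (ω + 1) * h2F
  let q : ZMod 2 →+* F := ZMod.castHom dvd_rfl F
  let e : ZMod 2 × ZMod 2 → F := fun p => q p.1 + q p.2 * ω
  have he_add : ∀ p r, e (p + r) = e p + e r := by
    intro p r; simp only [e, Prod.fst_add, Prod.snd_add, map_add]; ring
  have he_mul : ∀ p r : ZMod 2 × ZMod 2,
      e p * e r = e (p.1 * r.1 + p.2 * r.2, p.1 * r.2 + p.2 * r.1 + p.2 * r.2) := by
    intro p r; simp only [e, map_add, map_mul]; linear_combination (q p.2 * q r.2) * hω2
  have he_inj : Function.Injective e := by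
    intro p r hpr
    have h0 : e (p - r) = 0 := by
      have := he_add (p - r) r
      rw [sub_add_cancel, hpr] at this
      linear_combination -this
    have hs : p - r = 0 := by
      generalize p - r = v at h0 ⊢
      obtain ⟨i, j⟩ := v
      rcases zmod_two_cases i with rfl | rfl <;> rcases zmod_two_cases j with rfl | rfl <;> simp [e] at h0 ⊢
      · exact hω0 h0
      · exact hω1 (by linear_combination h0 - h2F)
    exact sub_eq_zero.mp hs
  have he : Function.Bijective e := (Fintype.bijective_iff_injective_and_card e).mpr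
    ⟨he_inj, by rw [hF]; simp [Fintype.card_prod]⟩
  let k : F → ZMod 2 × ZMod 2 := (Equiv.ofBijective e he).symm
  have hek : ∀ a, e (k a) = a := fun a => (Equiv.ofBijective e he).apply_symm_apply a
  have hk_add : ∀ a b, k (a + b) = k a + k b := fun a b =>
    he_inj (by rw [he_add, hek, hek, hek])
  have hk_mul : ∀ a b, k (a * b) = ((k a).1 * (k b).1 + (k a).2 * (k b).2,
      (k a).1 * (k b).2 + (k a).2 * (k b).1 + (k a).2 * (k b).2) := fun a b =>
    he_inj (by rw [hek, ← he_mul, hek, hek])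
  have hcZ : c ∈ Subgroup.center T := r11.1
  have hdZ : d ∈ Subgroup.center T := r12.1
  have hcdc : Commute c d := (Subgroup.mem_center_iff.mp hdZ c)
  -- the three additive parametrizations
  let G : F → T := fun a => pw g₁ (k a).1 * pw g₂ (k a).2
  let H : F → T := fun a => pw h₁ (k a).1 * pw h₂ (k a).2
  let Z : F → T := fun a => pw c (k a).1 * pw d (k a).2
  have addP : ∀ u v : T, u * u = 1 → v * v = 1 → Commute u v → ∀ a b,
      pw u (k (a + b)).1 * pw v (k (a + b)).2 =
        pw u (k a).1 * pw v (k a).2 * (pw u (k b).1 * pw v (k b).2) := by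
    intro u v hu hv huv a b
    rw [hk_add, Prod.fst_add, Prod.snd_add, pw_add hu, pw_add hv]
    have := (pw_commute huv (k b).1 (k a).2).eq
    simp only [mul_assoc]
    rw [← mul_assoc (pw u (k b).1), this, mul_assoc]
  have hGadd : ∀ a b, G (a + b) = G a * G b := addP g₁ g₂ hg₁ hg₂ hgg
  have hHadd : ∀ a b, H (a + b) = H a * H b := addP h₁ h₂ hh₁ hh₂ hhh
  have hZadd : ∀ a b, Z (a + b) = Z a * Z b := addP c d hc hd hcdc
  have hZc : ∀ a, Z a ∈ Subgroup.center T := fun a =>
    Subgroup.mul_mem _ (Subgroup.pow_mem _ hcZ _) (Subgroup.pow_mem _ hdZ _)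
  have hGH : ∀ a b, Rel (G a) (H b) (Z (a * b)) := by
    intro a b
    have h1 := ((r11.pw (k a).1 (k b).1).mul_right (r12.pw (k a).1 (k b).2)).mul_left
      ((r21.pw (k a).2 (k b).1).mul_right (r22.pw (k a).2 (k b).2))
    letI : CommGroup (Subgroup.center T) :=
      { (inferInstance : Group (Subgroup.center T)) with
        mul_comm := fun u v => Subtype.ext (Subgroup.mem_center_iff.mp v.2 u) }
    have h2 := congrArg (Subgroup.center T).subtype
      (psi_eq (A := Subgroup.center T) (c := ⟨c, hcZ⟩) (d := ⟨d, hdZ⟩) (Subtype.ext (by exact hc)) (Subtype.ext (by exact hd))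
        (k a).1 (k a).2 (k b).1 (k b).2)
    simp only [map_mul, pw_map, Subgroup.subtype_apply, Subgroup.coe_mul] at h2
    show Rel _ _ (pw c (k (a * b)).1 * pw d (k (a * b)).2)
    rw [hk_mul, ← h2]
    exact h1
  have hZ0 : ∀ a, Z a = 1 → a = 0 := by
    intro a ha
    have hka : k a = 0 := by
      rcases hp : k a with ⟨i, j⟩
      simp only [Z, hp] at ha
      rcases zmod_two_cases i with rfl | rfl <;> rcases zmod_two_cases j with rfl | rfl <;> simp at ha ⊢
      · exact hd1 ha
      · exact hc1 ha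
      · exact hcd (mul_right_cancel (ha.trans hd.symm))
    rw [← hek a, hka]
    simp [e]
  have hZinj : Function.Injective Z := by
    intro a b hab
    have h1 := hZadd (a - b) b
    rw [sub_add_cancel, hab] at h1
    exact sub_eq_zero.mp (hZ0 _ (mul_eq_right.mp h1.symm))
  let Φ : F × F × F → T := fun p => Z p.2.2 * (H p.2.1 * G p.1)
  have hΦmul : ∀ p r : F × F × F,
      Φ p * Φ r = Φ (p.1 + r.1, p.2.1 + r.2.1, p.2.2 + r.2.2 + p.1 * r.2.1) := by
    intro p r
    have zc := fun a (t : T) => Subgroup.mem_center_iff.mp (hZc a) t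
    show Z p.2.2 * (H p.2.1 * G p.1) * (Z r.2.2 * (H r.2.1 * G r.1)) = Z _ * (H _ * G _)
    rw [hGadd, hHadd, hZadd, hZadd]
    calc Z p.2.2 * (H p.2.1 * G p.1) * (Z r.2.2 * (H r.2.1 * G r.1))
        = Z p.2.2 * ((H p.2.1 * G p.1) * Z r.2.2) * (H r.2.1 * G r.1) := by group
      _ = Z p.2.2 * Z r.2.2 * (H p.2.1 * (G p.1 * H r.2.1) * G r.1) := by rw [zc r.2.2 (H p.2.1 * G p.1)]; group
      _ = Z p.2.2 * Z r.2.2 * ((H p.2.1 * Z (p.1 * r.2.1)) * (H r.2.1 * G p.1) * G r.1) := by
          rw [(hGH p.1 r.2.1).2]; group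
      _ = _ := by rw [zc (p.1 * r.2.1) (H p.2.1)]; group
  have hΦinj : Function.Injective Φ := by
    rintro ⟨a, b, x⟩ ⟨a', b', x'⟩ hp
    have key1 := hΦmul (1, 0, 0) (a, b, x)
    rw [hp, hΦmul] at key1
    have key2 := hΦmul (a, b, x) (1, 0, 0)
    rw [hp, hΦmul] at key2
    have key3 := hΦmul (a, b, x) (0, 1, 0)
    rw [hp, hΦmul] at key3
    have key4 := hΦmul (0, 1, 0) (a, b, x)
    rw [hp, hΦmul] at key4
    simp only [zero_add, add_zero, one_mul, mul_one, zero_mul, mul_zero] at key1 key2 key3 key4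
    have split : ∀ u v w, Φ (u, v, w) = Z w * Φ (u, v, 0) := by
      intro u v w
      have := hZadd 0 0
      simp only [add_zero, left_eq_mul] at this
      show Z w * (H v * G u) = Z w * (Z 0 * (H v * G u))
      rw [this, one_mul]
    have can : ∀ u v w u' v' w' e₁ e₂, Φ (u, v, w) = Φ (u', v', w') →
        Φ (u, v, w + e₁) = Φ (u', v', w' + e₂) → e₁ = e₂ := by
      intro u v w u' v' w' e₁ e₂ h1 h2
      rw [split u v w, split u' v' w'] at h1
      rw [split u v, split u' v', hZadd, hZadd, Subgroup.mem_center_iff.mp (hZc e₁) (Z w),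
        Subgroup.mem_center_iff.mp (hZc e₂) (Z w'), mul_assoc (Z e₁), mul_assoc (Z e₂), h1] at h2
      exact hZinj (mul_right_cancel h2)
    have hb : b = b' := by
      rw [add_comm 1 a, add_comm 1 a'] at key1
      exact can _ _ x _ _ x' b b' key2.symm key1.symm
    have ha : a = a' := by
      rw [add_comm 1 b, add_comm 1 b'] at key4
      exact can _ _ x _ _ x' a a' key4.symm key3.symm
    subst ha hb
    rw [split a b x, split a b x'] at hp
    rw [hZinj (mul_right_cancel hp)]
  have hΦ : Function.Bijective Φ := by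
    haveI := Fintype.ofFinite T
    refine (Fintype.bijective_iff_injective_and_card Φ).mpr ⟨hΦinj, ?_⟩
    simp only [Fintype.card_prod, hF]
    rw [Fintype.card_eq_nat_card, hT]
  let E := Equiv.ofBijective Φ hΦ
  let θ : T →* Matrix.ProjectiveSpecialLinearGroup (Fin 3) F := MonoidHom.mk'
    (fun t => QuotientGroup.mk' _ (uni (E.symm t))) (by
      intro t t'
      rw [← map_mul, uni_mul]
      congr 2
      apply E.injective
      rw [E.apply_symm_apply]
      show t * t' = Φ _
      rw [← hΦmul]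
      show t * t' = E (E.symm t) * E (E.symm t')
      rw [E.apply_symm_apply, E.apply_symm_apply])
  have hθ : Function.Injective θ := by
    rw [← MonoidHom.ker_eq_bot_iff, Subgroup.eq_bot_iff_forall]
    intro t ht
    have h1 : uni (E.symm t) ∈ Subgroup.center _ := (QuotientGroup.eq_one_iff _).mp ht
    have h2 := uni_eq_of_center h1
    have h3 : t = Φ (0, 0, 0) := by rw [← h2]; exact (E.apply_symm_apply t).symm
    have h4 := hΦmul (0, 0, 0) (0, 0, 0)
    simp only [mul_zero, add_zero] at h4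
    rw [h3]
    exact mul_eq_right.mp h4
  have h20160 : Nat.card (Matrix.ProjectiveSpecialLinearGroup (Fin 3) F) = 20160 := by
    have h := Cfsg.Agent.Lib.Classical.card_PSL_mul (F := F) (n := 3) (by norm_num)
    rw [hF] at h
    generalize Nat.card (Matrix.ProjectiveSpecialLinearGroup (Fin 3) F) = X at h ⊢
    norm_num [Fin.prod_univ_three] at h
    omega
  have hcard : Nat.card θ.range = 2 ^ (Nat.card (Matrix.ProjectiveSpecialLinearGroup (Fin 3) F)).factorization 2 := by
    rw [← Nat.card_congr (MonoidHom.ofInjective hθ).toEquiv, hT, h20160,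
      show (20160 : ℕ) = 2 ^ 6 * 315 by norm_num, Nat.factorization_mul (by norm_num) (by norm_num),
      Finsupp.add_apply, Nat.prime_two.factorization_pow,
      Nat.factorization_eq_zero_of_not_dvd (show ¬ 2 ∣ 315 by norm_num)]
    simp
  exact ⟨Sylow.ofCard θ.range hcard, ⟨MonoidHom.ofInjective hθ⟩⟩

end Cfsg.Agent.Lib.PGroups.UniFour
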