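import Cfsg.Agent.Lib.Cores.Frattini
import Cfsg.Agent.Lib.Solvable.Nilpotent
import Mathlib

/-!
Breadth and derived subgroup of a finite `p`-group: if all classes have at most `p ^ b` elements then
the derived subgroup has at most `p ^ (b (b + 1) / 2)` elements.

If no maximal subgroup has the same derived subgroup, every maximal subgroup `M` has a subgroup `K`
of index `p` with `C(x) ≤ M` for `x ∈ M \ K`.  Counting shows that outside each maximal subgroup some
`x` has `C(x) Φ = ⟨x⟩ Φ`.  Generators `x i` of this kind give `[Φ, G] = ∏ [x i, Φ]` as sets.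
-/

set_option autoImplicit false

namespace Cfsg.Agent.Lib.PGroups.VaughanLee

open Subgroup
open scoped commutatorElement IsMulCommutative Pointwise

universe u

variable {G : Type u} [Group G]

theorem comm_mul_left (a b c : G) : ⁅a * b, c⁆ = a * ⁅b, c⁆ * a⁻¹ * ⁅a, c⁆ := by
  simp only [commutatorElement_def]; group

theorem comm_mul_right (a b c : G) : ⁅a, b * c⁆ = ⁅a, b⁆ * (b * ⁅a, c⁆ * b⁻¹) := by
  simp only [commutatorElement_def]; group

theorem comm_inv_left (a c : G) : ⁅a⁻¹, c⁆ = a⁻¹ * ⁅a, c⁆⁻¹ * a := by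
  simp only [commutatorElement_def]; group

theorem conj_of_central {c : G} (hc : c ∈ center G) (a : G) : a * c * a⁻¹ = c := by
  rw [mem_center_iff.1 hc a, mul_inv_cancel_right]

theorem normal_of_central {C : Subgroup G} (h : C ≤ center G) : C.Normal :=
  ⟨fun c hc g => by rwa [conj_of_central (h hc)]⟩

theorem relIndex_ne [Finite G] (H K : Subgroup G) : H.relIndex K ≠ 0 := index_ne_zero_of_finite

theorem comm_pow_left {g h : G} (hc : ∀ a b : G, ⁅a, b⁆ ∈ center G) (n : ℕ) :
    ⁅g ^ n, h⁆ = ⁅g, h⁆ ^ n := by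
  induction n with
  | zero => simp [commutatorElement_def]
  | succ n ih =>
    rw [pow_succ', comm_mul_left, conj_of_central (hc _ _), ih, ← pow_succ]

theorem comm_eq_one_of_mem_center {z : G} (hz : z ∈ center G) (h : G) : ⁅z, h⁆ = 1 :=
  commutatorElement_eq_one_iff_mul_comm.2 (mem_center_iff.1 hz h).symm

/-- A central family of elements of exponent `p` generates at most `p ^ card` elements. -/
theorem card_closure_le [Finite G] {p : ℕ} (hp : 0 < p) (S : Finset G) (hc : ∀ a ∈ S, a ∈ center G)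
    (hpow : ∀ a ∈ S, a ^ p = 1) : Nat.card (closure (S : Set G)) ≤ p ^ S.card := by
  classical
  induction S using Finset.induction_on with
  | empty => simp
  | insert a S ha ih =>
    rw [Finset.coe_insert, Set.insert_eq, Subgroup.closure_union, ← zpowers_eq_closure, Finset.card_insert_of_notMem ha,
      pow_succ]
    have hS := ih (fun x hx => hc x (Finset.mem_insert_of_mem hx)) (fun x hx => hpow x (Finset.mem_insert_of_mem hx))
    haveI : (closure (S : Set G)).Normal :=
      normal_of_central ((closure_le _).2 fun x hx => hc x (Finset.mem_insert_of_mem hx))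
    have h1 : Nat.card (zpowers a) ≤ p := by
      rw [Nat.card_zpowers]
      exact orderOf_le_of_pow_eq_one hp (hpow a (Finset.mem_insert_self _ _))
    calc Nat.card (zpowers a ⊔ closure (S : Set G) : Subgroup G)
        = Nat.card ((zpowers a : Set G) * (closure (S : Set G) : Set G) : Set G) := by
          rw [← Subgroup.mul_normal]; rfl
      _ ≤ Nat.card (zpowers a : Set G) * Nat.card (closure (S : Set G) : Set G) := Set.natCard_mul_le
      _ ≤ p * p ^ S.card := Nat.mul_le_mul h1 hS
      _ = p ^ S.card * p := mul_comm _ _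

/-- The derived subgroup when commutators are central and of exponent `p`. -/
theorem card_commutator_le_of_central [Finite G] {p k : ℕ} (hp : 0 < p) (x : Fin k → G)
    (hx : closure (Set.range x) = ⊤) (hc : ∀ a b : G, ⁅a, b⁆ ∈ center G)
    (hpow : ∀ a b : G, ⁅a, b⁆ ^ p = 1) : Nat.card (commutator G) ≤ p ^ (k * (k - 1) / 2) := by
  classical
  let f : (Σ i : Fin k, Fin i) → G := fun q => ⁅x ⟨q.2, q.2.2.trans q.1.2⟩, x q.1⁆
  set S : Finset G := Finset.univ.image f
  have hS : S.card ≤ k * (k - 1) / 2 := by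
    refine Finset.card_image_le.trans ?_
    rw [Finset.card_univ, Fintype.card_sigma]
    simp only [Fintype.card_fin]
    rw [Fin.sum_univ_eq_sum_range (fun i => i) k, Finset.sum_range_id]
  set N := closure (S : Set G)
  have hN : N ≤ center G := (closure_le _).2 fun y hy => by
    obtain ⟨q, -, rfl⟩ := Finset.mem_image.1 hy; exact hc _ _
  haveI := normal_of_central hN
  have hgen : ∀ i j : Fin k, ⁅x i, x j⁆ ∈ N := by
    intro i j
    rcases lt_trichotomy i j with h | rfl | h
    · exact subset_closure (Finset.mem_image.2 ⟨⟨j, ⟨i, h⟩⟩, Finset.mem_univ _, rfl⟩)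
    · simp [commutatorElement_self]
    · rw [← commutatorElement_inv]
      exact inv_mem (subset_closure (Finset.mem_image.2 ⟨⟨i, ⟨j, h⟩⟩, Finset.mem_univ _, rfl⟩))
  have hle : commutator G ≤ N := by
    have h1 : ∀ (i : Fin k) (g : G), ⁅g, x i⁆ ∈ N := by
      intro i g
      have hg : g ∈ closure (Set.range x) := hx ▸ mem_top g
      induction hg using closure_induction with
      | mem y hy => obtain ⟨j, rfl⟩ := hy; exact hgen j i
      | one => simp
      | mul a b _ _ ha hb => rw [comm_mul_left, conj_of_central (hc _ _)]; exact mul_mem hb ha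
      | inv a _ ha =>
        rw [comm_inv_left, mul_assoc, ← mem_center_iff.1 (inv_mem (hc a _)) a, ← mul_assoc, inv_mul_cancel, one_mul]
        exact inv_mem ha
    rw [_root_.commutator_def, commutator_le]
    intro a _ b hb0
    clear hb0
    have hb : b ∈ closure (Set.range x) := hx ▸ mem_top b
    induction hb using closure_induction with
    | mem y hy => obtain ⟨j, rfl⟩ := hy; exact h1 j a
    | one => simp
    | mul c d _ _ hc' hd => rw [comm_mul_right, conj_of_central (hc _ _)]; exact mul_mem hc' hd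
    | inv c _ hc' =>
      have h := comm_mul_right a c c⁻¹
      rw [mul_inv_cancel, commutatorElement_one_right, conj_of_central (hc _ _)] at h
      rw [show ⁅a, c⁻¹⁆ = ⁅a, c⁆⁻¹ from eq_inv_of_mul_eq_one_right h.symm]
      exact inv_mem hc'
  calc Nat.card (commutator G) ≤ Nat.card N := Subgroup.card_le_of_le hle
    _ ≤ p ^ S.card := card_closure_le hp S (fun a ha => hN (subset_closure ha)) fun a ha => by
        obtain ⟨q, -, rfl⟩ := Finset.mem_image.1 ha; exact hpow _ _
    _ ≤ _ := Nat.pow_le_pow_right hp hS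

/-- `Φ`, `[Φ, G]`, `[Φ, G, G]`, … -/
def ser (G : Type u) [Group G] : ℕ → Subgroup G
  | 0 => frattini G
  | n + 1 => ⁅ser G n, (⊤ : Subgroup G)⁆

instance ser_normal : ∀ n, (ser G n).Normal
  | 0 => inferInstanceAs (frattini G).Normal
  | n + 1 => by
    haveI := ser_normal n
    exact inferInstanceAs (⁅ser G n, (⊤ : Subgroup G)⁆).Normal

theorem ser_succ_le (n : ℕ) : ser G (n + 1) ≤ ser G n := commutator_le_left _ _

theorem ser_le_zero : ∀ n, ser G n ≤ frattini G
  | 0 => le_rfl
  | n + 1 => (ser_succ_le n).trans (ser_le_zero n)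

theorem ser_le_lower : ∀ n, ser G n ≤ Subgroup.lowerCentralSeries (⊤ : Subgroup G) n
  | 0 => by simp
  | n + 1 => by
    rw [Subgroup.lowerCentralSeries_succ]
    exact commutator_mono (ser_le_lower n) le_rfl

/-- The set of commutators `[x, h]`, `h ∈ Φ`. -/
def cset (x : G) : Set G := {c | ∃ h ∈ frattini G, ⁅x, h⁆ = c}

theorem exists_prod_ser {k : ℕ} (x : Fin k → G) (hx : closure (Set.range x) = ⊤) :
    ∀ n : ℕ, ∀ l ∈ ser G 1, ∃ h : Fin k → G, (∀ i, h i ∈ frattini G) ∧
      (List.ofFn fun i => ⁅x i, h i⁆).prod⁻¹ * l ∈ ser G (n + 1) := by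
  intro n
  induction n with
  | zero =>
    intro l hl
    refine ⟨fun _ => 1, fun _ => one_mem _, ?_⟩
    have : (List.ofFn fun i : Fin k => ⁅x i, (1 : G)⁆).prod = 1 :=
      List.prod_eq_one fun y hy => by
        obtain ⟨i, rfl⟩ := List.mem_ofFn.1 hy; exact commutatorElement_one_right _
    rw [this, inv_one, one_mul]
    exact hl
  | succ n ih =>
    intro l hl
    obtain ⟨h, hh, hw⟩ := ih l hl
    set N := ser G (n + 2)
    let mk := QuotientGroup.mk' N
    have hcen : ∀ y ∈ ser G (n + 1), mk y ∈ center (G ⧸ N) := by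
      intro y hy
      refine mem_center_iff.2 fun q => ?_
      obtain ⟨g, rfl⟩ := QuotientGroup.mk'_surjective N q
      have h1 : mk ⁅y, g⁆ = 1 := (QuotientGroup.eq_one_iff _).2 (commutator_mem_commutator hy (mem_top g))
      rw [map_commutatorElement, commutatorElement_eq_one_iff_mul_comm] at h1
      exact h1.symm
    have hmem : ∀ (g : G) (y : ser G n), ⁅g, (y : G)⁆ ∈ ser G (n + 1) := fun g y => by
      rw [← commutatorElement_inv]
      exact inv_mem (commutator_mem_commutator y.2 (mem_top g))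
    let φ : Fin k → ser G n →* center (G ⧸ N) := fun i => MonoidHom.mk'
      (fun y => ⟨mk ⁅x i, (y : G)⁆, hcen _ (hmem _ _)⟩) fun y z => Subtype.ext (by
        show mk ⁅x i, (y : G) * (z : G)⁆ = mk ⁅x i, (y : G)⁆ * mk ⁅x i, (z : G)⁆
        rw [comm_mul_right, map_mul, map_mul, map_mul, map_inv, conj_of_central (hcen _ (hmem _ _))])
    let Φ : (Fin k → ser G n) →* center (G ⧸ N) := MonoidHom.mk' (fun y => ∏ i, φ i (y i))
      fun y z => by simp [map_mul, Finset.prod_mul_distrib]
    set R := Φ.range.map (center (G ⧸ N)).subtype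
    have hR1 : ∀ (g : G) (y : ser G n), mk ⁅g, (y : G)⁆ ∈ R := by
      intro g
      have hg : g ∈ closure (Set.range x) := hx ▸ mem_top g
      induction hg using closure_induction with
      | mem w hw' =>
        obtain ⟨i, rfl⟩ := hw'
        intro y
        refine ⟨φ i y, ⟨Pi.mulSingle i y, ?_⟩, rfl⟩
        show ∏ j, φ j (Pi.mulSingle (M := fun _ => ser G n) i y j) = φ i y
        rw [Finset.prod_eq_single i (fun j _ hji => by rw [Pi.mulSingle_eq_of_ne hji, map_one])
          (fun h => absurd (Finset.mem_univ i) h), Pi.mulSingle_eq_same]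
      | one => intro y; simp
      | mul a b _ _ ha hb =>
        intro y
        rw [comm_mul_left, map_mul, map_mul, map_mul, map_inv, conj_of_central (hcen _ (hmem _ _))]
        exact mul_mem (hb y) (ha y)
      | inv a _ ha =>
        intro y
        rw [comm_inv_left, map_mul, map_mul, map_inv, map_inv, mul_assoc,
          ← mem_center_iff.1 (inv_mem (hcen _ (hmem _ _))) (mk a), inv_mul_cancel_left]
        exact inv_mem (ha y)
    have hR : ser G (n + 1) ≤ R.comap mk := by
      show ⁅ser G n, (⊤ : Subgroup G)⁆ ≤ _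
      rw [commutator_le]
      intro y hy g _
      rw [mem_comap, ← commutatorElement_inv, map_inv]
      exact inv_mem (hR1 g ⟨y, hy⟩)
    obtain ⟨_, ⟨ls, rfl⟩, hls⟩ := hR hw
    refine ⟨fun i => h i * ls i, fun i => mul_mem (hh i) (ser_le_zero n (ls i).2), ?_⟩
    rw [← QuotientGroup.eq_one_iff]
    show mk ((List.ofFn fun i => ⁅x i, h i * (ls i : G)⁆).prod⁻¹ * l) = 1
    have hsplit : ∀ (m : ℕ) (a : Fin m → G ⧸ N) (c : Fin m → center (G ⧸ N)),
        (List.ofFn fun i => a i * (c i : G ⧸ N)).prod = (List.ofFn a).prod * ((∏ i, c i : center (G ⧸ N)) : G ⧸ N) := by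
      intro m
      induction m with
      | zero => simp
      | succ m ihm =>
        intro a c
        simp only [List.ofFn_succ, List.prod_cons, Fin.prod_univ_succ, Subgroup.coe_mul]
        rw [ihm]
        have hc0 := mem_center_iff.1 (c 0).2 (List.ofFn fun i : Fin m => a i.succ).prod
        rw [mul_assoc (a 0), ← mul_assoc ((c 0 : G ⧸ N)) _, ← hc0, mul_assoc, mul_assoc]
    have hnew : mk (List.ofFn fun i => ⁅x i, h i * (ls i : G)⁆).prod
        = mk (List.ofFn fun i => ⁅x i, h i⁆).prod * (Φ ls : G ⧸ N) := by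
      rw [map_list_prod, map_list_prod, List.map_ofFn, List.map_ofFn]
      refine Eq.trans ?_ (hsplit k (fun i => mk ⁅x i, h i⁆) (fun i => φ i (ls i)))
      refine congrArg List.prod (congrArg List.ofFn (funext fun i => ?_))
      show mk ⁅x i, h i * (ls i : G)⁆ = mk ⁅x i, h i⁆ * mk ⁅x i, (ls i : G)⁆
      rw [comm_mul_right, map_mul, map_mul, map_mul, map_inv, conj_of_central (hcen _ (hmem _ _))]
    change (Φ ls : G ⧸ N) = mk ((List.ofFn fun i => ⁅x i, h i⁆).prod⁻¹ * l) at hls
    rw [map_mul, map_inv, hnew, hls, map_mul, map_inv, mul_inv_cancel_left, inv_mul_cancel]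

variable [Finite G] {p : ℕ} [hp : Fact p.Prime]

theorem card_ser_one_le (hG : IsPGroup p G) {k c : ℕ} (x : Fin k → G) (hx : closure (Set.range x) = ⊤)
    (hc : ∀ i, Nat.card (cset (x i)) ≤ p ^ c) : Nat.card (ser G 1) ≤ p ^ (k * c) := by
  classical
  haveI := hG.isNilpotent
  obtain ⟨N, hN⟩ := Subgroup.nilpotent_iff_lowerCentralSeries.1 (inferInstance : Group.IsNilpotent G)
  let f : (∀ i, cset (x i)) → G := fun v => (List.ofFn fun i => (v i : G)).prod
  have hsub : ∀ l : ser G 1, ∃ v, f v = l := by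
    intro l
    obtain ⟨h, hh, hl⟩ := exists_prod_ser x hx N l l.2
    have hbot : ser G (N + 1) = ⊥ := le_bot_iff.1 (((ser_succ_le N).trans (ser_le_lower N)).trans hN.le)
    rw [hbot, mem_bot, inv_mul_eq_one] at hl
    exact ⟨fun i => ⟨⁅x i, h i⁆, h i, hh i, rfl⟩, hl⟩
  choose v hv using hsub
  have hinj : Function.Injective v := fun a b hab => Subtype.ext (by rw [← hv a, ← hv b, hab])
  refine (Nat.card_le_card_of_injective v hinj).trans ?_
  rw [Nat.card_pi, mul_comm, pow_mul]
  exact (Finset.prod_le_prod' fun i _ => hc i).trans (by simp)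

theorem card_cset_le (x : G) : Nat.card (cset x) ≤ (centralizer ({x} : Set G)).relIndex (frattini G) := by
  set C := (centralizer ({x} : Set G)).subgroupOf (frattini G)
  let f : frattini G ⧸ C → cset x := fun q => Quotient.liftOn' q (fun h => ⟨⁅x, (h : G)⁆, h, h.2, rfl⟩)
    (by
      intro a b hab
      rw [QuotientGroup.leftRel_apply] at hab
      have h1 : ⁅x, (a : G)⁻¹ * (b : G)⁆ = 1 :=
        commutatorElement_eq_one_iff_mul_comm.2 (mem_centralizer_singleton_iff.1 hab).symm
      refine Subtype.ext ?_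
      show ⁅x, (a : G)⁆ = ⁅x, (b : G)⁆
      conv_rhs => rw [← mul_inv_cancel_left (a : G) (b : G), comm_mul_right, h1]
      simp)
  refine Nat.card_le_card_of_surjective f ?_
  rintro ⟨c, h, hh, rfl⟩
  exact ⟨QuotientGroup.mk ⟨h, hh⟩, rfl⟩

/-- A subgroup containing the commutators and `p`th powers is an intersection of maximal subgroups. -/
theorem exists_coatom_not_mem {X : Subgroup G} (hcomm : commutator G ≤ X) (hpow : ∀ g : G, g ^ p ∈ X)
    {y : G} (hy : y ∉ X) : ∃ M : Subgroup G, IsCoatom M ∧ X ≤ M ∧ y ∉ M := by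
  obtain ⟨Y, ⟨hXY, hyY⟩, hmax⟩ :=
    (Set.toFinite {Y : Subgroup G | X ≤ Y ∧ y ∉ Y}).exists_maximal ⟨X, le_rfl, hy⟩
  haveI : Y.Normal := by
    refine ⟨fun n hn g => ?_⟩
    have h1 : g * n * g⁻¹ * n⁻¹ ∈ Y := hXY (hcomm (commutator_mem_commutator (mem_top g) (mem_top n)))
    simpa using mul_mem h1 hn
  refine ⟨Y, ⟨fun h => hyY (h ▸ mem_top y), fun Z hZ => ?_⟩, hXY, hyY⟩
  by_contra htop
  obtain ⟨z, hz⟩ : ∃ z, z ∉ Z := not_forall.1 fun h => htop (eq_top_iff.2 fun g _ => h g)
  have hmem : ∀ w ∉ Y, y ∈ Y ⊔ zpowers w := fun w hw => by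
    by_contra h
    exact hw ((hmax ⟨hXY.trans le_sup_left, h⟩ le_sup_left) (mem_sup_right (mem_zpowers w)))
  have hp1 : ∀ w : G, (QuotientGroup.mk' Y w) ^ p = 1 := fun w => by
    rw [← map_pow]; exact (QuotientGroup.eq_one_iff _).2 (hXY (hpow w))
  have key : ∀ w ∉ Y, w ∈ Y ⊔ zpowers y := fun w hw => by
    have h1 : QuotientGroup.mk' Y y ∈ zpowers (QuotientGroup.mk' Y w) := by
      have := mem_map_of_mem (QuotientGroup.mk' Y) (hmem w hw)
      rwa [Subgroup.map_sup, QuotientGroup.map_mk'_self, bot_sup_eq, MonoidHom.map_zpowers] at this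
    have ho : ∀ v : G, v ∉ Y → orderOf (QuotientGroup.mk' Y v) = p := fun v hv =>
      orderOf_eq_prime (hp1 v) fun e => hv ((QuotientGroup.eq_one_iff v).1 e)
    have h2 : zpowers (QuotientGroup.mk' Y y) = zpowers (QuotientGroup.mk' Y w) :=
      eq_of_le_of_card_ge (zpowers_le.2 h1) (by rw [Nat.card_zpowers, Nat.card_zpowers, ho _ hw, ho _ hyY])
    have h3 : QuotientGroup.mk' Y w ∈ (Y ⊔ zpowers y).map (QuotientGroup.mk' Y) := by
      rw [Subgroup.map_sup, QuotientGroup.map_mk'_self, bot_sup_eq, MonoidHom.map_zpowers, h2]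
      exact mem_zpowers _
    rw [← mem_comap, comap_map_eq, QuotientGroup.ker_mk', sup_of_le_left le_sup_left] at h3
    exact h3
  have hyZ : y ∈ Z := by
    by_contra h
    exact hZ.not_ge (hmax ⟨hXY.trans hZ.le, h⟩ hZ.le)
  exact hz ((sup_le hZ.le (zpowers_le.2 hyZ)) (key z fun h => hz (hZ.le h)))

/-- A homomorphism onto a group of order `p` with a given maximal kernel. -/
theorem exists_hom_ker (hG : IsPGroup p G) {M : Subgroup G} (hM : IsCoatom M) :
    ∃ φ : G →* Multiplicative (ZMod p), φ.ker = M := by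
  haveI := hG.isNilpotent
  obtain ⟨hn, hpr⟩ := Cores.prime_index_of_isCoatom hM
  haveI := hn
  have hcard : Nat.card (G ⧸ M) = p := by
    rw [← index_eq_card]
    obtain ⟨n, hn'⟩ := hG.index M
    rw [hn'] at hpr ⊢
    rw [Nat.Prime.eq_one_of_pow hpr, pow_one]
  haveI : IsCyclic (G ⧸ M) := isCyclic_of_prime_card hcard
  let e : (G ⧸ M) ≃* Multiplicative (ZMod p) := mulEquivOfCyclicCardEq (by simp [hcard])
  refine ⟨e.toMonoidHom.comp (QuotientGroup.mk' M), ?_⟩
  ext g
  simp [MonoidHom.mem_ker, QuotientGroup.eq_one_iff]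

theorem ker_isCoatom {φ : G →* Multiplicative (ZMod p)} (hφ : φ ≠ 1) : IsCoatom φ.ker := by
  haveI : Fact (Nat.card (Multiplicative (ZMod p))).Prime := ⟨by simpa using hp.out⟩
  have htop : φ.range = ⊤ := (φ.range.eq_bot_or_eq_top_of_prime_card).resolve_left fun h =>
    hφ (MonoidHom.range_eq_bot_iff.1 h)
  refine Cores.isCoatom_of_prime_index ?_
  rw [index_ker, htop]
  simpa using hp.out

theorem ker_mul_card {A : Type*} [Group A] {ψ : A →* Multiplicative (ZMod p)} (hψ : ψ ≠ 1) :
    Nat.card ψ.ker * p = Nat.card A := by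
  haveI : Fact (Nat.card (Multiplicative (ZMod p))).Prime := ⟨by simpa using hp.out⟩
  have htop : ψ.range = ⊤ := (ψ.range.eq_bot_or_eq_top_of_prime_card).resolve_left fun h =>
    hψ (MonoidHom.range_eq_bot_iff.1 h)
  rw [← ψ.ker.card_mul_index, index_ker, htop]
  simp

/-- In the reduced case each maximal subgroup has a subgroup of index `p` outside which centralizers
stay inside it. -/
theorem exists_small (hG : IsPGroup p G) {M : Subgroup G} (hM : IsCoatom M) (hne : ¬ commutator G ≤ ⁅M, M⁆) :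
    ∃ K : Subgroup G, K ≤ M ∧ p * Nat.card K ≤ Nat.card M ∧
      ∀ x ∈ M, x ∉ K → centralizer ({x} : Set G) ≤ M := by
  haveI := hG.isNilpotent
  haveI := (Cores.prime_index_of_isCoatom hM).1
  obtain ⟨N, ⟨hNn, hMN, hGN⟩, hmax⟩ :=
    (Set.toFinite {N : Subgroup G | N.Normal ∧ ⁅M, M⁆ ≤ N ∧ ¬ commutator G ≤ N}).exists_maximal
      ⟨⁅M, M⁆, inferInstance, le_rfl, hne⟩
  haveI := hNn
  have hup : ∀ W : Subgroup G, W.Normal → N ≤ W → ¬ W ≤ N → commutator G ≤ W := fun W hW hle hnle => by
    by_contra h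
    exact hnle (hmax ⟨hW, hMN.trans hle, h⟩ hle)
  let mk := QuotientGroup.mk' N
  set Z := (center (G ⧸ N)).comap mk with hZ
  haveI : Z.Normal := inferInstance
  have hNZ : N ≤ Z := fun n hn => by
    rw [hZ, mem_comap, show mk n = 1 from (QuotientGroup.eq_one_iff n).2 hn]; exact one_mem _
  -- commutators are central modulo `N`
  have hcen : commutator G ≤ Z := by
    set T := (commutator G).map mk
    have hT : T ≠ ⊥ := fun h => hGN (by
      rw [Subgroup.map_eq_bot_iff, QuotientGroup.ker_mk'] at h; exact h)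
    haveI : T.Normal := Normal.map inferInstance mk (QuotientGroup.mk'_surjective N)
    haveI := hG.to_quotient N
    haveI : Group.IsNilpotent (G ⧸ N) := (hG.to_quotient N).isNilpotent
    obtain ⟨⟨w, hwT⟩, hw1⟩ := ne_bot_iff_exists_ne_one.1 (Solvable.inf_center_ne_bot hT)
    have hW := hup ((T ⊓ center (G ⧸ N)).comap mk) inferInstance (fun n hn => by
      rw [mem_comap, show mk n = 1 from (QuotientGroup.eq_one_iff n).2 hn]; exact one_mem _) (fun hle => by
      obtain ⟨g, hg⟩ := QuotientGroup.mk'_surjective N w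
      refine hw1 (Subtype.ext ?_)
      show w = 1
      rw [← hg]
      exact (QuotientGroup.eq_one_iff g).2 (hle (by rw [mem_comap, show mk g = w from hg]; exact hwT)))
    exact hW.trans (comap_mono inf_le_right)
  have hpowc : ∀ a b : G, mk ⁅a, b⁆ ^ p = 1 := by
    intro a b
    set cc := ⁅a, b⁆
    have hcc : cc ∈ Z := hcen (commutator_mem_commutator (mem_top a) (mem_top b))
    set W := (zpowers (mk (cc ^ p))).comap mk
    haveI : (zpowers (mk (cc ^ p))).Normal := normal_of_central (zpowers_le.2 (by rw [map_pow]; exact pow_mem hcc p))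
    by_contra hne1
    have hW := hup W inferInstance (fun n hn => by
      rw [mem_comap, show mk n = 1 from (QuotientGroup.eq_one_iff n).2 hn]; exact one_mem _) (fun hle => hne1 (by
      rw [← map_pow]
      exact (QuotientGroup.eq_one_iff _).2 (hle (by rw [mem_comap]; exact mem_zpowers _))))
    have hc1 : mk cc ∈ zpowers (mk (cc ^ p)) := hW (commutator_mem_commutator (mem_top a) (mem_top b))
    obtain ⟨s, hs⟩ := IsPGroup.iff_orderOf.1 (hG.to_quotient N) (mk cc)
    have hd : orderOf (mk cc) ∣ orderOf (mk (cc ^ p)) := orderOf_dvd_of_mem_zpowers hc1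
    rw [map_pow, orderOf_pow, hs] at hd
    rcases Nat.eq_zero_or_pos s with rfl | hs0
    · have h1 : mk cc = 1 := orderOf_eq_one_iff.1 (by rw [hs, pow_zero])
      exact hne1 (by rw [h1, one_pow])
    · obtain ⟨s', rfl⟩ : ∃ s', s = s' + 1 := ⟨s - 1, by omega⟩
      rw [Nat.gcd_eq_right (dvd_pow_self p hs0.ne'), pow_succ, Nat.mul_div_cancel _ hp.out.pos, ← pow_succ] at hd
      have := (Nat.pow_dvd_pow_iff_le_right hp.out.one_lt).1 hd
      omega
  have hpowZ : ∀ g : G, g ^ p ∈ Z := fun g => by
    refine mem_center_iff.2 fun q => ?_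
    obtain ⟨h, rfl⟩ := QuotientGroup.mk'_surjective N q
    have hc2 : ∀ a b : G ⧸ N, ⁅a, b⁆ ∈ center (G ⧸ N) := fun a b => by
      obtain ⟨a, rfl⟩ := QuotientGroup.mk'_surjective N a
      obtain ⟨b, rfl⟩ := QuotientGroup.mk'_surjective N b
      rw [← map_commutatorElement]
      exact hcen (commutator_mem_commutator (mem_top a) (mem_top b))
    have h1 : ⁅mk g ^ p, mk h⁆ = 1 := by rw [comm_pow_left hc2, ← map_commutatorElement, hpowc]
    rw [map_pow]
    exact (commutatorElement_eq_one_iff_mul_comm.1 h1).symm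
  have hMcomm : ∀ a ∈ M, ∀ b ∈ M, Commute (mk a) (mk b) := fun a ha b hb => by
    refine commutatorElement_eq_one_iff_mul_comm.1 ?_
    rw [← map_commutatorElement]
    exact (QuotientGroup.eq_one_iff _).2 (hMN (commutator_mem_commutator ha hb))
  -- `M` is not central modulo `N`
  have hZM : ¬ M ≤ Z := fun hle => by
    have hall : Z = ⊤ := by
      refine eq_top_iff.2 fun g _ => ?_
      by_contra hg
      refine hg (mem_center_iff.2 fun q => ?_)
      obtain ⟨h, rfl⟩ := QuotientGroup.mk'_surjective N q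
      have hC : (centralizer ({mk g} : Set (G ⧸ N))).comap mk = ⊤ := hM.2 _ (lt_of_le_of_ne
        (fun m hm => mem_centralizer_singleton_iff.2 (mem_center_iff.1 (hle hm) (mk g)).symm)
        (fun e => hg (hle (e ▸ mem_centralizer_singleton_iff.2 rfl))))
      exact mem_centralizer_singleton_iff.1 (show mk h ∈ centralizer ({mk g} : Set (G ⧸ N)) from
        hC.ge (mem_top h))
    refine hGN ?_
    rw [_root_.commutator_def, commutator_le]
    intro a _ b _
    have ha : mk a ∈ center (G ⧸ N) := hall.ge (mem_top a)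
    rw [← QuotientGroup.eq_one_iff]
    show mk ⁅a, b⁆ = 1
    rw [map_commutatorElement]
    exact comm_eq_one_of_mem_center ha _
  refine ⟨M ⊓ Z, inf_le_left, ?_, fun x hxM hxK y hy => ?_⟩
  · have hdvd : (M ⊓ Z).relIndex M ≠ 1 := fun e => hZM (le_trans (relIndex_eq_one.1 e) inf_le_right)
    obtain ⟨s, hs⟩ := (hG.to_subgroup M).index ((M ⊓ Z).subgroupOf M)
    rw [← ((M ⊓ Z).subgroupOf M).card_mul_index, Nat.card_congr (subgroupOfEquivOfLe inf_le_left).toEquiv, mul_comm]
    refine Nat.mul_le_mul_left _ ?_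
    rw [hs]
    exact Nat.le_self_pow (fun e => hdvd (show ((M ⊓ Z).subgroupOf M).index = 1 by rw [hs, e, pow_zero])) p
  · by_contra hyM
    refine hxK ⟨hxM, mem_center_iff.2 fun q => ?_⟩
    obtain ⟨h, rfl⟩ := QuotientGroup.mk'_surjective N q
    have hC : (centralizer ({mk x} : Set (G ⧸ N))).comap mk = ⊤ := by
      refine hM.2 _ (lt_of_le_of_ne (fun m hm => mem_centralizer_singleton_iff.2 (hMcomm m hm x hxM)) fun e => hyM (e ▸ ?_))
      refine mem_centralizer_singleton_iff.2 ?_
      rw [← map_mul, ← map_mul, mem_centralizer_singleton_iff.1 hy]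
    exact mem_centralizer_singleton_iff.1 (show mk h ∈ centralizer ({mk x} : Set (G ⧸ N)) from hC.ge (mem_top h))

/-- Outside every maximal subgroup some centralizer is small modulo `Φ`. -/
theorem exists_good (hG : IsPGroup p G) (hred : ∀ M : Subgroup G, IsCoatom M → ¬ commutator G ≤ ⁅M, M⁆)
    {M₀ : Subgroup G} (hM₀ : IsCoatom M₀) :
    ∃ x ∉ M₀, centralizer ({x} : Set G) ≤ zpowers x ⊔ frattini G := by
  classical
  haveI := hG.isNilpotent
  by_contra hbad
  push Not at hbad
  haveI : Finite (G →* Multiplicative (ZMod p)) := Finite.of_injective _ DFunLike.coe_injective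
  haveI := Fintype.ofFinite (G →* Multiplicative (ZMod p))
  haveI := Fintype.ofFinite G
  have hK : ∀ φ : G →* Multiplicative (ZMod p), ∃ K : Subgroup G, φ ≠ 1 → K ≤ φ.ker ∧
      p * Nat.card K ≤ Nat.card φ.ker ∧ ∀ x ∈ φ.ker, x ∉ K → centralizer ({x} : Set G) ≤ φ.ker := fun φ => by
    by_cases h : φ = 1
    · exact ⟨⊥, fun h' => absurd h h'⟩
    · obtain ⟨K, hK⟩ := exists_small hG (ker_isCoatom h) (hred _ (ker_isCoatom h))
      exact ⟨K, fun _ => hK⟩
  choose K hK using hK
  let r : G → (G →* Multiplicative (ZMod p)) → Prop := fun x φ => φ ≠ 1 ∧ x ∈ K φ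
  set s : Finset G := Finset.univ.filter fun x => x ∉ M₀
  have hevl : ∀ x : G, ∃ E : (G →* Multiplicative (ZMod p)) →* Multiplicative (ZMod p), ∀ φ, E φ = φ x :=
    fun x => ⟨MonoidHom.mk' (fun φ => φ x) fun _ _ => rfl, fun _ => rfl⟩
  have hsep : ∀ {X : Subgroup G}, frattini G ≤ X → ∀ y ∉ X, ∃ φ : G →* Multiplicative (ZMod p),
      (∀ z ∈ X, φ z = 1) ∧ φ y ≠ 1 := fun {X} hX y hy => by
    obtain ⟨M, hM, hXM, hyM⟩ := exists_coatom_not_mem (p := p)
      (Cores.commutator_le_frattini.trans hX) (fun g => hX (Cores.pow_mem_frattini hG g)) hy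
    obtain ⟨φ, hφ⟩ := exists_hom_ker hG hM
    refine ⟨φ, fun z hz => ?_, fun h => hyM (hφ ▸ h)⟩
    have := hXM hz
    rwa [← hφ] at this
  have hlow : ∀ x ∈ s, Fintype.card (G →* Multiplicative (ZMod p)) * (p - 1) ≤
      p ^ 2 * (Finset.univ.bipartiteAbove r x).card := by
    intro x hx
    have hx0 : x ∉ M₀ := (Finset.mem_filter.1 hx).2
    obtain ⟨y, hyC, hyX⟩ := SetLike.not_le_iff_exists.1 (hbad x hx0)
    obtain ⟨Ex, hEx⟩ := hevl x
    obtain ⟨Ey, hEy⟩ := hevl y
    obtain ⟨φ₁, -, hφ₁⟩ := hsep le_rfl x fun h => hx0 (frattini_le_coatom hM₀ h)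
    obtain ⟨φ₂, hφ₂, hφ₂y⟩ := hsep le_sup_right y hyX
    have hA := ker_mul_card (ψ := Ex) fun e => hφ₁ (by rw [← hEx, e]; rfl)
    set A₁ := Ex.ker
    have hφ₂A : φ₂ ∈ A₁ := by
      rw [MonoidHom.mem_ker, hEx]; exact hφ₂ x (mem_sup_left (mem_zpowers x))
    have hA' := ker_mul_card (ψ := Ey.comp A₁.subtype) fun e => hφ₂y (by
      rw [← hEy]; exact DFunLike.congr_fun e ⟨φ₂, hφ₂A⟩)
    have hinc : Nat.card A₁ ≤ Nat.card (Ey.comp A₁.subtype).ker + (Finset.univ.bipartiteAbove r x).card := by
      have h1 : (Finset.univ.filter fun φ => φ x = 1) ⊆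
          (Finset.univ.filter fun φ => φ x = 1 ∧ φ y = 1) ∪ Finset.univ.bipartiteAbove r x := by
        intro φ hφ
        have hφx := (Finset.mem_filter.1 hφ).2
        by_cases hy1 : φ y = 1
        · exact Finset.mem_union_left _ (Finset.mem_filter.2 ⟨Finset.mem_univ _, hφx, hy1⟩)
        · refine Finset.mem_union_right _ (Finset.mem_filter.2 ⟨Finset.mem_univ _, ?_⟩)
          have hne : φ ≠ 1 := fun e => hy1 (by rw [e]; rfl)
          refine ⟨hne, ?_⟩
          by_contra hxK
          exact hy1 ((hK φ hne).2.2 x hφx hxK hyC)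
      have h2 := (Finset.card_le_card h1).trans (Finset.card_union_le _ _)
      have e1 : Nat.card A₁ = (Finset.univ.filter fun φ : G →* Multiplicative (ZMod p) => φ x = 1).card := by
        rw [← Nat.card_eq_finsetCard]
        exact Nat.card_congr (Equiv.subtypeEquivRight fun φ => by simp [A₁, MonoidHom.mem_ker, hEx])
      have e2 : Nat.card (Ey.comp A₁.subtype).ker =
          (Finset.univ.filter fun φ : G →* Multiplicative (ZMod p) => φ x = 1 ∧ φ y = 1).card := by
        rw [← Nat.card_eq_finsetCard]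
        exact Nat.card_congr
          { toFun := fun a => ⟨(a.1 : G →* Multiplicative (ZMod p)), Finset.mem_filter.2 ⟨Finset.mem_univ _,
              (hEx _).symm.trans a.1.2, (hEy _).symm.trans a.2⟩⟩
            invFun := fun a => ⟨⟨a.1, (hEx _).trans (Finset.mem_filter.1 a.2).2.1⟩,
              (hEy _).trans (Finset.mem_filter.1 a.2).2.2⟩
            left_inv := fun a => rfl
            right_inv := fun a => rfl }
      omega
    rw [← Nat.card_eq_fintype_card, ← hA, ← hA']
    obtain ⟨p', rfl⟩ : ∃ p', p = p' + 1 := ⟨p - 1, by have := hp.out.pos; omega⟩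
    rw [← hA'] at hinc
    simp only [Nat.add_sub_cancel]
    nlinarith
  have hup : ∀ φ : G →* Multiplicative (ZMod p), φ ≠ 1 →
      p ^ 3 * (s.bipartiteBelow r φ).card ≤ (p - 1) * Nat.card G := by
    intro φ hφ
    obtain ⟨hKle, hKcard, -⟩ := hK φ hφ
    obtain ⟨φ₀, hφ₀⟩ := exists_hom_ker hG hM₀
    have hsplit : (s.bipartiteBelow r φ).card + Nat.card (φ₀.comp (K φ).subtype).ker ≤ Nat.card (K φ) := by
      have e : Nat.card (φ₀.comp (K φ).subtype).ker =
          ((Finset.univ.filter fun z => z ∈ K φ ∧ z ∈ M₀)).card := by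
        rw [← Nat.card_eq_finsetCard]
        exact Nat.card_congr
          { toFun := fun a => ⟨(a.1 : G), Finset.mem_filter.2 ⟨Finset.mem_univ _, a.1.2, hφ₀ ▸ a.2⟩⟩
            invFun := fun a => ⟨⟨a.1, (Finset.mem_filter.1 a.2).2.1⟩,
              (hφ₀.symm ▸ (Finset.mem_filter.1 a.2).2.2 : (a.1 : G) ∈ φ₀.ker)⟩
            left_inv := fun a => rfl
            right_inv := fun a => rfl }
      rw [e, ← Finset.card_union_of_disjoint]
      · rw [← Nat.card_eq_finsetCard]
        refine Nat.card_le_card_of_injective (fun a => (⟨a.1, ?_⟩ : K φ)) fun a b h => ?_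
        · rcases Finset.mem_union.1 a.2 with h | h
          · exact (Finset.mem_filter.1 h).2.2
          · exact (Finset.mem_filter.1 h).2.1
        · exact Subtype.ext (congrArg Subtype.val h :)
      · rw [Finset.disjoint_left]
        intro z hz hz'
        exact (Finset.mem_filter.1 (Finset.mem_filter.1 hz).1).2 (Finset.mem_filter.1 hz').2.2
    have hc0 := ker_mul_card (ψ := φ) hφ
    by_cases h0 : φ₀.comp (K φ).subtype = 1
    · have h1 : Nat.card (φ₀.comp (K φ).subtype).ker = Nat.card (K φ) := by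
        rw [h0, MonoidHom.ker_one, card_top]
      have : (s.bipartiteBelow r φ).card = 0 := by omega
      simp [this]
    · have h1 := ker_mul_card h0
      obtain ⟨p', rfl⟩ : ∃ p', p = p' + 1 := ⟨p - 1, by have := hp.out.pos; omega⟩
      simp only [Nat.add_sub_cancel]
      have e1 : (p' + 1) * (s.bipartiteBelow r φ).card ≤ p' * Nat.card (K φ) := by nlinarith
      calc (p' + 1) ^ 3 * (s.bipartiteBelow r φ).card
          = (p' + 1) ^ 2 * ((p' + 1) * (s.bipartiteBelow r φ).card) := by ring
        _ ≤ (p' + 1) ^ 2 * (p' * Nat.card (K φ)) := Nat.mul_le_mul_left _ e1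
        _ = p' * (p' + 1) * ((p' + 1) * Nat.card (K φ)) := by ring
        _ ≤ p' * (p' + 1) * Nat.card φ.ker := Nat.mul_le_mul_left _ hKcard
        _ = p' * (Nat.card φ.ker * (p' + 1)) := by ring
        _ = _ := by rw [hc0]
  have hdouble := Finset.sum_card_bipartiteAbove_eq_sum_card_bipartiteBelow (s := s)
    (t := (Finset.univ : Finset (G →* Multiplicative (ZMod p)))) r
  have hzero : (s.bipartiteBelow r (1 : G →* Multiplicative (ZMod p))).card = 0 := by
    rw [Finset.card_eq_zero]
    exact Finset.filter_eq_empty_iff.2 fun x _ h => h.1 rfl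
  have h1 : s.card * (Fintype.card (G →* Multiplicative (ZMod p)) * (p - 1)) ≤
      p ^ 2 * ∑ x ∈ s, (Finset.univ.bipartiteAbove r x).card := by
    rw [Finset.mul_sum, ← smul_eq_mul, ← Finset.sum_const]
    exact Finset.sum_le_sum hlow
  have h2 : p ^ 3 * ∑ φ, (s.bipartiteBelow r φ).card ≤
      (Fintype.card (G →* Multiplicative (ZMod p)) - 1) * ((p - 1) * Nat.card G) := by
    rw [← Finset.sum_erase_add _ _ (Finset.mem_univ (1 : G →* Multiplicative (ZMod p))), hzero, add_zero,
      Finset.mul_sum]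
    refine (Finset.sum_le_card_nsmul _ _ _ fun φ hφ => hup φ (Finset.mem_erase.1 hφ).1).trans (le_of_eq ?_)
    rw [smul_eq_mul, Finset.card_erase_of_mem (Finset.mem_univ _), Finset.card_univ]
  have hs : p * s.card = (p - 1) * Nat.card G := by
    obtain ⟨φ₀, hφ₀⟩ := exists_hom_ker hG hM₀
    have hne : φ₀ ≠ 1 := fun e => hM₀.1 (by rw [← hφ₀, e, MonoidHom.ker_one])
    have hc0 := ker_mul_card hne
    rw [hφ₀] at hc0
    have hadd : Nat.card M₀ + s.card = Nat.card G := by
      rw [Nat.card_eq_fintype_card (α := G), ← Finset.card_univ, ← Finset.card_filter_add_card_filter_not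
        (s := (Finset.univ : Finset G)) (fun x => x ∈ M₀), Nat.card_eq_fintype_card (α := M₀),
        Fintype.card_subtype]
    obtain ⟨p', rfl⟩ : ∃ p', p = p' + 1 := ⟨p - 1, by have := hp.out.pos; omega⟩
    simp only [Nat.add_sub_cancel]
    nlinarith
  rw [← hdouble] at h2
  set S := ∑ x ∈ s, (Finset.univ.bipartiteAbove r x).card
  set A := Fintype.card (G →* Multiplicative (ZMod p))
  have hApos : 0 < A := Fintype.card_pos
  have hGpos : 0 < Nat.card G := Nat.card_pos
  have hp2 := hp.out.two_le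
  obtain ⟨p', rfl⟩ : ∃ p', p = p' + 2 := ⟨p - 2, by omega⟩
  clear_value A
  obtain ⟨A', rfl⟩ : ∃ A', A = A' + 1 := ⟨A - 1, by omega⟩
  simp only [show p' + 2 - 1 = p' + 1 by omega, Nat.add_sub_cancel] at h1 h2 hs
  have h3 : (p' + 1) * Nat.card G * ((A' + 1) * (p' + 1)) ≤ A' * ((p' + 1) * Nat.card G) := by
    calc (p' + 1) * Nat.card G * ((A' + 1) * (p' + 1))
        = (p' + 2) * (s.card * ((A' + 1) * (p' + 1))) := by rw [← hs]; ring
      _ ≤ (p' + 2) * ((p' + 2) ^ 2 * S) := Nat.mul_le_mul_left _ h1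
      _ = (p' + 2) ^ 3 * S := by ring
      _ ≤ _ := h2
  have h4 : 0 < (p' + 1) * Nat.card G := Nat.mul_pos (Nat.succ_pos _) hGpos
  rw [mul_comm A'] at h3
  have h5 := Nat.le_of_mul_le_mul_left h3 h4
  nlinarith

/-- A good element bounds the number of generators and the class inside `Φ`. -/
theorem good_bound (hG : IsPGroup p G) {b n : ℕ} (hn : (frattini G).index = p ^ n)
    (hb : ∀ x : G, (centralizer ({x} : Set G)).index ≤ p ^ b) {x : G}
    (hgood : centralizer ({x} : Set G) ≤ zpowers x ⊔ frattini G) :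
    n ≤ b + 1 ∧ Nat.card (cset x) ≤ p ^ (b + 1 - n) := by
  haveI := hG.isNilpotent
  set C := centralizer ({x} : Set G)
  set X := zpowers x ⊔ frattini G
  have hX : (frattini G).relIndex X ≤ p := by
    nth_rewrite 1 [← QuotientGroup.ker_mk' (frattini G)]
    rw [relIndex_ker, Subgroup.map_sup, QuotientGroup.map_mk'_self, sup_bot_eq, MonoidHom.map_zpowers, Nat.card_zpowers]
    exact orderOf_le_of_pow_eq_one hp.out.pos (Cores.pow_eq_one_quotient_frattini hG _)
  have h1 := relIndex_mul_index (le_sup_right : frattini G ≤ X)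
  have h2 := relIndex_mul_index (le_sup_left : C ≤ C ⊔ frattini G)
  have h3 : C.relIndex (frattini G) ≤ C.relIndex (C ⊔ frattini G) :=
    relIndex_le_of_le_right le_sup_right (relIndex_ne _ _)
  have h4 : X.index ≤ (C ⊔ frattini G).index :=
    Nat.le_of_dvd (Nat.pos_of_ne_zero index_ne_zero_of_finite) (index_dvd_of_le (sup_le hgood le_sup_right))
  have hpos : 1 ≤ C.relIndex (frattini G) := Nat.pos_of_ne_zero (relIndex_ne _ _)
  have key : C.relIndex (frattini G) * p ^ n ≤ p ^ (b + 1) := by
    rw [← hn, ← h1, pow_succ]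
    calc C.relIndex (frattini G) * ((frattini G).relIndex X * X.index)
        ≤ C.relIndex (C ⊔ frattini G) * (p * (C ⊔ frattini G).index) :=
          Nat.mul_le_mul h3 (Nat.mul_le_mul hX h4)
      _ = C.index * p := by rw [← h2]; ring
      _ ≤ p ^ b * p := Nat.mul_le_mul_right _ (hb x)
  have hnb : n ≤ b + 1 := (Nat.pow_le_pow_iff_right hp.out.one_lt).1
    (le_trans (Nat.le_mul_of_pos_left _ hpos) key)
  refine ⟨hnb, (card_cset_le x).trans (Nat.le_of_mul_le_mul_right ?_ (pow_pos hp.out.pos n))⟩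
  rwa [← pow_add, Nat.sub_add_cancel hnb]

/-- Few good elements generate. -/
theorem exists_gens (hG : IsPGroup p G) (P : G → Prop)
    (hP : ∀ M : Subgroup G, IsCoatom M → ∃ x ∉ M, P x) (X : Subgroup G) :
    ∃ xs : List G, (∀ x ∈ xs, P x) ∧ X ⊔ closure {x | x ∈ xs} = ⊤ ∧ p ^ xs.length ≤ X.index := by
  induction hm : X.index using Nat.strong_induction_on generalizing X with
  | _ m ih =>
    subst hm
    by_cases htop : X = ⊤
    · exact ⟨[], by simp, by simp [htop], by simp [htop]⟩
    obtain ⟨M, hM, hXM⟩ := (eq_top_or_exists_le_coatom X).resolve_left htop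
    obtain ⟨x, hxM, hPx⟩ := hP M hM
    set X' := X ⊔ zpowers x
    have hne : X.relIndex X' ≠ 1 := fun e =>
      hxM (hXM (relIndex_eq_one.1 e (mem_sup_right (mem_zpowers x))))
    have hmul := relIndex_mul_index (le_sup_left : X ≤ X')
    obtain ⟨e, he⟩ := hG.index X
    obtain ⟨j, -, hj⟩ := (Nat.dvd_prime_pow hp.out).1 (he ▸ hmul ▸ Dvd.intro _ rfl :
      X.relIndex X' ∣ p ^ e)
    have hj0 : j ≠ 0 := fun h => hne (by rw [hj, h, pow_zero])
    have hle : p * X'.index ≤ X.index := by
      rw [← hmul]; exact Nat.mul_le_mul_right _ (hj ▸ Nat.le_self_pow hj0 p)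
    have hpos : 0 < X'.index := Nat.pos_of_ne_zero index_ne_zero_of_finite
    obtain ⟨xs, h1, h2, h3⟩ := ih X'.index (by nlinarith [hp.out.two_le]) X' rfl
    refine ⟨x :: xs, by simpa [hPx] using h1, ?_, ?_⟩
    · rw [show {y | y ∈ x :: xs} = {x} ∪ {y | y ∈ xs} from Set.ext fun y => by simp, Subgroup.closure_union,
        ← zpowers_eq_closure, ← sup_assoc, h2]
    · rw [List.length_cons, pow_succ']
      exact (Nat.mul_le_mul_left p h3).trans hle

theorem bound_arith {k b c : ℕ} (hk : k + c ≤ b + 1) : k * c + k * (k - 1) / 2 ≤ b * (b + 1) / 2 := by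
  rcases Nat.eq_zero_or_pos k with rfl | hk0
  · simp
  obtain ⟨k', rfl⟩ : ∃ k', k = k' + 1 := ⟨k - 1, by omega⟩
  obtain ⟨d, rfl⟩ : ∃ d, b = k' + c + d := ⟨b - k' - c, by omega⟩
  rw [Nat.le_div_iff_mul_le two_pos, Nat.add_mul, Nat.add_sub_cancel]
  have h := Nat.div_mul_le_self ((k' + 1) * k') 2
  nlinarith [Nat.zero_le (c * c), Nat.zero_le d, Nat.le_mul_self c]

/-- The bound for groups none of whose maximal subgroups has the whole derived subgroup. -/
theorem card_commutator_le_reduced (hG : IsPGroup p G) {b : ℕ}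
    (hb : ∀ x : G, (centralizer ({x} : Set G)).index ≤ p ^ b)
    (hred : ∀ M : Subgroup G, IsCoatom M → ¬ commutator G ≤ ⁅M, M⁆) :
    Nat.card (commutator G) ≤ p ^ (b * (b + 1) / 2) := by
  haveI := hG.isNilpotent
  by_cases htriv : commutator G = ⊥
  · rw [htriv, card_bot]; exact Nat.one_le_pow _ _ hp.out.pos
  haveI : Nontrivial G := by
    by_contra h
    rw [not_nontrivial_iff_subsingleton] at h
    exact htriv (Subsingleton.elim _ _)
  obtain ⟨xs, hgood, hgen, hlen⟩ := exists_gens hG
    (fun x => centralizer ({x} : Set G) ≤ zpowers x ⊔ frattini G)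
    (fun M hM => exists_good hG hred hM) (frattini G)
  obtain ⟨n, hn⟩ := hG.index (frattini G)
  rw [hn] at hlen
  have hkn : xs.length ≤ n := (Nat.pow_le_pow_iff_right hp.out.one_lt).1 hlen
  set k := xs.length
  let x : Fin k → G := fun i => xs[i]
  have hx : closure (Set.range x) = ⊤ := by
    refine frattini_nongenerating ?_
    rw [show Set.range x = {y | y ∈ xs} from Set.range_list_get xs, sup_comm]
    exact hgen
  have hk0 : 0 < k := by
    by_contra h
    have : closure (Set.range x) = ⊥ := by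
      haveI : IsEmpty (Fin k) := by rw [show k = 0 by omega]; infer_instance
      simp
    exact bot_ne_top (this ▸ hx)
  have hgi : ∀ i, centralizer ({x i} : Set G) ≤ zpowers (x i) ⊔ frattini G := fun i => hgood _ (List.getElem_mem _)
  have hnb := (good_bound hG hn hb (hgi ⟨0, hk0⟩)).1
  have hL := card_ser_one_le hG x hx (c := b + 1 - n) fun i => (good_bound hG hn hb (hgi i)).2
  set L := ser G 1
  have hLG : L ≤ commutator G := commutator_mono le_top le_rfl
  let mk := QuotientGroup.mk' L
  have hΦc : ∀ g ∈ frattini G, mk g ∈ center (G ⧸ L) := fun g hg => by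
    refine mem_center_iff.2 fun q => ?_
    obtain ⟨h, rfl⟩ := QuotientGroup.mk'_surjective L q
    have h1 : mk ⁅g, h⁆ = 1 := (QuotientGroup.eq_one_iff _).2 (commutator_mem_commutator hg (mem_top h))
    rw [map_commutatorElement, commutatorElement_eq_one_iff_mul_comm] at h1
    exact h1.symm
  have hcc : ∀ a b : G ⧸ L, ⁅a, b⁆ ∈ center (G ⧸ L) := fun a b => by
    obtain ⟨a, rfl⟩ := QuotientGroup.mk'_surjective L a
    obtain ⟨b, rfl⟩ := QuotientGroup.mk'_surjective L b
    rw [← map_commutatorElement]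
    exact hΦc _ (Cores.commutator_le_frattini (commutator_mem_commutator (mem_top a) (mem_top b)))
  have hq := card_commutator_le_of_central hp.out.pos (fun i => mk (x i))
    (by
      rw [show Set.range (fun i => mk (x i)) = mk '' Set.range x from Set.range_comp mk x,
        ← MonoidHom.map_closure, hx]
      exact map_top_of_surjective mk (QuotientGroup.mk'_surjective L)) hcc (p := p)
    (fun a b => by
      rw [← comm_pow_left hcc]
      obtain ⟨a, rfl⟩ := QuotientGroup.mk'_surjective L a
      rw [← map_pow]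
      exact comm_eq_one_of_mem_center (hΦc _ (Cores.pow_mem_frattini hG a)) b)
  have himg : (commutator G).map mk = commutator (G ⧸ L) := by
    rw [_root_.commutator_def, map_commutator, map_top_of_surjective mk (QuotientGroup.mk'_surjective L), _root_.commutator_def]
  rw [← himg, ← relIndex_ker, QuotientGroup.ker_mk'] at hq
  have hmul : Nat.card L * L.relIndex (commutator G) = Nat.card (commutator G) := by
    rw [← (L.subgroupOf (commutator G)).card_mul_index, Nat.card_congr (subgroupOfEquivOfLe hLG).toEquiv]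
    rfl
  rw [← hmul]
  refine (Nat.mul_le_mul hL hq).trans ?_
  rw [← pow_add]
  exact Nat.pow_le_pow_right hp.out.pos (bound_arith (by omega))

/-- **Vaughan-Lee.** -/
theorem card_commutator_le (b : ℕ) : ∀ (m : ℕ) (H : Type u) [Group H] [Finite H], Nat.card H = m →
    IsPGroup p H → (∀ x : H, (centralizer ({x} : Set H)).index ≤ p ^ b) →
    Nat.card (commutator H) ≤ p ^ (b * (b + 1) / 2) := by
  intro m
  induction m using Nat.strong_induction_on with
  | _ m ih =>
    intro H _ _ hm hH hb
    by_cases hred : ∀ M : Subgroup H, IsCoatom M → ¬ commutator H ≤ ⁅M, M⁆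
    · exact card_commutator_le_reduced hH hb hred
    push Not at hred
    obtain ⟨M, hM, hle⟩ := hred
    have hlt : Nat.card M < m := by
      rw [← hm]
      exact lt_of_le_of_ne (card_le_card_group M) fun e => hM.1 (eq_top_of_card_eq M e)
    refine le_trans ?_ (ih _ hlt M rfl (hH.to_subgroup M) fun x => ?_)
    · refine (card_le_of_le hle).trans (le_of_eq ?_)
      rw [← map_subtype_commutator, card_map_of_injective (subtype_injective M)]
    · have hC : centralizer ({x} : Set M) = (centralizer ({(x : H)} : Set H)).subgroupOf M := by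
        ext y
        simp only [mem_centralizer_singleton_iff, mem_subgroupOf]
        exact ⟨fun h => congrArg Subtype.val h, fun h => Subtype.ext h⟩
      rw [hC]
      exact ((relIndex_le_of_le_right le_top (relIndex_ne _ _)).trans_eq (relIndex_top_right _)).trans (hb x)

end Cfsg.Agent.Lib.PGroups.VaughanLee
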